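import Mathlib.GroupTheory.Sylow
import Mathlib.GroupTheory.Index
import Cfsg.Prelude.Def_Transfer

set_option autoImplicit false

namespace Cfsg.Agent.Lib.Helper17

open Cfsg

section pResidual

variable {G : Type*} [Group G] {p : ℕ}

theorem mem_pResidual_of_coprime {g : G} (hg : (orderOf g).Coprime p) : g ∈ pResidual p G :=
  Subgroup.subset_closure hg

instance pResidual_normal : (pResidual p G).Normal := by
  unfold pResidual
  constructor
  intro n hn g
  induction hn using Subgroup.closure_induction with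
  | mem y hy =>
    apply Subgroup.subset_closure
    show Nat.Coprime (orderOf (g * y * g⁻¹)) p
    have : orderOf (g * y * g⁻¹) = orderOf y := (MulAut.conj g).orderOf_eq y
    rw [this]; exact hy
  | one => simp
  | mul a b _ _ iha ihb =>
    have : g * (a * b) * g⁻¹ = (g * a * g⁻¹) * (g * b * g⁻¹) := by group
    rw [this]; exact Subgroup.mul_mem _ iha ihb
  | inv a _ iha =>
    have : g * a⁻¹ * g⁻¹ = (g * a * g⁻¹)⁻¹ := by group
    rw [this]; exact Subgroup.inv_mem _ iha

/-- Every element has a `p`-power power lying in `O^p(G)`. -/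
theorem exists_pow_mem_pResidual [Finite G] [hp : Fact p.Prime] (x : G) :
    ∃ k : ℕ, x ^ p ^ k ∈ pResidual p G := by
  have hx0 : orderOf x ≠ 0 := (orderOf_pos x).ne'
  obtain ⟨e, m, hm, hn⟩ := Nat.exists_eq_pow_mul_and_not_dvd hx0 p hp.out.ne_one
  refine ⟨e, mem_pResidual_of_coprime ?_⟩
  have hpe : p ^ e ≠ 0 := pow_ne_zero _ hp.out.ne_zero
  have hdvd : p ^ e ∣ orderOf x := ⟨m, hn⟩
  rw [orderOf_pow_of_dvd hpe hdvd, hn, Nat.mul_div_cancel_left _ (Nat.pos_of_ne_zero hpe),
    Nat.coprime_comm]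
  exact (Nat.Prime.coprime_iff_not_dvd hp.out).mpr hm

theorem quotient_pResidual_isPGroup [Finite G] [Fact p.Prime] :
    IsPGroup p (G ⧸ pResidual p G) := by
  intro y
  induction y using QuotientGroup.induction_on with
  | H x =>
    obtain ⟨k, hk⟩ := exists_pow_mem_pResidual (p := p) x
    refine ⟨k, ?_⟩
    rw [← QuotientGroup.mk_pow]
    exact (QuotientGroup.eq_one_iff _).mpr hk

/-- If every element of `G` has a `p`-power power in the subgroup `N`, then `O^p(G) ≤ N`. -/
theorem pResidual_le_of_forall_pow_mem [hp : Fact p.Prime] {N : Subgroup G}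
    (h : ∀ g : G, ∃ k : ℕ, g ^ p ^ k ∈ N) : pResidual p G ≤ N := by
  unfold pResidual
  rw [Subgroup.closure_le]
  intro g hg
  obtain ⟨k, hk⟩ := h g
  have hcop : (orderOf g).Coprime (p ^ k) := Nat.Coprime.pow_right k hg
  obtain ⟨m, hm⟩ := exists_pow_eq_self_of_coprime hcop.symm
  rw [← hm]
  exact N.pow_mem hk m

theorem pResidual_le_of_quotient_isPGroup [Fact p.Prime] {N : Subgroup G} [N.Normal]
    (h : IsPGroup p (G ⧸ N)) : pResidual p G ≤ N := by
  apply pResidual_le_of_forall_pow_mem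
  intro g
  obtain ⟨k, hk⟩ := h (QuotientGroup.mk g)
  refine ⟨k, ?_⟩
  rw [← QuotientGroup.mk_pow] at hk
  exact (QuotientGroup.eq_one_iff _).mp hk

/-- If `N` is normal with `p`-power-torsion quotient and `P` has index prime to `p`, then
`P ⊔ N = ⊤`. -/
theorem sup_eq_top_of_index_coprime [Finite G] [hp : Fact p.Prime] {P N : Subgroup G} [N.Normal]
    (hP : ¬ p ∣ P.index) (hN : IsPGroup p (G ⧸ N)) : P ⊔ N = ⊤ := by
  obtain ⟨k, hk⟩ := hN.exists_card_eq
  have hNi : N.index = p ^ k := by rw [Subgroup.index, hk]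
  have h1 : (P ⊔ N).index ∣ P.index := Subgroup.index_dvd_of_le le_sup_left
  have h2 : (P ⊔ N).index ∣ p ^ k := hNi ▸ Subgroup.index_dvd_of_le le_sup_right
  obtain ⟨j, -, hj⟩ := (Nat.dvd_prime_pow hp.out).mp h2
  have hj0 : j = 0 := by
    by_contra hne
    apply hP
    exact dvd_trans (hj ▸ dvd_pow_self p hne) h1
  rw [hj0, pow_zero, Subgroup.index_eq_one] at hj
  exact hj

theorem sylow_sup_pResidual [Finite G] [Fact p.Prime] (T : Sylow p G) :
    (T : Subgroup G) ⊔ pResidual p G = ⊤ :=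
  sup_eq_top_of_index_coprime T.not_dvd_index quotient_pResidual_isPGroup

/-- Internal description of `O^p(L)` for a subgroup `L`. -/
theorem map_subtype_pResidual (L : Subgroup G) :
    (pResidual p L).map L.subtype =
      Subgroup.closure {x : G | x ∈ L ∧ (orderOf x).Coprime p} := by
  unfold pResidual
  rw [MonoidHom.map_closure]
  congr 1
  ext x
  constructor
  · rintro ⟨y, hy, rfl⟩
    refine ⟨y.2, ?_⟩
    rw [Set.mem_ofPred_eq] at hy
    rwa [Subgroup.subtype_apply, Subgroup.orderOf_coe]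
  · rintro ⟨hxL, hx⟩
    refine ⟨⟨x, hxL⟩, ?_, rfl⟩
    rw [Set.mem_ofPred_eq, ← Subgroup.orderOf_coe]
    exact hx

end pResidual

end Cfsg.Agent.Lib.Helper17
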