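import Mathlib
import Cfsg.Prelude.Def_Transfer
import Cfsg.Agent.Lib.Helper17.PResidual

/-!
# Sign of a coset action and `2`-quotients

If an element `c` of order `2 ^ k` acts semiregularly on the cosets of `M` and `M` has index
`2 ^ k * odd`, then `c` acts as an odd permutation; iterating, `2 ^ k` divides `|X : O²(X)|`.
-/

set_option autoImplicit false

namespace Cfsg.Agent.Lib.Helper17

open Subgroup MulAction Cfsg

universe u

section Sgn

variable {X : Type*} [Group X] [Finite X]

/-- An element of order `2 ^ k` (`k ≥ 1`) acting semiregularly on `X ⧸ M`, where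
`|X : M| = 2 ^ k * m` with `m` odd, induces an odd permutation. -/
theorem sign_toPerm_eq_neg_one (M : Subgroup X) [DecidableEq (X ⧸ M)] [Fintype (X ⧸ M)] (c : X)
    (k m : ℕ) (hk : 1 ≤ k) (hc : orderOf c = 2 ^ k)
    (hsemi : ∀ g : X, ∀ j : ℕ, g⁻¹ * c ^ j * g ∈ M → c ^ j = 1)
    (hidx : M.index = 2 ^ k * m) (hm : Odd m) :
    Equiv.Perm.sign (MulAction.toPermHom X (X ⧸ M) c) = -1 := by
  set σ : Equiv.Perm (X ⧸ M) := MulAction.toPermHom X (X ⧸ M) c with hσdef
  have hσpow : ∀ j : ℕ, ∀ q : X ⧸ M, (σ ^ j) q = c ^ j • q := by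
    intro j q
    rw [hσdef, ← map_pow]; rfl
  have hfix : ∀ j : ℕ, ∀ q : X ⧸ M, c ^ j • q = q → c ^ j = 1 := by
    intro j q hq
    induction q using QuotientGroup.induction_on with
    | H g =>
      apply hsemi g j
      rw [MulAction.Quotient.smul_mk, smul_eq_mul] at hq
      have := QuotientGroup.eq.mp hq.symm
      simpa [mul_assoc] using this
  have hord : orderOf σ ∣ 2 ^ k := by rw [← hc]; exact orderOf_map_dvd _ c
  have h2k : 2 ≤ 2 ^ k := by
    calc 2 = 2 ^ 1 := rfl
      _ ≤ 2 ^ k := Nat.pow_le_pow_right (by norm_num) hk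
  have hcyc : ∀ n ∈ σ.cycleType, n = 2 ^ k := by
    intro n hn
    have h1 : n ∣ 2 ^ k := (Equiv.Perm.dvd_of_mem_cycleType hn).trans hord
    obtain ⟨τ₁, τ₂, hστ, hdisj, hcycle, hcard⟩ := Equiv.Perm.mem_cycleType_iff.mp hn
    obtain ⟨q, hq⟩ := hcycle.nonempty_support
    have hq' : τ₁ q ≠ q := Equiv.Perm.mem_support.mp hq
    have hτ₂ : τ₂ q = q := (hdisj q).resolve_left hq'
    have hτ₁n : τ₁ ^ n = 1 := by
      rw [← hcard, ← hcycle.orderOf]; exact pow_orderOf_eq_one τ₁
    have hσn : (σ ^ n) q = q := by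
      rw [hστ, hdisj.commute.mul_pow, hτ₁n, one_mul]
      exact Equiv.Perm.pow_apply_eq_self_of_apply_eq_self hτ₂ n
    have h2 : c ^ n = 1 := hfix n q (by rw [← hσpow]; exact hσn)
    have h3 : 2 ^ k ∣ n := by rw [← hc]; exact orderOf_dvd_of_pow_eq_one h2
    exact Nat.dvd_antisymm h1 h3
  set N := Multiset.card σ.cycleType with hNdef
  have hrep : σ.cycleType = Multiset.replicate N (2 ^ k) :=
    Multiset.eq_replicate.mpr ⟨rfl, hcyc⟩
  have hsupp : σ.support = Finset.univ := by
    rw [Finset.eq_univ_iff_forall]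
    intro q
    rw [Equiv.Perm.mem_support]
    intro hq
    have h1 : c ^ 1 = 1 := hfix 1 q (by rw [pow_one]; exact hq)
    rw [pow_one] at h1
    rw [h1, orderOf_one] at hc
    omega
  have hsum : σ.cycleType.sum = 2 ^ k * m := by
    rw [Equiv.Perm.sum_cycleType, hsupp, Finset.card_univ, ← Nat.card_eq_fintype_card,
      ← Subgroup.index_eq_card, hidx]
  have hN : N = m := by
    have h := hsum
    rw [hrep, Multiset.sum_replicate, smul_eq_mul, mul_comm] at h
    exact Nat.eq_of_mul_eq_mul_left (by positivity) h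
  rw [Equiv.Perm.sign_of_cycleType, hsum, ← hNdef, hN]
  have hodd : Odd (2 ^ k * m + m) := by
    have hev : Even (2 ^ k * m) := by
      apply Even.mul_right
      exact (Nat.even_pow' (by omega)).mpr even_two
    exact hev.add_odd hm
  exact hodd.neg_one_pow

/-- The sign of the action on the cosets of `M`. -/
noncomputable def sgnHom (M : Subgroup X) : X →* ℤˣ :=
  (@Equiv.Perm.sign (X ⧸ M) (Classical.decEq _) (Fintype.ofFinite _)).comp
    (MulAction.toPermHom X (X ⧸ M))

theorem sgnHom_eq_neg_one (M : Subgroup X) (c : X) (k m : ℕ) (hk : 1 ≤ k)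
    (hc : orderOf c = 2 ^ k) (hsemi : ∀ g : X, ∀ j : ℕ, g⁻¹ * c ^ j * g ∈ M → c ^ j = 1)
    (hidx : M.index = 2 ^ k * m) (hm : Odd m) : sgnHom M c = -1 :=
  @sign_toPerm_eq_neg_one X _ _ M (Classical.decEq _) (Fintype.ofFinite _) c k m hk hc hsemi
    hidx hm

theorem index_ker_of_eq_neg_one {f : X →* ℤˣ} {c : X} (hc : f c = -1) : f.ker.index = 2 := by
  rw [Subgroup.index_ker]
  have hsurj : Function.Surjective f := by
    intro u
    rcases Int.units_eq_one_or u with rfl | rfl
    · exact ⟨1, map_one _⟩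
    · exact ⟨c, hc⟩
  rw [MonoidHom.range_eq_top.mpr hsurj, Subgroup.card_top, Nat.card_eq_fintype_card,
    Fintype.card_units_int]

/-- Passing to a subgroup of index `2` halves `|X : O²(X)|`. -/
theorem pResidual_two_of_index_two (N : Subgroup X) (hN : N.index = 2) :
    pResidual 2 X ≤ N ∧ (pResidual 2 N).map N.subtype = pResidual 2 X ∧
      (pResidual 2 X).index = 2 * (pResidual 2 N).index := by
  have : Fact (Nat.Prime 2) := ⟨Nat.prime_two⟩
  have hNn : N.Normal := Subgroup.normal_of_index_eq_two hN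
  have hq : IsPGroup 2 (X ⧸ N) := by
    apply IsPGroup.of_card (n := 1)
    rw [← Subgroup.index_eq_card, hN, pow_one]
  have hle : pResidual 2 X ≤ N := pResidual_le_of_quotient_isPGroup hq
  have hmap : (pResidual 2 N).map N.subtype = pResidual 2 X := by
    rw [map_subtype_pResidual]
    unfold pResidual
    congr 1
    ext x
    constructor
    · exact fun h => h.2
    · intro h
      exact ⟨hle (mem_pResidual_of_coprime h), h⟩
  refine ⟨hle, hmap, ?_⟩
  rw [← hmap, Subgroup.index_map_subtype, hN, mul_comm]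

end Sgn

/-- If `c` of order `2 ^ k` has no nontrivial power conjugate into `T`, `|X : T| = 2 ^ k * odd`
and `T ≤ O²(X)`, then `2 ^ k` divides `|X : O²(X)|`. -/
theorem two_pow_dvd_index_pResidual :
    ∀ (k : ℕ) {X : Type u} [Group X] [Finite X] (T : Subgroup X) (c : X) (m : ℕ),
      orderOf c = 2 ^ k → (∀ g : X, ∀ j : ℕ, g⁻¹ * c ^ j * g ∈ T → c ^ j = 1) →
      T.index = 2 ^ k * m → Odd m → T ≤ pResidual 2 X → 2 ^ k ∣ (pResidual 2 X).index := by
  intro k
  induction k with
  | zero =>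
    intro X _ _ T c m _ _ _ _ _
    simp
  | succ k ih =>
    intro X _ _ T c m hc hsemi hidx hm hT
    have hfc : sgnHom T c = -1 :=
      sgnHom_eq_neg_one T c (k + 1) m (by omega) hc hsemi hidx hm
    have hNi : (sgnHom T).ker.index = 2 := index_ker_of_eq_neg_one hfc
    obtain ⟨hle, hmap, hr⟩ := pResidual_two_of_index_two (sgnHom T).ker hNi
    have hc2 : c ^ 2 ∈ (sgnHom T).ker := by
      rw [MonoidHom.mem_ker, map_pow, hfc]; norm_num
    have hTN : T ≤ (sgnHom T).ker := hT.trans hle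
    have hord : orderOf (⟨c ^ 2, hc2⟩ : (sgnHom T).ker) = 2 ^ k := by
      rw [← Subgroup.orderOf_coe]
      show orderOf (c ^ 2) = 2 ^ k
      rw [orderOf_pow' c two_ne_zero, hc,
        Nat.gcd_eq_right (dvd_pow_self 2 (Nat.succ_ne_zero k)), pow_succ,
        Nat.mul_div_cancel _ (by norm_num)]
    have hsemi' : ∀ g : (sgnHom T).ker, ∀ j : ℕ,
        g⁻¹ * (⟨c ^ 2, hc2⟩ : (sgnHom T).ker) ^ j * g ∈ T.subgroupOf (sgnHom T).ker →
          (⟨c ^ 2, hc2⟩ : (sgnHom T).ker) ^ j = 1 := by
      intro g j hg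
      rw [mem_subgroupOf] at hg
      have h1 : (g : X)⁻¹ * c ^ (2 * j) * (g : X) ∈ T := by
        simpa [pow_mul] using hg
      have h2 := hsemi (g : X) (2 * j) h1
      apply Subtype.ext
      simpa [pow_mul] using h2
    have hidx' : (T.subgroupOf (sgnHom T).ker).index = 2 ^ k * m := by
      have h1 := Subgroup.relIndex_mul_index hTN
      rw [hNi, hidx, pow_succ] at h1
      have h2 : T.relIndex (sgnHom T).ker * 2 = 2 ^ k * m * 2 := by rw [h1]; ring
      exact Nat.eq_of_mul_eq_mul_right (by norm_num) h2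
    have hT' : T.subgroupOf (sgnHom T).ker ≤ pResidual 2 (sgnHom T).ker := by
      intro t ht
      have h1 : (t : X) ∈ pResidual 2 X := hT (mem_subgroupOf.mp ht)
      rw [← hmap] at h1
      obtain ⟨y, hy, hyt⟩ := h1
      have : y = t := Subtype.ext hyt
      rw [← this]; exact hy
    have hih := ih (T.subgroupOf (sgnHom T).ker) ⟨c ^ 2, hc2⟩ m hord hsemi' hidx' hm hT'
    rw [hr, pow_succ, mul_comm]
    exact Nat.mul_dvd_mul_left 2 hih

end Cfsg.Agent.Lib.Helper17
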