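import Mathlib.GroupTheory.Sylow
import Mathlib.GroupTheory.Nilpotent

set_option autoImplicit false

namespace Cfsg.Agent.Lib.Helper17

section sylow

variable {G : Type*} [Group G] {p : ℕ}

/-- If `D` contains a Sylow `p`-subgroup of `G`, every `p`-subgroup of `D` lies in a Sylow
`p`-subgroup of `G` contained in `D`. -/
theorem exists_sylow_between [Finite G] [Fact p.Prime] {R D : Subgroup G} (hR : IsPGroup p R)
    (hRD : R ≤ D) (P : Sylow p G) (hPD : (P : Subgroup G) ≤ D) :
    ∃ U : Sylow p G, R ≤ (U : Subgroup G) ∧ (U : Subgroup G) ≤ D := by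
  obtain ⟨Q, hQ⟩ := (hR.comap_subtype (K := D)).exists_le_sylow
  obtain ⟨d, hd⟩ := MulAction.exists_smul_eq D (P.subtype hPD) Q
  refine ⟨d • P, ?_, Sylow.smul_le hPD d⟩
  rw [Sylow.smul_subtype hPD d] at hd
  intro r hr
  have h1 : (⟨r, hRD hr⟩ : D) ∈ R.subgroupOf D := by
    rw [Subgroup.mem_subgroupOf]; exact hr
  have h2 := hQ h1
  rw [← hd] at h2
  have h3 : (⟨r, hRD hr⟩ : D) ∈ ((d • P : Sylow p G) : Subgroup G).subgroupOf D := by
    rw [← Sylow.coe_subtype (d • P) (Sylow.smul_le hPD d)]; exact h2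
  rw [Subgroup.mem_subgroupOf] at h3
  exact h3

end sylow

end Cfsg.Agent.Lib.Helper17

namespace Cfsg.Agent.Lib.Helper17

section pgroup

variable {G : Type*} [Group G] {p : ℕ}

/-- Normalizers grow in finite `p`-groups (internal form). -/
theorem pgroup_normalizer_gt [Finite G] [Fact p.Prime] {R C : Subgroup G} (hR : IsPGroup p R)
    (hCR : C < R) : ∃ n ∈ R, n ∈ Subgroup.normalizer (C : Set G) ∧ n ∉ C := by
  have : Group.IsNilpotent R := hR.isNilpotent
  have hnc : NormalizerCondition R := Group.normalizerCondition_of_isNilpotent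
  have hlt : C.subgroupOf R < ⊤ := by
    rw [lt_top_iff_ne_top, Ne, Subgroup.subgroupOf_eq_top]
    exact fun h => (lt_irrefl C) (lt_of_lt_of_le hCR h)
  have h2 := hnc _ hlt
  obtain ⟨n, hn1, hn2⟩ := SetLike.exists_of_lt h2
  refine ⟨n, n.2, ?_, ?_⟩
  · rw [Subgroup.mem_normalizer_iff] at hn1 ⊢
    intro h
    constructor
    · intro hh
      have := (hn1 ⟨h, hCR.le hh⟩).mp (by rw [Subgroup.mem_subgroupOf]; exact hh)
      rw [Subgroup.mem_subgroupOf] at this
      simpa using this
    · intro hh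
      have hhR : h ∈ R := by
        have h1 : (n : G) * h * (n : G)⁻¹ ∈ R := hCR.le hh
        have : h = (n : G)⁻¹ * ((n : G) * h * (n : G)⁻¹) * (n : G) := by group
        rw [this]
        exact R.mul_mem (R.mul_mem (R.inv_mem n.2) h1) n.2
      have := (hn1 ⟨h, hhR⟩).mpr (by rw [Subgroup.mem_subgroupOf]; simpa using hh)
      rw [Subgroup.mem_subgroupOf] at this
      exact this
  · intro hn
    apply hn2
    rw [Subgroup.mem_subgroupOf]
    exact hn

end pgroup

end Cfsg.Agent.Lib.Helper17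

namespace Cfsg.Agent.Lib.Helper17

section frattiniArg

variable {G : Type*} [Group G] {p : ℕ}

/-- **Frattini argument**, internal form: if `g` normalizes `N` and `P` is a Sylow `p`-subgroup of
`N`, then `g = n * m` with `n ∈ N` and `m` normalizing `P` (viewed in `G`). -/
theorem frattini_internal [Finite G] [Fact p.Prime] {N : Subgroup G} (P : Sylow p N) (g : G)
    (hg : g ∈ Subgroup.normalizer (N : Set G)) :
    ∃ n ∈ N, n⁻¹ * g ∈ Subgroup.normalizer (((P : Subgroup N).map N.subtype : Subgroup G) : Set G) := by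
  let g' : Subgroup.normalizer (N : Set G) := ⟨g, hg⟩
  obtain ⟨n, hn⟩ := MulAction.exists_smul_eq N P (g' • P)
  refine ⟨n, n.2, ?_⟩
  apply Subgroup.mem_normalizer_fintype
  rintro _ ⟨z, hz, rfl⟩
  -- g z g⁻¹ ∈ n P n⁻¹
  have h1 : g' • z ∈ ((g' • P : Sylow p N) : Subgroup N) := by
    rw [Sylow.pointwise_smul_def]
    exact Subgroup.smul_mem_pointwise_smul z g' _ hz
  rw [← hn] at h1
  rw [Sylow.coe_subgroup_smul, Subgroup.mem_pointwise_smul_iff_inv_smul_mem] at h1
  refine ⟨(MulAut.conj n)⁻¹ • (g' • z), h1, ?_⟩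
  simp only [MulAut.smul_def, MulAut.inv_apply, MulAut.conj_symm_apply, Subgroup.subtype_apply,
    Subgroup.coe_mul, Subgroup.coe_inv]
  change (n : G)⁻¹ * (g * z * g⁻¹) * n = _
  group

end frattiniArg

end Cfsg.Agent.Lib.Helper17
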