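import Mathlib.GroupTheory.Sylow
import Mathlib.GroupTheory.Index

set_option autoImplicit false

namespace Cfsg.Agent.Lib.Helper17

section SylowNormal

variable {G : Type*} [Group G]

theorem relIndex_mul_card' {H K : Subgroup G} (h : H ≤ K) :
    H.relIndex K * Nat.card H = Nat.card K := by
  have := Subgroup.relIndex_mul_relIndex (⊥ : Subgroup G) H K bot_le h
  rw [Subgroup.relIndex_bot_left, Subgroup.relIndex_bot_left] at this
  rw [mul_comm]; exact this

/-- Second isomorphism theorem, index form: `[N : T ∩ N] = [TN : T]` for `N` normal. -/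
theorem relIndex_eq_relIndex_sup_of_normal [Finite G] (T N : Subgroup G) [N.Normal] :
    T.relIndex N = T.relIndex (T ⊔ N) := by
  have h1 : N.relIndex (T ⊔ N) * Nat.card N = Nat.card (T ⊔ N : Subgroup G) :=
    relIndex_mul_card' le_sup_right
  have h2 : N.relIndex (T ⊔ N) = N.relIndex T := Subgroup.relIndex_sup_right T N
  have h3 : (N ⊓ T).relIndex T * Nat.card (N ⊓ T : Subgroup G) = Nat.card T :=
    relIndex_mul_card' inf_le_right
  have h3' : (N ⊓ T).relIndex T = N.relIndex T := Subgroup.inf_relIndex_right N T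
  have h4 : (T ⊓ N).relIndex N * Nat.card (T ⊓ N : Subgroup G) = Nat.card N :=
    relIndex_mul_card' inf_le_right
  have h4' : (T ⊓ N).relIndex N = T.relIndex N := Subgroup.inf_relIndex_right T N
  have h5 : T.relIndex (T ⊔ N) * Nat.card T = Nat.card (T ⊔ N : Subgroup G) :=
    relIndex_mul_card' le_sup_left
  have hc : Nat.card (N ⊓ T : Subgroup G) = Nat.card (T ⊓ N : Subgroup G) := by rw [inf_comm]
  have hTpos : 0 < Nat.card T := Nat.card_pos
  have key : T.relIndex (T ⊔ N) * Nat.card T = T.relIndex N * Nat.card T := by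
    rw [h5, ← h1, h2, ← h4, h4', ← h3, h3', hc]
    ring
  exact (Nat.eq_of_mul_eq_mul_right hTpos key).symm

theorem relIndex_dvd_index_of_normal_right [Finite G] (T N : Subgroup G) [N.Normal] :
    T.relIndex N ∣ T.index := by
  rw [relIndex_eq_relIndex_sup_of_normal]
  exact Subgroup.relIndex_dvd_index_of_le le_sup_left

variable {p : ℕ} [Fact p.Prime]

/-- For a Sylow `p`-subgroup `T` of `G` and a normal subgroup `N`, `T ∩ N` is a Sylow `p`-subgroup
of `N`. -/
noncomputable def sylowInfNormal [Finite G] (T : Sylow p G) (N : Subgroup G) [N.Normal] :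
    Sylow p N :=
  (T.2.comap_subtype (K := N)).toSylow (fun h =>
    T.not_dvd_index (dvd_trans h (relIndex_dvd_index_of_normal_right (T : Subgroup G) N)))

theorem coe_sylowInfNormal [Finite G] (T : Sylow p G) (N : Subgroup G) [N.Normal] :
    ((sylowInfNormal T N : Sylow p N) : Subgroup N) = (T : Subgroup G).subgroupOf N :=
  rfl

theorem map_sylowInfNormal [Finite G] (T : Sylow p G) (N : Subgroup G) [N.Normal] :
    ((sylowInfNormal T N : Sylow p N) : Subgroup N).map N.subtype = (T : Subgroup G) ⊓ N := by
  rw [coe_sylowInfNormal, Subgroup.subgroupOf_map_subtype]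

end SylowNormal

end Cfsg.Agent.Lib.Helper17
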