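import Mathlib.GroupTheory.Sylow
import Mathlib.GroupTheory.Commutator.Basic
import Mathlib.Tactic.Group

set_option autoImplicit false

namespace Cfsg.Agent.Lib.Helper17

section Conj

variable {G : Type*} [Group G]

theorem mem_map_conj {W : Subgroup G} {g x : G} :
    x ∈ W.map (MulAut.conj g).toMonoidHom ↔ g⁻¹ * x * g ∈ W := by
  constructor
  · rintro ⟨w, hw, rfl⟩
    simp only [MulEquiv.coe_toMonoidHom, MulAut.conj_apply]
    have : g⁻¹ * (g * w * g⁻¹) * g = w := by group
    rw [this]; exact hw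
  · intro h
    refine ⟨g⁻¹ * x * g, h, ?_⟩
    simp only [MulEquiv.coe_toMonoidHom, MulAut.conj_apply]
    group

theorem conj_mem_map_conj {W : Subgroup G} {g w : G} (hw : w ∈ W) :
    g * w * g⁻¹ ∈ W.map (MulAut.conj g).toMonoidHom :=
  ⟨w, hw, by simp [MulAut.conj_apply]⟩

theorem map_conj_eq_of_mem_normalizer {W : Subgroup G} {g : G}
    (hg : g ∈ Subgroup.normalizer (W : Set G)) : W.map (MulAut.conj g).toMonoidHom = W := by
  ext x
  rw [mem_map_conj]
  have := (Subgroup.mem_normalizer_iff.mp ((Subgroup.normalizer (W : Set G)).inv_mem hg)) x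
  rw [inv_inv] at this
  exact this.symm

theorem mem_normalizer_of_map_conj_eq {W : Subgroup G} {g : G}
    (h : W.map (MulAut.conj g).toMonoidHom = W) : g ∈ Subgroup.normalizer (W : Set G) := by
  rw [Subgroup.mem_normalizer_iff]
  intro x
  constructor
  · intro hx
    rw [← h]; exact conj_mem_map_conj hx
  · intro hx
    rw [← h, mem_map_conj] at hx
    have : g⁻¹ * (g * x * g⁻¹) * g = x := by group
    rwa [this] at hx

theorem mem_normalizer_iff_map_conj_eq {W : Subgroup G} {g : G} :
    g ∈ Subgroup.normalizer (W : Set G) ↔ W.map (MulAut.conj g).toMonoidHom = W :=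
  ⟨map_conj_eq_of_mem_normalizer, mem_normalizer_of_map_conj_eq⟩

theorem card_map_conj (W : Subgroup G) (g : G) :
    Nat.card (W.map (MulAut.conj g).toMonoidHom) = Nat.card W :=
  Nat.card_congr (W.equivMapOfInjective _ (MulAut.conj g).injective).symm.toEquiv

theorem map_conj_eq_of_le [Finite G] {W : Subgroup G} {g : G}
    (h : W.map (MulAut.conj g).toMonoidHom ≤ W) : W.map (MulAut.conj g).toMonoidHom = W :=
  Subgroup.eq_of_le_of_card_ge h (by rw [card_map_conj])

theorem mem_normalizer_of_map_conj_le [Finite G] {W : Subgroup G} {g : G}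
    (h : W.map (MulAut.conj g).toMonoidHom ≤ W) : g ∈ Subgroup.normalizer (W : Set G) :=
  mem_normalizer_of_map_conj_eq (map_conj_eq_of_le h)

/-- An element normalizing `A` and `B` normalizes `⁅A, B⁆`. -/
theorem mem_normalizer_commutator {A B : Subgroup G} {g : G}
    (hA : g ∈ Subgroup.normalizer (A : Set G)) (hB : g ∈ Subgroup.normalizer (B : Set G)) :
    g ∈ Subgroup.normalizer ((⁅A, B⁆ : Subgroup G) : Set G) := by
  apply mem_normalizer_of_map_conj_eq
  rw [Subgroup.map_commutator, map_conj_eq_of_mem_normalizer hA, map_conj_eq_of_mem_normalizer hB]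

/-- An element normalizing `A` and `B` normalizes `A ⊔ B`. -/
theorem mem_normalizer_sup {A B : Subgroup G} {g : G}
    (hA : g ∈ Subgroup.normalizer (A : Set G)) (hB : g ∈ Subgroup.normalizer (B : Set G)) :
    g ∈ Subgroup.normalizer ((A ⊔ B : Subgroup G) : Set G) := by
  apply mem_normalizer_of_map_conj_eq
  rw [Subgroup.map_sup, map_conj_eq_of_mem_normalizer hA, map_conj_eq_of_mem_normalizer hB]

/-- An element normalizing `A` and `B` normalizes `A ⊓ B`. -/
theorem mem_normalizer_inf {A B : Subgroup G} {g : G}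
    (hA : g ∈ Subgroup.normalizer (A : Set G)) (hB : g ∈ Subgroup.normalizer (B : Set G)) :
    g ∈ Subgroup.normalizer ((A ⊓ B : Subgroup G) : Set G) := by
  rw [Subgroup.mem_normalizer_iff] at hA hB ⊢
  intro x
  rw [Subgroup.mem_inf, Subgroup.mem_inf, ← hA x, ← hB x]

theorem normal_of_le_normalizer_of_sup_eq_top {A B W : Subgroup G}
    (hA : A ≤ Subgroup.normalizer (W : Set G)) (hB : B ≤ Subgroup.normalizer (W : Set G))
    (h : A ⊔ B = ⊤) : W.Normal := by
  rw [← Subgroup.normalizer_eq_top_iff, eq_top_iff, ← h]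
  exact sup_le hA hB

end Conj

end Cfsg.Agent.Lib.Helper17
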