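import Mathlib.GroupTheory.Sylow
import Mathlib.GroupTheory.Nilpotent
import Cfsg.Prelude.Def_EvenType
import Cfsg.Agent.Lib.Helper17.SylowLemmas
import Cfsg.Agent.Lib.Helper17.Conj

set_option autoImplicit false

namespace Cfsg.Agent.Lib.Helper17

open Cfsg

section SylowConj

variable {G : Type*} [Group G] {p : ℕ}

theorem mem_smul_sylow {P : Sylow p G} {g y : G} :
    y ∈ ((g • P : Sylow p G) : Subgroup G) ↔ g⁻¹ * y * g ∈ (P : Subgroup G) := by
  rw [Sylow.coe_subgroup_smul, Subgroup.mem_pointwise_smul_iff_inv_smul_mem]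
  simp only [MulAut.smul_def, MulAut.inv_apply, MulAut.conj_symm_apply]

theorem sylow_smul_eq_map_conj (P : Sylow p G) (g : G) :
    ((g • P : Sylow p G) : Subgroup G) = (P : Subgroup G).map (MulAut.conj g).toMonoidHom := by
  ext y
  rw [mem_smul_sylow, mem_map_conj]

/-- If `D` contains the Sylow `p`-subgroup `P` of `G`, every `p`-subgroup of `D` is conjugate by
an element of `D` into `P`. -/
theorem exists_conj_le_sylow_of_le [Finite G] [Fact p.Prime] {R D : Subgroup G}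
    (hR : IsPGroup p R) (hRD : R ≤ D) (P : Sylow p G) (hPD : (P : Subgroup G) ≤ D) :
    ∃ d ∈ D, R.map (MulAut.conj d).toMonoidHom ≤ (P : Subgroup G) := by
  obtain ⟨Q, hQ⟩ := (hR.comap_subtype (K := D)).exists_le_sylow
  obtain ⟨d, hd⟩ := MulAction.exists_smul_eq D (P.subtype hPD) Q
  rw [Sylow.smul_subtype hPD d] at hd
  refine ⟨(d : G)⁻¹, D.inv_mem d.2, ?_⟩
  rintro _ ⟨r, hr, rfl⟩
  have h1 : (⟨r, hRD hr⟩ : D) ∈ R.subgroupOf D := by
    rw [Subgroup.mem_subgroupOf]; exact hr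
  have h2 := hQ h1
  rw [← hd] at h2
  have h3 : (⟨r, hRD hr⟩ : D) ∈ ((d • P : Sylow p G) : Subgroup G).subgroupOf D := by
    rw [← Sylow.coe_subtype (d • P) (Sylow.smul_le hPD d)]; exact h2
  rw [Subgroup.mem_subgroupOf] at h3
  have h4 : r ∈ (((d : G) • P : Sylow p G) : Subgroup G) := h3
  rw [mem_smul_sylow] at h4
  simp only [MulEquiv.coe_toMonoidHom, MulAut.conj_apply, inv_inv]
  exact h4

end SylowConj

section SPE

variable {G : Type*} [Group G] {p : ℕ}

/-- A nontrivial `p`-subgroup has `p`-rank at least one (in the Prelude's sense). -/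
theorem not_pRankLE_zero [Finite G] [hp : Fact p.Prime] {Q : Subgroup G} (hQ : IsPGroup p Q)
    (hQ1 : Q ≠ ⊥) : ¬ PRankLE p 0 Q := by
  intro h
  have hdvd : p ∣ Nat.card Q := by
    rcases hQ.card_eq_or_dvd with h1 | h1
    · exact absurd (Subgroup.card_eq_one.mp h1) hQ1
    · exact h1
  obtain ⟨z, hz⟩ := exists_prime_orderOf_dvd_card' p hdvd
  have h1 := h (Subgroup.zpowers z) inferInstance (by
    intro a ha
    obtain ⟨k, rfl⟩ := Subgroup.mem_zpowers_iff.mp ha
    rw [← zpow_natCast, ← zpow_mul, mul_comm, zpow_mul, zpow_natCast, ← hz, pow_orderOf_eq_one,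
      one_zpow])
  rw [Nat.card_zpowers, hz, pow_zero] at h1
  exact absurd h1 (not_le.mpr hp.out.one_lt)

theorem ne_bot_of_not_pRankLE_zero {Q : Subgroup G} (h : ¬ PRankLE p 0 Q) : Q ≠ ⊥ := by
  rintro rfl
  apply h
  intro A _ _
  rw [pow_zero]
  have : Subsingleton (⊥ : Subgroup G) := inferInstance
  have : Subsingleton A := inferInstance
  exact le_of_eq (Nat.card_unique)

theorem normalizer_le_kGeneratedCore_one [Finite G] [Fact p.Prime] {P Q : Subgroup G}
    (hQP : Q ≤ P) (hQ : IsPGroup p Q) (hQ1 : Q ≠ ⊥) :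
    Subgroup.normalizer (Q : Set G) ≤ kGeneratedCore p 1 P := by
  unfold kGeneratedCore
  exact le_iSup (fun Q : {Q : Subgroup G // Q ≤ P ∧ ¬ PRankLE p (1 - 1) Q} =>
    Subgroup.normalizer ((Q : Subgroup G) : Set G)) ⟨Q, hQP, by
      have h := not_pRankLE_zero hQ hQ1
      simpa using h⟩

/-- `H` contains the normalizers of all its nontrivial `p`-subgroups. -/
def PNormControl (p : ℕ) (H : Subgroup G) : Prop :=
  ∀ Q : Subgroup G, Q ≤ H → IsPGroup p Q → Q ≠ ⊥ → Subgroup.normalizer (Q : Set G) ≤ H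

theorem sylow_ne_bot_of_dvd [Finite G] [Fact p.Prime] (hdvd : p ∣ Nat.card G) (P : Sylow p G) :
    (P : Subgroup G) ≠ ⊥ := by
  intro h
  have h1 := P.not_dvd_index
  rw [h, Subgroup.index_bot] at h1
  exact h1 hdvd

/-- A strongly `p`-embedded subgroup contains a Sylow `p`-subgroup `P ≠ 1` of `G` with
`Γ_{P,1}(G) ≤ H`. -/
theorem exists_sylow_of_spe [Finite G] [Fact p.Prime] {H : Subgroup G}
    (hH : IsStronglyPEmbedded p H) :
    ∃ P : Sylow p G, (P : Subgroup G) ≠ ⊥ ∧ (P : Subgroup G) ≤ H ∧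
      kGeneratedCore p 1 (P : Subgroup G) ≤ H := by
  obtain ⟨hdvd, -, P, hP⟩ := hH
  have hP1 := sylow_ne_bot_of_dvd hdvd P
  refine ⟨P, hP1, ?_, hP⟩
  exact le_trans (le_trans Subgroup.le_normalizer
    (normalizer_le_kGeneratedCore_one le_rfl P.2 hP1)) hP

theorem pNormControl_of_spe [Finite G] [Fact p.Prime] {H : Subgroup G}
    (hH : IsStronglyPEmbedded p H) : PNormControl p H := by
  obtain ⟨P, hP1, hPH, hΓ⟩ := exists_sylow_of_spe hH
  intro Q hQH hQ hQ1 g hg
  obtain ⟨d, hd, hdQ⟩ := exists_conj_le_sylow_of_le hQ hQH P hPH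
  have hQ' : IsPGroup p (Q.map (MulAut.conj d).toMonoidHom) := hQ.map _
  have hQ'1 : Q.map (MulAut.conj d).toMonoidHom ≠ ⊥ := by
    intro h
    apply hQ1
    exact (Subgroup.map_eq_bot_iff_of_injective Q (MulAut.conj d).injective).mp h
  have h1 := le_trans (normalizer_le_kGeneratedCore_one hdQ hQ' hQ'1) hΓ
  -- d g d⁻¹ normalizes d Q d⁻¹
  have h2 : d * g * d⁻¹ ∈ Subgroup.normalizer ((Q.map (MulAut.conj d).toMonoidHom : Subgroup G) : Set G) := by
    apply mem_normalizer_of_map_conj_le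
    rintro _ ⟨_, ⟨q, hq, rfl⟩, rfl⟩
    simp only [MulEquiv.coe_toMonoidHom, MulAut.conj_apply]
    refine ⟨g * q * g⁻¹, (Subgroup.mem_normalizer_iff.mp hg q).mp hq, ?_⟩
    simp only [MulEquiv.coe_toMonoidHom, MulAut.conj_apply]
    group
  have h3 := h1 h2
  have : g = d⁻¹ * (d * g * d⁻¹) * d := by group
  rw [this]
  exact H.mul_mem (H.mul_mem (H.inv_mem hd) h3) hd

/-- A `p`-subgroup meeting `H` nontrivially lies in `H`. -/
theorem PNormControl.le_of_inf_ne_bot [Finite G] [Fact p.Prime] {H R : Subgroup G}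
    (hH : PNormControl p H) (hR : IsPGroup p R) (hRH : R ⊓ H ≠ ⊥) : R ≤ H := by
  by_contra hne
  have hlt : R ⊓ H < R := lt_of_le_of_ne inf_le_left (fun h => hne (h ▸ inf_le_right))
  obtain ⟨n, hnR, hnN, hnQ⟩ := pgroup_normalizer_gt hR hlt
  apply hnQ
  exact ⟨hnR, hH (R ⊓ H) inf_le_right (hR.to_le inf_le_left) hRH hnN⟩

/-- If a nontrivial `p`-subgroup `Q` of `H` has a conjugate `uQu⁻¹` in `H`, then `u ∈ H`. -/
theorem PNormControl.mem_of_map_conj_le [Finite G] [Fact p.Prime] {H Q : Subgroup G}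
    (hH : PNormControl p H) (hQH : Q ≤ H) (hQ : IsPGroup p Q) (hQ1 : Q ≠ ⊥) {u : G}
    (hu : Q.map (MulAut.conj u).toMonoidHom ≤ H) : u ∈ H := by
  obtain ⟨R, hQR⟩ := hQ.exists_le_sylow
  have hR1 : (R : Subgroup G) ≠ ⊥ := fun h => hQ1 (le_bot_iff.mp (h ▸ hQR))
  have hRH : (R : Subgroup G) ≤ H := by
    apply hH.le_of_inf_ne_bot R.2
    intro h
    exact hQ1 (le_bot_iff.mp (h ▸ le_inf hQR hQH))
  have huR : ((u • R : Sylow p G) : Subgroup G) ≤ H := by
    apply hH.le_of_inf_ne_bot (u • R).2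
    intro h
    have h1 : Q.map (MulAut.conj u).toMonoidHom ≤ ((u • R : Sylow p G) : Subgroup G) ⊓ H := by
      refine le_inf ?_ hu
      rw [sylow_smul_eq_map_conj]; exact Subgroup.map_mono hQR
    rw [h, le_bot_iff] at h1
    exact hQ1 ((Subgroup.map_eq_bot_iff_of_injective Q (MulAut.conj u).injective).mp h1)
  obtain ⟨h, hh⟩ := MulAction.exists_smul_eq H ((u • R).subtype huR) (R.subtype hRH)
  rw [Sylow.smul_subtype huR h] at hh
  have h1 : (((h • (u • R) : Sylow p G)) : Subgroup G) = (R : Subgroup G) := by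
    have h2 := congrArg (fun S : Sylow p H => (S : Subgroup H)) hh
    simp only [Sylow.coe_subtype] at h2
    rw [Subgroup.subgroupOf_inj, inf_of_le_left (Sylow.smul_le huR h), inf_of_le_left hRH] at h2
    exact h2
  have h3 : ((h : G) * u) • R = R := by
    apply Sylow.ext
    rw [mul_smul]
    exact h1
  have h4 : (h : G) * u ∈ Subgroup.normalizer ((R : Subgroup G) : Set G) :=
    Sylow.smul_eq_iff_mem_normalizer.mp h3
  have h5 := hH R hRH R.2 hR1 h4
  have : u = (h : G)⁻¹ * ((h : G) * u) := by group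
  rw [this]
  exact H.mul_mem (H.inv_mem h.2) h5

/-- Elementwise form: if `x ∈ H` has order `p` and `u x u⁻¹ ∈ H` then `u ∈ H`. -/
theorem PNormControl.mem_of_conj_mem [Finite G] [hp : Fact p.Prime] {H : Subgroup G}
    (hH : PNormControl p H) {x u : G} (hx : x ∈ H) (hxp : orderOf x = p)
    (hu : u * x * u⁻¹ ∈ H) : u ∈ H := by
  have hQ : IsPGroup p (Subgroup.zpowers x) := by
    apply IsPGroup.of_card (n := 1)
    rw [Nat.card_zpowers, hxp, pow_one]
  have hQ1 : Subgroup.zpowers x ≠ ⊥ := by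
    intro h
    rw [Subgroup.zpowers_eq_bot] at h
    rw [h, orderOf_one] at hxp
    exact hp.out.one_lt.ne hxp
  apply hH.mem_of_map_conj_le (Q := Subgroup.zpowers x) ((Subgroup.zpowers_le).mpr hx) hQ hQ1
  rw [MonoidHom.map_zpowers, Subgroup.zpowers_le]
  exact hu

/-- Sylow `p`-subgroups of `H` (if nontrivial) are Sylow `p`-subgroups of `G`. -/
theorem PNormControl.exists_sylow_eq_map [Finite G] [Fact p.Prime] {H : Subgroup G}
    (hH : PNormControl p H) (S : Sylow p H) (hS : (S : Subgroup H) ≠ ⊥) :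
    ∃ P : Sylow p G, (P : Subgroup G) = (S : Subgroup H).map H.subtype := by
  have hSp : IsPGroup p ((S : Subgroup H).map H.subtype) := S.2.map _
  have hS1 : (S : Subgroup H).map H.subtype ≠ ⊥ := by
    intro h
    exact hS ((Subgroup.map_eq_bot_iff_of_injective _ H.subtype_injective).mp h)
  have hSH : (S : Subgroup H).map H.subtype ≤ H := Subgroup.map_subtype_le _
  obtain ⟨P, hP⟩ := hSp.exists_le_sylow
  have hPH : (P : Subgroup G) ≤ H := by
    apply hH.le_of_inf_ne_bot P.2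
    intro h
    exact hS1 (le_bot_iff.mp (h ▸ le_inf hP hSH))
  refine ⟨P, ?_⟩
  have h1 : (S : Subgroup H) ≤ (P : Subgroup G).subgroupOf H := by
    intro s hs
    rw [Subgroup.mem_subgroupOf]
    exact hP ⟨s, hs, rfl⟩
  have h2 : (P : Subgroup G).subgroupOf H = (S : Subgroup H) :=
    S.is_maximal' (P.2.comap_subtype) h1
  rw [← h2, Subgroup.subgroupOf_map_subtype, inf_of_le_left hPH]

theorem isStronglyPEmbedded_of_pNormControl [Finite G] [Fact p.Prime] {H : Subgroup G}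
    (hH : PNormControl p H) (hne : H ≠ ⊤) (hdvd : p ∣ Nat.card H) :
    IsStronglyPEmbedded p H := by
  refine ⟨dvd_trans hdvd (Subgroup.card_subgroup_dvd_card H), hne, ?_⟩
  obtain ⟨S⟩ : Nonempty (Sylow p H) := inferInstance
  have hS1 : (S : Subgroup H) ≠ ⊥ := sylow_ne_bot_of_dvd hdvd S
  obtain ⟨P, hP⟩ := hH.exists_sylow_eq_map S hS1
  have hPH : (P : Subgroup G) ≤ H := hP ▸ Subgroup.map_subtype_le _
  refine ⟨P, ?_⟩
  unfold kGeneratedCore
  apply iSup_le
  rintro ⟨Q, hQP, hQr⟩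
  have hQr' : ¬ PRankLE p 0 Q := by simpa using hQr
  exact hH Q (hQP.trans hPH) (P.2.to_le hQP) (ne_bot_of_not_pRankLE_zero hQr')

theorem dvd_card_of_spe [Finite G] [Fact p.Prime] {H : Subgroup G}
    (hH : IsStronglyPEmbedded p H) : p ∣ Nat.card H := by
  obtain ⟨P, hP1, hPH, -⟩ := exists_sylow_of_spe hH
  have h1 : p ∣ Nat.card (P : Subgroup G) := by
    rcases P.2.card_eq_or_dvd with h | h
    · exact absurd (Subgroup.card_eq_one.mp h) hP1
    · exact h
  exact dvd_trans h1 (Subgroup.card_dvd_of_le hPH)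

end SPE

end Cfsg.Agent.Lib.Helper17
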