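import Mathlib
import Cfsg.Agent.S4624

set_option autoImplicit false

namespace Cfsg.Agent.Lib.Helper17.SqCommKer

open Cfsg.Agent.S4624
open scoped commutatorElement
open SemidirectProduct (inl inr)

/-! ### the image of the commutator subgroup of a subgroup -/

/-- the commutator subgroup of `K`, as a subgroup of the ambient group -/
def commImage {G : Type*} [Group G] (K : Subgroup G) : Subgroup G :=
  (commutator K).map K.subtype

theorem commutator_mem_commImage {G : Type*} [Group G] {K : Subgroup G} {a b : G} (ha : a ∈ K)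
    (hb : b ∈ K) : ⁅a, b⁆ ∈ commImage K := by
  refine Subgroup.mem_map.mpr ⟨⁅(⟨a, ha⟩ : K), ⟨b, hb⟩⁆, ?_, ?_⟩
  · rw [commutator_def]
    exact Subgroup.commutator_mem_commutator (Subgroup.mem_top _) (Subgroup.mem_top _)
  · rw [map_commutatorElement]
    rfl

theorem mem_sqKer_of_commImage {G : Type*} [Group G] {K : Subgroup G} {a : G} (ha : a ∈ K)
    (h : a ^ 2 ∈ commImage K) : (⟨a, ha⟩ : K) ∈ sqKer K := by
  rw [mem_sqKer]
  obtain ⟨c, hc, hcx⟩ := Subgroup.mem_map.mp h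
  have e : (⟨a, ha⟩ : K) ^ 2 = c := by
    apply Subtype.ext
    rw [Subgroup.coe_pow]
    exact hcx.symm
  rw [e]
  exact hc

/-! ### Lemma A: nonabelian base -/

section LemmaA

variable {ι A T C : Type*} [Finite ι] [DecidableEq ι] [Group A] [Group T] [CommGroup C]

theorem commutator_mulSingle_pair (i j : ι) (hij : j ≠ i) (a b c d : A) (hcd : Commute c d) :
    ⁅(Pi.mulSingle i a * Pi.mulSingle j c : ι → A), Pi.mulSingle i b * Pi.mulSingle j d⁆ =
      (Pi.mulSingle i ⁅a, b⁆ : ι → A) := by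
  funext k
  have h := map_commutatorElement (Pi.evalMonoidHom (fun _ : ι => A) k)
    (Pi.mulSingle i a * Pi.mulSingle j c) (Pi.mulSingle i b * Pi.mulSingle j d)
  simp only [Pi.evalMonoidHom_apply, Pi.mul_apply] at h
  rw [h]
  by_cases hki : k = i
  · rw [hki, Pi.mulSingle_eq_same, Pi.mulSingle_eq_same, Pi.mulSingle_eq_same,
      Pi.mulSingle_eq_of_ne hij.symm, Pi.mulSingle_eq_of_ne hij.symm, mul_one, mul_one]
  · rw [Pi.mulSingle_eq_of_ne hki, Pi.mulSingle_eq_of_ne hki, Pi.mulSingle_eq_of_ne hki, one_mul,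
      one_mul]
    by_cases hkj : k = j
    · rw [hkj, Pi.mulSingle_eq_same, Pi.mulSingle_eq_same]
      exact commutatorElement_eq_one_iff_commute.mpr hcd
    · rw [Pi.mulSingle_eq_of_ne hkj, Pi.mulSingle_eq_of_ne hkj, commutatorElement_one_right]

theorem sqComm_ker_A (φ : T →* MulAut (ι → A)) (χ : A →* C) (ε : (ι → A) ⋊[φ] T →* C)
    (hι : ∀ i : ι, ∃ j, j ≠ i)
    (hεr : ∀ t, ε (inr t) = 1) (hεl : ∀ i a, ε (inl (Pi.mulSingle i a)) = χ a)
    (τ : A → A) (hτ : ∀ a, χ (τ a) = (χ a)⁻¹) (hτc : ∀ a b, Commute (τ a) (τ b))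
    (hA : ∀ a : A, a ^ 2 ∈ commutator A) (hT : ∀ t : T, t ^ 2 ∈ commutator T) :
    ∀ x : ε.ker, x ^ 2 ∈ commutator ε.ker := by
  classical
  have key1 : ∀ (i : ι) (a b : A),
      (inl (Pi.mulSingle i ⁅a, b⁆) : (ι → A) ⋊[φ] T) ∈ commImage ε.ker := by
    intro i a b
    obtain ⟨j, hj⟩ := hι i
    have hmem : ∀ a : A,
        (inl (Pi.mulSingle i a * Pi.mulSingle j (τ a)) : (ι → A) ⋊[φ] T) ∈ ε.ker := by
      intro a
      rw [MonoidHom.mem_ker, map_mul, map_mul, hεl, hεl, hτ, mul_inv_cancel]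
    have h := commutator_mem_commImage (hmem a) (hmem b)
    rw [← map_commutatorElement,
      commutator_mulSingle_pair i j hj a b (τ a) (τ b) (hτc a b)] at h
    exact h
  have key2 : ∀ (i : ι), commutator A ≤ (commImage ε.ker).comap
      ((inl : (ι → A) →* (ι → A) ⋊[φ] T).comp (MonoidHom.mulSingle (fun _ : ι => A) i)) := by
    intro i
    rw [commutator_eq_closure, Subgroup.closure_le]
    rintro _ ⟨a, b, rfl⟩
    exact key1 i a b
  have key3 : ∀ f : ι → A, (∀ i, f i ∈ commutator A) →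
      (inl f : (ι → A) ⋊[φ] T) ∈ commImage ε.ker := by
    intro f hf
    have hle : Subgroup.pi Set.univ (fun _ : ι => commutator A) ≤
        (commImage ε.ker).comap (inl : (ι → A) →* (ι → A) ⋊[φ] T) := by
      rw [Subgroup.pi_le_iff]
      rintro i _ ⟨c, hc, rfl⟩
      exact key2 i hc
    have hfm : f ∈ Subgroup.pi Set.univ (fun _ : ι => commutator A) := by
      rw [Subgroup.mem_pi]
      intro i _
      exact hf i
    exact hle hfm
  rintro ⟨w, hw⟩
  rw [← mem_sqKer]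
  have hr : (inr w.right : (ι → A) ⋊[φ] T) ∈ ε.ker := MonoidHom.mem_ker.mpr (hεr _)
  have hl : (inl w.left : (ι → A) ⋊[φ] T) ∈ ε.ker := by
    have e : (inl w.left : (ι → A) ⋊[φ] T) = w * (inr w.right)⁻¹ := by
      rw [eq_mul_inv_iff_mul_eq, SemidirectProduct.inl_left_mul_inr_right]
    rw [e]
    exact mul_mem hw (inv_mem hr)
  have hdecomp : (⟨w, hw⟩ : ε.ker) = ⟨_, hl⟩ * ⟨_, hr⟩ :=
    Subtype.ext (SemidirectProduct.inl_left_mul_inr_right w).symm
  rw [hdecomp]
  apply mul_mem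
  · apply mem_sqKer_of_commImage
    rw [← map_pow]
    apply key3
    intro i
    rw [Pi.pow_apply]
    exact hA _
  · let j : T →* ε.ker :=
      (inr : T →* (ι → A) ⋊[φ] T).codRestrict ε.ker (fun g => MonoidHom.mem_ker.mpr (hεr g))
    exact map_sqKer j ((mem_sqKer _).mpr (hT w.right))

end LemmaA

/-! ### Lemma B: abelian base, permutation action -/

section Comm

variable {N T : Type*} [CommGroup N] [Group T]

theorem commutator_inl_mul_inr (φ : T →* MulAut N) (f g : N) (t : T) :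
    ⁅(inl f : N ⋊[φ] T), (inl g * inr t : N ⋊[φ] T)⁆ = inl (f * (φ t f)⁻¹) := by
  have h : (inr t : N ⋊[φ] T) * (inl f)⁻¹ * (inr t)⁻¹ = (inl (φ t f))⁻¹ := by
    rw [SemidirectProduct.inl_aut, map_inv]
    group
  have h1 : ⁅(inl f : N ⋊[φ] T), (inl g * inr t : N ⋊[φ] T)⁆ =
      inl f * inl g * (inr t * (inl f)⁻¹ * (inr t)⁻¹) * (inl g)⁻¹ := by
    rw [commutatorElement_def]
    group
  have h2 : (inl (f * (φ t f)⁻¹) : N ⋊[φ] T) = inl f * (inl (φ t f))⁻¹ := by
    rw [map_mul, map_inv]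
  have hc : (inl g : N ⋊[φ] T) * (inl (φ t f))⁻¹ = (inl (φ t f))⁻¹ * inl g :=
    (((Commute.all g (φ t f)).map (inl : N →* N ⋊[φ] T)).inv_right).eq
  rw [h1, h, h2, mul_assoc (inl f) (inl g), hc, ← mul_assoc, mul_inv_cancel_right]

end Comm

section LemmaB

variable {ι C : Type*} [Fintype ι] [DecidableEq ι] [CommGroup C]

/-- `x` at `i`, `x⁻¹` at `j` -/
def eij (i j : ι) (x : C) : ι → C := Pi.mulSingle i x * Pi.mulSingle j x⁻¹

theorem eij_self (i : ι) (x : C) : eij i i x = 1 := by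
  rw [eij, ← Pi.mulSingle_mul, mul_inv_cancel, Pi.mulSingle_one]

theorem eij_mul (i j k : ι) (x : C) : eij i j x * eij j k x = eij i k x := by
  unfold eij
  rw [mul_assoc, ← mul_assoc (Pi.mulSingle j x⁻¹ : ι → C), ← Pi.mulSingle_mul, inv_mul_cancel,
    Pi.mulSingle_one, one_mul]

theorem eij_inv (i j : ι) (x : C) : (eij i j x)⁻¹ = eij j i x := by
  unfold eij
  rw [mul_inv, ← Pi.mulSingle_inv, ← Pi.mulSingle_inv, inv_inv, mul_comm]

theorem mulSingle_comp_symm (t : Equiv.Perm ι) (i : ι) (x : C) :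
    (Pi.mulSingle i x : ι → C) ∘ ⇑t.symm = Pi.mulSingle (t i) x := by
  funext k
  simp only [Function.comp_apply, Pi.mulSingle_apply, Equiv.symm_apply_eq]

theorem eij_comp_symm (t : Equiv.Perm ι) (i j : ι) (x : C) :
    eij i j x ∘ ⇑t.symm = eij (t i) (t j) x := by
  unfold eij
  rw [← mulSingle_comp_symm t i x, ← mulSingle_comp_symm t j x⁻¹]
  rfl

theorem prod_eij (i j : ι) (x : C) : ∏ k, eij i j x k = 1 := by
  unfold eij
  simp only [Pi.mul_apply]
  rw [Finset.prod_mul_distrib, Fintype.prod_pi_mulSingle', Fintype.prod_pi_mulSingle',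
    mul_inv_cancel]

theorem sqComm_ker_B (T : Subgroup (Equiv.Perm ι)) (φ : T →* MulAut (ι → C))
    (hφ : ∀ (t : T) (f : ι → C), φ t f = f ∘ ⇑(t : Equiv.Perm ι).symm)
    (s : T →* C) (hs : ∀ t, s t ^ 2 = 1)
    (ε : (ι → C) ⋊[φ] T →* C)
    (hεl : ∀ f, ε (inl f) = ∏ i, f i) (hεr : ∀ t, ε (inr t) = s t)
    (i₀ : ι) (hgen : Subgroup.closure {t : T | t ^ 2 = 1} = ⊤)
    (htrans : ∀ i, ∃ t : T, (t : Equiv.Perm ι) i₀ = i)
    (hfix : ∀ t : T, t ^ 2 = 1 → s t ≠ 1 → ∃ p, (t : Equiv.Perm ι) p = p) :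
    ∀ x : ε.ker, x ^ 2 ∈ commutator ε.ker := by
  classical
  have hε_single : ∀ (i : ι) (x : C), ε (inl (Pi.mulSingle i x)) = x := by
    intro i x
    rw [hεl, Fintype.prod_pi_mulSingle']
  have hφe : ∀ (t : T) (i j : ι) (x : C),
      φ t (eij i j x) = eij ((t : Equiv.Perm ι) i) ((t : Equiv.Perm ι) j) x := by
    intro t i j x
    rw [hφ, eij_comp_symm]
  -- step 1
  have step1 : ∀ f : ι → C, ∏ i, f i = 1 → ∀ t : T,
      (inl (f * (φ t f)⁻¹) : (ι → C) ⋊[φ] T) ∈ commImage ε.ker := by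
    intro f hf t
    have h1 : (inl f : (ι → C) ⋊[φ] T) ∈ ε.ker := by rw [MonoidHom.mem_ker, hεl, hf]
    have h2 : (inl (Pi.mulSingle i₀ (s t)⁻¹) * inr t : (ι → C) ⋊[φ] T) ∈ ε.ker := by
      rw [MonoidHom.mem_ker, map_mul, hε_single, hεr, inv_mul_cancel]
    have h := commutator_mem_commImage h1 h2
    rw [commutator_inl_mul_inr] at h
    exact h
  -- the subgroup of base elements
  let M : Subgroup (ι → C) := (commImage ε.ker).comap (inl : (ι → C) →* (ι → C) ⋊[φ] T)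
  have hM : ∀ f : ι → C, f ∈ M ↔ (inl f : (ι → C) ⋊[φ] T) ∈ commImage ε.ker := fun _ => Iff.rfl
  let S : Subgroup T :=
    { carrier := {t | ∀ (i : ι) (x : C), eij i ((t : Equiv.Perm ι) i) x ^ 2 ∈ M}
      one_mem' := by
        intro i x
        show eij i (((1 : T) : Equiv.Perm ι) i) x ^ 2 ∈ M
        rw [Subgroup.coe_one, Equiv.Perm.one_apply, eij_self, one_pow]
        exact one_mem _
      mul_mem' := by
        intro a b ha hb i x
        show eij i (((a * b : T) : Equiv.Perm ι) i) x ^ 2 ∈ M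
        rw [Subgroup.coe_mul, Equiv.Perm.mul_apply, ← eij_mul i ((b : Equiv.Perm ι) i) _ x,
          mul_pow]
        exact mul_mem (hb i x) (ha _ x)
      inv_mem' := by
        intro a ha i x
        show eij i (((a⁻¹ : T) : Equiv.Perm ι) i) x ^ 2 ∈ M
        have h := ha (((a⁻¹ : T) : Equiv.Perm ι) i) x
        rw [Subgroup.coe_inv, Equiv.Perm.inv_def, Equiv.apply_symm_apply] at h
        rw [Subgroup.coe_inv, Equiv.Perm.inv_def, ← eij_inv, inv_pow]
        exact inv_mem h }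
  have hinv : ∀ t : T, t ^ 2 = 1 → t ∈ S := by
    intro t ht i x
    have htt : (t : Equiv.Perm ι) ((t : Equiv.Perm ι) i) = i := by
      have h2 : ((t ^ 2 : T) : Equiv.Perm ι) = 1 := by rw [ht]; rfl
      rw [Subgroup.coe_pow, pow_two] at h2
      have h3 := congrArg (fun u : Equiv.Perm ι => u i) h2
      simpa using h3
    have h := step1 (eij i ((t : Equiv.Perm ι) i) x) (prod_eij _ _ _) t
    rw [hφe, htt, eij_inv, ← pow_two] at h
    exact (hM _).mpr h
  have hS : ∀ t : T, t ∈ S := by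
    intro t
    have hle : Subgroup.closure {t : T | t ^ 2 = 1} ≤ S :=
      (Subgroup.closure_le _).mpr (fun t ht => hinv t ht)
    apply hle
    rw [hgen]
    exact Subgroup.mem_top t
  have hei : ∀ (i : ι) (x : C), eij i i₀ x ^ 2 ∈ M := by
    intro i x
    obtain ⟨t, ht⟩ := htrans i
    have h := hS t i₀ x
    rw [ht] at h
    rw [← eij_inv, inv_pow]
    exact inv_mem h
  have hbase : ∀ f : ι → C, ∏ i, f i = 1 → f ^ 2 ∈ M := by
    intro f hf
    have hdec : ∏ i, eij i i₀ (f i) = f := by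
      unfold eij
      rw [Finset.prod_mul_distrib, Finset.univ_prod_mulSingle]
      have h1 : ∏ i, (Pi.mulSingle i₀ (f i)⁻¹ : ι → C) = 1 := by
        have h := map_prod (MonoidHom.mulSingle (fun _ : ι => C) i₀) (fun i => (f i)⁻¹)
          Finset.univ
        simp only [MonoidHom.mulSingle_apply] at h
        rw [← h, Finset.prod_inv_distrib, hf, inv_one, Pi.mulSingle_one]
      rw [h1, mul_one]
    have h2 : f ^ 2 = ∏ i, eij i i₀ (f i) ^ 2 := by rw [Finset.prod_pow, hdec]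
    rw [h2]
    exact Subgroup.prod_mem _ (fun i _ => hei i (f i))
  have hbaseK : ∀ (f : ι → C) (hf : (inl f : (ι → C) ⋊[φ] T) ∈ ε.ker),
      (⟨inl f, hf⟩ : ε.ker) ∈ sqKer ε.ker := by
    intro f hf
    have hf1 : ∏ i, f i = 1 := by
      rw [← hεl]
      exact MonoidHom.mem_ker.mp hf
    apply mem_sqKer_of_commImage
    rw [← map_pow]
    exact (hM _).mp (hbase f hf1)
  -- lifts of involutions
  have hlift : ∀ t : T, t ^ 2 = 1 → ∃ k : ε.ker, k ∈ sqKer ε.ker ∧
      SemidirectProduct.rightHom (k : (ι → C) ⋊[φ] T) = t := by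
    intro t ht
    by_cases hst : s t = 1
    · have hk : (inr t : (ι → C) ⋊[φ] T) ∈ ε.ker := by rw [MonoidHom.mem_ker, hεr, hst]
      refine ⟨⟨inr t, hk⟩, ?_, SemidirectProduct.rightHom_inr t⟩
      apply mem_sqKer_of_commImage
      rw [← map_pow, ht, map_one]
      exact one_mem _
    · obtain ⟨p, hp⟩ := hfix t ht hst
      have hk : (inl (Pi.mulSingle p (s t)⁻¹) * inr t : (ι → C) ⋊[φ] T) ∈ ε.ker := by
        rw [MonoidHom.mem_ker, map_mul, hε_single, hεr, inv_mul_cancel]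
      refine ⟨⟨_, hk⟩, ?_, ?_⟩
      · apply mem_sqKer_of_commImage
        have hg : φ t (Pi.mulSingle p (s t)⁻¹) = Pi.mulSingle p (s t)⁻¹ := by
          rw [hφ, mulSingle_comp_symm, hp]
        have hgg : (Pi.mulSingle p (s t)⁻¹ : ι → C) * Pi.mulSingle p (s t)⁻¹ = 1 := by
          rw [← Pi.mulSingle_mul, ← mul_inv, ← pow_two, hs, inv_one, Pi.mulSingle_one]
        have hcomm : (inr t : (ι → C) ⋊[φ] T) * inl (Pi.mulSingle p (s t)⁻¹) =
            inl (Pi.mulSingle p (s t)⁻¹) * inr t := by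
          have h := SemidirectProduct.inl_aut (φ := φ) t (Pi.mulSingle p (s t)⁻¹)
          rw [hg, map_inv] at h
          calc (inr t : (ι → C) ⋊[φ] T) * inl (Pi.mulSingle p (s t)⁻¹)
              = inr t * inl (Pi.mulSingle p (s t)⁻¹) * (inr t)⁻¹ * inr t := by group
            _ = inl (Pi.mulSingle p (s t)⁻¹) * inr t := by rw [← h]
        have hsq : (inl (Pi.mulSingle p (s t)⁻¹) * inr t : (ι → C) ⋊[φ] T) ^ 2 = 1 := by
          calc (inl (Pi.mulSingle p (s t)⁻¹) * inr t : (ι → C) ⋊[φ] T) ^ 2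
              = inl (Pi.mulSingle p (s t)⁻¹) * (inr t * inl (Pi.mulSingle p (s t)⁻¹)) * inr t := by
                rw [pow_two]; group
            _ = inl (Pi.mulSingle p (s t)⁻¹ * Pi.mulSingle p (s t)⁻¹) * inr (t ^ 2) := by
                rw [hcomm, map_mul, map_pow, pow_two]; group
            _ = 1 := by rw [hgg, ht, map_one, map_one, one_mul]
        rw [hsq]
        exact one_mem _
      · rw [map_mul, SemidirectProduct.rightHom_inl, SemidirectProduct.rightHom_inr, one_mul]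
  -- conclusion
  rintro ⟨w, hw⟩
  rw [← mem_sqKer]
  let π : ε.ker →* T :=
    (SemidirectProduct.rightHom : (ι → C) ⋊[φ] T →* T).comp ε.ker.subtype
  have hπ : (sqKer ε.ker).map π = ⊤ := by
    rw [eq_top_iff, ← hgen, Subgroup.closure_le]
    intro t ht
    obtain ⟨k, hk, hkt⟩ := hlift t ht
    exact Subgroup.mem_map.mpr ⟨k, hk, hkt⟩
  have hwπ : π ⟨w, hw⟩ ∈ (sqKer ε.ker).map π := by
    rw [hπ]
    exact Subgroup.mem_top _
  obtain ⟨k, hk, hkt⟩ := Subgroup.mem_map.mp hwπ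
  have hker : (⟨w, hw⟩ * k⁻¹ : ε.ker) ∈ sqKer ε.ker := by
    have h1 : ((⟨w, hw⟩ * k⁻¹ : ε.ker) : (ι → C) ⋊[φ] T) ∈
        (SemidirectProduct.rightHom : (ι → C) ⋊[φ] T →* T).ker := by
      rw [MonoidHom.mem_ker]
      show π (⟨w, hw⟩ * k⁻¹) = 1
      rw [map_mul, map_inv, hkt, mul_inv_cancel]
    rw [← SemidirectProduct.range_inl_eq_ker_rightHom] at h1
    obtain ⟨f, hf⟩ := h1
    have hfK : (inl f : (ι → C) ⋊[φ] T) ∈ ε.ker := by
      rw [hf]
      exact (⟨w, hw⟩ * k⁻¹ : ε.ker).2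
    have e : (⟨w, hw⟩ * k⁻¹ : ε.ker) = ⟨inl f, hfK⟩ := Subtype.ext hf.symm
    rw [e]
    exact hbaseK f hfK
  have e : (⟨w, hw⟩ : ε.ker) = (⟨w, hw⟩ * k⁻¹) * k := by rw [inv_mul_cancel_right]
  rw [e]
  exact mul_mem hker hk

end LemmaB

end Cfsg.Agent.Lib.Helper17.SqCommKer
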