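import Cfsg.Agent.Lib.Helper17.SylowNormal

set_option autoImplicit false

namespace Cfsg.Agent.Lib.Helper17

section SylowNormal2

variable {G : Type*} [Group G]

/-- Second isomorphism theorem, index form, for `T` normalizing `N`. -/
theorem relIndex_eq_relIndex_sup_of_le_normalizer [Finite G] (T N : Subgroup G)
    (h : T ≤ Subgroup.normalizer (N : Set G)) : T.relIndex N = T.relIndex (T ⊔ N) := by
  set K := Subgroup.normalizer (N : Set G) with hK
  have hNK : N ≤ K := Subgroup.le_normalizer
  haveI : (N.subgroupOf K).Normal := Subgroup.normal_in_normalizer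
  have h1 := relIndex_eq_relIndex_sup_of_normal (T.subgroupOf K) (N.subgroupOf K)
  rw [← Subgroup.subgroupOf_sup h hNK, Subgroup.relIndex_subgroupOf hNK,
    Subgroup.relIndex_subgroupOf (sup_le h hNK)] at h1
  exact h1

theorem relIndex_dvd_index_of_le_normalizer [Finite G] (T N : Subgroup G)
    (h : T ≤ Subgroup.normalizer (N : Set G)) : T.relIndex N ∣ T.index := by
  rw [relIndex_eq_relIndex_sup_of_le_normalizer T N h]
  exact Subgroup.relIndex_dvd_index_of_le le_sup_left

variable {p : ℕ} [Fact p.Prime]

/-- For a Sylow `p`-subgroup `T` of `G` normalizing a subgroup `N`, `T ∩ N` is a Sylow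
`p`-subgroup of `N`. -/
noncomputable def sylowInfOfLeNormalizer [Finite G] (T : Sylow p G) (N : Subgroup G)
    (h : (T : Subgroup G) ≤ Subgroup.normalizer (N : Set G)) : Sylow p N :=
  (T.2.comap_subtype (K := N)).toSylow (fun hd =>
    T.not_dvd_index (dvd_trans hd (relIndex_dvd_index_of_le_normalizer (T : Subgroup G) N h)))

theorem coe_sylowInfOfLeNormalizer [Finite G] (T : Sylow p G) (N : Subgroup G)
    (h : (T : Subgroup G) ≤ Subgroup.normalizer (N : Set G)) :
    ((sylowInfOfLeNormalizer T N h : Sylow p N) : Subgroup N) = (T : Subgroup G).subgroupOf N :=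
  rfl

end SylowNormal2

end Cfsg.Agent.Lib.Helper17
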