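import Mathlib
import Cfsg.Agent.S4627
import Cfsg.Agent.Lib.Helper17.SqCommKer

/-!
# Squares in commutator subgroups: subgroups of `(A ≀ T) × R` (helper17)

Abstract group theory used for the Sylow `2`-subgroups of the orthogonal groups `Ω_n(q)`.
-/

set_option autoImplicit false

namespace Cfsg.Agent.Lib.Helper17.OrthSq

open Cfsg.Agent.S4624 Cfsg.Agent.Lib.Helper17.SqCommKer
open scoped commutatorElement
open SemidirectProduct (inl inr)

section Abstract

variable {ι A T R : Type*} [Finite ι] [DecidableEq ι] [Group A] [Group T] [Group R]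

theorem commutator_mulSingle_triple (i j l : ι) (hj : j ≠ i) (hl : l ≠ i) (hjl : j ≠ l)
    (a b c d : A) :
    ⁅(Pi.mulSingle i a * Pi.mulSingle l c : ι → A), Pi.mulSingle i b * Pi.mulSingle j d⁆ =
      (Pi.mulSingle i ⁅a, b⁆ : ι → A) := by
  funext k
  have h := map_commutatorElement (Pi.evalMonoidHom (fun _ : ι => A) k)
    (Pi.mulSingle i a * Pi.mulSingle l c) (Pi.mulSingle i b * Pi.mulSingle j d)
  simp only [Pi.evalMonoidHom_apply, Pi.mul_apply] at h
  rw [h]
  by_cases hki : k = i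
  · rw [hki, Pi.mulSingle_eq_same, Pi.mulSingle_eq_same, Pi.mulSingle_eq_same,
      Pi.mulSingle_eq_of_ne hl.symm, Pi.mulSingle_eq_of_ne hj.symm, mul_one, mul_one]
  · rw [Pi.mulSingle_eq_of_ne hki, Pi.mulSingle_eq_of_ne hki, Pi.mulSingle_eq_of_ne hki, one_mul,
      one_mul]
    by_cases hkl : k = l
    · rw [hkl, Pi.mulSingle_eq_same, Pi.mulSingle_eq_of_ne hjl.symm, commutatorElement_one_right]
    · rw [Pi.mulSingle_eq_of_ne hkl, commutatorElement_one_left]

/-- common core: it suffices to treat the squares of the elements of the base group -/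
theorem sq_core (φ : T →* MulAut (ι → A)) (K : Subgroup (((ι → A) ⋊[φ] T) × R))
    (h1 : ∀ t : T, MonoidHom.inl ((ι → A) ⋊[φ] T) R (inr t) ∈ K)
    (hR : ∀ r : R, r ^ 2 = 1) (hT : ∀ t : T, t ^ 2 ∈ commutator T)
    (hsq : ∀ (f : ι → A) (r : R), ((inl f : (ι → A) ⋊[φ] T), r) ∈ K →
      MonoidHom.inl ((ι → A) ⋊[φ] T) R (inl (f ^ 2)) ∈ commImage K) :
    ∀ x : K, x ^ 2 ∈ commutator K := by
  rintro ⟨⟨w, r⟩, hx⟩
  rw [← mem_sqKer]
  have hr : MonoidHom.inl ((ι → A) ⋊[φ] T) R (inr w.right) ∈ K := h1 _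
  have hl : ((inl w.left : (ι → A) ⋊[φ] T), r) ∈ K := by
    have e : ((inl w.left : (ι → A) ⋊[φ] T), r) =
        (w, r) * (MonoidHom.inl ((ι → A) ⋊[φ] T) R (inr w.right))⁻¹ := by
      rw [eq_mul_inv_iff_mul_eq]
      apply Prod.ext
      · exact SemidirectProduct.inl_left_mul_inr_right w
      · exact mul_one r
    rw [e]
    exact mul_mem hx (inv_mem hr)
  have hdecomp : (⟨(w, r), hx⟩ : K) = ⟨_, hl⟩ * ⟨_, hr⟩ := by
    apply Subtype.ext
    apply Prod.ext
    · exact (SemidirectProduct.inl_left_mul_inr_right w).symm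
    · exact (mul_one r).symm
  rw [hdecomp]
  apply mul_mem
  · apply mem_sqKer_of_commImage
    have e : ((inl w.left : (ι → A) ⋊[φ] T), r) ^ 2 =
        MonoidHom.inl ((ι → A) ⋊[φ] T) R (inl (w.left ^ 2)) := by
      rw [Prod.pow_mk, hR, ← map_pow]
      rfl
    rw [e]
    exact hsq w.left r hl
  · let j : T →* K := ((MonoidHom.inl ((ι → A) ⋊[φ] T) R).comp
        (inr : T →* (ι → A) ⋊[φ] T)).codRestrict K h1
    exact map_sqKer j ((mem_sqKer _).mpr (hT w.right))

/-- at least three coordinates: no further hypothesis on the base group -/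
theorem sqComm_sub_three (φ : T →* MulAut (ι → A)) (K : Subgroup (((ι → A) ⋊[φ] T) × R))
    (hι : ∀ i : ι, ∃ j l : ι, j ≠ i ∧ l ≠ i ∧ j ≠ l)
    (h1 : ∀ t : T, MonoidHom.inl ((ι → A) ⋊[φ] T) R (inr t) ∈ K)
    (h2 : ∀ (i l : ι), l ≠ i → ∀ a : A, MonoidHom.inl ((ι → A) ⋊[φ] T) R
      (inl (Pi.mulSingle i a * Pi.mulSingle l a⁻¹)) ∈ K)
    (hR : ∀ r : R, r ^ 2 = 1)
    (hA : ∀ a : A, a ^ 2 ∈ commutator A) (hT : ∀ t : T, t ^ 2 ∈ commutator T) :
    ∀ x : K, x ^ 2 ∈ commutator K := by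
  classical
  have key1 : ∀ (i : ι) (a b : A), MonoidHom.inl ((ι → A) ⋊[φ] T) R
      (inl (Pi.mulSingle i ⁅a, b⁆)) ∈ commImage K := by
    intro i a b
    obtain ⟨j, l, hj, hl, hjl⟩ := hι i
    have h := commutator_mem_commImage (h2 i l hl a) (h2 i j hj b)
    rw [← map_commutatorElement, ← map_commutatorElement,
      commutator_mulSingle_triple i j l hj hl hjl a b a⁻¹ b⁻¹] at h
    exact h
  have key2 : ∀ (i : ι), commutator A ≤ (commImage K).comap
      (((MonoidHom.inl ((ι → A) ⋊[φ] T) R).comp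
        (inl : (ι → A) →* (ι → A) ⋊[φ] T)).comp (MonoidHom.mulSingle (fun _ : ι => A) i)) := by
    intro i
    rw [commutator_eq_closure, Subgroup.closure_le]
    rintro _ ⟨a, b, rfl⟩
    exact key1 i a b
  have key3 : ∀ f : ι → A, (∀ i, f i ∈ commutator A) →
      MonoidHom.inl ((ι → A) ⋊[φ] T) R (inl f) ∈ commImage K := by
    intro f hf
    have hle : Subgroup.pi Set.univ (fun _ : ι => commutator A) ≤
        (commImage K).comap ((MonoidHom.inl ((ι → A) ⋊[φ] T) R).comp
          (inl : (ι → A) →* (ι → A) ⋊[φ] T)) := by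
      rw [Subgroup.pi_le_iff]
      rintro i _ ⟨c, hc, rfl⟩
      exact key2 i hc
    have hfm : f ∈ Subgroup.pi Set.univ (fun _ : ι => commutator A) := by
      rw [Subgroup.mem_pi]
      intro i _
      exact hf i
    exact hle hfm
  apply sq_core φ K h1 hR hT
  intro f r _
  apply key3
  intro i
  rw [Pi.pow_apply]
  exact hA _

/-- two coordinates, dihedral-like base group -/
theorem sqComm_sub_two (φ : T →* MulAut (Fin 2 → A)) (K : Subgroup (((Fin 2 → A) ⋊[φ] T) × R))
    (Cρ : Subgroup A)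
    (h1 : ∀ t : T, MonoidHom.inl ((Fin 2 → A) ⋊[φ] T) R (inr t) ∈ K)
    (h2 : ∀ (i l : Fin 2), l ≠ i → ∀ a : A, MonoidHom.inl ((Fin 2 → A) ⋊[φ] T) R
      (inl (Pi.mulSingle i a * Pi.mulSingle l a⁻¹)) ∈ K)
    (c1 : ∀ s : A, s ∉ Cρ → s ^ 2 = 1)
    (c2 : ∀ c ∈ Cρ, ∀ s : A, s ∉ Cρ → s * c * s⁻¹ = c⁻¹)
    (s₀ : A) (hs₀ : s₀ ∉ Cρ)
    (c4 : ∀ (f : Fin 2 → A) (r : R), ((inl f : (Fin 2 → A) ⋊[φ] T), r) ∈ K →
      (∀ i, f i ∈ Cρ) ∨ (∀ i, f i ∉ Cρ))
    (hR : ∀ r : R, r ^ 2 = 1) (hT : ∀ t : T, t ^ 2 ∈ commutator T) :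
    ∀ x : K, x ^ 2 ∈ commutator K := by
  apply sq_core φ K h1 hR hT
  intro f r hf
  rcases c4 f r hf with h | h
  · have hs₀inv : s₀⁻¹ = s₀ := by
      have h3 := c1 s₀ hs₀
      rw [pow_two] at h3
      exact inv_eq_of_mul_eq_one_left h3
    have hconst : (fun _ : Fin 2 => s₀) = Pi.mulSingle 0 s₀ * Pi.mulSingle 1 s₀⁻¹ := by
      funext k
      by_cases hk : k = 0
      · subst hk
        rw [Pi.mul_apply, Pi.mulSingle_eq_same, Pi.mulSingle_eq_of_ne (by decide), mul_one]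
      · have hk1 : k = 1 := Fin.eq_one_of_ne_zero k hk
        subst hk1
        rw [Pi.mul_apply, Pi.mulSingle_eq_of_ne (by decide), Pi.mulSingle_eq_same, one_mul,
          hs₀inv]
    have hcK : MonoidHom.inl ((Fin 2 → A) ⋊[φ] T) R (inl (fun _ : Fin 2 => s₀)) ∈ K := by
      rw [hconst]
      exact h2 0 1 (by decide) s₀
    have hcomm := commutator_mem_commImage hf hcK
    have e : ⁅((inl f : (Fin 2 → A) ⋊[φ] T), r),
        MonoidHom.inl ((Fin 2 → A) ⋊[φ] T) R (inl (fun _ : Fin 2 => s₀))⁆ =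
        MonoidHom.inl ((Fin 2 → A) ⋊[φ] T) R (inl (f ^ 2)) := by
      apply Prod.ext
      · show ⁅(inl f : (Fin 2 → A) ⋊[φ] T), inl (fun _ : Fin 2 => s₀)⁆ = inl (f ^ 2)
        rw [← map_commutatorElement]
        congr 1
        funext i
        show f i * s₀ * (f i)⁻¹ * s₀⁻¹ = f i ^ 2
        have h3 : s₀ * (f i)⁻¹ * s₀⁻¹ = f i := by
          have h4 := c2 (f i)⁻¹ (inv_mem (h i)) s₀ hs₀
          rw [inv_inv] at h4
          exact h4
        calc f i * s₀ * (f i)⁻¹ * s₀⁻¹ = f i * (s₀ * (f i)⁻¹ * s₀⁻¹) := by group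
          _ = f i * f i := by rw [h3]
          _ = f i ^ 2 := (pow_two _).symm
      · show ⁅r, (1 : R)⁆ = 1
        exact commutatorElement_one_right r
    rw [e] at hcomm
    exact hcomm
  · have e : f ^ 2 = 1 := by
      funext i
      exact c1 (f i) (h i)
    rw [e, map_one, map_one]
    exact one_mem _

end Abstract

/-! ### from the model to the Sylow subgroups of the commutator subgroup -/

theorem sylow_of_model {O : Type*} [Group O] [Finite O] {M : Type*} [Group M] (Ψ : M →* O)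
    (hΨ : Function.Injective Ψ) (hM2 : IsPGroup 2 M) (hidx : (commutator O).index = 4)
    (hcard : 2 ^ (Nat.card O).factorization 2 ≤ Nat.card M)
    (hK : ∀ x : (commutator O).comap Ψ, x ^ 2 ∈ commutator ((commutator O).comap Ψ))
    (P : Sylow 2 (commutator O)) :
    ∀ x : (P : Subgroup (commutator O)), x ^ 2 ∈ commutator (P : Subgroup (commutator O)) := by
  have : Fact (Nat.Prime 2) := ⟨Nat.prime_two⟩
  have : Finite M := Finite.of_injective Ψ hΨ
  let Ψ' : (commutator O).comap Ψ →* commutator O :=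
    (Ψ.comp ((commutator O).comap Ψ).subtype).codRestrict (commutator O) (fun x => x.2)
  have hΨ' : Function.Injective Ψ' := by
    intro x y h
    have h1 : Ψ x.1 = Ψ y.1 := congrArg Subtype.val h
    exact Subtype.ext (hΨ h1)
  have hK2 : IsPGroup 2 ((commutator O).comap Ψ) := hM2.to_subgroup _
  have hO : Nat.card (commutator O) * 4 = Nat.card O := by
    rw [← hidx]
    exact Subgroup.card_mul_index _
  have h4 : (4 : ℕ).factorization 2 = 2 := by
    have e : (4 : ℕ) = 2 ^ 2 := by norm_num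
    rw [e, Nat.Prime.factorization_pow Nat.prime_two, Finsupp.single_eq_same]
  have hv : (Nat.card O).factorization 2 = (Nat.card (commutator O)).factorization 2 + 2 := by
    rw [← hO, Nat.factorization_mul Nat.card_pos.ne' (by norm_num)]
    simp only [Finsupp.coe_add, Pi.add_apply]
    rw [h4]
  obtain ⟨n, hn⟩ := IsPGroup.iff_card.mp hM2
  have hn2 : (Nat.card (commutator O)).factorization 2 + 2 ≤ n := by
    rw [hn, hv] at hcard
    exact (Nat.pow_le_pow_iff_right (by norm_num)).mp hcard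
  let ε : M →* O ⧸ commutator O := (QuotientGroup.mk' (commutator O)).comp Ψ
  have hker : ε.ker = (commutator O).comap Ψ := by
    rw [← MonoidHom.comap_ker, QuotientGroup.ker_mk']
  have hrange : Nat.card ε.range ≤ 2 ^ 2 := by
    calc Nat.card ε.range ≤ Nat.card (O ⧸ commutator O) := Subgroup.card_le_card_group _
      _ = (commutator O).index := (Subgroup.index_eq_card _).symm
      _ = 2 ^ 2 := by rw [hidx]; norm_num
  have hge0 := Cfsg.Agent.S4627.card_ker_ge ε (n - 2) 2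
    (by rw [hn]; congr 1; omega) hrange
  have hge : 2 ^ (Nat.card (commutator O)).factorization 2 ≤
      Nat.card ((commutator O).comap Ψ) := by
    rw [← hker]
    calc 2 ^ (Nat.card (commutator O)).factorization 2 ≤ 2 ^ (n - 2) :=
          Nat.pow_le_pow_right (by norm_num) (by omega)
      _ ≤ Nat.card ε.ker := hge0
  exact Cfsg.Agent.S4627.sqComm_sylow_of_model Ψ' hΨ' hK2 hge hK P

theorem exists_two_ne {k : ℕ} (hk : 3 ≤ k) (i : Fin k) :
    ∃ j l : Fin k, j ≠ i ∧ l ≠ i ∧ j ≠ l := by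
  have key : ∀ a b : ℕ, ∀ (ha : a < k) (hb : b < k), a ≠ i.val → b ≠ i.val → a ≠ b →
      ∃ j l : Fin k, j ≠ i ∧ l ≠ i ∧ j ≠ l := by
    intro a b ha hb hai hbi hab
    exact ⟨⟨a, ha⟩, ⟨b, hb⟩, fun h => hai (congrArg Fin.val h), fun h => hbi (congrArg Fin.val h),
      fun h => hab (congrArg Fin.val h)⟩
  by_cases h0 : i.val = 0
  · exact key 1 2 (by omega) (by omega) (by omega) (by omega) (by omega)
  · by_cases h1 : i.val = 1
    · exact key 0 2 (by omega) (by omega) (by omega) (by omega) (by omega)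
    · exact key 0 1 (by omega) (by omega) (by omega) (by omega) (by omega)

end Cfsg.Agent.Lib.Helper17.OrthSq
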