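import Mathlib
import Cfsg.Agent.S2235
import Cfsg.Agent.Lib.Helper14.OrthoLevel
import Cfsg.Agent.Lib.Helper6.Spinor3
import Cfsg.Agent.S0287
import Cfsg.Agent.S0288
import Cfsg.Agent.S4627

/-!
# The orthogonal group of the plane `x² + y²` over a finite field of odd order (helper17)
-/

set_option autoImplicit false

namespace Cfsg.Agent.Lib.Helper17.OrthSq

open Matrix Cfsg.Agent.S2235 Cfsg.Agent.Lib.Helper14
open scoped commutatorElement

section General
variable {F : Type*} [Field F]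

/-- orthogonal matrices preserve the sum of squares -/
theorem mem_iso_Nf_of_transpose_mul {ι : Type} [Fintype ι] [DecidableEq ι] (g : GL ι F)
    (h : (g : Matrix ι ι F)ᵀ * (g : Matrix ι ι F) = 1) :
    g ∈ Cfsg.isometryGroup F (Nf F ι) := by
  intro u _
  show Nf F ι ((g : Matrix ι ι F) *ᵥ u) = Nf F ι u
  have e : ∀ w : ι → F, Nf F ι w = w ⬝ᵥ w := fun w => rfl
  rw [e, e, dotProduct_mulVec, ← mulVec_transpose, mulVec_mulVec, h, one_mulVec]

theorem isoCongr_bijective' {ι ι' : Type} [Fintype ι] [DecidableEq ι] [Fintype ι']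
    [DecidableEq ι'] (Q : (ι → F) → F) (Q' : (ι' → F) → F) (L : (ι → F) ≃ₗ[F] (ι' → F))
    (hL : ∀ w, Q' (L w) = 1 * Q w) : Function.Bijective (isoCongr Q Q' L 1 hL) := by
  refine ⟨isoCongr_injective _ _ L 1 hL, ?_⟩
  intro h
  have hL' : ∀ w, Q (L.symm w) = 1 * Q' w := by
    intro w
    have := hL (L.symm w)
    rw [L.apply_symm_apply, one_mul] at this
    rw [one_mul, this]
  refine ⟨isoCongr Q' Q L.symm 1 hL' h, ?_⟩
  apply Subtype.ext
  apply Units.ext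
  exact Cfsg.Agent.Lib.Helper6.matCongr_symm_matCongr L _

theorem card_iso_congr [Fintype F] {ι ι' : Type} [Fintype ι] [DecidableEq ι] [Fintype ι']
    [DecidableEq ι'] (Q : (ι → F) → F) (Q' : (ι' → F) → F) (L : (ι → F) ≃ₗ[F] (ι' → F))
    (hL : ∀ w, Q' (L w) = Q w) :
    Nat.card (Cfsg.isometryGroup F Q) = Nat.card (Cfsg.isometryGroup F Q') := by
  classical
  exact Nat.card_congr (Equiv.ofBijective _
    (isoCongr_bijective' Q Q' L (fun w => by rw [one_mul, hL])))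

end General

section TwoDim
variable {F : Type*} [Field F]

theorem O2_entries (h2 : (2 : F) ≠ 0) (x : GL (Fin 2) F)
    (hx : x ∈ Cfsg.isometryGroup F (Nf F (Fin 2))) :
    x.1 0 0 * x.1 0 0 + x.1 1 0 * x.1 1 0 = 1 ∧ x.1 0 1 * x.1 0 1 + x.1 1 1 * x.1 1 1 = 1 ∧
      x.1 0 0 * x.1 0 1 + x.1 1 0 * x.1 1 1 = 0 := by
  have key : ∀ u : Fin 2 → F,
      Nf F (Fin 2) ((x : Matrix (Fin 2) (Fin 2) F) *ᵥ u) = Nf F (Fin 2) u := fun u => hx u 0
  have e : ∀ u : Fin 2 → F, Nf F (Fin 2) ((x : Matrix (Fin 2) (Fin 2) F) *ᵥ u) =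
      (x.1 0 0 * u 0 + x.1 0 1 * u 1) * (x.1 0 0 * u 0 + x.1 0 1 * u 1) +
      (x.1 1 0 * u 0 + x.1 1 1 * u 1) * (x.1 1 0 * u 0 + x.1 1 1 * u 1) := by
    intro u
    simp only [Nf, mulVec, dotProduct, Fin.sum_univ_two]
  have e' : ∀ u : Fin 2 → F, Nf F (Fin 2) u = u 0 * u 0 + u 1 * u 1 := by
    intro u
    simp only [Nf, Fin.sum_univ_two]
  have k1 := key ![1, 0]
  have k2 := key ![0, 1]
  have k3 := key ![1, 1]
  rw [e, e'] at k1 k2 k3
  simp only [cons_val_zero, cons_val_one, mul_one, mul_zero, add_zero, zero_add] at k1 k2 k3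
  refine ⟨by linear_combination k1, by linear_combination k2, ?_⟩
  have h3 : (2 : F) * (x.1 0 0 * x.1 0 1 + x.1 1 0 * x.1 1 1) = 0 := by
    linear_combination k3 - k1 - k2
  exact (mul_eq_zero.mp h3).resolve_left h2

theorem O2_transpose_mul (h2 : (2 : F) ≠ 0) (x : GL (Fin 2) F)
    (hx : x ∈ Cfsg.isometryGroup F (Nf F (Fin 2))) :
    (x : Matrix (Fin 2) (Fin 2) F)ᵀ * (x : Matrix (Fin 2) (Fin 2) F) = 1 := by
  obtain ⟨h1, h3, h4⟩ := O2_entries h2 x hx
  ext i j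
  fin_cases i <;> fin_cases j <;> simp [Matrix.mul_apply, Fin.sum_univ_two]
  all_goals first | linear_combination h1 | linear_combination h3 | linear_combination h4

theorem O2_det_sq (h2 : (2 : F) ≠ 0) (x : GL (Fin 2) F)
    (hx : x ∈ Cfsg.isometryGroup F (Nf F (Fin 2))) :
    (x : Matrix (Fin 2) (Fin 2) F).det * (x : Matrix (Fin 2) (Fin 2) F).det = 1 := by
  obtain ⟨h1, h3, h4⟩ := O2_entries h2 x hx
  rw [det_fin_two]
  linear_combination (x.1 0 1 * x.1 0 1 + x.1 1 1 * x.1 1 1) * h1 + h3 -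
    (x.1 0 0 * x.1 0 1 + x.1 1 0 * x.1 1 1) * h4

theorem O2_det (h2 : (2 : F) ≠ 0) (x : GL (Fin 2) F)
    (hx : x ∈ Cfsg.isometryGroup F (Nf F (Fin 2))) :
    (x : Matrix (Fin 2) (Fin 2) F).det = 1 ∨ (x : Matrix (Fin 2) (Fin 2) F).det = -1 := by
  have h := O2_det_sq h2 x hx
  have h3 : ((x : Matrix (Fin 2) (Fin 2) F).det - 1) * ((x : Matrix (Fin 2) (Fin 2) F).det + 1)
      = 0 := by linear_combination h
  rcases mul_eq_zero.mp h3 with h4 | h4
  · left; linear_combination h4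
  · right; linear_combination h4

/-- an isometry of determinant `-1` of the plane is an involution -/
theorem O2_sq_of_det_neg (h2 : (2 : F) ≠ 0) (x : GL (Fin 2) F)
    (hx : x ∈ Cfsg.isometryGroup F (Nf F (Fin 2)))
    (hd : (x : Matrix (Fin 2) (Fin 2) F).det = -1) : x * x = 1 := by
  obtain ⟨h1, h3, h4⟩ := O2_entries h2 x hx
  rw [det_fin_two] at hd
  have hda : x.1 1 1 = - x.1 0 0 := by
    linear_combination (-(x.1 1 1)) * h1 + x.1 0 0 * hd + x.1 1 0 * h4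
  have hcb : x.1 1 0 = x.1 0 1 := by
    linear_combination (-(x.1 1 0)) * h3 - x.1 0 1 * hd + x.1 1 1 * h4
  apply Units.ext
  rw [Units.val_mul, Units.val_one]
  ext i j
  fin_cases i <;> fin_cases j <;> simp [Matrix.mul_apply, Fin.sum_univ_two]
  · linear_combination h1 - x.1 1 0 * hcb
  · linear_combination x.1 0 1 * hda
  · linear_combination x.1 1 0 * hda
  · linear_combination h3 + x.1 0 1 * hcb

/-- a reflection inverts a rotation -/
theorem O2_conj (h2 : (2 : F) ≠ 0) (g h : GL (Fin 2) F)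
    (hg : g ∈ Cfsg.isometryGroup F (Nf F (Fin 2))) (hh : h ∈ Cfsg.isometryGroup F (Nf F (Fin 2)))
    (hdg : (g : Matrix (Fin 2) (Fin 2) F).det = 1)
    (hdh : (h : Matrix (Fin 2) (Fin 2) F).det = -1) : h * g * h⁻¹ = g⁻¹ := by
  have e1 : h * h = 1 := O2_sq_of_det_neg h2 h hh hdh
  have e2 : (h * g) * (h * g) = 1 := by
    apply O2_sq_of_det_neg h2 (h * g) (mul_mem hh hg)
    rw [Units.val_mul, det_mul, hdg, hdh, mul_one]
  have e3 : h⁻¹ = h := inv_eq_of_mul_eq_one_left e1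
  rw [e3]
  apply eq_inv_of_mul_eq_one_left
  calc h * g * h * g = (h * g) * (h * g) := by group
    _ = 1 := e2

end TwoDim

section Card
variable {F : Type*} [Field F] [Fintype F]

theorem card_O2 (hodd : Odd (Fintype.card F)) :
    (Nat.card (Cfsg.isometryGroup F (Nf F (Fin 2)))).factorization 2 =
      (Fintype.card F ^ 2 - 1).factorization 2 := by
  classical
  have hq1 : 1 < Fintype.card F := Fintype.one_lt_card
  let e : Unit ⊕ Fin (2 * 1 - 1) ≃ Fin 2 := Fintype.equivOfCardEq (by simp)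
  let L₀ : (Fin 2 → F) ≃ₗ[F] (Unit ⊕ Fin (2 * 1 - 1) → F) := LinearEquiv.funCongrLeft F F e
  have hL₀ : ∀ w, Nf F (Unit ⊕ Fin (2 * 1 - 1)) (L₀ w) = Nf F (Fin 2) w := by
    intro w
    show ∑ j, w (e j) * w (e j) = ∑ i, w i * w i
    exact Equiv.sum_comp e (fun i => w i * w i)
  have h0 := card_iso_congr (Nf F (Fin 2)) (Nf F (Unit ⊕ Fin (2 * 1 - 1))) L₀ hL₀
  have hfac : Fintype.card F ^ 2 - 1 = (Fintype.card F - 1) * (Fintype.card F + 1) :=
    Cfsg.Agent.S4624.sq_sub_one_fac _ hq1.le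
  have h2p : (2 : ℕ).factorization 2 = 1 := Nat.Prime.factorization_self Nat.prime_two
  rcases Nat.odd_mod_four_iff.mp (Nat.odd_iff.mp hodd) with h41 | h43
  · obtain ⟨g, hg⟩ := exists_Nf_plus (F := F) 1 le_rfl hodd (by rw [pow_one]; exact h41)
    have h1 := card_iso_congr (Nf F (Unit ⊕ Fin (2 * 1 - 1))) (Cfsg.quadFormPlus 1 F) g
      (fun w => (hg w).symm)
    have h3 : Nat.card (Cfsg.isometryGroup F (Cfsg.quadFormPlus 1 F)) =
        2 * (Fintype.card F - 1) := by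
      rw [Cfsg.Agent.S0287.result (F := F) rfl 1 le_rfl]
      simp
    rw [h0, h1, h3, hfac, Nat.factorization_mul (by norm_num) (by omega),
      Nat.factorization_mul (by omega) (by omega)]
    simp only [Finsupp.coe_add, Pi.add_apply]
    rw [h2p, Cfsg.Agent.S4624.val2_of_mod4 (Fintype.card F + 1) (by omega)]
    ring
  · obtain ⟨ζ, hirr, g, hg⟩ := exists_Nf_minus (F := F) 1 le_rfl hodd
      (by rw [pow_one]; exact h43)
    have hab : ∀ z₁ z₂ : F, z₁ ^ 2 + 1 * z₁ * z₂ + ζ * z₂ ^ 2 = 0 → z₁ = 0 ∧ z₂ = 0 := by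
      intro z₁ z₂ h
      by_cases hz : z₂ = 0
      · subst hz
        simp at h
        exact ⟨h, rfl⟩
      · exfalso
        apply hirr (z₁ / z₂)
        field_simp
        linear_combination h
    have h1 := card_iso_congr (Nf F (Unit ⊕ Fin (2 * 1 - 1)))
      (Cfsg.quadFormMinus (1 - 1) F 1 ζ) g (fun w => (hg w).symm)
    have h3 : Nat.card (Cfsg.isometryGroup F (Cfsg.quadFormMinus (1 - 1) F 1 ζ)) =
        2 * (Fintype.card F + 1) := by
      rw [Cfsg.Agent.S0288.result (F := F) rfl 1 le_rfl 1 ζ hab]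
      simp
    rw [h0, h1, h3, hfac, Nat.factorization_mul (by norm_num) (by omega),
      Nat.factorization_mul (by omega) (by omega)]
    simp only [Finsupp.coe_add, Pi.add_apply]
    rw [h2p, Cfsg.Agent.S4624.val2_of_mod4 (Fintype.card F - 1) (by omega)]

/-- a Sylow `2`-subgroup of the orthogonal group of the plane, containing a reflection -/
theorem exists_D (hodd : Odd (Fintype.card F)) :
    ∃ (D : Subgroup (GL (Fin 2) F)) (s₀ : GL (Fin 2) F),
      D ≤ Cfsg.isometryGroup F (Nf F (Fin 2)) ∧ IsPGroup 2 D ∧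
      Nat.card D = 2 ^ (Fintype.card F ^ 2 - 1).factorization 2 ∧ s₀ ∈ D ∧
      (s₀ : Matrix (Fin 2) (Fin 2) F).det = -1 := by
  classical
  have : Fact (Nat.Prime 2) := ⟨Nat.prime_two⟩
  have hd : ∀ i : Fin 2, (![1, -1] : Fin 2 → F) i * (![1, -1] : Fin 2 → F) i = 1 := by
    intro i
    fin_cases i <;> simp
  let s₀ : GL (Fin 2) F := dg ![1, -1] hd
  have hs₀ : s₀ ∈ Cfsg.isometryGroup F (Nf F (Fin 2)) := dg_mem _ _
  have hsq : (⟨s₀, hs₀⟩ : Cfsg.isometryGroup F (Nf F (Fin 2))) ^ 2 = 1 := by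
    apply Subtype.ext
    show s₀ ^ 2 = 1
    rw [pow_two]
    apply Units.ext
    rw [Units.val_mul, Units.val_one, dg_val, diagonal_mul_diagonal, ← diagonal_one]
    congr 1
    funext i
    exact hd i
  obtain ⟨P, hP⟩ := (Cfsg.Agent.S4627.isPGroup_zpowers_of_sq _ hsq).exists_le_sylow
  refine ⟨(P : Subgroup (Cfsg.isometryGroup F (Nf F (Fin 2)))).map
    (Cfsg.isometryGroup F (Nf F (Fin 2))).subtype, s₀, ?_, ?_, ?_, ?_, ?_⟩
  · rintro _ ⟨y, -, rfl⟩
    exact y.2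
  · exact P.isPGroup'.map _
  · rw [Subgroup.card_map_of_injective (Subgroup.subtype_injective _),
      Sylow.card_eq_multiplicity, card_O2 hodd]
  · exact ⟨⟨s₀, hs₀⟩, hP (Subgroup.mem_zpowers _), rfl⟩
  · rw [dg_val, det_diagonal, Fin.prod_univ_two]
    simp

end Card

section DProps
variable {F : Type*} [Field F]

theorem D_sq_comm (h2 : (2 : F) ≠ 0) (D : Subgroup (GL (Fin 2) F))
    (hD : D ≤ Cfsg.isometryGroup F (Nf F (Fin 2))) (s₀ : GL (Fin 2) F) (hs₀ : s₀ ∈ D)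
    (hdet : (s₀ : Matrix (Fin 2) (Fin 2) F).det = -1) :
    ∀ a : D, a ^ 2 ∈ commutator D := by
  rintro ⟨a, ha⟩
  rcases O2_det h2 a (hD ha) with h | h
  · have hconj := O2_conj h2 a s₀ (hD ha) (hD hs₀) h hdet
    have e : (⟨a, ha⟩ : D) ^ 2 = ⁅(⟨a, ha⟩ : D), ⟨s₀, hs₀⟩⁆ := by
      apply Subtype.ext
      show a ^ 2 = a * s₀ * a⁻¹ * s₀⁻¹
      have h3 : s₀ * a⁻¹ * s₀⁻¹ = a := by
        have h4 : s₀ * a⁻¹ * s₀⁻¹ = (s₀ * a * s₀⁻¹)⁻¹ := by group
        rw [h4, hconj, inv_inv]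
      calc a ^ 2 = a * a := pow_two a
        _ = a * (s₀ * a⁻¹ * s₀⁻¹) := by rw [h3]
        _ = a * s₀ * a⁻¹ * s₀⁻¹ := by group
    rw [e, commutator_def]
    exact Subgroup.commutator_mem_commutator (Subgroup.mem_top _) (Subgroup.mem_top _)
  · have e : (⟨a, ha⟩ : D) ^ 2 = 1 := by
      apply Subtype.ext
      show a ^ 2 = 1
      rw [pow_two]
      exact O2_sq_of_det_neg h2 a (hD ha) h
    rw [e]
    exact one_mem _

/-- the rotations in `D` -/
def rotSub (D : Subgroup (GL (Fin 2) F)) : Subgroup D :=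
  (Matrix.GeneralLinearGroup.det.comp D.subtype).ker

theorem mem_rotSub (D : Subgroup (GL (Fin 2) F)) (a : D) :
    a ∈ rotSub D ↔ ((a : GL (Fin 2) F) : Matrix (Fin 2) (Fin 2) F).det = 1 := by
  unfold rotSub
  rw [MonoidHom.mem_ker]
  constructor
  · intro h
    have h3 := congrArg Units.val h
    simpa using h3
  · intro h
    apply Units.ext
    simpa using h

theorem rotSub_c1 (h2 : (2 : F) ≠ 0) (D : Subgroup (GL (Fin 2) F))
    (hD : D ≤ Cfsg.isometryGroup F (Nf F (Fin 2))) (s : D) (hs : s ∉ rotSub D) : s ^ 2 = 1 := by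
  rw [mem_rotSub] at hs
  have h := (O2_det h2 s.1 (hD s.2)).resolve_left hs
  apply Subtype.ext
  show (s : GL (Fin 2) F) ^ 2 = 1
  rw [pow_two]
  exact O2_sq_of_det_neg h2 s.1 (hD s.2) h

theorem rotSub_c2 (h2 : (2 : F) ≠ 0) (D : Subgroup (GL (Fin 2) F))
    (hD : D ≤ Cfsg.isometryGroup F (Nf F (Fin 2))) (c : D) (hc : c ∈ rotSub D) (s : D)
    (hs : s ∉ rotSub D) : s * c * s⁻¹ = c⁻¹ := by
  rw [mem_rotSub] at hs hc
  have h := (O2_det h2 s.1 (hD s.2)).resolve_left hs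
  apply Subtype.ext
  show (s : GL (Fin 2) F) * c * (s : GL (Fin 2) F)⁻¹ = (c : GL (Fin 2) F)⁻¹
  exact O2_conj h2 c.1 s.1 (hD c.2) (hD s.2) hc h

end DProps

end Cfsg.Agent.Lib.Helper17.OrthSq
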