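import Mathlib
import Cfsg.Agent.S4628
import Cfsg.Agent.S4627
import Cfsg.Agent.Lib.Helper17.OrthSqA
import Cfsg.Agent.Lib.Helper17.OrthSqB

/-!
# The wreath product `O₂ ≀ S_k` inside the orthogonal group of a diagonal form (helper17)
-/

set_option autoImplicit false

namespace Cfsg.Agent.Lib.Helper17.OrthSq

open Matrix Cfsg.Agent.S2235 Cfsg.Agent.Lib.Helper14 Cfsg.Agent.S4628
open scoped commutatorElement
open SemidirectProduct (inl inr)

section Mem
variable {F : Type*} [Field F] {k : ℕ}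

theorem blkMat_transpose (s : Fin k → Matrix (Fin 2) (Fin 2) F) :
    (blkMat s)ᵀ = blkMat (fun i => (s i)ᵀ) := by
  simp only [blkMat, fromBlocks_transpose, diagonal_transpose, transpose_apply]

theorem blkGL_mem (h2 : (2 : F) ≠ 0) (s : Fin k → GL (Fin 2) F)
    (hs : ∀ i, s i ∈ Cfsg.isometryGroup F (Nf F (Fin 2))) :
    blkGL s ∈ Cfsg.isometryGroup F (Nf F (Fin k ⊕ Fin k)) := by
  apply mem_iso_Nf_of_transpose_mul
  rw [blkGL_val, blkMat_transpose, ← blkMat_mul, ← blkMat_one]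
  congr 1
  funext i
  exact O2_transpose_mul h2 (s i) (hs i)

theorem permGL_mem (σ : Equiv.Perm (Fin k)) :
    (permGL σ : GL (Fin k ⊕ Fin k) F) ∈ Cfsg.isometryGroup F (Nf F (Fin k ⊕ Fin k)) := by
  apply mem_iso_Nf_of_transpose_mul
  rw [permGL_val, permMat, fromBlocks_transpose, fromBlocks_multiply]
  simp only [transpose_zero, zero_mul, mul_zero, add_zero, zero_add,
    permMatrixHom_transpose_mul]
  exact fromBlocks_one

/-- `fromBlocks P 0 0 1` for a permutation matrix `P` -/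
def xGL : Equiv.Perm (Fin k) →* GL (Fin k ⊕ Fin k) F :=
  (glBlock (F := F) (ι := Fin k) (τ := Fin k)).comp
    (Cfsg.Agent.S4627.permGL₁ (F := F) (l := Fin k))

theorem xGL_val (σ : Equiv.Perm (Fin k)) :
    ((xGL σ : GL (Fin k ⊕ Fin k) F) : Matrix (Fin k ⊕ Fin k) (Fin k ⊕ Fin k) F) =
      fromBlocks (permMatrixHom (R := F) σ) 0 0 1 := rfl

/-- the exchange of the two halves -/
def jGL : GL (Fin k ⊕ Fin k) F :=
  ⟨fromBlocks 0 1 1 0, fromBlocks 0 1 1 0,
    by rw [fromBlocks_multiply]; simp, by rw [fromBlocks_multiply]; simp⟩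

theorem jGL_val :
    ((jGL : GL (Fin k ⊕ Fin k) F) : Matrix (Fin k ⊕ Fin k) (Fin k ⊕ Fin k) F) =
      fromBlocks 0 1 1 0 := rfl

theorem jGL_mul_self : (jGL : GL (Fin k ⊕ Fin k) F) * jGL = 1 := by
  apply Units.ext
  rw [Units.val_mul, jGL_val, fromBlocks_multiply]
  simp

theorem xGL_mem (σ : Equiv.Perm (Fin k)) :
    (xGL σ : GL (Fin k ⊕ Fin k) F) ∈ Cfsg.isometryGroup F (Nf F (Fin k ⊕ Fin k)) := by
  apply mem_iso_Nf_of_transpose_mul
  rw [xGL_val, fromBlocks_transpose, fromBlocks_multiply]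
  simp only [transpose_zero, transpose_one, zero_mul, mul_zero, add_zero, zero_add, mul_one,
    permMatrixHom_transpose_mul]
  exact fromBlocks_one

theorem jGL_mem :
    (jGL : GL (Fin k ⊕ Fin k) F) ∈ Cfsg.isometryGroup F (Nf F (Fin k ⊕ Fin k)) := by
  apply mem_iso_Nf_of_transpose_mul
  rw [jGL_val, fromBlocks_transpose, fromBlocks_multiply]
  simp

theorem permGL_eq (σ : Equiv.Perm (Fin k)) :
    (permGL σ : GL (Fin k ⊕ Fin k) F) = xGL σ * jGL * xGL σ * jGL := by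
  apply Units.ext
  rw [Units.val_mul, Units.val_mul, Units.val_mul, permGL_val, xGL_val, jGL_val, permMat]
  simp [fromBlocks_multiply]

/-- block permutation matrices as isometries -/
def permO : Equiv.Perm (Fin k) →* Cfsg.isometryGroup F (Nf F (Fin k ⊕ Fin k)) :=
  (permGL (F := F) (l := Fin k)).codRestrict _ permGL_mem

theorem permO_mem_comm (σ : Equiv.Perm (Fin k)) :
    (permO σ : Cfsg.isometryGroup F (Nf F (Fin k ⊕ Fin k))) ∈
      commutator (Cfsg.isometryGroup F (Nf F (Fin k ⊕ Fin k))) := by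
  have hsw : ∀ a b : Fin k, a ≠ b →
      (permO (Equiv.swap a b) : Cfsg.isometryGroup F (Nf F (Fin k ⊕ Fin k))) ∈
        commutator (Cfsg.isometryGroup F (Nf F (Fin k ⊕ Fin k))) := by
    intro a b _
    let X : Cfsg.isometryGroup F (Nf F (Fin k ⊕ Fin k)) := ⟨xGL (Equiv.swap a b), xGL_mem _⟩
    let J : Cfsg.isometryGroup F (Nf F (Fin k ⊕ Fin k)) := ⟨jGL, jGL_mem⟩
    have hXinv : X⁻¹ = X := by
      apply Subtype.ext
      show (xGL (Equiv.swap a b) : GL (Fin k ⊕ Fin k) F)⁻¹ = xGL (Equiv.swap a b)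
      rw [← map_inv, Equiv.swap_inv]
    have hJinv : J⁻¹ = J := by
      apply Subtype.ext
      show (jGL : GL (Fin k ⊕ Fin k) F)⁻¹ = jGL
      exact inv_eq_of_mul_eq_one_left jGL_mul_self
    have e : permO (Equiv.swap a b) = ⁅X, J⁆ := by
      rw [commutatorElement_def, hXinv, hJinv]
      apply Subtype.ext
      exact permGL_eq (Equiv.swap a b)
    rw [e, commutator_def]
    exact Subgroup.commutator_mem_commutator (Subgroup.mem_top _) (Subgroup.mem_top _)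
  have hle : (⊤ : Subgroup (Equiv.Perm (Fin k))) ≤
      (commutator (Cfsg.isometryGroup F (Nf F (Fin k ⊕ Fin k)))).comap permO := by
    rw [← Equiv.Perm.closure_isSwap, Subgroup.closure_le]
    rintro σ ⟨a, b, hab, rfl⟩
    exact hsw a b hab
  exact hle (Subgroup.mem_top σ)

variable (h2 : (2 : F) ≠ 0) (D : Subgroup (GL (Fin 2) F))
  (hD : D ≤ Cfsg.isometryGroup F (Nf F (Fin 2)))

/-- block diagonal isometries -/
def blkO : (Fin k → D) →* Cfsg.isometryGroup F (Nf F (Fin k ⊕ Fin k)) :=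
  ((blkGL (F := F) (l := Fin k)).comp (inclPiG D)).codRestrict _
    (fun f => blkGL_mem h2 _ (fun i => hD (f i).2))

theorem permO_mul_blkO (σ : Equiv.Perm (Fin k)) (f : Fin k → D) :
    permO σ * blkO h2 D hD f = blkO h2 D hD (fun i => f (σ⁻¹ i)) * permO σ := by
  apply Subtype.ext
  exact permGL_mul_blkGL σ (inclPiG D f)

theorem blkO_pair_eq (i l : Fin k) (hl : l ≠ i) (a : D) :
    blkO h2 D hD (Pi.mulSingle i a * Pi.mulSingle l a⁻¹) =
      ⁅blkO h2 D hD (Pi.mulSingle i a), permO (Equiv.swap i l)⁆ := by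
  have hrel : permO (Equiv.swap i l) * blkO h2 D hD (Pi.mulSingle i a)⁻¹ *
      (permO (Equiv.swap i l))⁻¹ = blkO h2 D hD (Pi.mulSingle l a⁻¹) := by
    rw [permO_mul_blkO, mul_inv_cancel_right]
    congr 1
    funext j
    rw [Equiv.swap_inv, Pi.inv_apply]
    by_cases hjl : j = l
    · rw [hjl, Equiv.swap_apply_right, Pi.mulSingle_eq_same, Pi.mulSingle_eq_same]
    · by_cases hji : j = i
      · rw [hji, Equiv.swap_apply_left, Pi.mulSingle_eq_of_ne hl, inv_one,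
          Pi.mulSingle_eq_of_ne (Ne.symm hl)]
      · rw [Equiv.swap_apply_of_ne_of_ne hji hjl, Pi.mulSingle_eq_of_ne hji, inv_one,
          Pi.mulSingle_eq_of_ne hjl]
  rw [commutatorElement_def, map_mul, ← hrel, map_inv]
  group

theorem PsiW_inl (T : Subgroup (Equiv.Perm (Fin k))) (f : Fin k → D) :
    PsiW D T (inl f) = blkGL (inclPiG D f) := by
  unfold PsiW
  rw [SemidirectProduct.lift_inl]
  rfl

theorem PsiW_inr (T : Subgroup (Equiv.Perm (Fin k))) (t : T) :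
    PsiW D T (inr t) = permGL (t : Equiv.Perm (Fin k)) := by
  unfold PsiW
  rw [SemidirectProduct.lift_inr]
  rfl

/-- the wreath product as a group of isometries -/
def PhiO (T : Subgroup (Equiv.Perm (Fin k))) :
    (Fin k → D) ⋊[Cfsg.Agent.S4624.actT D T] T →*
      Cfsg.isometryGroup F (Nf F (Fin k ⊕ Fin k)) :=
  (PsiW D T).codRestrict _ (fun w => by
    rw [← SemidirectProduct.inl_left_mul_inr_right w, map_mul, PsiW_inl, PsiW_inr]
    exact mul_mem (blkGL_mem h2 _ (fun i => hD (w.left i).2)) (permGL_mem _))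

theorem PhiO_inl (T : Subgroup (Equiv.Perm (Fin k))) (f : Fin k → D) :
    PhiO h2 D hD T (inl f) = blkO h2 D hD f := Subtype.ext (PsiW_inl D T f)

theorem PhiO_inr (T : Subgroup (Equiv.Perm (Fin k))) (t : T) :
    PhiO h2 D hD T (inr t) = permO (t : Equiv.Perm (Fin k)) := Subtype.ext (PsiW_inr D T t)

theorem PhiO_injective (T : Subgroup (Equiv.Perm (Fin k))) :
    Function.Injective (PhiO h2 D hD T) := by
  unfold PhiO
  rw [MonoidHom.injective_codRestrict]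
  exact PsiW_injective D T

end Mem

/-! ### block products -/

section BlockProd
variable {F : Type*} [Field F] {ι τ : Type} [Fintype ι] [DecidableEq ι] [Fintype τ]
  [DecidableEq τ]

/-- `(g, h) ↦ g ⊕ h` -/
def glProd : GL ι F × GL τ F →* GL (ι ⊕ τ) F where
  toFun p := ⟨fromBlocks p.1.1 0 0 p.2.1, fromBlocks (p.1⁻¹ : GL ι F).1 0 0 (p.2⁻¹ : GL τ F).1,
    by rw [fromBlocks_multiply]; simp,
    by rw [fromBlocks_multiply]; simp⟩
  map_one' := by
    apply Units.ext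
    show fromBlocks (1 : Matrix ι ι F) 0 0 (1 : Matrix τ τ F) = 1
    exact fromBlocks_one
  map_mul' p q := by
    apply Units.ext
    show fromBlocks (p.1.1 * q.1.1) 0 0 (p.2.1 * q.2.1) =
      fromBlocks p.1.1 0 0 p.2.1 * fromBlocks q.1.1 0 0 q.2.1
    rw [fromBlocks_multiply]
    simp

theorem glProd_val (p : GL ι F × GL τ F) :
    ((glProd p : GL (ι ⊕ τ) F) : Matrix (ι ⊕ τ) (ι ⊕ τ) F) = fromBlocks p.1.1 0 0 p.2.1 := rfl

theorem glProd_injective : Function.Injective (glProd (F := F) (ι := ι) (τ := τ)) := by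
  intro p q hpq
  have h1 : fromBlocks p.1.1 (0 : Matrix ι τ F) (0 : Matrix τ ι F) p.2.1 =
      fromBlocks q.1.1 0 0 q.2.1 := by
    rw [← glProd_val, ← glProd_val, hpq]
  have h3 := fromBlocks_inj.mp h1
  exact Prod.ext (Units.ext h3.1) (Units.ext h3.2.2.2)

theorem glProd_mulVec (p : GL ι F × GL τ F) (v : ι ⊕ τ → F) :
    ((glProd p : GL (ι ⊕ τ) F) : Matrix (ι ⊕ τ) (ι ⊕ τ) F) *ᵥ v =
      Sum.elim (p.1.1 *ᵥ (fun i => v (Sum.inl i))) (p.2.1 *ᵥ (fun j => v (Sum.inr j))) := by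
  rw [glProd_val]
  have hv : v = Sum.elim (fun i => v (Sum.inl i)) (fun j => v (Sum.inr j)) := by
    funext x; rcases x with x | x <;> rfl
  conv_lhs => rw [hv]
  rw [fromBlocks_mulVec]
  simp

/-- the orthogonal sum of two isometries -/
def isoProd (Q₁ : (ι → F) → F) (Q₂ : (τ → F) → F) (Q : (ι ⊕ τ → F) → F)
    (hQ : ∀ v, Q v = Q₁ (fun i => v (Sum.inl i)) + Q₂ (fun j => v (Sum.inr j))) :
    Cfsg.isometryGroup F Q₁ × Cfsg.isometryGroup F Q₂ →* Cfsg.isometryGroup F Q where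
  toFun p := ⟨glProd (p.1.1, p.2.1), by
    intro u _
    show Q (((glProd (p.1.1, p.2.1) : GL (ι ⊕ τ) F) : Matrix (ι ⊕ τ) (ι ⊕ τ) F) *ᵥ u) = Q u
    rw [glProd_mulVec, hQ, hQ]
    simp only [Sum.elim_inl, Sum.elim_inr]
    congr 1
    · exact p.1.2 _ (0 : ι → F)
    · exact p.2.2 _ (0 : τ → F)⟩
  map_one' := by
    apply Subtype.ext
    show glProd ((1 : GL ι F), (1 : GL τ F)) = 1
    exact map_one _
  map_mul' p q := by
    apply Subtype.ext
    show glProd (p.1.1 * q.1.1, p.2.1 * q.2.1) = glProd (p.1.1, p.2.1) * glProd (q.1.1, q.2.1)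
    exact map_mul glProd (p.1.1, p.2.1) (q.1.1, q.2.1)

theorem isoProd_val (Q₁ : (ι → F) → F) (Q₂ : (τ → F) → F) (Q : (ι ⊕ τ → F) → F)
    (hQ : ∀ v, Q v = Q₁ (fun i => v (Sum.inl i)) + Q₂ (fun j => v (Sum.inr j)))
    (p : Cfsg.isometryGroup F Q₁ × Cfsg.isometryGroup F Q₂) :
    ((isoProd Q₁ Q₂ Q hQ p : Cfsg.isometryGroup F Q) : GL (ι ⊕ τ) F) =
      glProd (p.1.1, p.2.1) := rfl

theorem isoProd_injective (Q₁ : (ι → F) → F) (Q₂ : (τ → F) → F) (Q : (ι ⊕ τ → F) → F)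
    (hQ : ∀ v, Q v = Q₁ (fun i => v (Sum.inl i)) + Q₂ (fun j => v (Sum.inr j))) :
    Function.Injective (isoProd Q₁ Q₂ Q hQ) := by
  intro p q hpq
  have h1 : glProd (p.1.1, p.2.1) = glProd (q.1.1, q.2.1) := congrArg Subtype.val hpq
  have h3 := glProd_injective h1
  have h4 : p.1.1 = q.1.1 := congrArg Prod.fst h3
  have h5 : p.2.1 = q.2.1 := congrArg Prod.snd h3
  exact Prod.ext (Subtype.ext h4) (Subtype.ext h5)

end BlockProd

/-! ### the sign part -/

section Sign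
variable {F : Type*} [Field F] {ρ : Type} [Fintype ρ] [DecidableEq ρ]

/-- the diagonal form `Σ c_s y_s²` -/
def Qρ (c : ρ → F) (y : ρ → F) : F := ∑ s, c s * (y s * y s)

/-- sign matrices -/
def sgnGL : (ρ → ℤˣ) →* GL ρ F :=
  (Cfsg.Agent.S4627.diagGL (F := F) (l := ρ)).comp ((Cfsg.Agent.S4627.signU F).compLeft ρ)

theorem sgnGL_val (ε : ρ → ℤˣ) :
    ((sgnGL ε : GL ρ F) : Matrix ρ ρ F) = diagonal (fun s => (((ε s : ℤˣ) : ℤ) : F)) := rfl

theorem sgnGL_mem (c : ρ → F) (ε : ρ → ℤˣ) :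
    (sgnGL ε : GL ρ F) ∈ Cfsg.isometryGroup F (Qρ c) := by
  intro u _
  show Qρ c ((diagonal fun s => (((ε s : ℤˣ) : ℤ) : F)) *ᵥ u) = Qρ c u
  unfold Qρ
  refine Finset.sum_congr rfl fun s _ => ?_
  rw [mulVec_diagonal]
  have h : (((ε s : ℤˣ) : ℤ) : F) * (((ε s : ℤˣ) : ℤ) : F) = 1 := by
    rw [← Int.cast_mul, Int.units_coe_mul_self, Int.cast_one]
  calc c s * ((((ε s : ℤˣ) : ℤ) : F) * u s * ((((ε s : ℤˣ) : ℤ) : F) * u s))
      = c s * (u s * u s) * ((((ε s : ℤˣ) : ℤ) : F) * (((ε s : ℤˣ) : ℤ) : F)) := by ring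
    _ = c s * (u s * u s) := by rw [h, mul_one]

theorem sgnGL_injective (h2 : (2 : F) ≠ 0) : Function.Injective (sgnGL (F := F) (ρ := ρ)) := by
  intro ε ε' h
  have h1 : diagonal (fun s => (((ε s : ℤˣ) : ℤ) : F)) =
      diagonal (fun s => (((ε' s : ℤˣ) : ℤ) : F)) := by
    rw [← sgnGL_val, ← sgnGL_val, h]
  funext s
  have h3 := congrFun (diagonal_injective h1) s
  exact sgn_injective h2 h3

/-- sign matrices as isometries -/
def sgnO (c : ρ → F) : (ρ → ℤˣ) →* Cfsg.isometryGroup F (Qρ c) :=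
  (sgnGL (F := F) (ρ := ρ)).codRestrict _ (sgnGL_mem c)

theorem sgnO_injective (h2 : (2 : F) ≠ 0) (c : ρ → F) : Function.Injective (sgnO (F := F) c) := by
  unfold sgnO
  rw [MonoidHom.injective_codRestrict]
  exact sgnGL_injective h2

end Sign

/-! ### the model -/

section Model
variable {F : Type*} [Field F] {k : ℕ} {ρ : Type} [Fintype ρ] [DecidableEq ρ]

/-- the model form: `2k` squares plus a diagonal form -/
def Qmod (c : ρ → F) (v : (Fin k ⊕ Fin k) ⊕ ρ → F) : F :=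
  Nf F (Fin k ⊕ Fin k) (fun i => v (Sum.inl i)) + Qρ c (fun j => v (Sum.inr j))

variable (h2 : (2 : F) ≠ 0) (D : Subgroup (GL (Fin 2) F))
  (hD : D ≤ Cfsg.isometryGroup F (Nf F (Fin 2))) (T : Subgroup (Equiv.Perm (Fin k)))
  (c : ρ → F)

/-- the model group inside the isometry group of the model form -/
def PsiO : ((Fin k → D) ⋊[Cfsg.Agent.S4624.actT D T] T) × (ρ → ℤˣ) →*
    Cfsg.isometryGroup F (Qmod (k := k) c) :=
  (isoProd (Nf F (Fin k ⊕ Fin k)) (Qρ c) (Qmod (k := k) c) (fun _ => rfl)).comp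
    ((PhiO h2 D hD T).prodMap (sgnO c))

theorem PsiO_injective : Function.Injective (PsiO h2 D hD T c) := by
  unfold PsiO
  rw [MonoidHom.coe_comp, MonoidHom.coe_prodMap]
  exact (isoProd_injective _ _ _ _).comp
    (Function.Injective.prodMap (PhiO_injective h2 D hD T) (sgnO_injective h2 c))

/-- the embedding of the first factor -/
def lamO : Cfsg.isometryGroup F (Nf F (Fin k ⊕ Fin k)) →*
    Cfsg.isometryGroup F (Qmod (k := k) c) :=
  (isoProd (Nf F (Fin k ⊕ Fin k)) (Qρ c) (Qmod (k := k) c) (fun _ => rfl)).comp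
    (MonoidHom.inl _ _)

theorem PsiO_inl_eq (w : (Fin k → D) ⋊[Cfsg.Agent.S4624.actT D T] T) :
    PsiO h2 D hD T c (MonoidHom.inl _ (ρ → ℤˣ) w) = lamO c (PhiO h2 D hD T w) := by
  show isoProd (Nf F (Fin k ⊕ Fin k)) (Qρ c) (Qmod (k := k) c) (fun _ => rfl)
      (PhiO h2 D hD T w, sgnO c 1) =
    isoProd (Nf F (Fin k ⊕ Fin k)) (Qρ c) (Qmod (k := k) c) (fun _ => rfl)
      (PhiO h2 D hD T w, 1)
  rw [map_one]

theorem PsiO_inr_mem (t : T) :
    PsiO h2 D hD T c (MonoidHom.inl _ (ρ → ℤˣ) (inr t)) ∈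
      commutator (Cfsg.isometryGroup F (Qmod (k := k) c)) := by
  rw [PsiO_inl_eq, PhiO_inr]
  exact Cfsg.Agent.S4624.map_mem_commutator (lamO c) (permO_mem_comm _)

theorem PsiO_pair_mem (i l : Fin k) (hl : l ≠ i) (a : D) :
    PsiO h2 D hD T c (MonoidHom.inl _ (ρ → ℤˣ)
      (inl (Pi.mulSingle i a * Pi.mulSingle l a⁻¹))) ∈
      commutator (Cfsg.isometryGroup F (Qmod (k := k) c)) := by
  rw [PsiO_inl_eq, PhiO_inl, blkO_pair_eq h2 D hD i l hl a]
  apply Cfsg.Agent.S4624.map_mem_commutator (lamO c)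
  rw [commutator_def]
  exact Subgroup.commutator_mem_commutator (Subgroup.mem_top _) (Subgroup.mem_top _)

theorem det_PsiO_inl (f : Fin k → D) (ε : ρ → ℤˣ) :
    (((PsiO h2 D hD T c ((inl f : (Fin k → D) ⋊[Cfsg.Agent.S4624.actT D T] T), ε) :
      Cfsg.isometryGroup F (Qmod (k := k) c)) : GL ((Fin k ⊕ Fin k) ⊕ ρ) F) :
        Matrix ((Fin k ⊕ Fin k) ⊕ ρ) ((Fin k ⊕ Fin k) ⊕ ρ) F).det =
      (∏ i, ((f i : GL (Fin 2) F) : Matrix (Fin 2) (Fin 2) F).det) *
        ∏ s, (((ε s : ℤˣ) : ℤ) : F) := by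
  have e : (((PsiO h2 D hD T c ((inl f : (Fin k → D) ⋊[Cfsg.Agent.S4624.actT D T] T), ε) :
      Cfsg.isometryGroup F (Qmod (k := k) c)) : GL ((Fin k ⊕ Fin k) ⊕ ρ) F) :
        Matrix ((Fin k ⊕ Fin k) ⊕ ρ) ((Fin k ⊕ Fin k) ⊕ ρ) F) =
      fromBlocks (blkMat fun i => ((f i : GL (Fin 2) F) : Matrix (Fin 2) (Fin 2) F)) 0 0
        (diagonal fun s => (((ε s : ℤˣ) : ℤ) : F)) := by
    show fromBlocks (((PhiO h2 D hD T (inl f) : Cfsg.isometryGroup F (Nf F (Fin k ⊕ Fin k))) :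
      GL (Fin k ⊕ Fin k) F) : Matrix (Fin k ⊕ Fin k) (Fin k ⊕ Fin k) F) 0 0 _ = _
    rw [PhiO_inl]
    rfl
  rw [e, det_fromBlocks_zero₂₁, Cfsg.Agent.S4627.det_blkMat, det_diagonal]

end Model

end Cfsg.Agent.Lib.Helper17.OrthSq
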