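import Mathlib
import Cfsg.Agent.Lib.Helper17.OrthSqC
import Cfsg.Agent.Lib.Helper6.Spinor3
import Cfsg.Agent.S0756
import Cfsg.Agent.S2610
import Cfsg.Agent.S0790

/-!
# Sylow `2`-subgroups of `Ω(Q)`: the general theorem, diagonalisation and arithmetic (helper17)
-/

set_option autoImplicit false

namespace Cfsg.Agent.Lib.Helper17.OrthSq

open Matrix Cfsg.Agent.S2235 Cfsg.Agent.Lib.Helper14 Cfsg.Agent.S4628
open scoped commutatorElement
open SemidirectProduct (inl inr)

/-! ### the general theorem -/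

section Main
variable {F : Type*} [Field F] [Fintype F]

theorem main_core (hodd : Odd (Fintype.card F)) (h2 : (2 : F) ≠ 0)
    {ι : Type} [Fintype ι] [DecidableEq ι] (Q : QuadraticForm F (ι → F))
    (hQ : (QuadraticMap.polarBilin Q).Nondegenerate) (hcardι : 2 ≤ Fintype.card ι)
    (k r : ℕ) (c : Fin r → F) (L : (ι → F) ≃ₗ[F] ((Fin k ⊕ Fin k) ⊕ Fin r → F))
    (hL : ∀ w, Qmod (k := k) c (L w) = Q w)
    (hval : (Nat.card (Cfsg.isometryGroup F ⇑Q)).factorization 2 ≤
      k * (Fintype.card F ^ 2 - 1).factorization 2 + (k.factorial).factorization 2 + r)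
    (hsq : ∀ (D : Subgroup (GL (Fin 2) F)) (hD : D ≤ Cfsg.isometryGroup F (Nf F (Fin 2)))
      (s₀ : GL (Fin 2) F), s₀ ∈ D → (s₀ : Matrix (Fin 2) (Fin 2) F).det = -1 →
      ∀ (T : Sylow 2 (Equiv.Perm (Fin k)))
        (K : Subgroup (((Fin k → D) ⋊[Cfsg.Agent.S4624.actT D
          (T : Subgroup (Equiv.Perm (Fin k)))] (T : Subgroup (Equiv.Perm (Fin k)))) ×
            (Fin r → ℤˣ))),
        (∀ y, y ∈ K ↔ PsiO h2 D hD (T : Subgroup (Equiv.Perm (Fin k))) c y ∈
          commutator (Cfsg.isometryGroup F (Qmod (k := k) c))) →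
        ∀ x : K, x ^ 2 ∈ commutator K)
    (P : Sylow 2 (Cfsg.Omega F ⇑Q)) :
    ∀ x : (P : Subgroup (Cfsg.Omega F ⇑Q)),
      x ^ 2 ∈ commutator (P : Subgroup (Cfsg.Omega F ⇑Q)) := by
  classical
  have : Fact (Nat.Prime 2) := ⟨Nat.prime_two⟩
  obtain ⟨D, s₀, hD, hD2, hDc, hs₀, hs₀det⟩ := exists_D (F := F) hodd
  obtain ⟨T⟩ : Nonempty (Sylow 2 (Equiv.Perm (Fin k))) := inferInstance
  have hLs : ∀ w, (⇑Q) (L.symm w) = 1 * Qmod (k := k) c w := by
    intro w
    rw [one_mul, ← hL, L.apply_symm_apply]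
  have hχ : Function.Bijective (isoCongr (Qmod (k := k) c) ⇑Q L.symm 1 hLs) :=
    isoCongr_bijective' _ _ L.symm hLs
  have hΨ : Function.Injective ((isoCongr (Qmod (k := k) c) ⇑Q L.symm 1 hLs).comp
      (PsiO h2 D hD (T : Subgroup (Equiv.Perm (Fin k))) c)) :=
    hχ.1.comp (PsiO_injective h2 D hD _ c)
  have hTc : Nat.card (T : Subgroup (Equiv.Perm (Fin k))) =
      2 ^ (k.factorial).factorization 2 := by
    rw [Sylow.card_eq_multiplicity, Nat.card_perm, Nat.card_fin]
  have hMc : Nat.card (((Fin k → D) ⋊[Cfsg.Agent.S4624.actT D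
      (T : Subgroup (Equiv.Perm (Fin k)))] (T : Subgroup (Equiv.Perm (Fin k)))) ×
        (Fin r → ℤˣ)) =
      2 ^ (k * (Fintype.card F ^ 2 - 1).factorization 2 + (k.factorial).factorization 2 + r) := by
    rw [Nat.card_prod, SemidirectProduct.card, Nat.card_fun, Nat.card_fin, hDc, hTc,
      Nat.card_fun, Nat.card_fin, Nat.card_eq_fintype_card, Fintype.card_units_int, ← pow_mul,
      ← pow_add, ← pow_add]
    congr 1
    ring
  have hM2 : IsPGroup 2 (((Fin k → D) ⋊[Cfsg.Agent.S4624.actT D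
      (T : Subgroup (Equiv.Perm (Fin k)))] (T : Subgroup (Equiv.Perm (Fin k)))) ×
        (Fin r → ℤˣ)) := IsPGroup.of_card hMc
  have hidx := Cfsg.Agent.Lib.Helper6.index_Omega' Q h2 hQ hcardι
  have hcard : 2 ^ (Nat.card (Cfsg.isometryGroup F ⇑Q)).factorization 2 ≤
      Nat.card (((Fin k → D) ⋊[Cfsg.Agent.S4624.actT D
      (T : Subgroup (Equiv.Perm (Fin k)))] (T : Subgroup (Equiv.Perm (Fin k)))) ×
        (Fin r → ℤˣ)) := by
    rw [hMc]
    exact Nat.pow_le_pow_right (by norm_num) hval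
  apply sylow_of_model _ hΨ hM2 hidx hcard _ P
  apply hsq D hD s₀ hs₀ hs₀det T
  intro y
  rw [Subgroup.mem_comap]
  exact (Cfsg.Agent.Lib.Helper6.mem_commutator_iff_of_bijective _ hχ _).symm

theorem units_int_pi_sq {r : ℕ} (ε : Fin r → ℤˣ) : ε ^ 2 = 1 := by
  funext s
  rw [Pi.pow_apply]
  exact Int.units_sq (ε s)

/-- the general theorem -/
theorem main_generic (hodd : Odd (Fintype.card F))
    {ι : Type} [Fintype ι] [DecidableEq ι] (Q : QuadraticForm F (ι → F))
    (hQ : (QuadraticMap.polarBilin Q).Nondegenerate) (hcardι : 2 ≤ Fintype.card ι)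
    (k r : ℕ) (hkr : 3 ≤ k ∨ (k = 2 ∧ r = 0))
    (c : Fin r → F) (L : (ι → F) ≃ₗ[F] ((Fin k ⊕ Fin k) ⊕ Fin r → F))
    (hL : ∀ w, Qmod (k := k) c (L w) = Q w)
    (hval : (Nat.card (Cfsg.isometryGroup F ⇑Q)).factorization 2 ≤
      k * (Fintype.card F ^ 2 - 1).factorization 2 + (k.factorial).factorization 2 + r)
    (P : Sylow 2 (Cfsg.Omega F ⇑Q)) :
    ∀ x : (P : Subgroup (Cfsg.Omega F ⇑Q)),
      x ^ 2 ∈ commutator (P : Subgroup (Cfsg.Omega F ⇑Q)) := by
  classical
  have : Fact (Nat.Prime 2) := ⟨Nat.prime_two⟩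
  have h2 : (2 : F) ≠ 0 := Cfsg.Agent.Lib.Helper6.two_ne_zero_of_odd_card hodd
  rcases hkr with hk | ⟨rfl, rfl⟩
  · apply main_core hodd h2 Q hQ hcardι k r c L hL hval _ P
    intro D hD s₀ hs₀ hs₀det T K hK
    exact sqComm_sub_three _ K (exists_two_ne hk)
      (fun t => (hK _).mpr (PsiO_inr_mem h2 D hD _ c t))
      (fun i l hl a => (hK _).mpr (PsiO_pair_mem h2 D hD _ c i l hl a))
      units_int_pi_sq (D_sq_comm h2 D hD s₀ hs₀ hs₀det)
      (fun x => (Cfsg.Agent.S4623.sylow_perm_genBy 2 k T).pow_mem_commutator x)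
  · apply main_core hodd h2 Q hQ hcardι 2 0 c L hL hval _ P
    intro D hD s₀ hs₀ hs₀det T K hK
    have hne : (-1 : F) ≠ 1 := by
      intro h
      apply h2
      linear_combination -h
    refine sqComm_sub_two _ K (rotSub D)
      (fun t => (hK _).mpr (PsiO_inr_mem h2 D hD _ c t))
      (fun i l hl a => (hK _).mpr (PsiO_pair_mem h2 D hD _ c i l hl a))
      (rotSub_c1 h2 D hD) (rotSub_c2 h2 D hD) ⟨s₀, hs₀⟩ ?_ ?_ units_int_pi_sq
      (fun x => (Cfsg.Agent.S4623.sylow_perm_genBy 2 2 T).pow_mem_commutator x)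
    · rw [mem_rotSub]
      show ¬ (s₀ : Matrix (Fin 2) (Fin 2) F).det = 1
      rw [hs₀det]
      exact hne
    · intro f ε hf
      have h3 := det_eq_one_of_mem_Omega' _ _ ((hK _).mp hf)
      rw [det_PsiO_inl, Fin.prod_univ_two, Finset.univ_eq_empty, Finset.prod_empty, mul_one] at h3
      rcases O2_det h2 (f 0).1 (hD (f 0).2) with h0 | h0
      · left
        rw [h0, one_mul] at h3
        rw [Fin.forall_fin_two]
        exact ⟨(mem_rotSub D _).mpr h0, (mem_rotSub D _).mpr h3⟩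
      · right
        rw [h0] at h3
        have h1 : ((f 1 : GL (Fin 2) F) : Matrix (Fin 2) (Fin 2) F).det = -1 := by
          linear_combination -h3
        rw [Fin.forall_fin_two]
        constructor
        · rw [mem_rotSub, h0]
          exact hne
        · rw [mem_rotSub, h1]
          exact hne

end Main

/-! ### diagonalisation -/

section Diag
variable {F : Type*} [Field F]

/-- weights `1, …, 1, d` -/
def cd (n : ℕ) (d : F) (i : Fin (n + 1)) : F := if i = Fin.last n then d else 1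

/-- the form `x₀² + … + x_{n-1}² + d x_n²` -/
noncomputable def wsq (n : ℕ) (d : F) : QuadraticForm F (Fin (n + 1) → F) :=
  QuadraticMap.weightedSumSquares F (cd n d)

theorem wsq_apply (n : ℕ) (d : F) (x : Fin (n + 1) → F) :
    wsq n d x = ∑ i, cd n d i * (x i * x i) := by
  unfold wsq
  rw [QuadraticMap.weightedSumSquares_apply]
  simp only [smul_eq_mul]

theorem exists_diag [Finite F] {ι : Type} [Fintype ι] [DecidableEq ι] (h2 : (2 : F) ≠ 0)
    (Q : QuadraticForm F (ι → F)) (hQ : (QuadraticMap.polarBilin Q).Nondegenerate) (n : ℕ)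
    (hn : Fintype.card ι = n + 1) (α : F) (hα : ¬ IsSquare α) :
    ∃ (L : (ι → F) ≃ₗ[F] (Fin (n + 1) → F)) (d : F), (d = 1 ∨ d = α) ∧
      ∀ w, wsq n d (L w) = Q w := by
  classical
  let B : LinearMap.BilinForm F (ι → F) := (2⁻¹ : F) • QuadraticMap.polarBilin Q
  have hBapp : ∀ x y, B x y = 2⁻¹ * QuadraticMap.polar ⇑Q x y := fun x y => rfl
  have hBQ : ∀ x, B x x = Q x := by
    intro x
    rw [hBapp, QuadraticMap.polar_self, two_smul]
    have h3 : (2 : F)⁻¹ * 2 = 1 := inv_mul_cancel₀ h2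
    linear_combination (Q x) * h3
  have hS : B.IsSymm := ⟨fun x y => by rw [hBapp, hBapp, QuadraticMap.polar_comm]⟩
  have hB : B.Nondegenerate := by
    constructor
    · intro x hx
      apply hQ.1 x
      intro y
      have h3 := hx y
      rw [hBapp] at h3
      exact (mul_eq_zero.mp h3).resolve_left (inv_ne_zero h2)
    · intro y hy
      apply hQ.2 y
      intro x
      have h3 := hy x
      rw [hBapp] at h3
      exact (mul_eq_zero.mp h3).resolve_left (inv_ne_zero h2)
  have hfr : Module.finrank F (ι → F) = n + 1 := by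
    rw [Module.finrank_fintype_fun_eq_card, hn]
  obtain ⟨b, hortho, hone, hlast⟩ := Cfsg.Agent.S0756.result h2 B hS hB hfr α hα
  refine ⟨b.equivFun, B (b (Fin.last n)) (b (Fin.last n)), hlast, ?_⟩
  intro w
  rw [wsq_apply, ← hBQ w]
  conv_rhs => rw [← b.sum_equivFun w]
  simp only [map_sum, LinearMap.sum_apply, map_smul, LinearMap.smul_apply, smul_eq_mul]
  refine Finset.sum_congr rfl fun i _ => ?_
  rw [Finset.sum_eq_single i]
  · have hci : cd n (B (b (Fin.last n)) (b (Fin.last n))) i = B (b i) (b i) := by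
      unfold cd
      split_ifs with h
      · rw [h]
      · exact (hone i h).symm
    rw [hci]
    ring
  · intro j _ hji
    rw [hortho j i hji]
    ring
  · intro h
    exact absurd (Finset.mem_univ i) h

theorem d_eq_one_iff [Fintype F] {ι : Type} [Fintype ι] [DecidableEq ι] (h2 : (2 : F) ≠ 0)
    (Q : QuadraticForm F (ι → F)) (hQ : (QuadraticMap.polarBilin Q).Nondegenerate) (n : ℕ)
    (hn2 : 2 ≤ n + 1) (he : Even (n + 1)) (L : (ι → F) ≃ₗ[F] (Fin (n + 1) → F)) (d α : F)
    (hd : d = 1 ∨ d = α) (hα : ¬ IsSquare α) (hL : ∀ w, wsq n d (L w) = Q w) :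
    (∃ g : ↥(Cfsg.isometryGroup F ⇑Q), g ∈ Cfsg.Omega F ⇑Q ∧
      ((g : GL ι F) : Matrix ι ι F) = -1) ↔ d = 1 := by
  classical
  have hQd : (QuadraticMap.polarBilin (wsq n d)).Nondegenerate :=
    Cfsg.Agent.Lib.Helper6.nondegenerate_transfer Q (wsq n d) L hL hQ
  have key := Cfsg.Agent.S2610.result h2 hn2 he (wsq n d) hQd
  have hpol : ∀ x y : Fin (n + 1) → F,
      QuadraticMap.polar ⇑(wsq n d) x y = ∑ i, 2 * cd n d i * (x i * y i) := by
    intro x y
    unfold QuadraticMap.polar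
    rw [wsq_apply, wsq_apply, wsq_apply, ← Finset.sum_sub_distrib, ← Finset.sum_sub_distrib]
    refine Finset.sum_congr rfl fun i _ => ?_
    simp only [Pi.add_apply]
    ring
  have hmat : (Matrix.of fun i j : Fin (n + 1) =>
      QuadraticMap.polar ⇑(wsq n d) (Pi.single i 1) (Pi.single j 1)) =
      diagonal (fun i => 2 * cd n d i) := by
    ext i j
    rw [Matrix.of_apply, hpol, Matrix.diagonal_apply]
    by_cases hij : i = j
    · subst hij
      rw [if_pos rfl, Finset.sum_eq_single i]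
      · rw [Pi.single_eq_same]
        ring
      · intro l _ hli
        rw [Pi.single_eq_of_ne hli]
        ring
      · intro h
        exact absurd (Finset.mem_univ i) h
    · rw [if_neg hij]
      apply Finset.sum_eq_zero
      intro l _
      by_cases hli : l = i
      · rw [hli, Pi.single_eq_of_ne hij]
        ring
      · rw [Pi.single_eq_of_ne hli]
        ring
  have hprod : ∏ i, cd n d i = d := by
    unfold cd
    rw [Finset.prod_ite_eq' Finset.univ (Fin.last n) (fun _ => d)]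
    simp
  have hdet : (Matrix.of fun i j : Fin (n + 1) =>
      QuadraticMap.polar ⇑(wsq n d) (Pi.single i 1) (Pi.single j 1)).det = 2 ^ (n + 1) * d := by
    rw [hmat, det_diagonal, Finset.prod_mul_distrib, Finset.prod_const, Finset.card_univ,
      Fintype.card_fin, hprod]
  have hsq : IsSquare ((2 : F) ^ (n + 1) * d) ↔ d = 1 := by
    obtain ⟨t, ht⟩ := he
    have h2t : (2 : F) ^ t ≠ 0 := pow_ne_zero _ h2
    constructor
    · rintro ⟨s, hs⟩
      have hds : IsSquare d := by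
        refine ⟨s / 2 ^ t, ?_⟩
        rw [ht, pow_add] at hs
        field_simp
        linear_combination hs
      rcases hd with h | h
      · exact h
      · rw [h] at hds
        exact absurd hds hα
    · intro h
      rw [h, mul_one, ht, pow_add]
      exact ⟨2 ^ t, rfl⟩
  rw [hdet] at key
  constructor
  · rintro ⟨g, hg, hg1⟩
    obtain ⟨y, hy, hy1⟩ := Cfsg.Agent.S0790.neg_one_transfer ⇑Q ⇑(wsq n d) L
      (fun w => by rw [one_mul]; exact hL w) g hg1 hg
    exact hsq.mp (key.mp ⟨y, hy, hy1⟩)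
  · intro h1
    obtain ⟨y, hy, hy1⟩ := key.mpr (hsq.mpr h1)
    exact Cfsg.Agent.S0790.neg_one_transfer ⇑(wsq n d) ⇑Q L.symm
      (fun w => by rw [one_mul, ← hL, L.apply_symm_apply]) y hy1 hy

theorem exists_reindex {ι : Type} [Fintype ι] [DecidableEq ι] (Q : (ι → F) → F) (n k r : ℕ)
    (hnkr : k + k + r = n + 1) (L : (ι → F) ≃ₗ[F] (Fin (n + 1) → F)) (d : F)
    (hL : ∀ w, wsq n d (L w) = Q w) (hrd : 1 ≤ r ∨ d = 1) :
    ∃ (c : Fin r → F) (L' : (ι → F) ≃ₗ[F] ((Fin k ⊕ Fin k) ⊕ Fin r → F)),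
      ∀ w, Qmod (k := k) c (L' w) = Q w := by
  let e : (Fin k ⊕ Fin k) ⊕ Fin r ≃ Fin (n + 1) :=
    ((Equiv.sumCongr finSumFinEquiv (Equiv.refl (Fin r))).trans finSumFinEquiv).trans
      (finCongr hnkr)
  have hval : ∀ j : Fin k ⊕ Fin k, (e (Sum.inl j)).val < k + k := by
    intro j
    show ((finCongr hnkr) (finSumFinEquiv (Sum.inl (finSumFinEquiv j)))).val < k + k
    rw [finCongr_apply_coe, finSumFinEquiv_apply_left, Fin.val_castAdd]
    exact (finSumFinEquiv j).isLt
  have hcd : ∀ j, cd n d (e (Sum.inl j)) = 1 := by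
    intro j
    unfold cd
    split_ifs with h
    · rcases hrd with hr | hd1
      · exfalso
        have h3 := hval j
        rw [h, Fin.val_last] at h3
        omega
      · exact hd1
    · rfl
  refine ⟨fun s => cd n d (e (Sum.inr s)), L.trans (LinearEquiv.funCongrLeft F F e), ?_⟩
  intro w
  rw [← hL w, wsq_apply]
  show Nf F (Fin k ⊕ Fin k) (fun i => L w (e (Sum.inl i))) +
    Qρ (fun s => cd n d (e (Sum.inr s))) (fun s => L w (e (Sum.inr s))) = _
  rw [← Equiv.sum_comp e, Fintype.sum_sum_type]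
  unfold Nf Qρ
  congr 1
  refine Finset.sum_congr rfl fun j _ => ?_
  show L w (e (Sum.inl j)) * L w (e (Sum.inl j)) = _
  rw [hcd j, one_mul]

end Diag

/-! ### arithmetic -/

section Arith

theorem fact2_pow_odd (q : ℕ) (hodd : Odd q) (j : ℕ) : (q ^ j).factorization 2 = 0 := by
  apply Nat.factorization_eq_zero_of_not_dvd
  rw [← even_iff_two_dvd, Nat.not_even_iff_odd]
  exact hodd.pow

theorem pow_sq_sub_ne_zero (q : ℕ) (hq1 : 1 < q) (i : ℕ) : q ^ (2 * (i + 1)) - 1 ≠ 0 := by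
  have : 1 < q ^ (2 * (i + 1)) := Nat.one_lt_pow (by omega) hq1
  omega

theorem prod_sq_ne_zero (q : ℕ) (hq1 : 1 < q) (m : ℕ) :
    ∏ i ∈ Finset.range m, (q ^ (2 * (i + 1)) - 1) ≠ 0 :=
  Finset.prod_ne_zero_iff.mpr (fun i _ => pow_sq_sub_ne_zero q hq1 i)

theorem fact2_factorial_succ (j : ℕ) :
    ((j + 1).factorial).factorization 2 = (j.factorial).factorization 2 + (j + 1).factorization 2 := by
  rw [Nat.factorial_succ, Nat.factorization_mul (by omega) (Nat.factorial_ne_zero j)]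
  simp only [Finsupp.coe_add, Pi.add_apply]
  ring

theorem val_key' (q : ℕ) (hodd : Odd q) (hq1 : 1 < q) (i : ℕ) :
    (q ^ (2 * (i + 1)) - 1).factorization 2 =
      (q ^ 2 - 1).factorization 2 + (i + 1).factorization 2 := by
  rw [Nat.factorization_def _ Nat.prime_two, Nat.factorization_def _ Nat.prime_two,
    Nat.factorization_def _ Nat.prime_two]
  exact Cfsg.Agent.S2250.val_key q hodd hq1 i

theorem val_prod_sq (q : ℕ) (hodd : Odd q) (hq1 : 1 < q) (m : ℕ) :
    (∏ i ∈ Finset.range m, (q ^ (2 * (i + 1)) - 1)).factorization 2 =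
      m * (q ^ 2 - 1).factorization 2 + (m.factorial).factorization 2 := by
  induction m with
  | zero => simp
  | succ m ih =>
    rw [Finset.prod_range_succ, Nat.factorization_mul (prod_sq_ne_zero q hq1 m)
      (pow_sq_sub_ne_zero q hq1 m)]
    simp only [Finsupp.coe_add, Pi.add_apply]
    rw [ih, fact2_factorial_succ, val_key' q hodd hq1 m]
    ring

theorem two_fact : (2 : ℕ).factorization 2 = 1 := Nat.Prime.factorization_self Nat.prime_two

theorem val_odd_group (q : ℕ) (hodd : Odd q) (hq1 : 1 < q) (m : ℕ) :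
    (2 * q ^ (m ^ 2) * ∏ i ∈ Finset.range m, (q ^ (2 * (i + 1)) - 1)).factorization 2 =
      m * (q ^ 2 - 1).factorization 2 + (m.factorial).factorization 2 + 1 := by
  have hq0 : q ≠ 0 := by omega
  rw [Nat.factorization_mul (mul_ne_zero (by norm_num) (pow_ne_zero _ hq0))
    (prod_sq_ne_zero q hq1 m), Nat.factorization_mul (by norm_num) (pow_ne_zero _ hq0)]
  simp only [Finsupp.coe_add, Pi.add_apply]
  rw [two_fact, fact2_pow_odd q hodd, val_prod_sq q hodd hq1 m]
  ring

theorem val_even_group (q : ℕ) (hodd : Odd q) (hq1 : 1 < q) (j N e : ℕ) (hN : N ≠ 0) :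
    (2 * q ^ e * N * ∏ i ∈ Finset.range j, (q ^ (2 * (i + 1)) - 1)).factorization 2 =
      1 + N.factorization 2 + (j * (q ^ 2 - 1).factorization 2 + (j.factorial).factorization 2) := by
  have hq0 : q ≠ 0 := by omega
  rw [Nat.factorization_mul (mul_ne_zero (mul_ne_zero (by norm_num) (pow_ne_zero _ hq0)) hN)
    (prod_sq_ne_zero q hq1 j), Nat.factorization_mul (mul_ne_zero (by norm_num)
      (pow_ne_zero _ hq0)) hN, Nat.factorization_mul (by norm_num) (pow_ne_zero _ hq0)]
  simp only [Finsupp.coe_add, Pi.add_apply]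
  rw [two_fact, fact2_pow_odd q hodd, val_prod_sq q hodd hq1 j]

theorem val_P1 (q : ℕ) (hodd : Odd q) (hq1 : 1 < q) (m : ℕ) (hm : 1 ≤ m) (h : q ^ m % 4 = 1) :
    (q ^ m - 1).factorization 2 + 1 = (q ^ 2 - 1).factorization 2 + m.factorization 2 := by
  rcases Nat.even_or_odd' m with ⟨j, rfl | rfl⟩
  · obtain ⟨i, rfl⟩ : ∃ i, j = i + 1 := ⟨j - 1, by omega⟩
    rw [val_key' q hodd hq1 i, Nat.factorization_mul (by norm_num) (by omega)]
    simp only [Finsupp.coe_add, Pi.add_apply]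
    rw [two_fact]
    ring
  · have hq4 : q % 4 = 1 := by
      by_contra hne
      have h3 : q % 4 = 3 := by
        have := Nat.odd_iff.mp hodd
        omega
      have := Cfsg.Agent.S4628.pow_odd_mod4 q j h3
      omega
    rw [Cfsg.Agent.S4627.val_odd_pow q hodd hq1 j, Cfsg.Agent.S4624.sq_sub_one_fac q hq1.le,
      Nat.factorization_mul (by omega) (by omega)]
    simp only [Finsupp.coe_add, Pi.add_apply]
    rw [Cfsg.Agent.S4624.val2_of_mod4 (q + 1) (by omega),
      Nat.factorization_eq_zero_of_not_dvd (by omega : ¬ 2 ∣ 2 * j + 1)]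

theorem val_M1 (q : ℕ) (hodd : Odd q) (hq1 : 1 < q) (m : ℕ) (h : q ^ m % 4 = 3) :
    (q ^ m + 1).factorization 2 + 1 = (q ^ 2 - 1).factorization 2 ∧ m.factorization 2 = 0 := by
  have hq4 : q % 4 = 3 := by
    by_contra hne
    have h1 : q % 4 = 1 := by
      have := Nat.odd_iff.mp hodd
      omega
    rw [Nat.pow_mod, h1, one_pow] at h
    omega
  rcases Nat.even_or_odd' m with ⟨j, rfl | rfl⟩
  · exfalso
    have h9 : q ^ 2 % 4 = 1 := by
      rw [Nat.pow_mod, hq4]
    rw [pow_mul, Nat.pow_mod, h9, one_pow] at h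
    omega
  · have hpos : 1 ≤ q ^ (2 * j + 1) := Nat.one_le_pow _ _ (by omega)
    have hfac : (q ^ (2 * j + 1)) ^ 2 - 1 = (q ^ (2 * j + 1) - 1) * (q ^ (2 * j + 1) + 1) :=
      Cfsg.Agent.S4624.sq_sub_one_fac _ hpos
    have h1 : ((q ^ (2 * j + 1)) ^ 2 - 1).factorization 2 =
        (q ^ 2 - 1).factorization 2 + (2 * j + 1).factorization 2 := by
      rw [← pow_mul, mul_comm (2 * j + 1) 2]
      exact val_key' q hodd hq1 (2 * j)
    have h0 : (2 * j + 1).factorization 2 = 0 :=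
      Nat.factorization_eq_zero_of_not_dvd (by omega)
    have h3 : (q ^ (2 * j + 1) - 1).factorization 2 = 1 :=
      Cfsg.Agent.S4624.val2_of_mod4 _ (by omega)
    rw [hfac, Nat.factorization_mul (by omega) (by omega)] at h1
    simp only [Finsupp.coe_add, Pi.add_apply] at h1
    rw [h3, h0] at h1
    exact ⟨by omega, h0⟩

end Arith

end Cfsg.Agent.Lib.Helper17.OrthSq
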