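import Mathlib.GroupTheory.Sylow
import Mathlib.GroupTheory.Nilpotent
import Mathlib.GroupTheory.Commutator.Basic

set_option autoImplicit false

namespace Cfsg.Agent.Lib.Helper17

open scoped commutatorElement

section stability

variable {G : Type*} [Group G] {p : ℕ}

/-- Stability lemma, elementwise: if `a` has order prime to `p`, `[x, a] ∈ P₁` for all `x` in the
`p`-group `P`, and `a` centralizes `P₁ ≤ P`, then `a` centralizes `P`. -/
theorem stability_centralizes [Fact p.Prime] {P P₁ : Subgroup G} (hP : IsPGroup p P)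
    {a : G} (ha : (orderOf a).Coprime p) (hP₁ : P₁ ≤ P) (h1 : ∀ x ∈ P, ⁅x, a⁆ ∈ P₁)
    (h2 : ∀ y ∈ P₁, a * y = y * a) : ∀ x ∈ P, a * x = x * a := by
  intro x hx
  set r : G := ⁅x⁻¹, a⁆ with hr
  have hrP₁ : r ∈ P₁ := h1 _ (P.inv_mem hx)
  have hax : a * x * a⁻¹ = x * r := by
    rw [hr, commutatorElement_def]; group
  have har : ∀ n : ℕ, a * r ^ n * a⁻¹ = r ^ n := by
    intro n
    have : a * r ^ n = r ^ n * a := h2 _ (P₁.pow_mem hrP₁ n)
    rw [this]; group
  have hpow : ∀ n : ℕ, a ^ n * x * (a ^ n)⁻¹ = x * r ^ n := by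
    intro n
    induction n with
    | zero => simp
    | succ n ih =>
      calc a ^ (n + 1) * x * (a ^ (n + 1))⁻¹ = a * (a ^ n * x * (a ^ n)⁻¹) * a⁻¹ := by
            rw [pow_succ']; group
        _ = a * (x * r ^ n) * a⁻¹ := by rw [ih]
        _ = (a * x * a⁻¹) * (a * r ^ n * a⁻¹) := by group
        _ = x * r * r ^ n := by rw [hax, har]
        _ = x * r ^ (n + 1) := by rw [pow_succ', mul_assoc]
  have h3 := hpow (orderOf a)
  rw [pow_orderOf_eq_one] at h3
  have h4 : r ^ orderOf a = 1 := by
    have : x = x * r ^ orderOf a := by simpa using h3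
    exact (mul_eq_left.mp this.symm)
  obtain ⟨m, hm⟩ := hP ⟨r, hP₁ hrP₁⟩
  have h5 : r ^ p ^ m = 1 := by
    have := congrArg Subtype.val hm
    simpa using this
  have h6 : orderOf r ∣ orderOf a := orderOf_dvd_of_pow_eq_one h4
  have h7 : orderOf r ∣ p ^ m := orderOf_dvd_of_pow_eq_one h5
  have h8 : orderOf r = 1 := by
    have hc : (orderOf a).Coprime (p ^ m) := ha.pow_right m
    exact Nat.eq_one_of_dvd_coprimes hc h6 h7
  have h9 : r = 1 := orderOf_eq_one_iff.mp h8
  rw [h9, mul_one] at hax
  calc a * x = (a * x * a⁻¹) * a := by group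
    _ = x * a := by rw [hax]

end stability

section nilpotent

variable {G : Type*} [Group G]

/-- Inside a nilpotent subgroup `X`, `N ≤ [N, X]` forces `N = 1`. -/
theorem eq_bot_of_le_commutator_of_nilpotent {N X : Subgroup G} (hX : Group.IsNilpotent X)
    (hNX : N ≤ X) (h : N ≤ ⁅N, X⁆) : N = ⊥ := by
  have key : ∀ i : ℕ, N ≤ X.lowerCentralSeries i := by
    intro i
    induction i with
    | zero => simpa using hNX
    | succ i ih =>
      rw [Subgroup.lowerCentralSeries_succ]
      exact h.trans (Subgroup.commutator_mono ih le_rfl)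
  obtain ⟨n, hn⟩ := (Subgroup.isNilpotent_iff_lowerCentralSeries X).mp hX
  rw [eq_bot_iff, ← hn]
  exact key n

/-- If `P` and `B` are `p`-subgroups of a finite group with `B` normalizing `P` and `P ≤ [P, B]`,
then `P = 1`. -/
theorem eq_bot_of_le_commutator_pgroups [Finite G] {p : ℕ} [Fact p.Prime] {P B : Subgroup G}
    (hP : IsPGroup p P) (hB : IsPGroup p B) (hBP : B ≤ Subgroup.normalizer (P : Set G))
    (h : P ≤ ⁅P, B⁆) : P = ⊥ := by
  have hX : IsPGroup p (P ⊔ B : Subgroup G) := hP.to_sup_of_normal_left' hB hBP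
  have hnil : Group.IsNilpotent (P ⊔ B : Subgroup G) := hX.isNilpotent
  exact eq_bot_of_le_commutator_of_nilpotent hnil le_sup_left
    (h.trans (Subgroup.commutator_mono le_rfl le_sup_right))

end nilpotent

end Cfsg.Agent.Lib.Helper17

namespace Cfsg.Agent.Lib.Helper17

open scoped commutatorElement

section AxB

variable {G : Type*} [Group G] {p : ℕ}

/-- **Thompson's `A × B` lemma**, elementwise internal form: a `p'`-element `a` commuting with the
`p`-group `B`, both normalizing the `p`-group `P`, with `C_P(B) ≤ C_P(a)`, centralizes `P`. -/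
theorem thompson_AxB [Finite G] [Fact p.Prime] {B : Subgroup G} {a : G} (hB : IsPGroup p B)
    (ha : (orderOf a).Coprime p) (hab : ∀ b ∈ B, a * b = b * a) :
    ∀ (n : ℕ) (P : Subgroup G), Nat.card P = n → IsPGroup p P →
      a ∈ Subgroup.normalizer (P : Set G) → B ≤ Subgroup.normalizer (P : Set G) →
      (∀ x ∈ P, (∀ b ∈ B, b * x = x * b) → a * x = x * a) → ∀ x ∈ P, a * x = x * a := by
  intro n
  induction n using Nat.strong_induction_on with
  | _ n ih =>
    intro P hn hP haP hBP hC
    -- P₁ = [P, B]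
    have hP₁le : ⁅P, B⁆ ≤ P := Subgroup.le_normalizer_iff_commutator_le_left.mp hBP
    by_cases hP₁ : P ≤ ⁅P, B⁆
    · have : P = ⊥ := eq_bot_of_le_commutator_pgroups hP hB hBP hP₁
      intro x hx
      rw [this, Subgroup.mem_bot] at hx
      rw [hx, mul_one, one_mul]
    · have hlt : ⁅P, B⁆ < P := lt_of_le_of_ne hP₁le (fun h => hP₁ h.ge)
      have hcard : Nat.card (⁅P, B⁆ : Subgroup G) < n := by
        rw [← hn]
        exact Set.Finite.card_lt_card (Set.toFinite _) (by exact_mod_cast hlt)
      -- a normalizes [P,B]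
      have haP₁ : a ∈ Subgroup.normalizer ((⁅P, B⁆ : Subgroup G) : Set G) := by
        apply Subgroup.mem_normalizer_fintype
        intro y hy
        have hmap : (⁅P, B⁆).map (MulAut.conj a).toMonoidHom ≤ ⁅P, B⁆ := by
          rw [Subgroup.map_commutator]
          apply Subgroup.commutator_mono
          · rintro _ ⟨x, hx, rfl⟩
            rw [Subgroup.mem_normalizer_iff] at haP
            exact (haP x).mp hx
          · rintro _ ⟨b, hb, rfl⟩
            have : a * b * a⁻¹ = b := by rw [hab b hb]; group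
            simpa [this] using hb
        exact hmap ⟨y, hy, rfl⟩
      have hBP₁ : B ≤ Subgroup.normalizer ((⁅P, B⁆ : Subgroup G) : Set G) :=
        Subgroup.normalizer_commutator_ge_right P B
      have h1 : ∀ x ∈ ⁅P, B⁆, a * x = x * a :=
        ih _ hcard (⁅P, B⁆ : Subgroup G) rfl (hP.to_le hP₁le) haP₁ hBP₁ (fun x hx => hC x (hP₁le hx))
      -- three subgroups lemma
      have h3 : ⁅⁅P, B⁆, Subgroup.zpowers a⁆ = ⊥ := by
        rw [Subgroup.commutator_eq_bot_iff_le_centralizer]
        intro x hx
        rw [Subgroup.mem_centralizer_iff]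
        intro z hz
        obtain ⟨k, rfl⟩ := Subgroup.mem_zpowers_iff.mp hz
        exact ((Commute.zpow_left (h1 x hx) k).eq)
      have h4 : ⁅⁅B, Subgroup.zpowers a⁆, P⁆ = ⊥ := by
        have : ⁅B, Subgroup.zpowers a⁆ = ⊥ := by
          rw [Subgroup.commutator_eq_bot_iff_le_centralizer]
          intro b hb
          rw [Subgroup.mem_centralizer_iff]
          intro z hz
          obtain ⟨k, rfl⟩ := Subgroup.mem_zpowers_iff.mp hz
          exact ((Commute.zpow_left (hab b hb) k).eq)
        rw [this, Subgroup.commutator_bot_left]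
      have h5 : ⁅⁅Subgroup.zpowers a, P⁆, B⁆ = ⊥ :=
        Subgroup.commutator_commutator_eq_bot_of_rotate h3 h4
      -- a normalizes P, so [zpowers a, P] ≤ P
      have hzP : Subgroup.zpowers a ≤ Subgroup.normalizer (P : Set G) := by
        rw [Subgroup.zpowers_le]; exact haP
      have hP₂le : ⁅Subgroup.zpowers a, P⁆ ≤ P :=
        Subgroup.le_normalizer_iff_commutator_le_right.mp hzP
      -- a centralizes [zpowers a, P]
      have h6 : ∀ y ∈ ⁅Subgroup.zpowers a, P⁆, a * y = y * a := by
        intro y hy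
        apply hC y (hP₂le hy)
        intro b hb
        rw [Subgroup.commutator_eq_bot_iff_le_centralizer] at h5
        have := h5 hy
        rw [Subgroup.mem_centralizer_iff] at this
        exact this b hb
      apply stability_centralizes hP ha hP₂le _ h6
      intro x hx
      rw [Subgroup.commutator_comm]
      exact Subgroup.commutator_mem_commutator hx (Subgroup.mem_zpowers a)

end AxB

end Cfsg.Agent.Lib.Helper17
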