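import Mathlib
import Cfsg.Prelude.Def_GeometricClasses

set_option autoImplicit false
set_option linter.unusedVariables false

/-! Arithmetic bookkeeping for the hub corollary rows with `n = 8`, `n = 9` (for helper5). -/

namespace Cfsg.Agent.Lib.Helper17.HubCorArith89

open Matrix Cfsg.Geo

/-- `n = n₁ n₂` from a tensor index equivalence -/
theorem n_eq_mul {n n1 n2 : ℕ} (e : Fin n ≃ Fin n1 × Fin n2) : n = n1 * n2 := by
  have h := Fintype.card_congr e
  simpa using h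

/-- `n = m ^ t` from a tensor-power index equivalence -/
theorem n_eq_pow {n m t : ℕ} (e : Fin n ≃ (Fin t → Fin m)) : n = m ^ t := by
  have h := Fintype.card_congr e
  simpa using h

theorem pow_eq_nine {m t : ℕ} (hm : 3 ≤ m) (ht : 2 ≤ t) (h : m ^ t = 9) : m = 3 ∧ t = 2 := by
  have h1 : m ^ 2 ≤ m ^ t := Nat.pow_le_pow_right (by omega) ht
  have hm3 : m ≤ 3 := by
    by_contra hc
    have h4 : 4 ≤ m := by omega
    have : 4 ^ 2 ≤ m ^ 2 := Nat.pow_le_pow_left h4 2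
    omega
  have hm' : m = 3 := by omega
  subst hm'
  refine ⟨rfl, ?_⟩
  have h3 : (3:ℕ) ^ t = 3 ^ 2 := by rw [h]; norm_num
  exact Nat.pow_right_injective (le_refl 2 |>.trans (by norm_num)) h3

theorem pow_ne_eight {m t : ℕ} (hm : 3 ≤ m) (ht : 2 ≤ t) (h : m ^ t = 8) : False := by
  have h1 : m ^ 2 ≤ m ^ t := Nat.pow_le_pow_right (by omega) ht
  have : 3 ^ 2 ≤ m ^ 2 := Nat.pow_le_pow_left hm 2
  omega

theorem mul_eq_eight {n1 n2 : ℕ} (h1 : 2 ≤ n1) (h12 : n1 < n2) (h : n1 * n2 = 8) :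
    n1 = 2 ∧ n2 = 4 := by
  have hle : n1 ≤ 2 := by
    by_contra hc
    have h3 : 3 ≤ n1 := by omega
    have h4 : 4 ≤ n2 := by omega
    nlinarith
  have h2 : n1 = 2 := by omega
  subst h2
  exact ⟨rfl, by omega⟩

theorem mul_ne_nine {n1 n2 : ℕ} (h1 : 2 ≤ n1) (h12 : n1 < n2) (h : n1 * n2 = 9) : False := by
  have hle : n1 ≤ 2 := by
    by_contra hc
    have h3 : 3 ≤ n1 := by omega
    have h4 : 4 ≤ n2 := by omega
    nlinarith
  have h2 : n1 = 2 := by omega
  subst h2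
  omega

theorem tm_eq_nine {t m : ℕ} (h : t * m = 9) (ht : 2 ≤ t) (hm : 0 < m) :
    (t = 9 ∧ m = 1) ∨ (t = 3 ∧ m = 3) := by
  have ht9 : t ≤ 9 := by nlinarith
  interval_cases t <;> omega

theorem tm_eq_eight {t m : ℕ} (h : t * m = 8) (ht : 2 ≤ t) (hm : 0 < m) :
    (t = 8 ∧ m = 1) ∨ (t = 4 ∧ m = 2) ∨ (t = 2 ∧ m = 4) := by
  have ht8 : t ≤ 8 := by nlinarith
  interval_cases t <;> omega

theorem prime_dvd_nine {r : ℕ} (hr : r.Prime) (h : r ∣ 9) : r = 3 :=
  (Nat.prime_dvd_prime_iff_eq hr Nat.prime_three).mp (hr.dvd_of_dvd_pow (show r ∣ 3 ^ 2 from h))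

theorem prime_dvd_eight {r : ℕ} (hr : r.Prime) (h : r ∣ 8) : r = 2 :=
  (Nat.prime_dvd_prime_iff_eq hr Nat.prime_two).mp (hr.dvd_of_dvd_pow (show r ∣ 2 ^ 3 from h))

theorem pow_eq_nine_prime {r k : ℕ} (hr : r.Prime) (h : r ^ k = 9) : r = 3 := by
  have hk : k ≠ 0 := by
    rintro rfl
    simp at h
  exact prime_dvd_nine hr (h ▸ dvd_pow_self r hk)

theorem pow_eq_eight_prime {r k : ℕ} (hr : r.Prime) (h : r ^ k = 8) : r = 2 := by
  have hk : k ≠ 0 := by
    rintro rfl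
    simp at h
  exact prime_dvd_eight hr (h ▸ dvd_pow_self r hk)

theorem nine_eq_pow_prime {r k : ℕ} (hr : r.Prime) (h : 9 = r ^ k) : r = 3 :=
  pow_eq_nine_prime hr h.symm

theorem eight_eq_pow_prime {r k : ℕ} (hr : r.Prime) (h : 8 = r ^ k) : r = 2 :=
  pow_eq_eight_prime hr h.symm

/-- with the exponents: `r ^ k = 9`, `r` prime gives `r = 3 ∧ k = 2` -/
theorem pow_eq_nine_prime' {r k : ℕ} (hr : r.Prime) (h : r ^ k = 9) : r = 3 ∧ k = 2 := by
  have h3 := pow_eq_nine_prime hr h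
  subst h3
  refine ⟨rfl, ?_⟩
  have h3 : (3:ℕ) ^ k = 3 ^ 2 := by rw [h]; norm_num
  exact Nat.pow_right_injective (by norm_num) h3

/-- with the exponents: `r ^ k = 8`, `r` prime gives `r = 2 ∧ k = 3` -/
theorem pow_eq_eight_prime' {r k : ℕ} (hr : r.Prime) (h : r ^ k = 8) : r = 2 ∧ k = 3 := by
  have h2 := pow_eq_eight_prime hr h
  subst h2
  refine ⟨rfl, ?_⟩
  have h3 : (2:ℕ) ^ k = 2 ^ 3 := by rw [h]; norm_num
  exact Nat.pow_right_injective (by norm_num) h3

variable {F : Type*} [Field F] [Fintype F]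

/-- the smallest field with a primitive cube root of unity, of odd degree, is a prime field `F_p`,
`p ≡ 1 mod 3` -/
theorem minfield_three {p e : ℕ} (h : IsMinimalFieldFor 3 p e F) (he : Odd e) :
    Fintype.card F = p ∧ p.Prime ∧ p % 3 = 1 := by
  obtain ⟨hp, hchar, hcard, hdiv, hminimal⟩ := h
  have he0 : e ≠ 0 := by
    rintro rfl
    rw [pow_zero] at hcard
    have : 1 < Fintype.card F := Fintype.one_lt_card
    omega
  have hp3 : p ≠ 3 := by
    rintro rfl
    obtain ⟨k, rfl⟩ := Nat.exists_eq_succ_of_ne_zero he0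
    rw [pow_succ] at hdiv
    have hpos : 1 ≤ 3 ^ k := Nat.one_le_pow _ _ (by norm_num)
    omega
  have he1 : e = 1 := by
    by_contra he1
    rcases he with ⟨k, hk⟩
    have he3 : 2 < e := by omega
    have hmod : p % 3 = 1 ∨ p % 3 = 2 := by
      have h0 : p % 3 ≠ 0 := by
        intro h0
        have : 3 ∣ p := Nat.dvd_of_mod_eq_zero h0
        exact hp3 ((Nat.prime_dvd_prime_iff_eq Nat.prime_three hp).mp this).symm
      omega
    have h3 : 3 ∣ p ^ 2 - 1 := by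
      have hsq : p ^ 2 % 3 = 1 := by
        rcases hmod with h | h <;> simp [Nat.pow_mod, h]
      have hge : 1 ≤ p ^ 2 := Nat.one_le_pow _ _ hp.pos
      omega
    exact hminimal 2 (by norm_num) he3 h3
  subst he1
  rw [pow_one] at hcard hdiv
  refine ⟨hcard, hp, ?_⟩
  have hge : 2 ≤ p := hp.two_le
  omega

/-- the prime field with a primitive fourth root of unity has `p ≡ 1 mod 4` -/
theorem minfield_four {p : ℕ} (h : IsMinimalFieldFor 4 p 1 F) :
    Fintype.card F = p ∧ p.Prime ∧ p % 4 = 1 := by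
  obtain ⟨hp, hchar, hcard, hdiv, hminimal⟩ := h
  rw [pow_one] at hcard hdiv
  refine ⟨hcard, hp, ?_⟩
  have hge : 2 ≤ p := hp.two_le
  omega

/-- general index type: symplectic-type data with `r = 3` force `q = p ≡ 1 mod 3` -/
theorem symp_three_general {ι : Type} [Fintype ι] [DecidableEq ι] (R : Subgroup (GL ι F))
    (hR : IsLinearSymplecticTypeData 3 R) :
    ∃ p : ℕ, p.Prime ∧ Fintype.card F = p ∧ p % 3 = 1 := by
  obtain ⟨p, e, hrp, hmin, halt⟩ := hR.field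
  rcases halt with ⟨hodd, hodde, hZ, -⟩ | ⟨h2, -⟩ | ⟨h2, -⟩
  · rw [hZ] at hmin
    obtain ⟨h1, h2, h3⟩ := minfield_three hmin hodde
    exact ⟨p, h2, h1, h3⟩
  · omega
  · omega

/-- general index type with `|ι| ≠ 2`: symplectic-type data with `r = 2` force `q = p ≡ 1 mod 4` -/
theorem symp_two_general {ι : Type} [Fintype ι] [DecidableEq ι] (hι : Fintype.card ι ≠ 2)
    (R : Subgroup (GL ι F)) (hR : IsLinearSymplecticTypeData 2 R) :
    ∃ p : ℕ, p.Prime ∧ Fintype.card F = p ∧ p % 4 = 1 := by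
  obtain ⟨p, e, hrp, hmin, halt⟩ := hR.field
  rcases halt with ⟨hodd, -⟩ | ⟨-, he, hZ, -⟩ | ⟨-, -, hc, -⟩
  · exact absurd hodd (by decide)
  · subst he
    rw [hZ] at hmin
    obtain ⟨h1, h2, h3⟩ := minfield_four hmin
    exact ⟨p, h2, h1, h3⟩
  · exact absurd hc hι

/-- the full C6 clause for `n = 9` -/
theorem symp_nine (R : Subgroup (GL (Fin 9) F)) (hR : IsLinearSymplecticTypeData 3 R) :
    ∃ p : ℕ, p.Prime ∧ Fintype.card F = p ∧ p % 3 = 1 :=
  symp_three_general R hR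

/-- the full C6 clause for `n = 8` -/
theorem symp_eight (R : Subgroup (GL (Fin 8) F)) (hR : IsLinearSymplecticTypeData 2 R) :
    ∃ p : ℕ, p.Prime ∧ Fintype.card F = p ∧ p % 4 = 1 :=
  symp_two_general (by simp) R hR

end Cfsg.Agent.Lib.Helper17.HubCorArith89
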