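import Mathlib
import Cfsg.Prelude.Def_GeometricClasses

set_option autoImplicit false
set_option linter.unusedVariables false

/-! S5775 / hub corollaries, piece PR-SIM (P1): `SL_n` (n ≥ 3) lies in no similarity group of a
non-degenerate form that is additive in its second argument. -/

namespace Cfsg.Agent.Lib.Helper17.S5775PRSIM

open Matrix Cfsg.Geo

variable {F : Type*} [Field F] {n : ℕ}

/-- the transvection matrix `x ↦ x + φ(x) a` -/
def T (a φ : Fin n → F) : Matrix (Fin n) (Fin n) F := 1 + vecMulVec a φ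

theorem T_mulVec (a φ x : Fin n → F) : T a φ *ᵥ x = x + (φ ⬝ᵥ x) • a := by
  rw [T, add_mulVec, one_mulVec, vecMulVec_mulVec]
  congr 1
  ext i
  simp [mul_comm]

theorem T_det (a φ : Fin n → F) (h : φ ⬝ᵥ a = 0) : (T a φ).det = 1 := by
  rw [T, Matrix.vecMulVec_eq Unit, Matrix.det_one_add_replicateCol_mul_replicateRow, h, add_zero]

theorem T_mul_T_neg (a φ : Fin n → F) (h : φ ⬝ᵥ a = 0) : T a φ * T a (-φ) = 1 := by
  rw [T, T, mul_add, add_mul, add_mul, one_mul, mul_one, one_mul, vecMulVec_mul_vecMulVec, h,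
    zero_smul]
  ext i j
  simp [vecMulVec_apply]

/-- the transvection as an element of `GL` -/
def tGL (a φ : Fin n → F) (h : φ ⬝ᵥ a = 0) : GL (Fin n) F :=
  ⟨T a φ, T a (-φ), T_mul_T_neg a φ h, by
    have := T_mul_T_neg a (-φ) (by rw [neg_dotProduct, h, neg_zero])
    rwa [neg_neg] at this⟩

theorem tGL_val (a φ : Fin n → F) (h : φ ⬝ᵥ a = 0) :
    ((tGL a φ h : GL (Fin n) F) : Matrix (Fin n) (Fin n) F) = T a φ := rfl

theorem tGL_mem_SL (a φ : Fin n → F) (h : φ ⬝ᵥ a = 0) :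
    tGL a φ h ∈ specialLinear (Fin n) F := by
  change Matrix.GeneralLinearGroup.det (tGL a φ h) = 1
  rw [Units.ext_iff, Matrix.GeneralLinearGroup.val_det_apply, Units.val_one, tGL_val, T_det a φ h]

theorem T_pow (a φ : Fin n → F) (h : φ ⬝ᵥ a = 0) (k : ℕ) :
    T a φ ^ k = 1 + (k : F) • vecMulVec a φ := by
  have hN : vecMulVec a φ * vecMulVec a φ = 0 := by
    rw [vecMulVec_mul_vecMulVec, h, zero_smul]
    ext i j
    simp [vecMulVec_apply]
  induction k with
  | zero => simp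
  | succ k ih =>
    rw [pow_succ, ih]
    unfold T
    simp only [add_mul, mul_add, one_mul, mul_one, smul_mul_assoc, hN, smul_zero, add_zero,
      Nat.cast_succ, add_smul, one_smul]
    abel

theorem T_pow_card [Fintype F] (a φ : Fin n → F) (h : φ ⬝ᵥ a = 0) :
    T a φ ^ Fintype.card F = 1 := by
  rw [T_pow a φ h, Nat.cast_card_eq_zero F, zero_smul, add_zero]

theorem form_pow (f : (Fin n → F) → (Fin n → F) → F) (A : Matrix (Fin n) (Fin n) F) (c : F)
    (hc : ∀ u v, f (A *ᵥ u) (A *ᵥ v) = c * f u v) (k : ℕ) :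
    ∀ u v, f ((A ^ k) *ᵥ u) ((A ^ k) *ᵥ v) = c ^ k * f u v := by
  induction k with
  | zero => intro u v; simp
  | succ k ih =>
    intro u v
    rw [pow_succ', ← Matrix.mulVec_mulVec, ← Matrix.mulVec_mulVec, hc, ih, pow_succ', mul_assoc]

theorem exists_phi (hn : 3 ≤ n) (x a : Fin n → F) :
    ∃ φ : Fin n → F, φ ≠ 0 ∧ φ ⬝ᵥ x = 0 ∧ φ ⬝ᵥ a = 0 := by
  set M : Matrix (Fin 2) (Fin n) F := Matrix.of ![x, a] with hM
  have hker : LinearMap.ker M.mulVecLin ≠ ⊥ := by
    apply LinearMap.ker_ne_bot_of_finrank_lt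
    rw [Module.finrank_fin_fun, Module.finrank_fin_fun]
    omega
  obtain ⟨φ, hφ, hφ0⟩ := (Submodule.ne_bot_iff _).mp hker
  rw [LinearMap.mem_ker, Matrix.mulVecLin_apply] at hφ
  refine ⟨φ, hφ0, ?_, ?_⟩
  · have h0 : x ⬝ᵥ φ = 0 := congr_fun hφ 0
    rw [dotProduct_comm]
    exact h0
  · have h1 : a ⬝ᵥ φ = 0 := congr_fun hφ 1
    rw [dotProduct_comm]
    exact h1

theorem exists_dual_one {φ : Fin n → F} (hφ : φ ≠ 0) : ∃ y : Fin n → F, φ ⬝ᵥ y = 1 := by
  obtain ⟨i, hi⟩ := Function.ne_iff.mp hφ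
  refine ⟨Pi.single i (φ i)⁻¹, ?_⟩
  rw [dotProduct_single]
  exact mul_inv_cancel₀ hi

variable [Fintype F]

/-- **PR-SIM / (P1)** -/
theorem not_sl_le_similarity (hn : 3 ≤ n) (f : (Fin n → F) → (Fin n → F) → F)
    (hadd : ∀ v x y, f v (x + y) = f v x + f v y) (hnd : IsNondegenerateForm f) :
    ¬ specialLinear (Fin n) F ≤ similarityGroup f := by
  intro hle
  have hn0 : 0 < n := by omega
  have he : (Pi.single (⟨0, hn0⟩ : Fin n) (1 : F) : Fin n → F) ≠ 0 := by
    intro h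
    have := congr_fun h ⟨0, hn0⟩
    simp at this
  obtain ⟨⟨x₀, hx₀⟩, -⟩ := hnd _ he
  have key : ∀ x a : Fin n → F, f x a = 0 := by
    intro x a
    obtain ⟨φ, hφ0, hφx, hφa⟩ := exists_phi hn x a
    obtain ⟨y, hy⟩ := exists_dual_one hφ0
    obtain ⟨c, hc⟩ := hle (tGL_mem_SL a φ hφa)
    have hc' : ∀ u v, f (T a φ *ᵥ u) (T a φ *ᵥ v) = (c : F) * f u v := hc
    have hpow := form_pow f (T a φ) c hc' (Fintype.card F)
    rw [T_pow_card a φ hφa] at hpow
    have h1 := hpow x₀ (Pi.single (⟨0, hn0⟩ : Fin n) (1 : F))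
    rw [Matrix.one_mulVec, Matrix.one_mulVec, FiniteField.pow_card] at h1
    have hc1 : (c : F) = 1 := by
      have h0 : ((c : F) - 1) * f x₀ (Pi.single (⟨0, hn0⟩ : Fin n) (1 : F)) = 0 := by
        rw [sub_mul, one_mul, ← h1, sub_self]
      rcases mul_eq_zero.mp h0 with h | h
      · exact sub_eq_zero.mp h
      · exact absurd h hx₀
    have h2 := hc' x y
    rw [hc1, one_mul, T_mulVec, T_mulVec, hφx, zero_smul, add_zero, hy, one_smul, hadd] at h2
    simpa using h2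
  exact hx₀ (key _ _)

/-- (G-b6) -/
theorem not_sl_le_similarityGroup_symplectic (hn : 3 ≤ n)
    (f : (Fin n → F) → (Fin n → F) → F) (hf : IsSymplecticForm f) :
    ¬ specialLinear (Fin n) F ≤ similarityGroup f :=
  not_sl_le_similarity hn f hf.bilinear.add_right hf.nondegenerate

/-- (G-b7) -/
theorem not_sl_le_similarityGroup_unitary (hn : 3 ≤ n) (σ : F ≃+* F)
    (f : (Fin n → F) → (Fin n → F) → F) (hf : IsUnitaryForm σ f) :
    ¬ specialLinear (Fin n) F ≤ similarityGroup f := by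
  apply not_sl_le_similarity hn f _ hf.nondegenerate
  intro v x y
  rw [hf.herm v (x + y), hf.add_left, map_add, ← hf.herm, ← hf.herm]

omit [Fintype F] in
theorem quadSimilarityGroup_le (Q : (Fin n → F) → F) :
    quadSimilarityGroup Q ≤ similarityGroup (QuadraticMap.polar Q) := by
  rintro g ⟨c, hc⟩
  refine ⟨c, fun u v => ?_⟩
  unfold QuadraticMap.polar
  rw [← Matrix.mulVec_add, hc, hc, hc]
  ring

/-- (G-b8) / PR-QSIM -/
theorem not_sl_le_quadSimilarityGroup (hn : 3 ≤ n)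
    (Q : (Fin n → F) → F) (hQ : IsNondegenerateQuadraticForm Q) :
    ¬ specialLinear (Fin n) F ≤ quadSimilarityGroup Q := fun h =>
  not_sl_le_similarity hn _ hQ.polar_bilinear.add_right hQ.nondegenerate
    (h.trans (quadSimilarityGroup_le Q))

end Cfsg.Agent.Lib.Helper17.S5775PRSIM
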