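import Mathlib

set_option autoImplicit false

namespace Cfsg.Agent.Lib.Helper17

open Subgroup MonoidHom MulAction
open scoped Pointwise

section TransferGen

variable {G : Type*} [Group G] {H : Subgroup G} {A : Type*} [CommGroup A] (ϕ : H →* A)

theorem section_mem {f : G ⧸ H → G} (hf : ∀ q, (f q : G ⧸ H) = q) (g : G) (q : G ⧸ H) :
    (f (g • q))⁻¹ * (g * f q) ∈ H := by
  rw [← QuotientGroup.eq, hf, ← smul_eq_mul, ← MulAction.Quotient.smul_mk, hf]

/-- The transfer computed through an arbitrary section of `G → G ⧸ H`. -/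
theorem transfer_eq_prod_section [H.FiniteIndex] [inst : Fintype (G ⧸ H)] (f : G ⧸ H → G)
    (hf : ∀ q, (f q : G ⧸ H) = q) (g : G) :
    transfer ϕ g = ∏ q : G ⧸ H, ϕ ⟨(f (g • q))⁻¹ * (g * f q), section_mem hf g q⟩ := by
  classical
  let T : H.LeftTransversal := ⟨Set.range f, isComplement_range_left hf⟩
  have h1 : ∀ q, ((T.2.leftQuotientEquiv q : G)) = f q := fun q =>
    IsComplement.leftQuotientEquiv_apply hf q
  have h2 : ∀ q, (((g • T).2.leftQuotientEquiv q : G)) = g * f (g⁻¹ • q) := by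
    intro q
    rw [smul_apply_eq_smul_apply_inv_smul, smul_eq_mul, h1]
  rw [transfer_def ϕ T g]
  unfold Subgroup.leftTransversals.diff
  refine (@Fintype.prod_equiv _ _ _ inst H.fintypeQuotientOfFiniteIndex _
    (MulAction.toPerm g) _ _ ?_).symm
  intro q
  apply congrArg ϕ
  apply Subtype.ext
  simp only [MulAction.toPerm_apply]
  rw [h1, h2, inv_smul_smul]

/-- The transfer computed through an enumerated left transversal. -/
theorem transfer_eq_prod_of_enum [H.FiniteIndex] {ι : Type*} [Fintype ι] (t : ι → G)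
    (ht : Function.Bijective (fun i => (t i : G ⧸ H))) (g : G) (s : ι → ι) (h : ι → H)
    (hs : ∀ i, g * t i = t (s i) * h i) : transfer ϕ g = ∏ i, ϕ (h i) := by
  classical
  let e : ι ≃ G ⧸ H := Equiv.ofBijective _ ht
  let inst : Fintype (G ⧸ H) := Fintype.ofEquiv ι e
  let f : G ⧸ H → G := fun q => t (e.symm q)
  have hf : ∀ q, (f q : G ⧸ H) = q := fun q => e.apply_symm_apply q
  rw [@transfer_eq_prod_section _ _ _ _ _ ϕ _ inst f hf g, ← e.prod_comp]
  apply Fintype.prod_congr
  intro i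
  apply congrArg ϕ
  apply Subtype.ext
  have h1 : f (e i) = t i := by simp [f]
  have h2 : g • e i = e (s i) := by
    change g • ((t i : G) : G ⧸ H) = ((t (s i) : G) : G ⧸ H)
    rw [MulAction.Quotient.smul_mk, smul_eq_mul, hs i]
    exact QuotientGroup.mk_mul_of_mem _ (h i).2
  have h3 : f (g • e i) = t (s i) := by rw [h2]; simp [f]
  show (f (g • e i))⁻¹ * (g * f (e i)) = (h i : G)
  rw [h3, h1, hs i, inv_mul_cancel_left]

theorem transfer_of_eq_top [H.FiniteIndex] (hH : H = ⊤) (g : G) :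
    transfer ϕ g = ϕ ⟨g, hH ▸ mem_top g⟩ := by
  classical
  have hb : Function.Bijective (fun _ : Unit => ((1 : G) : G ⧸ H)) := by
    constructor
    · intro a b _; rfl
    · intro q
      induction q using QuotientGroup.induction_on with
      | H x =>
        refine ⟨(), ?_⟩
        rw [QuotientGroup.eq, hH]
        exact mem_top _
  have := transfer_eq_prod_of_enum ϕ (ι := Unit) (fun _ => (1:G)) hb g (fun _ => ())
    (fun _ => ⟨g, hH ▸ mem_top g⟩) (by intro _; simp)
  simpa using this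

/-- Transfer commutes with post-composition. -/
theorem transfer_comp_hom [H.FiniteIndex] {B : Type*} [CommGroup B] (f : A →* B) (g : G) :
    transfer (f.comp ϕ) g = f (transfer ϕ g) := by
  classical
  let _ : Fintype (G ⧸ H) := H.fintypeQuotientOfFiniteIndex
  rw [transfer_eq_prod_section (f.comp ϕ) Quotient.out (fun q => QuotientGroup.out_eq' q) g,
    transfer_eq_prod_section ϕ Quotient.out (fun q => QuotientGroup.out_eq' q) g, map_prod]
  rfl

/-- Transfer is invariant under conjugation of its argument. -/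
theorem transfer_conj [H.FiniteIndex] (g b : G) :
    transfer ϕ (b⁻¹ * g * b) = transfer ϕ g := by
  rw [map_mul, map_mul, map_inv, mul_comm, ← mul_assoc, mul_inv_cancel, one_mul]

/-- Transitivity of the transfer. -/
theorem transfer_trans {L : Subgroup G} (hHL : H ≤ L) [H.FiniteIndex] [L.FiniteIndex]
    [(H.subgroupOf L).FiniteIndex] (g : G) :
    transfer ϕ g =
      transfer (transfer (ϕ.comp (subgroupOfEquivOfLe hHL).toMonoidHom)) g := by
  classical
  let _ : Fintype (G ⧸ L) := L.fintypeQuotientOfFiniteIndex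
  let _ : Fintype (L ⧸ H.subgroupOf L) := (H.subgroupOf L).fintypeQuotientOfFiniteIndex
  let o1 : G ⧸ L → G := Quotient.out
  let o2 : L ⧸ H.subgroupOf L → L := Quotient.out
  have ho1 : ∀ q, (o1 q : G ⧸ L) = q := fun q => QuotientGroup.out_eq' q
  have ho2 : ∀ r, (o2 r : L ⧸ H.subgroupOf L) = r := fun r => QuotientGroup.out_eq' r
  let l : G ⧸ L → L := fun q => ⟨(o1 (g • q))⁻¹ * (g * o1 q), section_mem ho1 g q⟩
  let hh : (G ⧸ L) × (L ⧸ H.subgroupOf L) → H := fun i =>
    ⟨(((o2 (l i.1 • i.2))⁻¹ * (l i.1 * o2 i.2) : L) : G),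
      mem_subgroupOf.mp (section_mem ho2 (l i.1) i.2)⟩
  have hbij : Function.Bijective
      (fun i : (G ⧸ L) × (L ⧸ H.subgroupOf L) => ((o1 i.1 * (o2 i.2 : G) : G) : G ⧸ H)) := by
    constructor
    · rintro ⟨q, r⟩ ⟨q', r'⟩ h
      simp only at h
      rw [QuotientGroup.eq] at h
      have h1 : (o1 q)⁻¹ * o1 q' ∈ L := by
        have e : (o1 q)⁻¹ * o1 q' =
            (o2 r : G) * ((o1 q * (o2 r : G))⁻¹ * (o1 q' * (o2 r' : G))) * (o2 r' : G)⁻¹ := by
          group
        rw [e]
        exact L.mul_mem (L.mul_mem (o2 r).2 (hHL h)) (L.inv_mem (o2 r').2)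
      have hq : q = q' := by
        calc q = ((o1 q : G) : G ⧸ L) := (ho1 q).symm
          _ = ((o1 q' : G) : G ⧸ L) := QuotientGroup.eq.mpr h1
          _ = q' := ho1 q'
      subst hq
      have h2 : (o2 r)⁻¹ * o2 r' ∈ H.subgroupOf L := by
        rw [mem_subgroupOf]
        have e : (((o2 r)⁻¹ * o2 r' : L) : G) =
            (o1 q * (o2 r : G))⁻¹ * (o1 q * (o2 r' : G)) := by
          simp only [Subgroup.coe_mul, Subgroup.coe_inv]
          group
        rw [e]; exact h
      have hr : r = r' := by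
        calc r = ((o2 r : L) : L ⧸ H.subgroupOf L) := (ho2 r).symm
          _ = ((o2 r' : L) : L ⧸ H.subgroupOf L) := QuotientGroup.eq.mpr h2
          _ = r' := ho2 r'
      rw [hr]
    · intro x
      induction x using QuotientGroup.induction_on with
      | H g' =>
        let q : G ⧸ L := (g' : G ⧸ L)
        have hq : (o1 q)⁻¹ * g' ∈ L := QuotientGroup.eq.mp (ho1 q)
        let l' : L := ⟨(o1 q)⁻¹ * g', hq⟩
        let r : L ⧸ H.subgroupOf L := (l' : L ⧸ H.subgroupOf L)
        have hr : (o2 r)⁻¹ * l' ∈ H.subgroupOf L := QuotientGroup.eq.mp (ho2 r)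
        refine ⟨(q, r), ?_⟩
        show ((o1 q * (o2 r : G) : G) : G ⧸ H) = (g' : G ⧸ H)
        rw [QuotientGroup.eq]
        have e : (o1 q * (o2 r : G))⁻¹ * g' = (((o2 r)⁻¹ * l' : L) : G) := by
          simp only [Subgroup.coe_mul, Subgroup.coe_inv]
          show _ = ((o2 r : G))⁻¹ * ((o1 q)⁻¹ * g')
          group
        rw [e]
        exact mem_subgroupOf.mp hr
  have hs : ∀ i : (G ⧸ L) × (L ⧸ H.subgroupOf L),
      g * (o1 i.1 * (o2 i.2 : G)) =
        (o1 (g • i.1) * ((o2 (l i.1 • i.2) : L) : G)) * (hh i : G) := by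
    intro i
    show g * (o1 i.1 * (o2 i.2 : G)) = (o1 (g • i.1) * ((o2 (l i.1 • i.2) : L) : G)) *
      (((o2 (l i.1 • i.2))⁻¹ * (l i.1 * o2 i.2) : L) : G)
    simp only [Subgroup.coe_mul, Subgroup.coe_inv]
    have hl : ((l i.1 : L) : G) = (o1 (g • i.1))⁻¹ * (g * o1 i.1) := rfl
    rw [hl]
    group
  rw [transfer_eq_prod_of_enum ϕ
    (fun i : (G ⧸ L) × (L ⧸ H.subgroupOf L) => o1 i.1 * (o2 i.2 : G)) hbij g
    (fun i => (g • i.1, l i.1 • i.2)) hh hs]
  rw [transfer_eq_prod_section (transfer (ϕ.comp (subgroupOfEquivOfLe hHL).toMonoidHom)) o1 ho1 g]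
  rw [Fintype.prod_prod_type]
  apply Fintype.prod_congr
  intro q
  show _ = transfer (ϕ.comp (subgroupOfEquivOfLe hHL).toMonoidHom) (l q)
  rw [transfer_eq_prod_section (ϕ.comp (subgroupOfEquivOfLe hHL).toMonoidHom) o2 ho2 (l q)]
  rfl

end TransferGen

section Mackey

variable {G : Type*} [Group G] {H : Subgroup G} {A : Type*} [CommGroup A] (ϕ : H →* A)

theorem subgroup_smul_mk (K : Subgroup G) (j : K) (a : G) :
    j • ((a : G) : G ⧸ H) = (((j : G) * a : G) : G ⧸ H) := rfl

theorem stab_mem (K : Subgroup G) (a : G) (j : stabilizer K ((a : G) : G ⧸ H)) :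
    a⁻¹ * (((j : K) : G) * a) ∈ H := by
  have h := j.2
  rw [mem_stabilizer_iff, subgroup_smul_mk] at h
  exact QuotientGroup.eq.mp h.symm

theorem mem_stabilizer_mk_iff (K : Subgroup G) (a : G) (j : K) :
    j ∈ stabilizer K ((a : G) : G ⧸ H) ↔ a⁻¹ * ((j : G) * a) ∈ H := by
  rw [mem_stabilizer_iff, subgroup_smul_mk]
  constructor
  · intro h; exact QuotientGroup.eq.mp h.symm
  · intro h; exact (QuotientGroup.eq.mpr h).symm

/-- The conjugation-twisted restriction of `ϕ : H →* A` to the stabilizer in `K` of the coset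
`aH`: `j ↦ ϕ (a⁻¹ j a)`. -/
def stabHom (K : Subgroup G) (a : G) : stabilizer K ((a : G) : G ⧸ H) →* A where
  toFun j := ϕ ⟨a⁻¹ * (((j : K) : G) * a), stab_mem K a j⟩
  map_one' := by
    rw [← map_one ϕ]
    apply congrArg ϕ
    apply Subtype.ext
    simp
  map_mul' j j' := by
    rw [← map_mul]
    apply congrArg ϕ
    apply Subtype.ext
    simp only [Subgroup.coe_mul]
    group

theorem stabHom_apply (K : Subgroup G) (a : G) (j : stabilizer K ((a : G) : G ⧸ H)) :
    stabHom ϕ K a j = ϕ ⟨a⁻¹ * (((j : K) : G) * a), stab_mem K a j⟩ := rfl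

instance stabilizer_finiteIndex [H.FiniteIndex] (K : Subgroup G) (c : G ⧸ H) :
    (stabilizer K c).FiniteIndex := by
  have : Finite (G ⧸ H) := Subgroup.finite_quotient_of_finiteIndex
  have : Finite (K ⧸ stabilizer K c) :=
    Finite.of_equiv _ (orbitEquivQuotientStabilizer K c)
  exact Subgroup.finiteIndex_of_finite_quotient

/-- **Mackey decomposition of the transfer**: the restriction to `K` of the transfer `G → A` of
`ϕ : H →* A` is the product over the `K`-orbits on `G ⧸ H` of the transfers `K → A` of the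
twisted restrictions of `ϕ` to the point stabilizers. -/
theorem transfer_mackey [H.FiniteIndex] (K : Subgroup G)
    [Fintype (orbitRel.Quotient K (G ⧸ H))] (k : K) :
    transfer ϕ (k : G) = ∏ ω : orbitRel.Quotient K (G ⧸ H),
      transfer (stabHom ϕ K (Quotient.out (Quotient.out ω))) k := by
  classical
  let a : orbitRel.Quotient K (G ⧸ H) → G := fun ω => Quotient.out (Quotient.out ω)
  have ha : ∀ ω, ((a ω : G) : G ⧸ H) = Quotient.out ω := fun ω => QuotientGroup.out_eq' _
  let _ : ∀ ω, Fintype (K ⧸ stabilizer K ((a ω : G) : G ⧸ H)) := fun ω =>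
    (stabilizer K ((a ω : G) : G ⧸ H)).fintypeQuotientOfFiniteIndex
  let ι := Σ ω : orbitRel.Quotient K (G ⧸ H), K ⧸ stabilizer K ((a ω : G) : G ⧸ H)
  let o : ∀ ω, K ⧸ stabilizer K ((a ω : G) : G ⧸ H) → K := fun ω r => Quotient.out r
  have ho : ∀ ω r, ((o ω r : K) : K ⧸ stabilizer K ((a ω : G) : G ⧸ H)) = r :=
    fun ω r => QuotientGroup.out_eq' r
  let t : ι → G := fun i => ((o i.1 i.2 : K) : G) * a i.1
  have ht_mk : ∀ i : ι,
      ((t i : G) : G ⧸ H) = ofQuotientStabilizer K ((a i.1 : G) : G ⧸ H) i.2 := by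
    intro i
    have e : ofQuotientStabilizer K ((a i.1 : G) : G ⧸ H) i.2 =
        ofQuotientStabilizer K ((a i.1 : G) : G ⧸ H) ((o i.1 i.2 : K) : K ⧸ _) := by
      rw [ho]
    rw [e, ofQuotientStabilizer_mk, subgroup_smul_mk]
  have hω : ∀ (ω : orbitRel.Quotient K (G ⧸ H)) (r : K ⧸ stabilizer K ((a ω : G) : G ⧸ H)),
      (Quotient.mk'' (ofQuotientStabilizer K ((a ω : G) : G ⧸ H) r) :
        orbitRel.Quotient K (G ⧸ H)) = ω := by
    intro ω r
    have h1 : ofQuotientStabilizer K ((a ω : G) : G ⧸ H) r ∈ orbit K (Quotient.out ω) := by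
      have h := ofQuotientStabilizer_mem_orbit K ((a ω : G) : G ⧸ H) r
      have e : orbit K ((a ω : G) : G ⧸ H) = orbit K (Quotient.out ω) := by rw [ha ω]
      rw [← e]; exact h
    calc (Quotient.mk'' (ofQuotientStabilizer K ((a ω : G) : G ⧸ H) r) :
          orbitRel.Quotient K (G ⧸ H))
        = Quotient.mk'' (Quotient.out ω) := Quotient.sound' ((orbitRel_apply).mpr h1)
      _ = ω := Quotient.out_eq' ω
  have hbij : Function.Bijective (fun i : ι => ((t i : G) : G ⧸ H)) := by
    constructor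
    · rintro ⟨ω, r⟩ ⟨ω', r'⟩ h
      simp only at h
      rw [ht_mk, ht_mk] at h
      have e : ω = ω' := (hω ω r).symm.trans ((congrArg _ h).trans (hω ω' r'))
      subst e
      have h5 : r = r' := injective_ofQuotientStabilizer K _ h
      rw [h5]
    · intro c
      let ω : orbitRel.Quotient K (G ⧸ H) := Quotient.mk'' c
      have h1 : c ∈ orbit K (Quotient.out ω) := by
        have h2 : (Quotient.mk'' (Quotient.out ω) : orbitRel.Quotient K (G ⧸ H))
            = Quotient.mk'' c := Quotient.out_eq' ω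
        have h3 := Quotient.exact' h2
        have h4 : Quotient.out ω ∈ orbit K c := (orbitRel_apply).mp h3
        exact (orbit_eq_iff.mpr h4) ▸ mem_orbit_self c
      obtain ⟨j, hj⟩ := h1
      refine ⟨⟨ω, (j : K ⧸ _)⟩, ?_⟩
      show ((t ⟨ω, (j : K ⧸ _)⟩ : G) : G ⧸ H) = c
      rw [ht_mk, ofQuotientStabilizer_mk, ha ω]
      exact hj
  let jj : ∀ i : ι, stabilizer K ((a i.1 : G) : G ⧸ H) := fun i =>
    ⟨(o i.1 (k • i.2))⁻¹ * (k * o i.1 i.2), section_mem (ho i.1) k i.2⟩
  have hs : ∀ i : ι, (k : G) * t i = t ⟨i.1, k • i.2⟩ *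
      ((a i.1)⁻¹ * ((((jj i : stabilizer K ((a i.1 : G) : G ⧸ H)) : K) : G) * a i.1)) := by
    intro i
    show (k : G) * (((o i.1 i.2 : K) : G) * a i.1) = (((o i.1 (k • i.2) : K) : G) * a i.1) *
      ((a i.1)⁻¹ * ((((o i.1 (k • i.2))⁻¹ * (k * o i.1 i.2) : K) : G) * a i.1))
    simp only [Subgroup.coe_mul, Subgroup.coe_inv]
    group
  rw [transfer_eq_prod_of_enum ϕ t hbij (k : G) (fun i => ⟨i.1, k • i.2⟩)
    (fun i => ⟨(a i.1)⁻¹ * ((((jj i : stabilizer K ((a i.1 : G) : G ⧸ H)) : K) : G) * a i.1),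
      stab_mem K (a i.1) (jj i)⟩) hs]
  rw [Fintype.prod_sigma]
  apply Fintype.prod_congr
  intro ω
  show _ = transfer (stabHom ϕ K (a ω)) k
  rw [transfer_eq_prod_section (stabHom ϕ K (a ω)) (o ω) (ho ω) k]
  rfl

end Mackey

section IndexPrime

variable {G : Type*} [Group G] {A : Type*} [CommGroup A]

/-- Powers of an element outside a normal subgroup of prime index form a transversal. -/
theorem pow_bijective_of_index_prime {p : ℕ} [hp : Fact p.Prime] {M : Subgroup G} [M.Normal]
    (hM : M.index = p) {z : G} (hz : z ∉ M) :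
    Function.Bijective (fun i : Fin p => ((z ^ (i : ℕ) : G) : G ⧸ M)) := by
  have hcard : Nat.card (G ⧸ M) = p := by rw [← Subgroup.index_eq_card, hM]
  have : Finite (G ⧸ M) := Nat.finite_of_card_ne_zero (by rw [hcard]; exact hp.out.ne_zero)
  have hq1 : ((z : G) : G ⧸ M) ≠ 1 := fun h => hz ((QuotientGroup.eq_one_iff z).mp h)
  have hord : orderOf ((z : G) : G ⧸ M) = p := by
    have h1 : orderOf ((z : G) : G ⧸ M) ∣ p := hcard ▸ orderOf_dvd_natCard _
    rcases (Nat.dvd_prime hp.out).mp h1 with h | h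
    · exact absurd (orderOf_eq_one_iff.mp h) hq1
    · exact h
  have hinj : Function.Injective (fun i : Fin p => ((z ^ (i : ℕ) : G) : G ⧸ M)) := by
    intro i j hij
    simp only [QuotientGroup.mk_pow] at hij
    apply Fin.ext
    exact pow_injOn_Iio_orderOf (by rw [Set.mem_Iio, hord]; exact i.2)
      (by rw [Set.mem_Iio, hord]; exact j.2) hij
  exact hinj.bijective_of_nat_card_le (by rw [hcard, Nat.card_fin])

/-- Conjugation by `z⁻¹` on a normal subgroup. -/
def conjInv (M : Subgroup G) [hM : M.Normal] (z : G) : M →* M where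
  toFun m := ⟨z⁻¹ * m * z, by simpa using hM.conj_mem m m.2 z⁻¹⟩
  map_one' := by apply Subtype.ext; simp
  map_mul' a b := by apply Subtype.ext; simp only [Subgroup.coe_mul]; group

theorem conjInv_apply_coe (M : Subgroup G) [M.Normal] (z : G) (m : M) :
    ((conjInv M z m : M) : G) = z⁻¹ * m * z := rfl

theorem conjInv_iterate_coe (M : Subgroup G) [M.Normal] (z : G) (m : M) (i : ℕ) :
    (((conjInv M z)^[i] m : M) : G) = (z ^ i)⁻¹ * m * z ^ i := by
  induction i with
  | zero => simp
  | succ i ih =>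
    rw [Function.iterate_succ_apply', conjInv_apply_coe, ih, pow_succ]
    group

/-- Transfer into a normal subgroup of prime index, evaluated on an element of the subgroup. -/
theorem transfer_eq_prod_conj_of_index_prime {p : ℕ} [Fact p.Prime] {M : Subgroup G} [M.Normal]
    [M.FiniteIndex] (hM : M.index = p) (ψ : M →* A) {z : G} (hz : z ∉ M) (m : M) :
    transfer ψ (m : G) = ∏ i ∈ Finset.range p, ψ ((conjInv M z)^[i] m) := by
  rw [transfer_eq_prod_of_enum ψ (fun i : Fin p => z ^ (i : ℕ))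
    (pow_bijective_of_index_prime hM hz) (m : G) _root_.id (fun i => (conjInv M z)^[(i : ℕ)] m)
    (by
      intro i
      rw [conjInv_iterate_coe]
      simp only [id_eq]
      group)]
  exact Fin.prod_univ_eq_prod_range (fun i => ψ ((conjInv M z)^[i] m)) p

end IndexPrime

section Binomial

variable {M Q : Type*} [Group M] [CommGroup Q]

theorem prod_iterate_eq (χ : M →* Q) (c : M →* M) (n : ℕ) :
    ∀ m : M, ∏ i ∈ Finset.range n, χ (c^[i] m) =
      ∏ j ∈ Finset.range n, χ ((fun y => y⁻¹ * c y)^[j] m) ^ (n.choose (j + 1)) := by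
  induction n with
  | zero => intro m; simp
  | succ n ih =>
    intro m
    have hc : ∀ i, c^[i + 1] m = c^[i] m * c^[i] (m⁻¹ * c m) := by
      intro i
      rw [Function.iterate_succ_apply, ← iterate_map_mul, mul_inv_cancel_left]
    have hf : ∀ j, (fun y => y⁻¹ * c y)^[j] (m⁻¹ * c m) = (fun y => y⁻¹ * c y)^[j + 1] m := by
      intro j
      rw [Function.iterate_succ_apply]
    rw [Finset.prod_range_succ' (fun i => χ (c^[i] m)) n]
    simp only [hc, map_mul, Finset.prod_mul_distrib, Function.iterate_zero, id_eq]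
    rw [ih m, ih (m⁻¹ * c m)]
    simp only [hf]
    -- right-hand side
    have hR : ∏ j ∈ Finset.range (n + 1),
        χ ((fun y => y⁻¹ * c y)^[j] m) ^ ((n + 1).choose (j + 1)) =
        (∏ j ∈ Finset.range (n + 1), χ ((fun y => y⁻¹ * c y)^[j] m) ^ (n.choose j)) *
        (∏ j ∈ Finset.range (n + 1), χ ((fun y => y⁻¹ * c y)^[j] m) ^ (n.choose (j + 1))) := by
      rw [← Finset.prod_mul_distrib]
      apply Finset.prod_congr rfl
      intro j _
      rw [Nat.choose_succ_succ', pow_add]
    rw [hR, Finset.prod_range_succ' (fun j => χ ((fun y => y⁻¹ * c y)^[j] m) ^ (n.choose j)) n,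
      Finset.prod_range_succ (fun j => χ ((fun y => y⁻¹ * c y)^[j] m) ^ (n.choose (j + 1))) n,
      Nat.choose_succ_self, pow_zero, mul_one, Nat.choose_zero_right, pow_one,
      Function.iterate_zero, id_eq]
    rw [mul_comm (∏ j ∈ Finset.range n, χ ((fun y => y⁻¹ * c y)^[j] m) ^ (n.choose (j + 1))),
      mul_comm _ (χ m), mul_assoc]
    exact mul_left_comm _ _ _

theorem prod_iterate_prime {p : ℕ} [hp : Fact p.Prime] (hQ : ∀ q : Q, q ^ p = 1) (χ : M →* Q)
    (c : M →* M) (m : M) :
    ∏ i ∈ Finset.range p, χ (c^[i] m) = χ ((fun y => y⁻¹ * c y)^[p - 1] m) := by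
  have hp1 : p - 1 + 1 = p := Nat.sub_add_cancel hp.out.one_le
  rw [prod_iterate_eq, Finset.prod_eq_single (p - 1)]
  · rw [hp1, Nat.choose_self, pow_one]
  · intro j hj hne
    have hj' : j + 1 < p := by
      have := Finset.mem_range.mp hj
      omega
    obtain ⟨d, hd⟩ := hp.out.dvd_choose_self (Nat.succ_ne_zero j) hj'
    rw [hd, pow_mul, hQ, one_pow]
  · intro h
    exact absurd (Finset.mem_range.mpr (by have := hp.out.pos; omega)) h

end Binomial

section IndexPrimeFinal

variable {G : Type*} [Group G] {Q : Type*} [CommGroup Q]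

theorem commIter_coe (M : Subgroup G) [M.Normal] (z : G) (m : M) (k : ℕ) :
    (((fun y : M => y⁻¹ * conjInv M z y)^[k] m : M) : G) =
      (fun y : G => y⁻¹ * z⁻¹ * y * z)^[k] (m : G) := by
  induction k with
  | zero => rfl
  | succ k ih =>
    rw [Function.iterate_succ_apply', Function.iterate_succ_apply', ← ih]
    simp only [Subgroup.coe_mul, Subgroup.coe_inv, conjInv_apply_coe]
    group

/-- Transfer into a normal subgroup `M` of prime index `p`, with values in a group of exponent
`p`, on an element of `M`: it is the value on an iterated commutator. -/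
theorem transfer_index_prime {p : ℕ} [Fact p.Prime] {M : Subgroup G} [M.Normal] [M.FiniteIndex]
    (hM : M.index = p) (ψ : M →* Q) (hQ : ∀ q : Q, q ^ p = 1) {z : G} (hz : z ∉ M) (m : M) :
    transfer ψ (m : G) = ψ ((fun y : M => y⁻¹ * conjInv M z y)^[p - 1] m) := by
  rw [transfer_eq_prod_conj_of_index_prime hM ψ hz m]
  exact prod_iterate_prime hQ ψ (conjInv M z) m

end IndexPrimeFinal

end Cfsg.Agent.Lib.Helper17
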