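import Mathlib.GroupTheory.Sylow
import Mathlib.GroupTheory.Commutator.Basic
import Mathlib.GroupTheory.Frattini
import Cfsg.Prelude.Def_Solvable
import Cfsg.Prelude.Def_Transfer

set_option autoImplicit false

namespace Cfsg.Agent.Lib.Helper17

open Cfsg

section pCore

variable {G : Type*} [Group G] {p : ℕ}

instance pCore_normal : (pCore p G).Normal :=
  Subgroup.sSup_normal _ (fun _ hN => hN.1)

theorem le_pCore {N : Subgroup G} (hN : N.Normal) (hp : IsPGroup p N) : N ≤ pCore p G :=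
  le_sSup ⟨hN, hp⟩

/-- A normal `p`-subgroup lies in every Sylow `p`-subgroup. -/
theorem normal_pgroup_le_sylow [Finite G] [Fact p.Prime] {N : Subgroup G} (hN : N.Normal)
    (hp : IsPGroup p N) (P : Sylow p G) : N ≤ (P : Subgroup G) := by
  obtain ⟨Q, hQ⟩ := hp.exists_le_sylow
  obtain ⟨g, rfl⟩ := MulAction.exists_smul_eq G Q P
  intro x hx
  rw [Sylow.coe_subgroup_smul, Subgroup.mem_pointwise_smul_iff_inv_smul_mem]
  apply hQ
  have := hN.conj_mem x hx g⁻¹
  simpa [MulAut.smul_def] using this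

theorem pCore_le_sylow [Finite G] [Fact p.Prime] (P : Sylow p G) : pCore p G ≤ (P : Subgroup G) :=
  sSup_le (fun _ hN => normal_pgroup_le_sylow hN.1 hN.2 P)

theorem pCore_isPGroup [Finite G] [Fact p.Prime] : IsPGroup p (pCore p G) := by
  obtain ⟨P⟩ : Nonempty (Sylow p G) := inferInstance
  exact P.2.to_le (pCore_le_sylow P)

/-- A `p`-subgroup `N ≤ K` normalized by `K` lies in `O_p(K)` (viewed in `K`). -/
theorem subgroupOf_le_pCore {N K : Subgroup G} (hNK : K ≤ Subgroup.normalizer (N : Set G))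
    (hp : IsPGroup p N) : N.subgroupOf K ≤ pCore p K := by
  apply le_pCore
  · exact Subgroup.normal_subgroupOf_iff_le_normalizer_inf.mpr (by
      intro k hk
      have h1 := hNK hk
      rw [Subgroup.mem_normalizer_iff] at h1 ⊢
      intro x
      simp only [Subgroup.mem_inf]
      constructor
      · rintro ⟨hx, hxK⟩
        exact ⟨(h1 x).mp hx, K.mul_mem (K.mul_mem hk hxK) (K.inv_mem hk)⟩
      · rintro ⟨hx, hxK⟩
        refine ⟨(h1 x).mpr hx, ?_⟩
        have : x = k⁻¹ * (k * x * k⁻¹) * k := by group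
        rw [this]
        exact K.mul_mem (K.mul_mem (K.inv_mem hk) hxK) hk)
  · exact hp.comap_subtype

/-- If `O_p(K) = 1` then any `p`-subgroup `N ≤ K` normalized by `K` is trivial. -/
theorem eq_bot_of_pCore_eq_bot {N K : Subgroup G} (hO : pCore p K = ⊥) (hN : N ≤ K)
    (hNK : K ≤ Subgroup.normalizer (N : Set G)) (hp : IsPGroup p N) : N = ⊥ := by
  have h := subgroupOf_le_pCore hNK hp
  rw [hO, le_bot_iff, Subgroup.subgroupOf_eq_bot] at h
  rw [eq_bot_iff]
  intro x hx
  have : x ∈ N ⊓ K := ⟨hx, hN hx⟩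
  exact h.le_bot this

end pCore

section misc

variable {G : Type*} [Group G]

theorem normalizer_le_normalizer_centralizer (S : Subgroup G) :
    Subgroup.normalizer (S : Set G) ≤ Subgroup.normalizer (Subgroup.centralizer (S : Set G) : Set G) := by
  intro g hg
  rw [Subgroup.mem_normalizer_iff] at hg ⊢
  have key : ∀ g : G, (∀ s, s ∈ S ↔ g * s * g⁻¹ ∈ S) → ∀ c ∈ Subgroup.centralizer (S : Set G),
      g * c * g⁻¹ ∈ Subgroup.centralizer (S : Set G) := by
    intro g hg c hc
    rw [Subgroup.mem_centralizer_iff] at hc ⊢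
    intro s hs
    have hs' : g⁻¹ * s * g ∈ S := by
      have := (hg (g⁻¹ * s * g))
      rw [this]
      simpa [mul_assoc] using hs
    have := hc _ hs'
    calc s * (g * c * g⁻¹) = g * ((g⁻¹ * s * g) * c) * g⁻¹ := by group
      _ = g * (c * (g⁻¹ * s * g)) * g⁻¹ := by rw [this]
      _ = g * c * g⁻¹ * s := by group
  intro c
  constructor
  · exact key g hg c
  · intro hc
    have hg' : ∀ s, s ∈ S ↔ g⁻¹ * s * g⁻¹⁻¹ ∈ S := by
      intro s
      rw [hg (g⁻¹ * s * g⁻¹⁻¹)]
      simp [mul_assoc]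
    have := key g⁻¹ hg' _ hc
    simpa [mul_assoc] using this

/-- A commutative subgroup generated by elements of `p`-power order is a `p`-group. -/
theorem isPGroup_closure_of_comm {p : ℕ} (S : Set G)
    (hcomm : ∀ a ∈ Subgroup.closure S, ∀ b ∈ Subgroup.closure S, a * b = b * a)
    (hS : ∀ s ∈ S, ∃ n : ℕ, s ^ p ^ n = 1) : IsPGroup p (Subgroup.closure S) := by
  have key : ∀ x ∈ Subgroup.closure S, ∃ n : ℕ, x ^ p ^ n = 1 := by
    intro x hx
    induction hx using Subgroup.closure_induction with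
    | mem x hx => exact hS x hx
    | one => exact ⟨0, by simp⟩
    | mul x y hx hy ihx ihy =>
      obtain ⟨a, ha⟩ := ihx
      obtain ⟨b, hb⟩ := ihy
      refine ⟨a + b, ?_⟩
      have hc : Commute x y := hcomm x hx y hy
      rw [hc.mul_pow, pow_add, pow_mul, ha, one_pow, one_mul, mul_comm (p ^ a), pow_mul, hb, one_pow]
    | inv x hx ih =>
      obtain ⟨a, ha⟩ := ih
      exact ⟨a, by rw [inv_pow, ha, inv_one]⟩
  intro ⟨x, hx⟩
  obtain ⟨n, hn⟩ := key x hx
  exact ⟨n, Subtype.ext (by simpa using hn)⟩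

end misc

end Cfsg.Agent.Lib.Helper17
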