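import Mathlib
import Cfsg.Prelude.Def_GeometricClasses

/-!
# S5886 (extension-field normaliser is maximal): basic definitions

Instance-free vocabulary.  `ρ : L →ₐ[F] Matrix (Fin n) (Fin n) F` is the embedded field,
vectors are `Fin n → F`, `GL (Fin n) F` acts by `act g v = g *ᵥ v`.
-/

set_option autoImplicit false

namespace Cfsg.Agent.Lib.Helper17.ExtF

open Matrix

variable {F : Type*} [Field F] {L : Type*} [Field L] [Algebra F L] {n : ℕ}

/-- action of `GL` on column vectors -/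
def act (g : GL (Fin n) F) (v : Fin n → F) : Fin n → F :=
  (g : Matrix (Fin n) (Fin n) F) *ᵥ v

@[simp] lemma act_one (v : Fin n → F) : act (1 : GL (Fin n) F) v = v := by
  simp [act]

@[simp] lemma act_mul (g h : GL (Fin n) F) (v : Fin n → F) : act (g * h) v = act g (act h v) := by
  simp [act, Matrix.mulVec_mulVec]

@[simp] lemma act_inv_act (g : GL (Fin n) F) (v : Fin n → F) : act g⁻¹ (act g v) = v := by
  rw [← act_mul, inv_mul_cancel, act_one]

@[simp] lemma act_act_inv (g : GL (Fin n) F) (v : Fin n → F) : act g (act g⁻¹ v) = v := by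
  rw [← act_mul, mul_inv_cancel, act_one]

lemma act_add (g : GL (Fin n) F) (v w : Fin n → F) : act g (v + w) = act g v + act g w := by
  simp [act, Matrix.mulVec_add]

lemma act_sub (g : GL (Fin n) F) (v w : Fin n → F) : act g (v - w) = act g v - act g w := by
  simp [act, Matrix.mulVec_sub]

lemma act_neg (g : GL (Fin n) F) (v : Fin n → F) : act g (-v) = -act g v := by
  simp [act, Matrix.mulVec_neg]

@[simp] lemma act_zero (g : GL (Fin n) F) : act g (0 : Fin n → F) = 0 := by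
  simp [act]

lemma act_smul (g : GL (Fin n) F) (c : F) (v : Fin n → F) : act g (c • v) = c • act g v := by
  simp [act, Matrix.mulVec_smul]

lemma act_injective (g : GL (Fin n) F) : Function.Injective (act g) := by
  intro v w h
  have := congrArg (act g⁻¹) h
  simpa using this

lemma act_eq_zero_iff (g : GL (Fin n) F) (v : Fin n → F) : act g v = 0 ↔ v = 0 := by
  constructor
  · intro h
    exact act_injective g (by rw [h, act_zero])
  · rintro rfl; exact act_zero g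

/-- a `GL` element is determined by its action -/
lemma gl_ext {g h : GL (Fin n) F} (H : ∀ v, act g v = act h v) : g = h := by
  apply Units.ext
  apply Matrix.toLin'.injective
  apply LinearMap.ext
  intro v
  simpa [act, Matrix.toLin'_apply] using H v

/-- the `F`-linear map underlying `g` -/
def actL (g : GL (Fin n) F) : (Fin n → F) →ₗ[F] (Fin n → F) :=
  Matrix.mulVecLin (g : Matrix (Fin n) (Fin n) F)

@[simp] lemma actL_apply (g : GL (Fin n) F) (v : Fin n → F) : actL g v = act g v := rfl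

/-- a pair of mutually inverse linear maps gives a `GL` element -/
lemma exists_gl (f f' : (Fin n → F) →ₗ[F] (Fin n → F)) (h₁ : ∀ v, f (f' v) = v)
    (h₂ : ∀ v, f' (f v) = v) :
    ∃ g : GL (Fin n) F, (∀ v, act g v = f v) ∧ (∀ v, act g⁻¹ v = f' v) := by
  have e1 : LinearMap.toMatrix' f * LinearMap.toMatrix' f' = 1 := by
    rw [← LinearMap.toMatrix'_comp, ← LinearMap.toMatrix'_id]
    congr 1
    exact LinearMap.ext fun v => by simp [h₁]
  have e2 : LinearMap.toMatrix' f' * LinearMap.toMatrix' f = 1 := by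
    rw [← LinearMap.toMatrix'_comp, ← LinearMap.toMatrix'_id]
    congr 1
    exact LinearMap.ext fun v => by simp [h₂]
  refine ⟨⟨LinearMap.toMatrix' f, LinearMap.toMatrix' f', e1, e2⟩, ?_, ?_⟩
  · intro v
    change LinearMap.toMatrix' f *ᵥ v = f v
    rw [← Matrix.toLin'_apply, Matrix.toLin'_toMatrix']
  · intro v
    change LinearMap.toMatrix' f' *ᵥ v = f' v
    rw [← Matrix.toLin'_apply, Matrix.toLin'_toMatrix']

/-- the orbit map `a ↦ ρ a *ᵥ v` -/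
def orb (ρ : L →ₐ[F] Matrix (Fin n) (Fin n) F) (v : Fin n → F) : L →ₗ[F] (Fin n → F) where
  toFun a := ρ a *ᵥ v
  map_add' a b := by rw [map_add, Matrix.add_mulVec]
  map_smul' c a := by rw [map_smul, Matrix.smul_mulVec, RingHom.id_apply]

@[simp] lemma orb_apply (ρ : L →ₐ[F] Matrix (Fin n) (Fin n) F) (v : Fin n → F) (a : L) :
    orb ρ v a = ρ a *ᵥ v := rfl

/-- the `L`-point of `v`, as an `F`-subspace -/
def pt (ρ : L →ₐ[F] Matrix (Fin n) (Fin n) F) (v : Fin n → F) : Submodule F (Fin n → F) :=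
  LinearMap.range (orb ρ v)

lemma mem_pt (ρ : L →ₐ[F] Matrix (Fin n) (Fin n) F) (v x : Fin n → F) :
    x ∈ pt ρ v ↔ ∃ a : L, ρ a *ᵥ v = x := Iff.rfl

lemma self_mem_pt (ρ : L →ₐ[F] Matrix (Fin n) (Fin n) F) (v : Fin n → F) : v ∈ pt ρ v :=
  ⟨1, by simp⟩

lemma smul_mem_pt (ρ : L →ₐ[F] Matrix (Fin n) (Fin n) F) (v : Fin n → F) (a : L) :
    ρ a *ᵥ v ∈ pt ρ v := ⟨a, rfl⟩

/-- `ψ` is `L`-linear with respect to `ρ` -/
def Lin (ρ : L →ₐ[F] Matrix (Fin n) (Fin n) F) (ψ : (Fin n → F) →ₗ[F] L) : Prop :=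
  ∀ (a : L) (v : Fin n → F), ψ (ρ a *ᵥ v) = a * ψ v

/-- `g` normalises the embedded field -/
def Normalizes (ρ : L →ₐ[F] Matrix (Fin n) (Fin n) F) (g : GL (Fin n) F) : Prop :=
  ∀ a : L, ∃ b : L, (g : Matrix (Fin n) (Fin n) F) * ρ a = ρ b * (g : Matrix (Fin n) (Fin n) F)

/-- `g` moves some `L`-point to a subspace which is not an `L`-point -/
def Moves (ρ : L →ₐ[F] Matrix (Fin n) (Fin n) F) (g : GL (Fin n) F) : Prop :=
  ∃ v : Fin n → F, v ≠ 0 ∧ (pt ρ v).map (actL g) ≠ pt ρ (act g v)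

/-- `H` contains every elementary `L`-linear map `v ↦ v + ρ (ψ v) *ᵥ e` whose `L`-determinant
`1 + ψ e` has norm one (`L`-transvections and norm-one `L`-dilatations). -/
def HasElem (ρ : L →ₐ[F] Matrix (Fin n) (Fin n) F) (H : Subgroup (GL (Fin n) F)) : Prop :=
  ∀ (ψ : (Fin n → F) →ₗ[F] L) (e : Fin n → F), Lin ρ ψ → Algebra.norm F (1 + ψ e) = 1 →
    ∀ g : GL (Fin n) F, (∀ v, act g v = v + ρ (ψ v) *ᵥ e) → g ∈ H

/-- `H` contains the `F`-transvection `v ↦ v + φ v • u` -/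
def TV (H : Subgroup (GL (Fin n) F)) (φ : (Fin n → F) →ₗ[F] F) (u : Fin n → F) : Prop :=
  ∀ g : GL (Fin n) F, (∀ v, act g v = v + φ v • u) → g ∈ H

/-- `H` contains all `F`-transvections whose axis contains the `L`-point of the centre -/
def HasT0 (ρ : L →ₐ[F] Matrix (Fin n) (Fin n) F) (H : Subgroup (GL (Fin n) F)) : Prop :=
  ∀ (φ : (Fin n → F) →ₗ[F] F) (u : Fin n → F), (∀ a : L, φ (ρ a *ᵥ u) = 0) → TV H φ u

/-- `H` contains one nontrivial `F`-transvection `v ↦ v + τ (ψ v) • u` with `ψ` `L`-linear,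
`ψ u = 0`. -/
def HasOneT0 (ρ : L →ₐ[F] Matrix (Fin n) (Fin n) F) (H : Subgroup (GL (Fin n) F)) : Prop :=
  ∃ (ψ : (Fin n → F) →ₗ[F] L) (τ : L →ₗ[F] F) (u : Fin n → F), Lin ρ ψ ∧ (∃ e, ψ e = 1) ∧
    τ ≠ 0 ∧ u ≠ 0 ∧ ψ u = 0 ∧ TV H (τ ∘ₗ ψ) u

/-- the configuration produced by the maximal-intersection argument: an `L`-point `pt ρ v₁`
and the image under `g₀ ∈ H` of an `L`-point, meeting in an `F`-hyperplane of both. -/
def Config (ρ : L →ₐ[F] Matrix (Fin n) (Fin n) F) (H : Subgroup (GL (Fin n) F)) (r : ℕ)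
    (v₁ v₀ : Fin n → F) (g₀ : GL (Fin n) F) : Prop :=
  g₀ ∈ H ∧ v₁ ≠ 0 ∧ v₀ ≠ 0 ∧
    Module.finrank F ↥(pt ρ v₁ ⊓ (pt ρ v₀).map (actL g₀)) + 1 = r

end Cfsg.Agent.Lib.Helper17.ExtF

namespace Cfsg.Agent.Lib.Helper17.ExtF

open Matrix

variable {F : Type*} [Field F] {L : Type*} [Field L] [Algebra F L] {n : ℕ}

/-- `x ↦ x + τ x • b` on `L` -/
def addRk (τ : L →ₗ[F] F) (b : L) : L →ₗ[F] L :=
  LinearMap.id + (LinearMap.toSpanSingleton F L b) ∘ₗ τ

@[simp] lemma addRk_apply (τ : L →ₗ[F] F) (b x : L) : addRk τ b x = x + τ x • b := by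
  simp [addRk]

/-- `x ↦ x - β x • 1` on `L` -/
def subRk (β : L →ₗ[F] F) : L →ₗ[F] L :=
  LinearMap.id - (LinearMap.toSpanSingleton F L 1) ∘ₗ β

@[simp] lemma subRk_apply (β : L →ₗ[F] F) (x : L) : subRk β x = x - β x • (1 : L) := by
  simp [subRk]

lemma Lin.map_orb {ρ : L →ₐ[F] Matrix (Fin n) (Fin n) F} {ψ : (Fin n → F) →ₗ[F] L}
    (h : Lin ρ ψ) {e : Fin n → F} (he : ψ e = 0) (a : L) : ψ (ρ a *ᵥ e) = 0 := by
  rw [h, he, mul_zero]

lemma Lin.mulLeft {ρ : L →ₐ[F] Matrix (Fin n) (Fin n) F} {ψ : (Fin n → F) →ₗ[F] L}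
    (h : Lin ρ ψ) (c : L) : Lin ρ ((LinearMap.mulLeft F c) ∘ₗ ψ) := by
  intro a v
  simp only [LinearMap.comp_apply, LinearMap.mulLeft_apply, h a v]
  ring

lemma Lin.sub {ρ : L →ₐ[F] Matrix (Fin n) (Fin n) F} {ψ ψ' : (Fin n → F) →ₗ[F] L}
    (h : Lin ρ ψ) (h' : Lin ρ ψ') : Lin ρ (ψ - ψ') := by
  intro a v
  simp only [LinearMap.sub_apply, h a v, h' a v]
  ring

lemma Lin.add {ρ : L →ₐ[F] Matrix (Fin n) (Fin n) F} {ψ ψ' : (Fin n → F) →ₗ[F] L}
    (h : Lin ρ ψ) (h' : Lin ρ ψ') : Lin ρ (ψ + ψ') := by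
  intro a v
  simp only [LinearMap.add_apply, h a v, h' a v]
  ring

lemma Lin.neg {ρ : L →ₐ[F] Matrix (Fin n) (Fin n) F} {ψ : (Fin n → F) →ₗ[F] L}
    (h : Lin ρ ψ) : Lin ρ (-ψ) := by
  intro a v
  simp only [LinearMap.neg_apply, h a v]
  ring

lemma rho_mul_mulVec (ρ : L →ₐ[F] Matrix (Fin n) (Fin n) F) (a b : L) (v : Fin n → F) :
    ρ (a * b) *ᵥ v = ρ a *ᵥ (ρ b *ᵥ v) := by
  rw [map_mul, Matrix.mulVec_mulVec]

lemma rho_one_mulVec (ρ : L →ₐ[F] Matrix (Fin n) (Fin n) F) (v : Fin n → F) :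
    ρ 1 *ᵥ v = v := by
  rw [map_one, Matrix.one_mulVec]

lemma rho_add_mulVec (ρ : L →ₐ[F] Matrix (Fin n) (Fin n) F) (a b : L) (v : Fin n → F) :
    ρ (a + b) *ᵥ v = ρ a *ᵥ v + ρ b *ᵥ v := by
  rw [map_add, Matrix.add_mulVec]

lemma rho_zero_mulVec (ρ : L →ₐ[F] Matrix (Fin n) (Fin n) F) (v : Fin n → F) :
    ρ 0 *ᵥ v = 0 := by
  rw [map_zero, Matrix.zero_mulVec]

lemma rho_algebraMap_mulVec (ρ : L →ₐ[F] Matrix (Fin n) (Fin n) F) (c : F) (v : Fin n → F) :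
    ρ (algebraMap F L c) *ᵥ v = c • v := by
  rw [AlgHom.commutes, Matrix.algebraMap_eq_diagonal]
  ext i
  simp [Matrix.mulVec_diagonal]

end Cfsg.Agent.Lib.Helper17.ExtF
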