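import Mathlib
import Cfsg.Agent.Lib.Helper3.SpTDefs

/-!
# S5704 FO-RING (helper17): invariant subalgebras of `M_a(F)`

A subalgebra `R` of `M_a(F)` containing a non-scalar matrix and stable under conjugation by the symplectic
transvections `1 + c • E_{u,u}` is everything, except for `a = 2 = |F|` (`ring_gen`, exact signature of the stub in
`Cfsg.Agent.Lib.Helper3.SpTL2`).

Proof. Write `N_u = E_{u,u}` and `X_u(C) = N_u C - C N_u - N_u C N_u` (`= t_u(1) C t_u(1)⁻¹ - C ∈ R`).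
* for `u ⊥ u'`: `X_u (X_{u'} C) = -(N_u C N_{u'} + N_{u'} C N_u) = -(f(Cu',u) E_{u,u'} + f(Cu,u') E_{u',u})`;
* a non-scalar `C` has `u'` with `Cu' ∉ ⟨u'⟩`, hence `u ⊥ u'` with `α = f(Cu',u) ≠ 0`; if `u, u'` are independent
  then `Y = α E_{u,u'} + β E_{u',u} ∈ R` gives `E_{u,u'} ∈ R` (`β = 0`) or `Y X_v(Y) = -αβ N_u` (`f(v,u) = 0`, `f(v,u') = 1`);
  a rank-one `E_{u,u'} ∈ R` gives some `N_w ∈ R`;
* if `u ∈ ⟨u'⟩` then `f(Cu',u') ≠ 0`: for `|F| ≥ 3`, `c ≠ 0, 1`: `(c - c²) N_{u'} C N_{u'} ∈ R`; for `|F| = 2`, `a ≥ 3`,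
  replace `u` by a vector of `u'^⊥ \ ⟨u'⟩`;
* `N_w ∈ R` ⇒ all `N_v ∈ R` (transvections are transitive on non-zero vectors) ⇒ all `E_{v,w} ∈ R` ⇒ `R = M_a(F)`.
-/

set_option autoImplicit false

namespace Cfsg.Agent.Lib.Helper17.S5704RING

open Matrix Module
open Cfsg.Agent.Lib.Helper3.SpT

variable {F : Type*} [Field F] {n : ℕ} {J : Matrix (Fin n) (Fin n) F}

/-! ### vectors -/

theorem exists_bf_ne (hJ : SympG J) (x : Fin n → F) (hx : x ≠ 0) : ∃ y : Fin n → F, bf J x y ≠ 0 := by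
  by_contra hc
  push Not at hc
  exact hx (hJ.nondeg x hc)

theorem exists_bf_eq_one (hJ : SympG J) (u : Fin n → F) (hu : u ≠ 0) : ∃ y : Fin n → F, bf J y u = 1 := by
  obtain ⟨y, hy⟩ := exists_bf_ne hJ u hu
  have hy' : bf J y u ≠ 0 := by
    rw [hJ.skew]
    exact neg_ne_zero.mpr hy
  refine ⟨(bf J y u)⁻¹ • y, ?_⟩
  rw [bf_smul_left, inv_mul_cancel₀ hy']

theorem exists_dual (hJ : SympG J) (u u' : Fin n → F) (hu : u ≠ 0) (h : ∀ s : F, u' ≠ s • u) (p q : F) :
    ∃ v : Fin n → F, bf J v u = p ∧ bf J v u' = q := by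
  obtain ⟨y1, hy1⟩ := exists_bf_eq_one hJ u hu
  have hw : u' - bf J y1 u' • u ≠ 0 := fun h0 => h _ (sub_eq_zero.mp h0)
  obtain ⟨y2, hy2⟩ := exists_bf_eq_one hJ _ hw
  rw [bf_sub_right, bf_smul_right] at hy2
  obtain ⟨z, hz1, hz2⟩ : ∃ z : Fin n → F, bf J z u = 0 ∧ bf J z u' = 1 := by
    refine ⟨y2 - bf J y2 u • y1, ?_, ?_⟩
    · rw [bf_sub_left, bf_smul_left, hy1]; ring
    · rw [bf_sub_left, bf_smul_left]; linear_combination hy2
  obtain ⟨z', hz'1, hz'2⟩ : ∃ z' : Fin n → F, bf J z' u = 1 ∧ bf J z' u' = 0 := by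
    refine ⟨y1 - bf J y1 u' • z, ?_, ?_⟩
    · rw [bf_sub_left, bf_smul_left, hz1, hy1]; ring
    · rw [bf_sub_left, bf_smul_left, hz2]; ring
  refine ⟨p • z' + q • z, ?_, ?_⟩
  · rw [bf_add_left, bf_smul_left, bf_smul_left, hz'1, hz1]; ring
  · rw [bf_add_left, bf_smul_left, bf_smul_left, hz'2, hz2]; ring

theorem exists_perp_not_span (h3 : 3 ≤ n) (u' : Fin n → F) :
    ∃ x : Fin n → F, bf J x u' = 0 ∧ ∀ s : F, x ≠ s • u' := by
  let φ : (Fin n → F) →ₗ[F] F :=
    { toFun := fun x => bf J x u'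
      map_add' := fun x y => bf_add_left J x y u'
      map_smul' := fun c x => by simp [bf_smul_left] }
  have h1 : finrank F (LinearMap.range φ) + finrank F (LinearMap.ker φ) = n := by
    rw [LinearMap.finrank_range_add_finrank_ker]; simp
  have h2 : finrank F (LinearMap.range φ) ≤ 1 := by
    have := Submodule.finrank_le (LinearMap.range φ)
    simpa using this
  by_contra hcon
  push Not at hcon
  have h4 : LinearMap.ker φ ≤ Submodule.span F {u'} := by
    intro x hx
    have hx' : bf J x u' = 0 := LinearMap.mem_ker.mp hx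
    obtain ⟨s, hs⟩ := hcon x hx'
    rw [hs]
    exact Submodule.smul_mem _ _ (Submodule.subset_span rfl)
  have h5 := Submodule.finrank_mono h4
  have h6 : finrank F (Submodule.span F {u'}) ≤ 1 := by
    have := finrank_span_le_card (R := F) ({u'} : Set (Fin n → F))
    simpa using this
  omega

theorem exists_not_eigen (A : Matrix (Fin n) (Fin n) F) (hA : ∀ z : F, A ≠ z • (1 : Matrix (Fin n) (Fin n) F)) :
    ∃ u₀ : Fin n → F, ∀ z : F, A *ᵥ u₀ ≠ z • u₀ := by
  by_contra hcon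
  push Not at hcon
  have h : ∀ v : Fin n → F, ¬ LinearIndependent F ![v, Matrix.toLin' A v] := by
    intro v hli
    obtain ⟨lam, hlam⟩ := hcon v
    rw [LinearIndependent.pair_iff] at hli
    have h1 := hli lam (-1) (by rw [Matrix.toLin'_apply, hlam]; simp)
    exact absurd h1.2 (by norm_num)
  obtain ⟨z, hz⟩ := LinearMap.exists_eq_smul_id_of_forall_notLinearIndependent h
  apply hA z
  apply Matrix.toLin'.injective
  rw [hz, map_smul, Matrix.toLin'_one]
  rfl

theorem card_eq_two [Fintype F] (h : ∀ c : F, c = 0 ∨ c = 1) : Fintype.card F = 2 := by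
  classical
  have h1 : Fintype.card F ≤ 2 := by
    calc Fintype.card F = (Finset.univ : Finset F).card := Finset.card_univ.symm
      _ ≤ ({0, 1} : Finset F).card :=
          Finset.card_le_card (fun c _ => by rcases h c with h | h <;> simp [h])
      _ ≤ 2 := Finset.card_le_two
  have h2 : 1 < Fintype.card F := Fintype.one_lt_card
  omega

/-! ### the operators `E` -/

theorem sandwich (C : Matrix (Fin n) (Fin n) F) (w w' y y' : Fin n → F) :
    E J w w' * C * E J y y' = bf J (C *ᵥ y) w' • E J w y' := by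
  apply mat_ext_mulVec
  intro x
  simp only [← Matrix.mulVec_mulVec, E_mulVec, Matrix.mulVec_smul, Matrix.smul_mulVec, smul_smul]
  module

theorem E_smul_right (w w' : Fin n → F) (s : F) : E J w (s • w') = s • E J w w' := by
  apply mat_ext_mulVec
  intro x
  rw [E_mulVec, Matrix.smul_mulVec, E_mulVec, bf_smul_right, smul_smul]

theorem E_add_right (w w' y' : Fin n → F) : E J w (w' + y') = E J w w' + E J w y' := by
  apply mat_ext_mulVec
  intro x
  rw [E_mulVec, Matrix.add_mulVec, E_mulVec, E_mulVec, bf_add_right, add_smul]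

theorem E_zero_left (w' : Fin n → F) : E J (0 : Fin n → F) w' = 0 := by
  apply mat_ext_mulVec
  intro x
  rw [E_mulVec, smul_zero, Matrix.zero_mulVec]

/-- conjugating `N_w` by the transvection `t_u(c)` gives `N_{t_u(c) w}` -/
theorem conj_N (hJ : SympG J) (u w : Fin n → F) (c : F) :
    (1 + c • E J u u) * E J w w * (1 - c • E J u u) =
      E J (w + (c * bf J w u) • u) (w + (c * bf J w u) • u) := by
  apply mat_ext_mulVec
  intro x
  simp only [← Matrix.mulVec_mulVec, Matrix.add_mulVec, Matrix.sub_mulVec, Matrix.one_mulVec, Matrix.smul_mulVec,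
    E_mulVec, Matrix.mulVec_sub, Matrix.mulVec_add, Matrix.mulVec_smul, bf_sub_left, bf_smul_left, bf_add_right,
    bf_smul_right, bf_add_left]
  rw [hJ.skew u w]
  module

/-! ### invariant subalgebras -/

/-- the hypotheses on `R` -/
structure RInv (J : Matrix (Fin n) (Fin n) F) (R : Set (Matrix (Fin n) (Fin n) F)) : Prop where
  sc : ∀ c : F, c • (1 : Matrix (Fin n) (Fin n) F) ∈ R
  add : ∀ C ∈ R, ∀ C' ∈ R, C + C' ∈ R
  mul : ∀ C ∈ R, ∀ C' ∈ R, C * C' ∈ R
  conj : ∀ C ∈ R, ∀ (u : Fin n → F) (c : F), (1 + c • E J u u) * C * (1 - c • E J u u) ∈ R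

/-- `X_N(C) = N C - C N - N C N` -/
def Xop (N C : Matrix (Fin n) (Fin n) F) : Matrix (Fin n) (Fin n) F := N * C - C * N - N * C * N

theorem xop_xop (N N' C : Matrix (Fin n) (Fin n) F) (h1 : N * N' = 0) (h2 : N' * N = 0) :
    Xop N (Xop N' C) = -(N * C * N' + N' * C * N) := by
  have key : Xop N (Xop N' C) = -(N * C * N' + N' * C * N) + (N * N') * C - (N * N') * C * N' + C * (N' * N)
      + N' * C * (N' * N) - (N * N') * C * N + N * C * (N' * N) + (N * N') * C * (N' * N) := by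
    unfold Xop; noncomm_ring
  rw [key, h1, h2]; simp

theorem conj_expand (N C : Matrix (Fin n) (Fin n) F) (c : F) :
    ((1 + c • N) * C * (1 - c • N) - C) - c • Xop N C = (c - c * c) • (N * C * N) := by
  unfold Xop
  simp only [add_mul, mul_sub, sub_mul, one_mul, mul_one, Matrix.smul_mul, Matrix.mul_smul, smul_sub, smul_smul]
  module

namespace RInv

variable {R : Set (Matrix (Fin n) (Fin n) F)}

theorem smul (hR : RInv J R) (c : F) {C : Matrix (Fin n) (Fin n) F} (hC : C ∈ R) : c • C ∈ R := by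
  have := hR.mul _ (hR.sc c) _ hC
  rwa [Matrix.smul_mul, one_mul] at this

theorem zero (hR : RInv J R) : (0 : Matrix (Fin n) (Fin n) F) ∈ R := by
  have := hR.sc 0
  rwa [zero_smul] at this

theorem neg (hR : RInv J R) {C : Matrix (Fin n) (Fin n) F} (hC : C ∈ R) : -C ∈ R := by
  have := hR.smul (-1) hC
  rwa [neg_one_smul] at this

theorem sub (hR : RInv J R) {C C' : Matrix (Fin n) (Fin n) F} (hC : C ∈ R) (hC' : C' ∈ R) : C - C' ∈ R := by
  rw [sub_eq_add_neg]; exact hR.add _ hC _ (hR.neg hC')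

theorem memX (hR : RInv J R) {C : Matrix (Fin n) (Fin n) F} (hC : C ∈ R) (u : Fin n → F) :
    Xop (E J u u) C ∈ R := by
  have h := hR.conj C hC u 1
  have e : Xop (E J u u) C = (1 + (1 : F) • E J u u) * C * (1 - (1 : F) • E J u u) - C := by
    rw [one_smul]; unfold Xop; noncomm_ring
  rw [e]; exact hR.sub h hC

theorem memY (hR : RInv J R) (hJ : SympG J) {C : Matrix (Fin n) (Fin n) F} (hC : C ∈ R) (u u' : Fin n → F)
    (h0 : bf J u u' = 0) :
    bf J (C *ᵥ u') u • E J u u' + bf J (C *ᵥ u) u' • E J u' u ∈ R := by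
  have h1 : E J u u * E J u' u' = 0 := by rw [E_mul_E, hJ.eq_zero_comm h0, zero_smul]
  have h2 : E J u' u' * E J u u = 0 := by rw [E_mul_E, h0, zero_smul]
  have h := hR.memX (hR.memX hC u') u
  rw [xop_xop _ _ _ h1 h2, sandwich, sandwich] at h
  have := hR.neg h
  rwa [neg_neg] at this

theorem mem_of_c (hR : RInv J R) {C : Matrix (Fin n) (Fin n) F} (hC : C ∈ R) (u : Fin n → F) (c : F)
    (hc0 : c ≠ 0) (hc1 : c ≠ 1) (hne : bf J (C *ᵥ u) u ≠ 0) : E J u u ∈ R := by
  have h_c := hR.conj C hC u c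
  have h_1 := hR.memX hC u
  have hW : (c - c * c) • (E J u u * C * E J u u) ∈ R := by
    rw [← conj_expand]; exact hR.sub (hR.sub h_c hC) (hR.smul c h_1)
  rw [sandwich, smul_smul] at hW
  have hcoef : (c - c * c) * bf J (C *ᵥ u) u ≠ 0 := by
    refine mul_ne_zero ?_ hne
    intro h
    have h' : c * (1 - c) = 0 := by linear_combination h
    rcases mul_eq_zero.mp h' with h'' | h''
    · exact hc0 h''
    · exact hc1 (by linear_combination -h'')
  have := hR.smul ((c - c * c) * bf J (C *ᵥ u) u)⁻¹ hW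
  rwa [inv_smul_smul₀ hcoef] at this

theorem N_of_E_ne (hR : RInv J R) (hJ : SympG J) (u v : Fin n → F) (hE : E J u v ∈ R) (hne : bf J u v ≠ 0) :
    E J v v ∈ R := by
  have h := hR.memX hE v
  have e : Xop (E J v v) (E J u v) = bf J u v • E J v v := by
    simp only [Xop, E_mul_E, Matrix.smul_mul, hJ.alt, zero_smul, smul_zero, sub_zero]
  rw [e] at h
  have := hR.smul (bf J u v)⁻¹ h
  rwa [inv_smul_smul₀ hne] at this

theorem exists_N_of_E (hR : RInv J R) (hJ : SympG J) (u u' : Fin n → F) (hu : u ≠ 0) (hu' : u' ≠ 0)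
    (hE : E J u u' ∈ R) : ∃ w : Fin n → F, w ≠ 0 ∧ E J w w ∈ R := by
  by_cases h0 : bf J u u' = 0
  · by_cases hdep : ∃ s : F, u' = s • u
    · obtain ⟨s, rfl⟩ := hdep
      have hs : s ≠ 0 := by
        rintro rfl
        exact hu' (zero_smul _ _)
      rw [E_smul_right] at hE
      have := hR.smul s⁻¹ hE
      rw [inv_smul_smul₀ hs] at this
      exact ⟨u, hu, this⟩
    · push Not at hdep
      obtain ⟨v, hv1, hv2⟩ := exists_dual hJ u u' hu hdep (-1) (-1)
      have hv1' : bf J u v = 1 := by rw [hJ.skew, hv1, neg_neg]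
      have hv2' : bf J u' v = 1 := by rw [hJ.skew, hv2, neg_neg]
      have hX := hR.memX hE v
      have hprod := hR.mul _ hE _ hX
      have e : E J u v = -(E J u u' * Xop (E J v v) (E J u u')) - E J u u' := by
        simp only [Xop, mul_sub, E_mul_E, Matrix.mul_smul, Matrix.smul_mul, hv1, hv2, hv1', hv2', h0, hJ.alt]
        module
      have hEuv : E J u v ∈ R := by
        rw [e]; exact hR.sub (hR.neg hprod) hE
      refine ⟨v, ?_, hR.N_of_E_ne hJ u v hEuv (by rw [hv1']; exact one_ne_zero)⟩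
      rintro rfl
      rw [bf_zero_left] at hv1
      exact one_ne_zero (by linear_combination hv1)
  · exact ⟨u', hu', hR.N_of_E_ne hJ u u' hE h0⟩

theorem main_step (hR : RInv J R) (hJ : SympG J) {C : Matrix (Fin n) (Fin n) F} (hC : C ∈ R)
    (u u' : Fin n → F) (hu' : u' ≠ 0) (hind : ∀ s : F, u ≠ s • u') (h0 : bf J u u' = 0)
    (hα : bf J (C *ᵥ u') u ≠ 0) : ∃ w : Fin n → F, w ≠ 0 ∧ E J w w ∈ R := by
  have hu : u ≠ 0 := by
    intro h
    exact hind 0 (by rw [h, zero_smul])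
  have hind' : ∀ s : F, u' ≠ s • u := by
    intro s hs
    by_cases h : s = 0
    · rw [h, zero_smul] at hs; exact hu' hs
    · apply hind s⁻¹; rw [hs, inv_smul_smul₀ h]
  have hY := hR.memY hJ hC u u' h0
  by_cases hβ : bf J (C *ᵥ u) u' = 0
  · rw [hβ, zero_smul, add_zero] at hY
    have := hR.smul (bf J (C *ᵥ u') u)⁻¹ hY
    rw [inv_smul_smul₀ hα] at this
    exact hR.exists_N_of_E hJ u u' hu hu' this
  · obtain ⟨v, hv1, hv2⟩ := exists_dual hJ u u' hu hind' 0 1
    have hv1' : bf J u v = 0 := by rw [hJ.skew, hv1, neg_zero]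
    have hv2' : bf J u' v = -1 := by rw [hJ.skew, hv2]
    have h0' : bf J u' u = 0 := hJ.eq_zero_comm h0
    have hX := hR.memX hY v
    have hprod := hR.mul _ hY _ hX
    generalize bf J (C *ᵥ u') u = α at *
    generalize bf J (C *ᵥ u) u' = β at *
    have e : (α • E J u u' + β • E J u' u) * Xop (E J v v) (α • E J u u' + β • E J u' u) =
        (-(α * β)) • E J u u := by
      simp only [Xop, mul_sub, sub_mul, mul_add, add_mul, Matrix.mul_smul, Matrix.smul_mul, E_mul_E, hv1, hv2,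
        hv1', hv2', h0, h0', hJ.alt, smul_add, smul_sub, smul_smul, zero_smul, smul_zero, mul_zero, zero_mul,
        add_zero, zero_add, sub_zero]
      module
    rw [e] at hprod
    have hne : -(α * β) ≠ 0 := neg_ne_zero.mpr (mul_ne_zero hα hβ)
    have := hR.smul (-(α * β))⁻¹ hprod
    rw [inv_smul_smul₀ hne] at this
    exact ⟨u, hu, this⟩

theorem move (hR : RInv J R) (hJ : SympG J) (w v : Fin n → F) (hN : E J w w ∈ R) (hne : bf J w v ≠ 0) :
    E J v v ∈ R := by
  have h := hR.conj _ hN (w - v) (bf J w v)⁻¹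
  rw [conj_N hJ] at h
  have hv : w + ((bf J w v)⁻¹ * bf J w (w - v)) • (w - v) = v := by
    rw [bf_sub_right, hJ.alt, zero_sub, mul_neg, inv_mul_cancel₀ hne]
    module
  rwa [hv] at h

theorem all_N (hR : RInv J R) (hJ : SympG J) (w : Fin n → F) (hw : w ≠ 0) (hN : E J w w ∈ R)
    (v : Fin n → F) (hv : v ≠ 0) : E J v v ∈ R := by
  obtain ⟨z1, hz1⟩ := exists_bf_ne hJ w hw
  obtain ⟨z2, hz2⟩ := exists_bf_ne hJ v hv
  have fin : ∀ z : Fin n → F, bf J w z ≠ 0 → bf J v z ≠ 0 → E J v v ∈ R := by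
    intro z h1 h2
    have hz := hR.move hJ w z hN h1
    apply hR.move hJ z v hz
    rw [hJ.skew]; exact neg_ne_zero.mpr h2
  by_cases h1 : bf J v z1 = 0
  · by_cases h2 : bf J w z2 = 0
    · apply fin (z1 + z2)
      · rw [bf_add_right, h2, add_zero]; exact hz1
      · rw [bf_add_right, h1, zero_add]; exact hz2
    · exact fin z2 h2 hz2
  · exact fin z1 hz1 h1

theorem all_E (hR : RInv J R) (hJ : SympG J) (hall : ∀ v : Fin n → F, v ≠ 0 → E J v v ∈ R)
    (v w : Fin n → F) : E J v w ∈ R := by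
  have key : ∀ v w : Fin n → F, bf J w v ≠ 0 → E J v w ∈ R := by
    intro v w h
    have hv : v ≠ 0 := by
      rintro rfl
      exact h (bf_zero_right _ _)
    have hw : w ≠ 0 := by
      rintro rfl
      exact h (bf_zero_left _ _)
    have hm := hR.mul _ (hall v hv) _ (hall w hw)
    rw [E_mul_E] at hm
    have := hR.smul (bf J w v)⁻¹ hm
    rwa [inv_smul_smul₀ h] at this
  by_cases hv : v = 0
  · rw [hv, E_zero_left]; exact hR.zero
  by_cases h : bf J w v = 0
  · obtain ⟨y, hy⟩ := exists_bf_ne hJ v hv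
    have hz : bf J y v ≠ 0 := by rw [hJ.skew]; exact neg_ne_zero.mpr hy
    have h1 : E J v (w + y) ∈ R := key v (w + y) (by rw [bf_add_left, h, zero_add]; exact hz)
    have h2 : E J v y ∈ R := key v y hz
    have e : E J v w = E J v (w + y) - E J v y := by rw [E_add_right]; abel
    rw [e]; exact hR.sub h1 h2
  · exact key v w h

theorem all_mem (hR : RInv J R) (hJ : SympG J) (hallE : ∀ v w : Fin n → F, E J v w ∈ R)
    (C : Matrix (Fin n) (Fin n) F) : C ∈ R := by
  have hinj : Function.Injective J.mulVec := by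
    intro x y hxy
    have h0 : J *ᵥ (x - y) = 0 := by rw [Matrix.mulVec_sub, hxy, sub_self]
    have : x - y = 0 := by
      apply hJ.nondeg
      intro z
      rw [hJ.skew]
      unfold bf
      rw [h0, dotProduct_zero, neg_zero]
    exact sub_eq_zero.mp this
  have hsurj : Function.Surjective J.mulVec :=
    Matrix.mulVec_surjective_iff_isUnit.mpr (Matrix.mulVec_injective_iff_isUnit.mp hinj)
  have hsingle : ∀ (i j : Fin n) (c : F), Matrix.single i j c ∈ R := by
    intro i j c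
    obtain ⟨wj, hwj⟩ := hsurj (Pi.single j 1)
    have e : Matrix.single i j c = E J (Pi.single i c) wj := by
      unfold E
      rw [hwj]
      ext i' j'
      simp only [Matrix.vecMulVec_apply, Matrix.single_apply, Pi.single_apply]
      by_cases h1 : i = i' <;> by_cases h2 : j = j' <;> simp [h1, h2, eq_comm]
    rw [e]; exact hallE _ _
  rw [Matrix.matrix_eq_sum_single C]
  apply Finset.sum_induction _ (fun M => M ∈ R) (fun A B hA hB => hR.add _ hA _ hB) hR.zero
  intro i _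
  apply Finset.sum_induction _ (fun M => M ∈ R) (fun A B hA hB => hR.add _ hA _ hB) hR.zero
  intro j _
  exact hsingle i j _

theorem exists_N [Fintype F] (hR : RInv J R) (hJ : SympG J) (hn : 2 ≤ n)
    (hex : ¬ (Fintype.card F = 2 ∧ n = 2)) (C0 : Matrix (Fin n) (Fin n) F) (hC0 : C0 ∈ R)
    (hns : ¬ IsScal C0) : ∃ w : Fin n → F, w ≠ 0 ∧ E J w w ∈ R := by
  obtain ⟨u', hu'e⟩ := exists_not_eigen C0 (fun z hz => hns ⟨z, hz⟩)
  have hu' : u' ≠ 0 := by
    rintro rfl
    exact hu'e 0 (by rw [Matrix.mulVec_zero, smul_zero])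
  obtain ⟨u, hu1, hu2⟩ := exists_dual hJ u' (C0 *ᵥ u') hu' hu'e 0 (-1)
  have hα : bf J (C0 *ᵥ u') u ≠ 0 := by
    rw [hJ.skew, hu2, neg_neg]; exact one_ne_zero
  by_cases hdep : ∃ s : F, u = s • u'
  · obtain ⟨s, rfl⟩ := hdep
    have hne : bf J (C0 *ᵥ u') u' ≠ 0 := by
      intro h0; apply hα; rw [bf_smul_right, h0, mul_zero]
    by_cases hc : ∃ c : F, c ≠ 0 ∧ c ≠ 1
    · obtain ⟨c, hc0, hc1⟩ := hc
      exact ⟨u', hu', hR.mem_of_c hC0 u' c hc0 hc1 hne⟩
    · push Not at hc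
      have hcard : Fintype.card F = 2 :=
        card_eq_two (fun c => by
          by_cases h : c = 0
          · exact Or.inl h
          · exact Or.inr (hc c h))
      have h3 : 3 ≤ n := by
        by_contra hlt
        exact hex ⟨hcard, by omega⟩
      obtain ⟨x, hx0, hxs⟩ := exists_perp_not_span (J := J) h3 u'
      by_cases hx : bf J (C0 *ᵥ u') x = 0
      · apply hR.main_step hJ hC0 (s • u' + x) u' hu'
        · intro t ht
          apply hxs (t - s)
          rw [sub_smul, ← ht]; abel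
        · rw [bf_add_left, bf_smul_left, hJ.alt, mul_zero, zero_add]; exact hx0
        · rw [bf_add_right, hx, add_zero]; exact hα
      · exact hR.main_step hJ hC0 x u' hu' hxs hx0 hx
  · push Not at hdep
    exact hR.main_step hJ hC0 u u' hu' hdep hu1 hα

end RInv

/-- **FO-RING** (exact signature of the stub `ring_gen` of `Cfsg.Agent.Lib.Helper3.SpTL2`) -/
theorem ring_gen [Fintype F] {a : ℕ} {J1 : Matrix (Fin a) (Fin a) F} (hJ1 : SympG J1) (ha : 2 ≤ a)
    (hex : ¬ (Fintype.card F = 2 ∧ a = 2))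
    (R : Set (Matrix (Fin a) (Fin a) F))
    (hsc : ∀ c : F, c • (1 : Matrix (Fin a) (Fin a) F) ∈ R)
    (hadd : ∀ C ∈ R, ∀ C' ∈ R, C + C' ∈ R) (hmul : ∀ C ∈ R, ∀ C' ∈ R, C * C' ∈ R)
    (hconj : ∀ C ∈ R, ∀ (u : Fin a → F) (c : F), (1 + c • E J1 u u) * C * (1 - c • E J1 u u) ∈ R)
    (C0 : Matrix (Fin a) (Fin a) F) (hC0 : C0 ∈ R) (hns : ¬ IsScal C0) :
    ∀ C : Matrix (Fin a) (Fin a) F, C ∈ R := by
  have hR : RInv J1 R := ⟨hsc, hadd, hmul, hconj⟩
  obtain ⟨w, hw, hN⟩ := hR.exists_N hJ1 ha hex C0 hC0 hns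
  intro C
  exact hR.all_mem hJ1 (hR.all_E hJ1 (hR.all_N hJ1 w hw hN)) C

end Cfsg.Agent.Lib.Helper17.S5704RING
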