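import Mathlib.GroupTheory.Sylow
import Mathlib.GroupTheory.IsSubnormal
import Cfsg.Prelude.Def_Solvable
import Cfsg.Prelude.Def_Amalgam
import Cfsg.Agent.Lib.Helper17.Basic
import Cfsg.Agent.Lib.Helper17.Coprime

set_option autoImplicit false

namespace Cfsg.Agent.Lib.Helper17

open Cfsg
open scoped commutatorElement

section pelements

variable {G : Type*} [Group G] {p : ℕ}

/-- A subgroup of a finite group all of whose `p'`-elements are trivial is a `p`-group. -/
theorem isPGroup_of_coprime_elements_trivial [Finite G] [hp : Fact p.Prime] {C : Subgroup G}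
    (h : ∀ c ∈ C, (orderOf c).Coprime p → c = 1) : IsPGroup p C := by
  rintro ⟨c, hc⟩
  have hn : orderOf c ≠ 0 := (orderOf_pos c).ne'
  obtain ⟨e, m, hm, hnm⟩ := Nat.exists_eq_pow_mul_and_not_dvd hn p hp.out.ne_one
  refine ⟨e, Subtype.ext ?_⟩
  have hdvd : p ^ e ∣ orderOf c := ⟨m, hnm⟩
  have hpe : p ^ e ≠ 0 := pow_ne_zero _ hp.out.ne_zero
  have h1 : orderOf (c ^ p ^ e) = m := by
    rw [orderOf_pow_of_dvd hpe hdvd, hnm, Nat.mul_div_cancel_left _ (Nat.pos_of_ne_zero hpe)]
  have h2 : (orderOf (c ^ p ^ e)).Coprime p := by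
    rw [h1, Nat.coprime_comm]
    exact (Nat.Prime.coprime_iff_not_dvd hp.out).mpr hm
  simpa using h (c ^ p ^ e) (C.pow_mem hc _) h2

end pelements

section pCoreOf

variable {G : Type*} [Group G] {p : ℕ}

theorem pCoreOf_le (L : Subgroup G) : pCoreOf p L ≤ L := by
  unfold pCoreOf
  exact Subgroup.map_subtype_le _

theorem pCoreOf_isPGroup [Finite G] [Fact p.Prime] (L : Subgroup G) : IsPGroup p (pCoreOf p L) := by
  unfold pCoreOf
  exact (pCore_isPGroup (G := L)).map _

/-- `L` normalizes `O_p(L)`. -/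
theorem le_normalizer_pCoreOf (L : Subgroup G) : L ≤ Subgroup.normalizer (pCoreOf p L : Set G) := by
  intro g hg
  rw [Subgroup.mem_normalizer_iff]
  intro x
  have hn : (pCore p L).Normal := pCore_normal
  unfold pCoreOf
  constructor
  · rintro ⟨y, hy, rfl⟩
    exact ⟨⟨g, hg⟩ * y * ⟨g, hg⟩⁻¹, hn.conj_mem y hy ⟨g, hg⟩, rfl⟩
  · rintro ⟨y, hy, hyx⟩
    refine ⟨⟨g, hg⟩⁻¹ * y * ⟨g, hg⟩, ?_, ?_⟩
    · have := hn.conj_mem y hy ⟨g, hg⟩⁻¹
      simpa using this
    · simp only [Subgroup.subtype_apply, Subgroup.coe_mul, Subgroup.coe_inv] at hyx ⊢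
      rw [hyx]; group

/-- A `p`-subgroup `N ≤ L` normalized by `L` lies in `O_p(L)`. -/
theorem le_pCoreOf {N L : Subgroup G} (hNL : N ≤ L) (hLN : L ≤ Subgroup.normalizer (N : Set G))
    (hN : IsPGroup p N) : N ≤ pCoreOf p L := by
  have h := subgroupOf_le_pCore hLN hN
  intro x hx
  exact ⟨⟨x, hNL hx⟩, h (by rw [Subgroup.mem_subgroupOf]; exact hx), rfl⟩

/-- The normalizer of `L` normalizes `O_p(L)`. -/
theorem normalizer_le_normalizer_pCoreOf [Finite G] [Fact p.Prime] (L : Subgroup G) :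
    Subgroup.normalizer (L : Set G) ≤ Subgroup.normalizer (pCoreOf p L : Set G) := by
  intro g hg
  apply Subgroup.mem_normalizer_fintype
  intro x hx
  -- the conjugate of O_p(L) by g is a p-subgroup of L normalized by L
  have hgL : ∀ y, y ∈ L ↔ g * y * g⁻¹ ∈ L := by
    rw [Subgroup.mem_normalizer_iff] at hg; exact hg
  have hle : (pCoreOf p L).map (MulAut.conj g).toMonoidHom ≤ pCoreOf p L := by
    apply le_pCoreOf
    · rintro _ ⟨y, hy, rfl⟩
      exact (hgL y).mp (pCoreOf_le L hy)
    · intro l hl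
      apply Subgroup.mem_normalizer_fintype
      rintro _ ⟨y, hy, rfl⟩
      have hl' : g⁻¹ * l * g ∈ L := by
        rw [hgL]; simpa [mul_assoc] using hl
      have h1 := le_normalizer_pCoreOf (p := p) L hl'
      rw [Subgroup.mem_normalizer_iff] at h1
      refine ⟨(g⁻¹ * l * g) * y * (g⁻¹ * l * g)⁻¹, (h1 y).mp hy, ?_⟩
      simp only [MulEquiv.toMonoidHom_eq_coe, MonoidHom.coe_coe, MulAut.conj_apply]
      group
    · exact (pCoreOf_isPGroup L).map _
  exact hle ⟨x, hx, rfl⟩

/-- `O_p(⊤) = O_p(G)`. -/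
theorem pCoreOf_top [Finite G] [Fact p.Prime] : pCoreOf p (⊤ : Subgroup G) = pCore p G := by
  apply le_antisymm
  · apply le_pCore
    · have hn : (pCore p (⊤ : Subgroup G)).Normal := pCore_normal
      constructor
      rintro _ ⟨y, hy, rfl⟩ g
      exact ⟨⟨g, Subgroup.mem_top g⟩ * y * ⟨g, Subgroup.mem_top g⟩⁻¹,
        hn.conj_mem y hy _, rfl⟩
    · exact pCoreOf_isPGroup ⊤
  · apply le_pCoreOf le_top
    · rw [Subgroup.normalizer_eq_top]
    · exact pCore_isPGroup

end pCoreOf

section charP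

variable {G : Type*} [Group G] {p : ℕ}

/-- Internal form of "the subgroup `L` has characteristic `p`". -/
def IsCharPSub (p : ℕ) (L : Subgroup G) : Prop :=
  L ⊓ Subgroup.centralizer (pCoreOf p L : Set G) ≤ pCoreOf p L

theorem isCharPSub_iff (L : Subgroup G) :
    Subgroup.centralizer (pCore p ↥L : Set ↥L) ≤ pCore p ↥L ↔ IsCharPSub p L := by
  unfold IsCharPSub
  constructor
  · intro h x hx
    obtain ⟨hxL, hxC⟩ := Subgroup.mem_inf.mp hx
    have h1 : (⟨x, hxL⟩ : L) ∈ Subgroup.centralizer (pCore p ↥L : Set ↥L) := by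
      rw [Subgroup.mem_centralizer_iff]
      intro y hy
      rw [Subgroup.mem_centralizer_iff] at hxC
      have := hxC (y : G) ⟨y, hy, rfl⟩
      exact Subtype.ext this
    exact ⟨⟨x, hxL⟩, h h1, rfl⟩
  · intro h x hx
    have h1 : (x : G) ∈ L ⊓ Subgroup.centralizer (pCoreOf p L : Set G) := by
      refine Subgroup.mem_inf.mpr ⟨x.2, ?_⟩
      rw [Subgroup.mem_centralizer_iff]
      rintro _ ⟨y, hy, rfl⟩
      rw [Subgroup.mem_centralizer_iff] at hx
      have := hx y hy
      exact congrArg Subtype.val this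
    obtain ⟨y, hy, hyx⟩ := h h1
    have : y = x := Subtype.ext hyx
    rwa [← this]

theorem isCharPSub_top_iff [Finite G] [Fact p.Prime] :
    IsCharPSub p (⊤ : Subgroup G) ↔ Subgroup.centralizer (pCore p G : Set G) ≤ pCore p G := by
  unfold IsCharPSub
  rw [pCoreOf_top, top_inf_eq]

/-- A normal subgroup of a group of characteristic `p` has characteristic `p` (internal form). -/
theorem isCharPSub_of_normal [Finite G] [Fact p.Prime] {L K : Subgroup G} (hLK : L ≤ K)
    (hKL : K ≤ Subgroup.normalizer (L : Set G)) (hK : IsCharPSub p K) : IsCharPSub p L := by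
  set R := pCoreOf p L with hR
  set Q := pCoreOf p K with hQ
  have hKR : K ≤ Subgroup.normalizer (R : Set G) := hKL.trans (normalizer_le_normalizer_pCoreOf L)
  have hKQ : K ≤ Subgroup.normalizer (Q : Set G) := le_normalizer_pCoreOf K
  have hQp : IsPGroup p Q := pCoreOf_isPGroup K
  -- C = C_L(R) is a p-group
  have hCp : IsPGroup p (L ⊓ Subgroup.centralizer (R : Set G) : Subgroup G) := by
    apply isPGroup_of_coprime_elements_trivial
    intro c hc hcop
    obtain ⟨hcL, hcC⟩ := Subgroup.mem_inf.mp hc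
    have hcK : c ∈ K := hLK hcL
    -- c centralizes Q by stability, with P₁ = Q ⊓ L ≤ R
    have hP₁R : Q ⊓ L ≤ R := by
      apply le_pCoreOf inf_le_right
      · intro l hl
        have h1 := hKQ (hLK hl)
        rw [Subgroup.mem_normalizer_iff] at h1 ⊢
        intro x
        simp only [Subgroup.mem_inf]
        constructor
        · rintro ⟨hxQ, hxL⟩
          exact ⟨(h1 x).mp hxQ, L.mul_mem (L.mul_mem hl hxL) (L.inv_mem hl)⟩
        · rintro ⟨hxQ, hxL⟩
          refine ⟨(h1 x).mpr hxQ, ?_⟩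
          have : x = l⁻¹ * (l * x * l⁻¹) * l := by group
          rw [this]
          exact L.mul_mem (L.mul_mem (L.inv_mem hl) hxL) hl
      · exact hQp.to_inf_left
    have hcent : ∀ x ∈ Q, c * x = x * c := by
      apply stability_centralizes hQp hcop (inf_le_left : Q ⊓ L ≤ Q)
      · intro x hx
        refine Subgroup.mem_inf.mpr ⟨?_, ?_⟩
        · -- [x, c] = x * (c x⁻¹ c⁻¹) ∈ Q
          have h1 := hKQ hcK
          rw [Subgroup.mem_normalizer_iff] at h1
          have h2 : c * x⁻¹ * c⁻¹ ∈ Q := (h1 x⁻¹).mp (Q.inv_mem hx)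
          have : ⁅x, c⁆ = x * (c * x⁻¹ * c⁻¹) := by rw [commutatorElement_def]; group
          rw [this]
          exact Q.mul_mem hx h2
        · -- [x, c] = (x c x⁻¹) c⁻¹ ∈ L
          have h1 := hKL (pCoreOf_le K hx)
          rw [Subgroup.mem_normalizer_iff] at h1
          have h2 : x * c * x⁻¹ ∈ L := (h1 c).mp hcL
          have : ⁅x, c⁆ = (x * c * x⁻¹) * c⁻¹ := by rw [commutatorElement_def]
          rw [this]
          exact L.mul_mem h2 (L.inv_mem hcL)
      · intro y hy
        rw [Subgroup.mem_centralizer_iff] at hcC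
        exact (hcC y (hP₁R hy)).symm
    have hcQ : c ∈ Q := by
      apply hK
      refine Subgroup.mem_inf.mpr ⟨hcK, ?_⟩
      rw [Subgroup.mem_centralizer_iff]
      intro x hx
      exact (hcent x hx).symm
    -- c is both a p-element and a p'-element
    obtain ⟨m, hm⟩ := hQp ⟨c, hcQ⟩
    have h5 : c ^ p ^ m = 1 := by
      have := congrArg Subtype.val hm
      simpa using this
    have h7 : orderOf c ∣ p ^ m := orderOf_dvd_of_pow_eq_one h5
    have h8 : orderOf c = 1 :=
      Nat.eq_one_of_dvd_coprimes (hcop.pow_right m) dvd_rfl h7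
    exact orderOf_eq_one_iff.mp h8
  -- C ≤ L is normalized by L, so C ≤ O_p(L)
  unfold IsCharPSub
  apply le_pCoreOf inf_le_left _ hCp
  intro l hl
  have h1 := le_normalizer_pCoreOf (p := p) L hl
  have h2 := normalizer_le_normalizer_centralizer _ h1
  rw [Subgroup.mem_normalizer_iff] at h2 ⊢
  intro x
  simp only [Subgroup.mem_inf]
  constructor
  · rintro ⟨hxL, hxC⟩
    exact ⟨L.mul_mem (L.mul_mem hl hxL) (L.inv_mem hl), (h2 x).mp hxC⟩
  · rintro ⟨hxL, hxC⟩
    refine ⟨?_, (h2 x).mpr hxC⟩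
    have : x = l⁻¹ * (l * x * l⁻¹) * l := by group
    rw [this]
    exact L.mul_mem (L.mul_mem (L.inv_mem hl) hxL) hl

/-- In a group of characteristic `p`, every subgroup containing `O_p(G)` has characteristic `p`. -/
theorem isCharPSub_of_pCore_le [Finite G] [Fact p.Prime]
    (hG : Subgroup.centralizer (pCore p G : Set G) ≤ pCore p G) {K : Subgroup G}
    (hK : pCore p G ≤ K) : IsCharPSub p K := by
  have hQ : pCore p G ≤ pCoreOf p K := by
    apply le_pCoreOf hK _ pCore_isPGroup
    rw [Subgroup.normalizer_eq_top]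
    exact le_top
  intro x hx
  apply hQ
  apply hG
  exact Subgroup.centralizer_le (by exact_mod_cast hQ) (Subgroup.mem_inf.mp hx).2

/-- In a group of characteristic `p`, every subgroup normalized by `O_p(G)` has characteristic `p`. -/
theorem isCharPSub_of_pCore_le_normalizer [Finite G] [Fact p.Prime]
    (hG : Subgroup.centralizer (pCore p G : Set G) ≤ pCore p G) {L : Subgroup G}
    (hL : pCore p G ≤ Subgroup.normalizer (L : Set G)) : IsCharPSub p L := by
  have hK : IsCharPSub p (L ⊔ pCore p G) := isCharPSub_of_pCore_le hG le_sup_right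
  apply isCharPSub_of_normal le_sup_left _ hK
  exact sup_le Subgroup.le_normalizer hL

end charP

end Cfsg.Agent.Lib.Helper17
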