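import Mathlib.GroupTheory.Sylow
import Cfsg.Prelude.Def_IsolatedElements
import Cfsg.Agent.Lib.Helper17.SylowLemmas

set_option autoImplicit false

namespace Cfsg.Agent.Lib.Helper17

open Cfsg

section isolated

variable {G : Type*} [Group G] [Finite G] {p : ℕ} [Fact p.Prime]

/-- An isolated element is central in every `p`-subgroup containing it. -/
theorem isolated_central_of_mem_pgroup {x : G} (hiso : IsIsolated x) {R : Subgroup G}
    (hR : IsPGroup p R) (hxR : x ∈ R) : ∀ r ∈ R, r * x = x * r := by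
  by_contra hne
  push Not at hne
  obtain ⟨r, hr, hrx⟩ := hne
  have hlt : R ⊓ Subgroup.centralizer ({x} : Set G) < R := by
    refine lt_of_le_of_ne inf_le_left ?_
    intro h
    have : r ∈ R ⊓ Subgroup.centralizer ({x} : Set G) := by rw [h]; exact hr
    have h2 := (Subgroup.mem_inf.mp this).2
    rw [Subgroup.mem_centralizer_iff] at h2
    exact hrx (h2 x rfl).symm
  obtain ⟨n, hnR, hnN, hnC⟩ := pgroup_normalizer_gt hR hlt
  have hxC : x ∈ R ⊓ Subgroup.centralizer ({x} : Set G) := by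
    refine Subgroup.mem_inf.mpr ⟨hxR, ?_⟩
    rw [Subgroup.mem_centralizer_iff]
    intro y hy
    rw [Set.mem_singleton_iff] at hy
    rw [hy]
  have h1 : n * x * n⁻¹ ∈ R ⊓ Subgroup.centralizer ({x} : Set G) := by
    rw [Subgroup.mem_normalizer_iff] at hnN
    exact (hnN x).mp hxC
  have h2 := (Subgroup.mem_inf.mp h1).2
  rw [Subgroup.mem_centralizer_iff] at h2
  have h3 : Commute x (n * x * n⁻¹) := h2 x rfl
  have h4 := hiso n h3
  apply hnC
  refine Subgroup.mem_inf.mpr ⟨hnR, ?_⟩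
  rw [Subgroup.mem_centralizer_iff]
  intro y hy
  rw [Set.mem_singleton_iff] at hy
  subst hy
  have := congrArg (· * n) h4
  simpa using this.symm

/-- The normalizer of a `p`-subgroup containing an isolated element centralizes that element. -/
theorem isolated_normalizer_le_centralizer {x : G} (hiso : IsIsolated x) {R : Subgroup G}
    (hR : IsPGroup p R) (hxR : x ∈ R) :
    Subgroup.normalizer (R : Set G) ≤ Subgroup.centralizer ({x} : Set G) := by
  intro g hg
  have h1 : g * x * g⁻¹ ∈ R := by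
    rw [Subgroup.mem_normalizer_iff] at hg
    exact (hg x).mp hxR
  have h2 : Commute x (g * x * g⁻¹) := (isolated_central_of_mem_pgroup hiso hR hxR _ h1).symm
  have h3 := hiso g h2
  rw [Subgroup.mem_centralizer_iff]
  intro y hy
  rw [Set.mem_singleton_iff] at hy
  subst hy
  have := congrArg (· * g) h3
  simpa using this.symm

omit [Finite G] in
/-- A conjugate of an isolated element is isolated. -/
theorem isolated_conj {x : G} (hiso : IsIsolated x) (g : G) : IsIsolated (g * x * g⁻¹) := by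
  intro h hc
  have h1 : Commute x ((g⁻¹ * h * g) * x * (g⁻¹ * h * g)⁻¹) := by
    have h2 : (g⁻¹ * h * g) * x * (g⁻¹ * h * g)⁻¹ = g⁻¹ * (h * (g * x * g⁻¹) * h⁻¹) * g := by group
    have h3 : x = g⁻¹ * (g * x * g⁻¹) * g := by group
    rw [h2]
    nth_rewrite 1 [h3]
    have := hc.eq
    unfold Commute SemiconjBy
    calc g⁻¹ * (g * x * g⁻¹) * g * (g⁻¹ * (h * (g * x * g⁻¹) * h⁻¹) * g)
        = g⁻¹ * ((g * x * g⁻¹) * (h * (g * x * g⁻¹) * h⁻¹)) * g := by group
      _ = g⁻¹ * ((h * (g * x * g⁻¹) * h⁻¹) * (g * x * g⁻¹)) * g := by rw [this]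
      _ = g⁻¹ * (h * (g * x * g⁻¹) * h⁻¹) * g * (g⁻¹ * (g * x * g⁻¹) * g) := by group
  have h4 := hiso _ h1
  calc h * (g * x * g⁻¹) * h⁻¹ = g * ((g⁻¹ * h * g) * x * (g⁻¹ * h * g)⁻¹) * g⁻¹ := by group
    _ = g * x * g⁻¹ := by rw [h4]

/-- Two conjugates of an isolated `p`-element inside a subgroup `C` are conjugate in `C`. -/
theorem isolated_conj_in_subgroup {x : G} (hx : ∃ k : ℕ, orderOf x = p ^ k) (hiso : IsIsolated x)
    (g : G) {C : Subgroup G} (hxC : x ∈ C) (hgC : g * x * g⁻¹ ∈ C) :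
    ∃ c ∈ C, c * x * c⁻¹ = g * x * g⁻¹ := by
  obtain ⟨k, hk⟩ := hx
  have hk' : orderOf (g * x * g⁻¹) = p ^ k := by
    rw [← hk]
    exact (MulAut.conj g).orderOf_eq x
  have hzp : IsPGroup p (Subgroup.zpowers (⟨x, hxC⟩ : C)) := by
    apply IsPGroup.of_card (n := k)
    rw [Nat.card_zpowers, ← hk]
    exact Subgroup.orderOf_mk x hxC
  have hzp' : IsPGroup p (Subgroup.zpowers (⟨g * x * g⁻¹, hgC⟩ : C)) := by
    apply IsPGroup.of_card (n := k)
    rw [Nat.card_zpowers, ← hk']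
    exact Subgroup.orderOf_mk _ hgC
  obtain ⟨R₀, hR₀⟩ := hzp.exists_le_sylow
  obtain ⟨R, hR⟩ := hzp'.exists_le_sylow
  obtain ⟨c, hc⟩ := MulAction.exists_smul_eq C R₀ R
  refine ⟨c, c.2, ?_⟩
  have h1 : (⟨x, hxC⟩ : C) ∈ (R₀ : Subgroup C) := hR₀ (Subgroup.mem_zpowers _)
  have h2 : c * (⟨x, hxC⟩ : C) * c⁻¹ ∈ (R : Subgroup C) := by
    rw [← hc, Sylow.coe_subgroup_smul, Subgroup.mem_pointwise_smul_iff_inv_smul_mem]
    simpa [MulAut.smul_def, mul_assoc] using h1
  have h3 : (⟨g * x * g⁻¹, hgC⟩ : C) ∈ (R : Subgroup C) := hR (Subgroup.mem_zpowers _)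
  have hRp : IsPGroup p ((R : Subgroup C).map C.subtype) := R.2.map _
  have h2' : (c : G) * x * (c : G)⁻¹ ∈ (R : Subgroup C).map C.subtype := ⟨_, h2, rfl⟩
  have h3' : g * x * g⁻¹ ∈ (R : Subgroup C).map C.subtype := ⟨_, h3, rfl⟩
  have hiso' := isolated_conj hiso g
  have hcomm : Commute (g * x * g⁻¹) ((c : G) * x * (c : G)⁻¹) :=
    (isolated_central_of_mem_pgroup hiso' hRp h3' _ h2').symm
  have heq : (c : G) * x * (c : G)⁻¹ = ((c : G) * g⁻¹) * (g * x * g⁻¹) * ((c : G) * g⁻¹)⁻¹ := by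
    group
  rw [heq] at hcomm ⊢
  exact hiso' _ hcomm

end isolated

end Cfsg.Agent.Lib.Helper17
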