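import Mathlib
import Cfsg.Prelude
import Cfsg.Agent.Lib.Helper1.Cores
import Cfsg.Agent.Lib.Helper10.PComponent
import Cfsg.Agent.Lib.Helper7.NormalComplement
import Cfsg.Agent.Lib.Helper16.SylowInf
import Cfsg.Agent.Lib.Helper20.Subnormal
import Cfsg.Agent.Lib.Helper17.Isolated
import Cfsg.Agent.Lib.Helper17.CharP
import Cfsg.Agent.Lib.Helper17.StrongPEmb
import Cfsg.Agent.Lib.Helper17.Conj

/-!
Minimal counterexamples to the `Z*_p`-statement: an isolated element `x` of order `p` which is not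
central modulo `O_{p'}(G)`, while this holds in all proper subgroups containing `x` and in all
proper quotients.
-/

set_option autoImplicit false

namespace Cfsg.Agent.Lib.Helper17

open Cfsg Cfsg.Agent.Lib.Helper1
open scoped commutatorElement Pointwise

/-- `x` makes `G` a minimal counterexample to the `Z*_p`-statement. -/
structure IsMinZStarCE (p : ℕ) {G : Type*} [Group G] (x : G) : Prop where
  order : orderOf x = p
  iso : IsIsolated x
  nz : ¬ InZStar p x
  min : ∀ (H : Subgroup G) (hxH : x ∈ H), H ≠ ⊤ → InZStar p (⟨x, hxH⟩ : ↥H)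
  quot : ∀ (N : Subgroup G) [N.Normal], N ≠ ⊥ → InZStar p (QuotientGroup.mk x : G ⧸ N)

section cores

variable {G : Type*} [Group G] [Finite G]

/-- `O_{p'}(N) ≤ O_{p'}(G)` for `N` normal in `G`. -/
theorem map_pPrimeCore_le_of_normal (p : ℕ) (N : Subgroup G) [N.Normal] :
    (pPrimeCore p ↥N).map N.subtype ≤ pPrimeCore p G := by
  have : (pPrimeCore p ↥N).Characteristic := pPrimeCore_characteristic p
  apply le_pPrimeCore inferInstance
  rw [Subgroup.card_map_of_injective N.subtype_injective]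
  exact pPrimeCore_coprime p

/-- `O_p(N) ≤ O_p(G)` for `N` normal in `G`. -/
theorem map_pCore_le_of_normal (p : ℕ) (N : Subgroup G) [N.Normal] :
    (pCore p ↥N).map N.subtype ≤ pCore p G := by
  have : (pCore p ↥N).Characteristic := pCore_characteristic p
  apply le_pCore inferInstance
  exact (Cfsg.Agent.Lib.Helper1.pCore_isPGroup p).map _

/-- A `p'`-subgroup `A` of a normal subgroup `N` of `G` normalized by `N` lies in `O_{p'}(G)`. -/
theorem le_pPrimeCore_of_le_normal {p : ℕ} {A N : Subgroup G} [N.Normal] (hAN : A ≤ N)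
    (hN : N ≤ Subgroup.normalizer (A : Set G)) (hA : (Nat.card A).Coprime p) :
    A ≤ pPrimeCore p G := by
  have h1 : (A.subgroupOf N).Normal := Subgroup.normal_subgroupOf_iff_le_normalizer hAN |>.mpr hN
  have h2 : A.subgroupOf N ≤ pPrimeCore p ↥N := by
    apply le_pPrimeCore h1
    rw [Nat.card_congr (Subgroup.subgroupOfEquivOfLe hAN).toEquiv]
    exact hA
  have h3 := Subgroup.map_mono (f := N.subtype) h2
  rw [Subgroup.subgroupOf_map_subtype, inf_eq_left.mpr hAN] at h3
  exact h3.trans (map_pPrimeCore_le_of_normal p N)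

/-- A `p`-subgroup `A` of a normal subgroup `N` of `G` normalized by `N` lies in `O_p(G)`. -/
theorem le_pCore_of_le_normal {p : ℕ} {A N : Subgroup G} [N.Normal] (hAN : A ≤ N)
    (hN : N ≤ Subgroup.normalizer (A : Set G)) (hA : IsPGroup p A) :
    A ≤ pCore p G := by
  have h1 : (A.subgroupOf N).Normal := Subgroup.normal_subgroupOf_iff_le_normalizer hAN |>.mpr hN
  have h2 : A.subgroupOf N ≤ pCore p ↥N := le_pCore h1 hA.comap_subtype
  have h3 := Subgroup.map_mono (f := N.subtype) h2
  rw [Subgroup.subgroupOf_map_subtype, inf_eq_left.mpr hAN] at h3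
  exact h3.trans (map_pCore_le_of_normal p N)

end cores

namespace IsMinZStarCE

variable {G : Type*} [Group G] [Finite G] {p : ℕ} [Fact p.Prime] {x : G}

/-- In a minimal counterexample `O_{p'}(G) = 1`. -/
theorem pPrimeCore_eq_bot (h : IsMinZStarCE p x) : pPrimeCore p G = ⊥ := by
  by_contra hne
  apply h.nz
  intro g
  have h1 := h.quot (pPrimeCore p G) hne (QuotientGroup.mk g)
  rw [Cfsg.Agent.Lib.Helper10.pPrimeCore_quotient_eq_bot, Subgroup.mem_bot] at h1
  have h2 : (QuotientGroup.mk (g * x * g⁻¹ * x⁻¹) : G ⧸ pPrimeCore p G) = 1 := by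
    simpa using h1
  exact (QuotientGroup.eq_one_iff _).mp h2

/-- In a minimal counterexample `x` is not central. -/
theorem not_central (h : IsMinZStarCE p x) : ¬ ∀ g : G, g * x * g⁻¹ = x := by
  intro hc
  apply h.nz
  intro g
  rw [hc g, mul_inv_cancel]
  exact Subgroup.one_mem _

/-- In a minimal counterexample `G` is the normal closure of `x`. -/
theorem normalClosure_eq_top (h : IsMinZStarCE p x) : Subgroup.normalClosure ({x} : Set G) = ⊤ := by
  by_contra hne
  apply h.not_central
  have hxL : x ∈ Subgroup.normalClosure ({x} : Set G) :=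
    Subgroup.subset_normalClosure (Set.mem_singleton x)
  have h1 := h.min _ hxL hne
  have h2 := map_pPrimeCore_le_of_normal p (Subgroup.normalClosure ({x} : Set G))
  rw [h.pPrimeCore_eq_bot, le_bot_iff] at h2
  intro g
  apply h.iso g
  have hg : g * x * g⁻¹ ∈ Subgroup.normalClosure ({x} : Set G) :=
    Subgroup.normalClosure_normal.conj_mem _ hxL g
  have h3 := h1 ⟨g * x * g⁻¹, hg⟩
  have h4 : ((⟨g * x * g⁻¹, hg⟩ * ⟨x, hxL⟩ * (⟨g * x * g⁻¹, hg⟩)⁻¹ * (⟨x, hxL⟩)⁻¹ :
      ↥(Subgroup.normalClosure ({x} : Set G))) : G) ∈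
      (pPrimeCore p ↥(Subgroup.normalClosure ({x} : Set G))).map
        (Subgroup.normalClosure ({x} : Set G)).subtype :=
    Subgroup.mem_map_of_mem _ h3
  rw [h2, Subgroup.mem_bot] at h4
  simp only [Subgroup.coe_mul, Subgroup.coe_inv] at h4
  have h5 : g * x * g⁻¹ * x = x * (g * x * g⁻¹) := by
    have := congrArg (· * (x * (g * x * g⁻¹))) h4
    simpa [mul_assoc] using this
  exact h5.symm

/-- In a minimal counterexample `O_p(G) = 1`. -/
theorem pCore_eq_bot (h : IsMinZStarCE p x) : pCore p G = ⊥ := by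
  by_contra hne
  have hp : p.Prime := Fact.out
  set Q := pCore p G with hQ
  have hQn : Q.Normal := Cfsg.Agent.Lib.Helper1.pCore_normal p
  have hQp : IsPGroup p Q := Cfsg.Agent.Lib.Helper1.pCore_isPGroup p
  have hxp : IsPGroup p (Subgroup.zpowers x) := by
    apply IsPGroup.of_card (n := 1)
    rw [Nat.card_zpowers, h.order, pow_one]
  have hR : IsPGroup p (Subgroup.zpowers x ⊔ Q : Subgroup G) := hxp.to_sup_of_normal_right hQp
  have h1 : ∀ u ∈ Q, u * x = x * u := fun u hu =>
    isolated_central_of_mem_pgroup h.iso hR (Subgroup.mem_sup_left (Subgroup.mem_zpowers x)) u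
      (Subgroup.mem_sup_right hu)
  have h2 : Subgroup.centralizer (Q : Set G) = ⊤ := by
    rw [eq_top_iff, ← h.normalClosure_eq_top]
    apply Subgroup.normalClosure_le_normal
    intro y hy
    rw [Set.mem_singleton_iff] at hy
    subst hy
    rw [SetLike.mem_coe, Subgroup.mem_centralizer_iff]
    intro u hu
    exact h1 u hu
  have hcen : ∀ u ∈ Q, ∀ g : G, u * g = g * u := by
    intro u hu g
    have hg : g ∈ Subgroup.centralizer (Q : Set G) := by rw [h2]; trivial
    rw [Subgroup.mem_centralizer_iff] at hg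
    exact hg u hu
  have h3 := h.quot Q hne
  set M := (pPrimeCore p (G ⧸ Q)).comap (QuotientGroup.mk' Q) with hM
  have hMn : M.Normal := Subgroup.Normal.comap inferInstance _
  have hQM : Q ≤ M := by
    intro u hu
    rw [hM, Subgroup.mem_comap]
    have : QuotientGroup.mk' Q u = 1 := (QuotientGroup.eq_one_iff u).mpr hu
    rw [this]
    exact Subgroup.one_mem _
  have hcard : Nat.card M = Nat.card (pPrimeCore p (G ⧸ Q)) * Nat.card Q :=
    Cfsg.Agent.Lib.Helper1.card_comap_mk Q _
  have hrel : Q.relIndex M = Nat.card (pPrimeCore p (G ⧸ Q)) := by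
    have h4 := Cfsg.Agent.Lib.Helper1.card_mul_relIndex_of_le hQM
    rw [hcard, mul_comm] at h4
    exact Nat.eq_of_mul_eq_mul_right Nat.card_pos h4
  have hTp : IsPGroup p (Q.subgroupOf M) := hQp.comap_subtype
  have hidx : ¬ p ∣ (Q.subgroupOf M).index := by
    change ¬ p ∣ Q.relIndex M
    rw [hrel]
    exact (Nat.Prime.coprime_iff_not_dvd hp).mp (pPrimeCore_coprime p).symm
  let T : Sylow p ↥M := hTp.toSylow hidx
  have hT : (T : Subgroup ↥M) = Q.subgroupOf M := rfl
  have hle : Subgroup.normalizer ((T : Subgroup ↥M) : Set ↥M) ≤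
      Subgroup.centralizer ((T : Subgroup ↥M) : Set ↥M) := by
    intro m _
    rw [Subgroup.mem_centralizer_iff]
    intro t ht
    rw [SetLike.mem_coe, hT, Subgroup.mem_subgroupOf] at ht
    exact Subtype.ext (hcen _ ht _)
  obtain ⟨K, hKn, hKp, hKall⟩ :=
    Cfsg.Agent.Lib.Helper7.exists_normal_pPrime_of_normalizer_le_centralizer T hle
  have hK1 : K ≤ pPrimeCore p ↥M :=
    le_pPrimeCore hKn ((Nat.Prime.coprime_iff_not_dvd hp).mpr hKp).symm
  have hK2 : K = ⊥ := by
    have h5 := (Subgroup.map_mono (f := M.subtype) hK1).trans (map_pPrimeCore_le_of_normal p M)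
    rw [h.pPrimeCore_eq_bot, le_bot_iff] at h5
    exact (Subgroup.map_eq_bot_iff_of_injective _ M.subtype_injective).mp h5
  have hMp : IsPGroup p M := by
    apply isPGroup_of_coprime_elements_trivial
    intro c hc hco
    have h6 : (⟨c, hc⟩ : ↥M) ∈ K := by
      apply hKall
      rwa [Subgroup.orderOf_mk]
    rw [hK2, Subgroup.mem_bot] at h6
    exact congrArg Subtype.val h6
  have hMQ : M ≤ Q := le_pCore hMn hMp
  apply h.not_central
  intro g
  apply h.iso g
  have h7 : g * x * g⁻¹ * x⁻¹ ∈ Q := by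
    apply hMQ
    rw [hM, Subgroup.mem_comap]
    have := h3 (QuotientGroup.mk g)
    simpa using this
  have h8 := hcen _ h7 x
  have h9 : g * x * g⁻¹ * x = x * (g * x * g⁻¹) := by
    have := congrArg (· * x) h8
    simpa [mul_assoc] using this
  exact h9.symm

/-- In a minimal counterexample `O_q(G) = 1` for every prime `q`. -/
theorem pCore_eq_bot' (h : IsMinZStarCE p x) (q : ℕ) [Fact q.Prime] : pCore q G = ⊥ := by
  by_cases hqp : q = p
  · subst hqp
    exact h.pCore_eq_bot
  · have h1 : pCore q G ≤ pPrimeCore p G := by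
      apply le_pPrimeCore (Cfsg.Agent.Lib.Helper1.pCore_normal q)
      obtain ⟨k, hk⟩ := (IsPGroup.iff_card).mp (Cfsg.Agent.Lib.Helper1.pCore_isPGroup (G := G) q)
      rw [hk]
      exact Nat.Coprime.pow_left k ((Nat.coprime_primes Fact.out Fact.out).mpr hqp)
    rwa [h.pPrimeCore_eq_bot, le_bot_iff] at h1

/-- In a minimal counterexample a `q`-subgroup of a normal subgroup `N` normalized by `N` is trivial. -/
theorem eq_bot_of_isPGroup_of_le_normal (h : IsMinZStarCE p x) {q : ℕ} [Fact q.Prime]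
    {A N : Subgroup G} [N.Normal] (hAN : A ≤ N) (hN : N ≤ Subgroup.normalizer (A : Set G))
    (hA : IsPGroup q A) : A = ⊥ := by
  have := le_pCore_of_le_normal hAN hN hA
  rwa [h.pCore_eq_bot' q, le_bot_iff] at this

/-- In a minimal counterexample a `p'`-subgroup of a normal subgroup `N` normalized by `N` is
trivial. -/
theorem eq_bot_of_coprime_of_le_normal (h : IsMinZStarCE p x)
    {A N : Subgroup G} [N.Normal] (hAN : A ≤ N) (hN : N ≤ Subgroup.normalizer (A : Set G))
    (hA : (Nat.card A).Coprime p) : A = ⊥ := by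
  have := le_pPrimeCore_of_le_normal hAN hN hA
  rwa [h.pPrimeCore_eq_bot, le_bot_iff] at this

omit [Finite G] [Fact p.Prime] in
theorem le_normalizer_map_subtype {H : Subgroup G} (L : Subgroup ↥H) [hL : L.Normal] :
    H ≤ Subgroup.normalizer ((L.map H.subtype : Subgroup G) : Set G) := by
  rw [Subgroup.le_normalizer_iff]
  rintro k hk _ ⟨y, hy, rfl⟩
  exact ⟨⟨k, hk⟩ * y * ⟨k, hk⟩⁻¹, hL.conj_mem y hy ⟨k, hk⟩, rfl⟩

/-- In a minimal counterexample `G = N⟨x⟩` for every nontrivial normal subgroup `N`. -/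
theorem sup_zpowers_eq_top (h : IsMinZStarCE p x) (N : Subgroup G) [hNn : N.Normal] (hN : N ≠ ⊥) :
    N ⊔ Subgroup.zpowers x = ⊤ := by
  by_contra hne
  set H := N ⊔ Subgroup.zpowers x with hH
  have hxH : x ∈ H := Subgroup.mem_sup_right (Subgroup.mem_zpowers x)
  have hNH : N ≤ H := le_sup_left
  have h1 := h.min H hxH hne
  set K := (pPrimeCore p ↥H).map H.subtype with hK
  have hKn : H ≤ Subgroup.normalizer (K : Set G) := le_normalizer_map_subtype _
  have hA : K ⊓ N = ⊥ := by
    apply h.eq_bot_of_coprime_of_le_normal (N := N) inf_le_right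
    · intro n hn
      exact mem_normalizer_inf (hKn (hNH hn)) (by rw [Subgroup.normalizer_eq_top]; trivial)
    · have h2 : Nat.card K = Nat.card (pPrimeCore p ↥H) :=
        Subgroup.card_map_of_injective H.subtype_injective
      have h3 : (Nat.card K).Coprime p := by rw [h2]; exact pPrimeCore_coprime p
      exact Nat.Coprime.coprime_dvd_left (Subgroup.card_dvd_of_le inf_le_left) h3
  have h2 : ∀ n ∈ N, n * x = x * n := by
    intro n hn
    have h3 : n * x * n⁻¹ * x⁻¹ ∈ K ⊓ N := by
      refine Subgroup.mem_inf.mpr ⟨?_, ?_⟩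
      · have := h1 ⟨n, hNH hn⟩
        exact ⟨_, this, rfl⟩
      · have h4 : x * n⁻¹ * x⁻¹ ∈ N := hNn.conj_mem _ (N.inv_mem hn) x
        have h5 : n * x * n⁻¹ * x⁻¹ = n * (x * n⁻¹ * x⁻¹) := by group
        rw [h5]
        exact N.mul_mem hn h4
    rw [hA, Subgroup.mem_bot] at h3
    have := congrArg (· * (x * n)) h3
    simpa [mul_assoc] using this
  have h3 : Subgroup.centralizer (N : Set G) = ⊤ := by
    rw [eq_top_iff, ← h.normalClosure_eq_top]
    apply Subgroup.normalClosure_le_normal
    intro y hy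
    rw [Set.mem_singleton_iff] at hy
    subst hy
    rw [SetLike.mem_coe, Subgroup.mem_centralizer_iff]
    intro u hu
    exact h2 u hu
  have hcen : ∀ u ∈ N, ∀ g : G, u * g = g * u := by
    intro u hu g
    have hg : g ∈ Subgroup.centralizer (N : Set G) := by rw [h3]; trivial
    rw [Subgroup.mem_centralizer_iff] at hg
    exact hg u hu
  -- an element of prime order in `N`
  have hcardN : Nat.card N ≠ 1 := fun hc => hN (Subgroup.card_eq_one.mp hc)
  obtain ⟨q, hq, hqd⟩ := Nat.exists_prime_and_dvd hcardN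
  have : Fact q.Prime := ⟨hq⟩
  obtain ⟨y, hy⟩ := exists_prime_orderOf_dvd_card' q hqd
  have hyq : IsPGroup q (Subgroup.zpowers (y : G)) := by
    apply IsPGroup.of_card (n := 1)
    rw [Nat.card_zpowers, Subgroup.orderOf_coe, hy, pow_one]
  have hyN : Subgroup.zpowers (y : G) ≤ N := by
    rw [Subgroup.zpowers_le]
    exact y.2
  have hbot : Subgroup.zpowers (y : G) = ⊥ := by
    apply h.eq_bot_of_isPGroup_of_le_normal (N := N) hyN _ hyq
    intro n _
    rw [Subgroup.mem_normalizer_iff]
    intro z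
    have hz : ∀ z : G, z ∈ Subgroup.zpowers (y : G) → n * z * n⁻¹ = z := by
      intro z hz
      have := hcen z (hyN hz) n
      rw [← this, mul_inv_cancel_right]
    constructor
    · intro hz'
      rw [hz z hz']
      exact hz'
    · intro hz'
      have h6 := hz _ hz'
      have h7 : n * z * n⁻¹ = z := by
        have := congrArg (fun w => n⁻¹ * w * n) h6
        simp only [mul_assoc, inv_mul_cancel_left, inv_mul_cancel, mul_one] at this
        rw [mul_assoc]
        exact this
      rw [← h7]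
      exact hz'
  rw [Subgroup.zpowers_eq_bot] at hbot
  have : orderOf (y : ↥N) = 1 := by
    rw [orderOf_eq_one_iff]
    exact Subtype.ext hbot
  rw [hy] at this
  exact hq.one_lt.ne' this

/-- In a minimal counterexample every nontrivial normal subgroup contains `G'`. -/
theorem commutator_le (h : IsMinZStarCE p x) (N : Subgroup G) [hNn : N.Normal] (hN : N ≠ ⊥) :
    commutator G ≤ N := by
  rw [commutator_def, Subgroup.commutator_le]
  have key : ∀ g : G, ∃ k : ℤ, (QuotientGroup.mk g : G ⧸ N) = (QuotientGroup.mk x : G ⧸ N) ^ k := by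
    intro g
    have hg : g ∈ ((N ⊔ Subgroup.zpowers x : Subgroup G) : Set G) := by
      rw [h.sup_zpowers_eq_top N hN]
      trivial
    rw [Subgroup.normal_mul] at hg
    obtain ⟨n, hn, z, hz, rfl⟩ := hg
    obtain ⟨k, rfl⟩ := Subgroup.mem_zpowers_iff.mp hz
    refine ⟨k, ?_⟩
    rw [QuotientGroup.mk_mul, (QuotientGroup.eq_one_iff n).mpr hn, one_mul, QuotientGroup.mk_zpow]
  intro g₁ _ g₂ _
  obtain ⟨k₁, hk₁⟩ := key g₁
  obtain ⟨k₂, hk₂⟩ := key g₂
  rw [← QuotientGroup.eq_one_iff, commutatorElement_def]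
  simp only [QuotientGroup.mk_mul, QuotientGroup.mk_inv, hk₁, hk₂]
  rw [← zpow_add, ← zpow_neg, ← zpow_neg, ← zpow_add, ← zpow_add]
  have : k₁ + k₂ + -k₁ + -k₂ = 0 := by ring
  rw [this, zpow_zero]

/-- In a minimal counterexample `G' ≠ 1`. -/
theorem commutator_ne_bot (h : IsMinZStarCE p x) : commutator G ≠ ⊥ := by
  intro hb
  apply h.not_central
  intro g
  have h1 : ⁅g, x⁆ ∈ commutator G := by
    rw [commutator_def]
    exact Subgroup.commutator_mem_commutator (Subgroup.mem_top g) (Subgroup.mem_top x)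
  rw [hb, Subgroup.mem_bot, commutatorElement_def] at h1
  have := congrArg (· * x) h1
  simpa using this

/-- In a minimal counterexample `G = G'⟨x⟩`. -/
theorem commutator_sup_zpowers (h : IsMinZStarCE p x) :
    commutator G ⊔ Subgroup.zpowers x = ⊤ :=
  h.sup_zpowers_eq_top (commutator G) h.commutator_ne_bot

/-- In a minimal counterexample `G'` is not abelian. -/
theorem not_isMulCommutative_commutator (h : IsMinZStarCE p x) :
    ¬ IsMulCommutative ↥(commutator G) := by
  intro hc
  apply h.commutator_ne_bot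
  have h1 : Group.IsNilpotent ↥(commutator G) :=
    ⟨⟨1, Subgroup.upperCentralSeries_one_eq_top_iff.mpr hc⟩⟩
  have h2 : commutator G ≤ fittingSubgroup G := le_fittingSubgroup inferInstance h1
  rw [fittingSubgroup_eq_iSup_primeFactors] at h2
  have h3 : (⨆ q : (Nat.card G).primeFactors, pCore (q : ℕ) G) = ⊥ := by
    rw [iSup_eq_bot]
    intro q
    have : Fact (q : ℕ).Prime := ⟨Nat.prime_of_mem_primeFactors q.2⟩
    exact h.pCore_eq_bot' q
  rwa [h3, le_bot_iff] at h2

/-- In a minimal counterexample, a nontrivial subgroup of `G'` normalized by `G'` equals `G'`. -/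
theorem eq_commutator_of_le_normalizer (h : IsMinZStarCE p x) {B : Subgroup G}
    (hBD : B ≤ commutator G) (hn : commutator G ≤ Subgroup.normalizer (B : Set G)) (hne : B ≠ ⊥) :
    B = commutator G := by
  have hp : p.Prime := Fact.out
  obtain ⟨B₀, hB₀, hB₀B⟩ := Cfsg.Agent.Lib.Helper20.exists_isMinNormalIn_le hBD hn hne
  obtain ⟨hB₀D, hn₀, hne₀, hmin₀⟩ := hB₀
  have hpB₀ : p ∣ Nat.card B₀ := by
    by_contra hnd
    exact hne₀ (h.eq_bot_of_coprime_of_le_normal hB₀D hn₀
      ((Nat.Prime.coprime_iff_not_dvd hp).mpr hnd).symm)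
  have hxp : IsPGroup p (Subgroup.zpowers x) := by
    apply IsPGroup.of_card (n := 1)
    rw [Nat.card_zpowers, h.order, pow_one]
  obtain ⟨P, hP⟩ := hxp.exists_le_sylow
  have hxP : x ∈ (P : Subgroup G) := hP (Subgroup.mem_zpowers x)
  obtain ⟨y, hyB, hyP, hy1⟩ : ∃ y : G, y ∈ B₀ ∧ y ∈ (P : Subgroup G) ∧ y ≠ 1 := by
    let P₁ : Sylow p ↥(commutator G) := Cfsg.Agent.Lib.Helper16.sylowInf P (commutator G)
    have : (B₀.subgroupOf (commutator G)).Normal :=
      (Subgroup.normal_subgroupOf_iff_le_normalizer hB₀D).mpr hn₀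
    let P₂ : Sylow p ↥(B₀.subgroupOf (commutator G)) :=
      Cfsg.Agent.Lib.Helper16.sylowInf P₁ (B₀.subgroupOf (commutator G))
    have hdvd : p ∣ Nat.card ↥(B₀.subgroupOf (commutator G)) := by
      rw [Nat.card_congr (Subgroup.subgroupOfEquivOfLe hB₀D).toEquiv]
      exact hpB₀
    have hP₂ : (P₂ : Subgroup ↥(B₀.subgroupOf (commutator G))) ≠ ⊥ := sylow_ne_bot_of_dvd hdvd P₂
    obtain ⟨a, ha⟩ := (Subgroup.ne_bot_iff_exists_ne_one).mp hP₂
    refine ⟨(((a : ↥(B₀.subgroupOf (commutator G))) : ↥(commutator G)) : G), ?_, ?_, ?_⟩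
    · exact Subgroup.mem_subgroupOf.mp (a : ↥(B₀.subgroupOf (commutator G))).2
    · have h1 : (a : ↥(B₀.subgroupOf (commutator G))) ∈
          (P₁ : Subgroup ↥(commutator G)).subgroupOf (B₀.subgroupOf (commutator G)) := a.2
      have h2 : ((a : ↥(B₀.subgroupOf (commutator G))) : ↥(commutator G)) ∈
          (P : Subgroup G).subgroupOf (commutator G) := Subgroup.mem_subgroupOf.mp h1
      exact Subgroup.mem_subgroupOf.mp h2
    · intro h1
      apply ha
      exact Subtype.ext (Subtype.ext (Subtype.ext h1))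
  have hyx : y * x = x * y := isolated_central_of_mem_pgroup h.iso P.2 hxP y hyP
  have hDx : MulAut.conj x • commutator G = commutator G :=
    Cfsg.Agent.Lib.Helper20.conj_smul_eq_of_normal inferInstance x
  obtain ⟨hB₁D, hn₁, hne₁, hmin₁⟩ :=
    Cfsg.Agent.Lib.Helper20.IsMinNormalIn.smul ⟨hB₀D, hn₀, hne₀, hmin₀⟩ x hDx
  have hyB₁ : y ∈ MulAut.conj x • B₀ := by
    rw [Subgroup.mem_pointwise_smul_iff_inv_smul_mem]
    simp only [MulAut.smul_def, MulAut.conj_inv_apply]
    have : x⁻¹ * y * x = y := by rw [mul_assoc, hyx, inv_mul_cancel_left]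
    rw [this]
    exact hyB
  have hI : B₀ ⊓ MulAut.conj x • B₀ ≠ ⊥ := by
    intro hb
    have : y ∈ B₀ ⊓ MulAut.conj x • B₀ := ⟨hyB, hyB₁⟩
    rw [hb, Subgroup.mem_bot] at this
    exact hy1 this
  have hIn : commutator G ≤
      Subgroup.normalizer ((B₀ ⊓ MulAut.conj x • B₀ : Subgroup G) : Set G) :=
    fun d hd => mem_normalizer_inf (hn₀ hd) (hn₁ hd)
  have e1 : B₀ ⊓ MulAut.conj x • B₀ = B₀ := (hmin₀ _ inf_le_left hIn).resolve_left hI
  have e2 : B₀ ⊓ MulAut.conj x • B₀ = MulAut.conj x • B₀ :=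
    (hmin₁ _ inf_le_right hIn).resolve_left hI
  have e3 : MulAut.conj x • B₀ = B₀ := e2.symm.trans e1
  have hxn : x ∈ Subgroup.normalizer (B₀ : Set G) := by
    apply mem_normalizer_of_map_conj_eq
    exact e3
  have hB₀n : B₀.Normal :=
    normal_of_le_normalizer_of_sup_eq_top hn₀ (by rw [Subgroup.zpowers_le]; exact hxn)
      h.commutator_sup_zpowers
  have h5 : commutator G ≤ B₀ := h.commutator_le B₀ hne₀
  exact le_antisymm hBD (h5.trans hB₀B)

/-- In a minimal counterexample `G'` is simple. -/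
theorem isSimpleGroup_commutator (h : IsMinZStarCE p x) : IsSimpleGroup ↥(commutator G) := by
  have : Nontrivial ↥(commutator G) := (Subgroup.nontrivial_iff_ne_bot _).mpr h.commutator_ne_bot
  refine ⟨fun B hB => ?_⟩
  by_cases hb : B = ⊥
  · exact Or.inl hb
  · right
    have h1 : B.map (commutator G).subtype = commutator G := by
      apply h.eq_commutator_of_le_normalizer (Subgroup.map_subtype_le B) (le_normalizer_map_subtype B)
      intro h2
      exact hb ((Subgroup.map_eq_bot_iff_of_injective _ (commutator G).subtype_injective).mp h2)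
    rw [eq_top_iff]
    intro d _
    have h2 : (d : G) ∈ B.map (commutator G).subtype := by rw [h1]; exact d.2
    obtain ⟨b, hb', hbd⟩ := h2
    have : b = d := Subtype.ext hbd
    rwa [← this]

end IsMinZStarCE

end Cfsg.Agent.Lib.Helper17
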