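import Mathlib
import Cfsg.Prelude.Def_Characters
import Cfsg.Agent.Lib.Helper2.Induction
import Cfsg.Agent.Lib.Helper2.Linear
import Cfsg.Agent.Lib.Helper2.Orthogonality
import Cfsg.Agent.Lib.Helper2.Exceptional
import Cfsg.Agent.Lib.Helper2.BurnsidePQ
import Cfsg.Agent.Lib.Helper11.GenChar

/-!
# Character-theoretic core of the Brauer-Suzuki argument (helper17 library)

`C ≤ N` subgroups of `G` with `[N : C] = 2`, `lam` a linear character of `C` inverted by `N ∖ C`,
whose "support" `{y ∈ C | lam y ≠ 1}` is controlled by `N`.  Then `ind_C^G (1 - lam)` is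
`1 + χ₂ - χ₁` for two non-principal irreducible characters.
-/

set_option autoImplicit false

namespace Cfsg.Agent.Lib.Helper17

open Cfsg.Agent.Lib.Helper2 Cfsg.Agent.Lib.Helper11
open scoped ComplexConjugate

section Core

variable {G : Type*} [Group G] [Fintype G]

open Classical in
/-- sum of a two-level indicator -/
theorem sum_two_level (C N : Subgroup G) (hidx : Nat.card N = 2 * Nat.card C)
    (A B : ℂ) (f : G → ℂ)
    (hf : ∀ x : G, f x = (if x ∈ C then A - B else 0) + (if x ∈ N then B else 0)) :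
    ∑ x : G, f x = (Nat.card C : ℂ) * (A + B) := by
  classical
  simp only [hf]
  rw [Finset.sum_add_distrib]
  have h1 : ∀ (H : Subgroup G) (c : ℂ), ∑ x : G, (if x ∈ H then c else 0) = (Nat.card H : ℂ) * c := by
    intro H c
    rw [Finset.sum_ite, Finset.sum_const_zero, add_zero, Finset.sum_const, nsmul_eq_mul]
    have hcard : (Finset.univ.filter (fun x : G => x ∈ H)).card = Nat.card H := by
      rw [Nat.card_eq_fintype_card, Fintype.card_subtype]
    rw [hcard]
  rw [h1 C, h1 N, hidx]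
  push_cast
  ring

theorem bs_core (C N : Subgroup G) (lam : C →* ℂˣ)
    (hCN : C ≤ N)
    (hNC : ∀ g ∈ N, ∀ y ∈ C, g⁻¹ * y * g ∈ C)
    (hctl : ∀ (g : G) (y : C), lam y ≠ 1 → g⁻¹ * (y : G) * g ∈ C → g ∈ N)
    (hinv : ∀ g ∈ N, g ∉ C → ∀ (y : C) (h : g⁻¹ * (y : G) * g ∈ C),
      lam ⟨g⁻¹ * (y : G) * g, h⟩ = (lam y)⁻¹)
    (hidx : Nat.card N = 2 * Nat.card C)
    (hsq : ∃ y : C, (lam y) ^ 2 ≠ 1) :
    ∃ χ₁ χ₂ : Cfsg.IrrCharacter G, χ₁ ≠ trivialIrr G ∧ χ₂ ≠ trivialIrr G ∧
      (χ₁ : G → ℂ) 1 = (χ₂ : G → ℂ) 1 + 1 ∧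
      ∀ g : G, (∀ (x : G) (h : x⁻¹ * g * x ∈ C), lam ⟨x⁻¹ * g * x, h⟩ = 1) →
        (χ₁ : G → ℂ) g - (χ₂ : G → ℂ) g = 1 := by
  classical
  have : Fintype C := Fintype.ofFinite C
  have : Fintype (Cfsg.IrrCharacter G) := Fintype.ofFinite _
  obtain ⟨y₀, hy₀⟩ := hsq
  -- the functions
  set one : C → ℂ := fun _ => 1 with hone
  set lamf : C → ℂ := fun y => ((lam y : ℂˣ) : ℂ) with hlamf
  set lamf' : C → ℂ := fun y => (((lam⁻¹) y : ℂˣ) : ℂ) with hlamf'
  have hlamf'_apply : ∀ y : C, lamf' y = ((lam y : ℂˣ) : ℂ)⁻¹ := by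
    intro y
    simp only [hlamf', MonoidHom.inv_apply, Units.val_inv_eq_inv_val]
  set φ : C → ℂ := one - lamf with hφ
  set Θ : G → ℂ := Cfsg.indFun C φ with hΘ
  have hone_irr : Cfsg.IsIrrCharacter C one := isIrrCharacter_one
  have hlam_irr : Cfsg.IsIrrCharacter C lamf := isIrrCharacter_of_monoidHom lam
  have hlam'_irr : Cfsg.IsIrrCharacter C lamf' := isIrrCharacter_of_monoidHom lam⁻¹
  -- generalized character
  have hΘsub : Θ = Cfsg.indFun C one - Cfsg.indFun C lamf := indFun_sub C one lamf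
  have hA : Cfsg.IsCharacter G (Cfsg.indFun C one) :=
    indFun_isCharacter C one (IsIrrCharacter.isCharacter hone_irr)
  have hB : Cfsg.IsCharacter G (Cfsg.indFun C lamf) :=
    indFun_isCharacter C lamf (IsIrrCharacter.isCharacter hlam_irr)
  have hΘcf : Cfsg.IsClassFunction G Θ := indFun_isClassFunction C φ
  -- lam is invariant under C-conjugation
  have hlamC : ∀ x ∈ C, ∀ (y : C) (h : x⁻¹ * (y : G) * x ∈ C), lam ⟨x⁻¹ * (y : G) * x, h⟩ = lam y := by
    intro x hx y h
    have : (⟨x⁻¹ * (y : G) * x, h⟩ : C) = (⟨x, hx⟩ : C)⁻¹ * y * ⟨x, hx⟩ := by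
      apply Subtype.ext
      simp
    rw [this, map_mul, map_mul, map_inv]
    rw [mul_comm ((lam ⟨x, hx⟩)⁻¹) (lam y), mul_assoc, inv_mul_cancel, mul_one]
  -- value of Θ on C
  have hΘC : ∀ y : C, Θ (y : G) = 2 - lamf y - (lamf y)⁻¹ := by
    intro y
    have hterm : ∀ x : G, Cfsg.extendByZero C φ (x⁻¹ * (y : G) * x)
        = (if x ∈ C then (1 - lamf y) - (1 - (lamf y)⁻¹) else 0)
          + (if x ∈ N then (1 - (lamf y)⁻¹) else 0) := by
      intro x
      by_cases hxC : x ∈ C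
      · have hxN : x ∈ N := hCN hxC
        have hmem : x⁻¹ * (y : G) * x ∈ C := hNC x hxN y y.2
        rw [if_pos hxC, if_pos hxN, extendByZero_of_mem C φ hmem]
        have h1 : φ ⟨x⁻¹ * (y : G) * x, hmem⟩ = 1 - lamf y := by
          simp only [hφ, Pi.sub_apply, hone, hlamf]
          rw [hlamC x hxC y hmem]
        rw [h1]; ring
      · rw [if_neg hxC, zero_add]
        by_cases hxN : x ∈ N
        · have hmem : x⁻¹ * (y : G) * x ∈ C := hNC x hxN y y.2
          rw [if_pos hxN, extendByZero_of_mem C φ hmem]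
          simp only [hφ, Pi.sub_apply, hone, hlamf]
          rw [hinv x hxN hxC y hmem, Units.val_inv_eq_inv_val]
        · rw [if_neg hxN]
          by_cases hmem : x⁻¹ * (y : G) * x ∈ C
          · rw [extendByZero_of_mem C φ hmem]
            have hl1 : lam ⟨x⁻¹ * (y : G) * x, hmem⟩ = 1 := by
              by_contra hne
              apply hxN
              have hback : (x⁻¹)⁻¹ * ((⟨x⁻¹ * (y : G) * x, hmem⟩ : C) : G) * x⁻¹ ∈ C := by
                have : (x⁻¹)⁻¹ * (x⁻¹ * (y : G) * x) * x⁻¹ = (y : G) := by group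
                simp only []
                rw [this]; exact y.2
              have := hctl x⁻¹ ⟨x⁻¹ * (y : G) * x, hmem⟩ hne hback
              simpa using N.inv_mem this
            simp only [hφ, Pi.sub_apply, hone, hlamf]
            rw [hl1]; simp
          · exact extendByZero_of_not_mem C φ hmem
    have hsum := sum_two_level C N hidx (1 - lamf y) (1 - (lamf y)⁻¹)
      (fun x => Cfsg.extendByZero C φ (x⁻¹ * (y : G) * x)) hterm
    rw [hΘ, indFun_apply, hsum]
    have hne : (Nat.card C : ℂ) ≠ 0 := card_subgroup_ne_zero C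
    field_simp
    ring
  -- Θ 1 = 0
  have hΘ1 : Θ 1 = 0 := by
    have := hΘC 1
    simp only [hlamf, map_one, Units.val_one, inv_one, OneMemClass.coe_one] at this
    rw [this]; ring
  -- distinctness of the three linear characters
  have hy₀1 : lam y₀ ≠ 1 := by
    intro h; apply hy₀; rw [h]; simp
  have hy₀' : lamf y₀ ≠ 1 := by
    intro h
    apply hy₀1
    apply Units.ext
    simpa [hlamf] using h
  let c1 : Cfsg.IrrCharacter C := ⟨one, hone_irr⟩
  let cl : Cfsg.IrrCharacter C := ⟨lamf, hlam_irr⟩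
  let cl' : Cfsg.IrrCharacter C := ⟨lamf', hlam'_irr⟩
  have h1l : c1 ≠ cl := by
    intro h
    have := congrFun (congrArg Subtype.val h) y₀
    simp only [c1, cl, hone] at this
    exact hy₀' this.symm
  have h1l' : c1 ≠ cl' := by
    intro h
    have := congrFun (congrArg Subtype.val h) y₀
    simp only [c1, cl', hone] at this
    rw [hlamf'_apply] at this
    apply hy₀'
    have h2 : ((lam y₀ : ℂˣ) : ℂ) = 1 := by
      have h3 : (((lam y₀ : ℂˣ) : ℂ)⁻¹)⁻¹ = (1 : ℂ)⁻¹ := by rw [← this]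
      simpa using h3
    simpa [hlamf] using h2
  have hll' : cl ≠ cl' := by
    intro h
    have := congrFun (congrArg Subtype.val h) y₀
    simp only [cl, cl'] at this
    rw [hlamf'_apply] at this
    apply hy₀
    apply Units.ext
    have hne : ((lam y₀ : ℂˣ) : ℂ) ≠ 0 := Units.ne_zero _
    have h2 : ((lam y₀ : ℂˣ) : ℂ) * ((lam y₀ : ℂˣ) : ℂ) = 1 := by
      have : lamf y₀ = ((lam y₀ : ℂˣ) : ℂ) := rfl
      rw [this] at *
      field_simp at *
      simpa [sq] using ‹_›
    simp only [Units.val_one, sq]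
    exact h2
  -- inner products on C
  have i11 : Cfsg.classInner one one = 1 := classInner_irrCharacter_self c1
  have i1l : Cfsg.classInner one lamf = 0 := classInner_irrCharacter_ne h1l
  have i1l' : Cfsg.classInner one lamf' = 0 := classInner_irrCharacter_ne h1l'
  have il1 : Cfsg.classInner lamf one = 0 := classInner_irrCharacter_ne h1l.symm
  have ill : Cfsg.classInner lamf lamf = 1 := classInner_irrCharacter_self cl
  have ill' : Cfsg.classInner lamf lamf' = 0 := classInner_irrCharacter_ne hll'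
  -- restriction of Θ to C
  have hres : (fun h : C => Θ (h : G)) = ((2 : ℂ) • one - lamf) - lamf' := by
    ext y
    rw [hΘC y]
    simp only [Pi.sub_apply, Pi.smul_apply, smul_eq_mul, hone]
    rw [hlamf'_apply]
    ring
  have hnorm : Cfsg.classInner Θ Θ = 3 := by
    have hfr := frobenius_reciprocity C φ Θ hΘcf
    rw [show Cfsg.classInner Θ Θ = Cfsg.classInner (Cfsg.indFun C φ) Θ from rfl, hfr, hres, hφ]
    rw [classInner_sub_left, classInner_sub_right, classInner_sub_right, classInner_sub_right,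
      classInner_sub_right, classInner_smul_right, classInner_smul_right, i11, i1l, i1l', il1, ill,
      ill']
    have hc2 : (starRingEnd ℂ) (2 : ℂ) = 2 := map_ofNat _ 2
    rw [hc2]
    norm_num
  have hone_cf : Cfsg.IsClassFunction G (fun _ : G => (1 : ℂ)) := fun _ _ => rfl
  have hΘone : Cfsg.classInner Θ (fun _ : G => (1 : ℂ)) = 1 := by
    have hfr := frobenius_reciprocity C φ _ hone_cf
    rw [show Cfsg.classInner Θ (fun _ : G => (1 : ℂ))
      = Cfsg.classInner (Cfsg.indFun C φ) (fun _ : G => (1 : ℂ)) from rfl, hfr, hφ]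
    change Cfsg.classInner (one - lamf) one = 1
    rw [classInner_sub_left, i11, il1]; ring
  have honeΘ : Cfsg.classInner (fun _ : G => (1 : ℂ)) Θ = 1 := by
    rw [← classInner_conj_symm, hΘone]; simp
  have h11 : Cfsg.classInner (fun _ : G => (1 : ℂ)) (fun _ : G => (1 : ℂ)) = 1 :=
    classInner_irrCharacter_self (trivialIrr G)
  -- ξ = Θ - 1
  set ξ : G → ℂ := Θ - (fun _ : G => (1 : ℂ)) with hξ
  have hξgen : Cfsg.IsGeneralizedCharacter G ξ := by
    refine ⟨Cfsg.indFun C one, Cfsg.indFun C lamf + (fun _ : G => (1 : ℂ)), hA,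
      isCharacter_add hB (IsIrrCharacter.isCharacter isIrrCharacter_one), ?_⟩
    rw [hξ, hΘsub]; abel
  have hξnorm : Cfsg.classInner ξ ξ = 2 := by
    rw [hξ, classInner_sub_left, classInner_sub_right, classInner_sub_right, hnorm, hΘone, honeΘ,
      h11]
    norm_num
  have hξtriv : Cfsg.classInner ξ ((trivialIrr G : Cfsg.IrrCharacter G) : G → ℂ) = 0 := by
    change Cfsg.classInner ξ (fun _ : G => (1 : ℂ)) = 0
    rw [hξ, classInner_sub_left, hΘone, h11]; ring
  have hξ1 : ξ 1 = -1 := by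
    simp only [hξ, Pi.sub_apply, hΘ1]; ring
  obtain ⟨n, hn, hexp, hnn⟩ := IsGeneralizedCharacter.exists_int_expansion hξgen
  rw [hξnorm] at hnn
  have h2 : ∑ μ : Cfsg.IrrCharacter G, n μ ^ 2 = 2 := by exact_mod_cast hnn.symm
  obtain ⟨μ₁, _, μ₂, _, hne, hμ₁, hμ₂, hrest⟩ := sum_sq_eq_two Finset.univ n h2
  have hsum : ∑ μ : Cfsg.IrrCharacter G, (n μ : ℂ) • (μ : G → ℂ)
      = (n μ₁ : ℂ) • (μ₁ : G → ℂ) + (n μ₂ : ℂ) • (μ₂ : G → ℂ) := by
    rw [← Finset.add_sum_erase Finset.univ _ (Finset.mem_univ μ₁)]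
    congr 1
    apply Finset.sum_eq_single μ₂
    · intro k hk hk2
      rw [hrest k (Finset.mem_univ _) (Finset.ne_of_mem_erase hk) hk2]; simp
    · intro h
      exact absurd (Finset.mem_erase.2 ⟨hne.symm, Finset.mem_univ _⟩) h
  have hξeq : ξ = (n μ₁ : ℂ) • (μ₁ : G → ℂ) + (n μ₂ : ℂ) • (μ₂ : G → ℂ) := hexp.trans hsum
  have hntriv : n (trivialIrr G) = 0 := by
    have := hn (trivialIrr G)
    rw [hξtriv] at this
    exact_mod_cast this.symm
  have hμ₁t : μ₁ ≠ trivialIrr G := by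
    intro h; rw [h, hntriv] at hμ₁; rcases hμ₁ with h | h <;> omega
  have hμ₂t : μ₂ ≠ trivialIrr G := by
    intro h; rw [h, hntriv] at hμ₂; rcases hμ₂ with h | h <;> omega
  obtain ⟨d₁, hd₁pos, hd₁⟩ := IsIrrCharacter.apply_one μ₁.2
  obtain ⟨d₂, hd₂pos, hd₂⟩ := IsIrrCharacter.apply_one μ₂.2
  have hval : (n μ₁ : ℂ) * (d₁ : ℂ) + (n μ₂ : ℂ) * (d₂ : ℂ) = -1 := by
    have := congrFun hξeq 1
    rw [hξ1] at this
    simp only [Pi.add_apply, Pi.smul_apply, smul_eq_mul, hd₁, hd₂] at this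
    exact this.symm
  have hvalZ : n μ₁ * (d₁ : ℤ) + n μ₂ * (d₂ : ℤ) = -1 := by exact_mod_cast hval
  have hd₁' : (0 : ℤ) < d₁ := by exact_mod_cast hd₁pos
  have hd₂' : (0 : ℤ) < d₂ := by exact_mod_cast hd₂pos
  -- vanishing of Θ
  have hΘvan : ∀ g : G, (∀ (x : G) (h : x⁻¹ * g * x ∈ C), lam ⟨x⁻¹ * g * x, h⟩ = 1) → Θ g = 0 := by
    intro g hg
    rw [hΘ, indFun_apply]
    have : ∀ x : G, Cfsg.extendByZero C φ (x⁻¹ * g * x) = 0 := by
      intro x
      by_cases hmem : x⁻¹ * g * x ∈ C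
      · rw [extendByZero_of_mem C φ hmem]
        simp only [hφ, Pi.sub_apply, hone, hlamf]
        rw [hg x hmem]; simp
      · exact extendByZero_of_not_mem C φ hmem
    simp only [this, Finset.sum_const_zero, mul_zero]
  have hΘξ : ∀ g : G, Θ g = 1 + ξ g := by
    intro g; simp only [hξ, Pi.sub_apply]; ring
  rcases hμ₁ with e1 | e1 <;> rcases hμ₂ with e2 | e2
  · exfalso; rw [e1, e2] at hvalZ; nlinarith
  · -- ξ = μ₁ - μ₂ : χ₁ = μ₂, χ₂ = μ₁
    refine ⟨μ₂, μ₁, hμ₂t, hμ₁t, ?_, ?_⟩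
    · rw [hd₁, hd₂]
      rw [e1, e2] at hvalZ
      have : (d₂ : ℤ) = d₁ + 1 := by linarith
      exact_mod_cast this
    · intro g hg
      have h0 := hΘvan g hg
      rw [hΘξ g, hξeq, e1, e2] at h0
      simp only [Pi.add_apply, Pi.smul_apply, smul_eq_mul, Int.cast_one, Int.cast_neg] at h0
      linear_combination -h0
  · refine ⟨μ₁, μ₂, hμ₁t, hμ₂t, ?_, ?_⟩
    · rw [hd₁, hd₂]
      rw [e1, e2] at hvalZ
      have : (d₁ : ℤ) = d₂ + 1 := by linarith
      exact_mod_cast this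
    · intro g hg
      have h0 := hΘvan g hg
      rw [hΘξ g, hξeq, e1, e2] at h0
      simp only [Pi.add_apply, Pi.smul_apply, smul_eq_mul, Int.cast_one, Int.cast_neg] at h0
      linear_combination -h0
  · exfalso; rw [e1, e2] at hvalZ; nlinarith

end Core

end Cfsg.Agent.Lib.Helper17
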