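import Mathlib
import Cfsg.Agent.Lib.Helper23.QuatSylow
import Cfsg.Agent.Lib.Helper17.BSCore

/-!
# Exceptional characters for a generalized quaternion Sylow 2-subgroup of order ≥ 16
(helper17 library)
-/

set_option autoImplicit false

namespace Cfsg.Agent.Lib.Helper17

open Subgroup QuaternionGroup
open Cfsg.Agent.Lib.Helper2
open scoped commutatorElement

section Quat

variable {G : Type*} [Group G]

/-- `quat_struct` with the additional information that elements of `S` outside `⟨x⟩` invert `x`. -/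
theorem quat_struct' (S : Subgroup G) (m : ℕ) (hm : 3 ≤ m) (e : S ≃* QuaternionGroup m) :
    ∃ x : G, x ∈ S ∧ orderOf x = 2 * m ∧ ⁅S, S⁆ = zpowers (x ^ 2) ∧
      S ⊓ centralizer ((⁅S, S⁆ : Subgroup G) : Set G) = zpowers x ∧
      ∀ s ∈ S, s ∉ zpowers x → s⁻¹ * x * s = x⁻¹ := by
  have : NeZero m := ⟨by omega⟩
  obtain ⟨x, hxS, hxo, hD, hA⟩ := Cfsg.Agent.Lib.Helper23.QuatSylow.quat_struct S m hm e
  refine ⟨x, hxS, hxo, hD, hA, ?_⟩
  intro s hsS hsx
  have hp_ord : orderOf (e ⟨x, hxS⟩) = 2 * m := by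
    rw [MulEquiv.orderOf_eq, Subgroup.orderOf_mk]; exact hxo
  obtain ⟨j, hj⟩ : ∃ j, e ⟨x, hxS⟩ = a j := by
    rcases hp : e ⟨x, hxS⟩ with j | j
    · exact ⟨j, rfl⟩
    · exfalso; rw [hp, orderOf_xa] at hp_ord; omega
  obtain ⟨i, hi⟩ : ∃ i, e ⟨s, hsS⟩ = xa i := by
    rcases hq : e ⟨s, hsS⟩ with i | i
    · exfalso
      apply hsx
      rw [← hA, Subgroup.mem_inf]
      refine ⟨hsS, ?_⟩
      have hcomm : (⟨s, hsS⟩ : S) * ⟨x, hxS⟩ = ⟨x, hxS⟩ * ⟨s, hsS⟩ := by
        apply e.injective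
        rw [map_mul, map_mul, hq, hj, a_mul_a, a_mul_a, add_comm]
      have hcomm' : s * x = x * s := congrArg Subtype.val hcomm
      rw [hD, mem_centralizer_iff]
      intro d hd
      obtain ⟨k, rfl⟩ := mem_zpowers_iff.mp hd
      have hc : Commute s x := hcomm'
      exact ((hc.pow_right 2).zpow_right k).eq.symm
    · exact ⟨i, rfl⟩
  have hrel : (⟨x, hxS⟩ : S) * ⟨s, hsS⟩ = ⟨s, hsS⟩ * (⟨x, hxS⟩ : S)⁻¹ := by
    apply e.injective
    rw [map_mul, map_mul, map_inv, hi, hj]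
    have hinv : (a j : QuaternionGroup m)⁻¹ = a (-j) := by
      apply inv_eq_of_mul_eq_one_right
      rw [a_mul_a, add_neg_cancel, a_zero]
    rw [hinv, a_mul_xa, xa_mul_a, sub_eq_add_neg]
  have hrel' : x * s = s * x⁻¹ := by
    have := congrArg Subtype.val hrel
    simpa using this
  calc s⁻¹ * x * s = s⁻¹ * (x * s) := by group
    _ = s⁻¹ * (s * x⁻¹) := by rw [hrel']
    _ = x⁻¹ := by group

/-- A subgroup of `C = K ⊔ ⟨x⟩` containing `K` and `x` is everything. -/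
theorem eq_top_of_gen (C K : Subgroup G) (x : G) (hgen : K ⊔ zpowers x = C)
    (T : Subgroup C) (hK : ∀ k : C, (k : G) ∈ K → k ∈ T)
    (hx : ∀ hx : x ∈ C, (⟨x, hx⟩ : C) ∈ T) : T = ⊤ := by
  have hKC : K ≤ C := hgen ▸ le_sup_left
  have hxC : x ∈ C := by
    have : zpowers x ≤ C := hgen ▸ le_sup_right
    exact this (mem_zpowers x)
  have h1 : K ⊔ zpowers x ≤ T.map C.subtype := by
    apply sup_le
    · intro k hk
      exact ⟨⟨k, hKC hk⟩, hK _ hk, rfl⟩
    · rw [zpowers_le]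
      exact ⟨⟨x, hxC⟩, hx hxC, rfl⟩
  rw [eq_top_iff]
  intro c _
  have hc : (c : G) ∈ T.map C.subtype := h1 (hgen ▸ c.2)
  obtain ⟨c', hc', hcc'⟩ := hc
  have : c' = c := Subtype.ext hcc'
  rwa [← this]

end Quat

section Lam

variable {G : Type*} [Group G]

/-- Construction of the linear character of order 4 on `C = K ⋊ ⟨x⟩`. -/
theorem exists_lam (C K : Subgroup G) (x : G) (N : ℕ)
    (hCK : C ≤ normalizer (K : Set G)) (hKodd : Odd (Nat.card K))
    (hgen : K ⊔ zpowers x = C) (hxo : orderOf x = 2 ^ N) (hN : 2 ≤ N) :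
    ∃ lam : C →* ℂˣ, (∀ k : C, (k : G) ∈ K → lam k = 1) ∧
      (∀ hx : x ∈ C, (lam ⟨x, hx⟩) ^ 2 ≠ 1) ∧
      (∀ y : C, lam y ≠ 1 → 2 ^ (N - 1) ∣ orderOf (y : G)) := by
  have hKC : K ≤ C := hgen ▸ le_sup_left
  have hxC : x ∈ C := by
    have : zpowers x ≤ C := hgen ▸ le_sup_right
    exact this (mem_zpowers x)
  have hnorm : (K.subgroupOf C).Normal := (normal_subgroupOf_iff_le_normalizer hKC).mpr hCK
  set K' : Subgroup C := K.subgroupOf C with hK'
  set xC : C := ⟨x, hxC⟩ with hxCdef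
  set xbar : C ⧸ K' := QuotientGroup.mk' K' xC with hxbar
  have hxCo : orderOf xC = 2 ^ N := by rw [hxCdef, Subgroup.orderOf_mk]; exact hxo
  -- xbar generates
  have hgenQ : ∀ q : C ⧸ K', q ∈ zpowers xbar := by
    have hT : (zpowers xbar).comap (QuotientGroup.mk' K') = ⊤ := by
      apply eq_top_of_gen C K x hgen
      · intro k hk
        rw [Subgroup.mem_comap]
        have : QuotientGroup.mk' K' k = 1 := by
          rw [QuotientGroup.mk'_apply, QuotientGroup.eq_one_iff, hK', mem_subgroupOf]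
          exact hk
        rw [this]; exact one_mem _
      · intro hx'
        rw [Subgroup.mem_comap]
        exact mem_zpowers _
    intro q
    obtain ⟨c, rfl⟩ := QuotientGroup.mk'_surjective K' q
    have : c ∈ (zpowers xbar).comap (QuotientGroup.mk' K') := by rw [hT]; trivial
    exact this
  -- order of xbar
  have hcop : Nat.Coprime (2 ^ N) (Nat.card K) :=
    Nat.Coprime.pow_left N (Nat.coprime_two_left.mpr hKodd)
  have hxbaro : orderOf xbar = 2 ^ N := by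
    apply Nat.dvd_antisymm
    · rw [← hxCo]; exact orderOf_map_dvd _ _
    · set r := orderOf xbar with hr
      have h1 : xbar ^ r = 1 := pow_orderOf_eq_one xbar
      have h2 : xC ^ r ∈ K' := by
        rw [← QuotientGroup.eq_one_iff, ← QuotientGroup.mk'_apply, map_pow]
        exact h1
      have h3 : x ^ r ∈ K := by
        rw [hK', mem_subgroupOf] at h2
        simpa using h2
      have h4 : orderOf (x ^ r) ∣ Nat.card K := Subgroup.orderOf_dvd_natCard K h3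
      have h5 : orderOf (x ^ r) ∣ 2 ^ N := by rw [← hxo]; exact orderOf_pow_dvd r
      have h6 : orderOf (x ^ r) = 1 := Nat.eq_one_of_dvd_coprimes hcop h5 h4
      rw [orderOf_eq_one_iff] at h6
      rw [← hxo]
      exact orderOf_dvd_of_pow_eq_one h6
  -- primitive root
  have hpos : (2 ^ N : ℕ) ≠ 0 := by positivity
  have hprim := Complex.isPrimitiveRoot_exp (2 ^ N) hpos
  obtain ⟨ζ, hζ⟩ := hprim.isUnit hpos
  have hζprim : IsPrimitiveRoot ζ (2 ^ N) := by
    rw [← IsPrimitiveRoot.coe_units_iff, hζ]; exact hprim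
  have hζo : orderOf ζ = 2 ^ N := hζprim.eq_orderOf.symm
  have hdvd : orderOf ζ ∣ orderOf xbar := by rw [hζo, hxbaro]
  set μ : C ⧸ K' →* ℂˣ := monoidHomOfForallMemZpowers hgenQ hdvd with hμ
  have hμx : μ xbar = ζ := monoidHomOfForallMemZpowers_apply_gen hgenQ hdvd
  refine ⟨(μ ^ (2 ^ (N - 2))).comp (QuotientGroup.mk' K'), ?_, ?_, ?_⟩
  · intro k hk
    have : QuotientGroup.mk' K' k = 1 := by
      rw [QuotientGroup.mk'_apply, QuotientGroup.eq_one_iff, hK', mem_subgroupOf]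
      exact hk
    rw [MonoidHom.comp_apply, this, map_one]
  · intro hx'
    rw [MonoidHom.comp_apply, MonoidHom.pow_apply]
    change ((μ xbar) ^ (2 ^ (N - 2))) ^ 2 ≠ 1
    rw [hμx, ← pow_mul]
    have h2 : 2 ^ (N - 2) * 2 = 2 ^ (N - 1) := by
      have : N - 1 = (N - 2) + 1 := by omega
      rw [this, pow_succ]
    rw [h2]
    apply pow_ne_one_of_lt_orderOf (by positivity)
    rw [hζo]
    exact Nat.pow_lt_pow_right (by norm_num) (by omega)
  · intro y hy
    by_contra hnd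
    apply hy
    rw [MonoidHom.comp_apply, MonoidHom.pow_apply, ← map_pow]
    set ybar := QuotientGroup.mk' K' y with hybar
    have ho1 : orderOf ybar ∣ orderOf (y : G) := by
      rw [Subgroup.orderOf_coe]; exact orderOf_map_dvd _ _
    have ho2 : orderOf ybar ∣ 2 ^ N := by
      rw [← hxbaro]; exact orderOf_dvd_of_mem_zpowers (hgenQ ybar)
    obtain ⟨i, hiN, hi⟩ := (Nat.dvd_prime_pow Nat.prime_two).mp ho2
    have hi' : i ≤ N - 2 := by
      by_contra hlt
      apply hnd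
      have : N - 1 ≤ i := by omega
      exact (pow_dvd_pow 2 this).trans (hi ▸ ho1)
    have : ybar ^ (2 ^ (N - 2)) = 1 := by
      apply orderOf_dvd_iff_pow_eq_one.mp
      rw [hi]; exact pow_dvd_pow 2 hi'
    rw [this, map_one]

/-- A conjugating element that normalizes `K`, `C` and inverts `x` inverts `lam`. -/
theorem lam_conj_inv (C K : Subgroup G) (x : G) (hgen : K ⊔ zpowers x = C)
    (lam : C →* ℂˣ) (hlamK : ∀ k : C, (k : G) ∈ K → lam k = 1)
    (s : G) (hsK : ∀ k ∈ K, s⁻¹ * k * s ∈ K) (hsC : ∀ y ∈ C, s⁻¹ * y * s ∈ C)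
    (hsx : s⁻¹ * x * s = x⁻¹) (y : C) :
    lam ⟨s⁻¹ * (y : G) * s, hsC y y.2⟩ = (lam y)⁻¹ := by
  let cj : C →* C :=
    { toFun := fun z => ⟨s⁻¹ * (z : G) * s, hsC z z.2⟩
      map_one' := by apply Subtype.ext; simp
      map_mul' := by
        intro a b
        apply Subtype.ext
        simp only [Subgroup.coe_mul]
        group }
  have hE : MonoidHom.eqLocus (lam.comp cj) (lam⁻¹) = ⊤ := by
    apply eq_top_of_gen C K x hgen
    · intro k hk
      change (lam.comp cj) k = (lam⁻¹) k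
      rw [MonoidHom.comp_apply, MonoidHom.inv_apply, hlamK k hk, inv_one]
      apply hlamK
      exact hsK k hk
    · intro hx'
      change (lam.comp cj) ⟨x, hx'⟩ = (lam⁻¹) ⟨x, hx'⟩
      rw [MonoidHom.comp_apply, MonoidHom.inv_apply, ← map_inv]
      congr 1
      apply Subtype.ext
      exact hsx
  have : y ∈ MonoidHom.eqLocus (lam.comp cj) (lam⁻¹) := by rw [hE]; trivial
  exact this

end Lam

section Main

variable {G : Type*} [Group G] [Fintype G]

/-- The two exceptional characters for a generalized quaternion Sylow 2-subgroup of order at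
least 16. -/
theorem bs_quat (S : Sylow 2 G) (n : ℕ)
    (e : ↥(S : Subgroup G) ≃* QuaternionGroup (2 ^ (n + 2))) :
    ∃ χ₁ χ₂ : Cfsg.IrrCharacter G, χ₁ ≠ trivialIrr G ∧ χ₂ ≠ trivialIrr G ∧
      (χ₁ : G → ℂ) 1 = (χ₂ : G → ℂ) 1 + 1 ∧
      ∀ g : G, ¬ 4 ∣ orderOf g → (χ₁ : G → ℂ) g - (χ₂ : G → ℂ) g = 1 := by
  have hm : 3 ≤ 2 ^ (n + 2) := by
    have h1 : 2 ^ (n + 2) = 4 * 2 ^ n := by ring
    have h2 : 1 ≤ 2 ^ n := Nat.one_le_two_pow
    omega
  obtain ⟨x, hxS, hxo, hDx, hSC, hinvx⟩ := quat_struct' (S : Subgroup G) (2 ^ (n + 2)) hm e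
  obtain ⟨K, hKodd, hKC, hNK, hKS, hKA, hidx⟩ := Cfsg.Agent.Lib.Helper23.QuatSylow.s0842 S n e
  obtain ⟨-, h43b, -⟩ := Cfsg.Agent.Lib.Helper23.QuatSylow.s0843 S n e
  obtain ⟨-, -, -, -, -, hcardD, -, hSN⟩ := Cfsg.Agent.Lib.Helper23.QuatSylow.setup S n e
  obtain ⟨D, hD⟩ : ∃ D : Subgroup G, D = ⁅(S : Subgroup G), (S : Subgroup G)⁆ := ⟨_, rfl⟩
  rw [← hD] at hDx hSC hKC hNK hKS hKA hidx h43b hcardD hSN
  obtain ⟨Cd, hCd⟩ : ∃ C : Subgroup G, C = centralizer (D : Set G) := ⟨_, rfl⟩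
  obtain ⟨Nd, hNd⟩ : ∃ N : Subgroup G, N = normalizer (D : Set G) := ⟨_, rfl⟩
  rw [← hCd] at hSC hKC hKA hidx h43b
  rw [← hNd] at hNK hKS hidx h43b hSN
  have hgen : K ⊔ zpowers x = Cd := by rw [← hSC]; exact hKA
  have hxo' : orderOf x = 2 ^ (n + 3) := by rw [hxo]; ring
  have hCN : Cd ≤ Nd := by rw [hCd, hNd]; exact Subgroup.centralizer_le_normalizer _
  have hCK : Cd ≤ normalizer (K : Set G) := hCN.trans hNK
  obtain ⟨lam, hlamK, hlamx, hlamkey⟩ := exists_lam Cd K x (n + 3) hCK hKodd hgen hxo' (by omega)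
  have hkey : ∀ y : Cd, lam y ≠ 1 → Nat.card D ∣ orderOf (y : G) := by
    intro y hy
    rw [hcardD]
    have := hlamkey y hy
    simpa using this
  have hNnC : Nd ≤ normalizer (Cd : Set G) := by
    rw [hCd, hNd]
    exact Cfsg.Agent.Lib.Helper23.QuatSylow.normalizer_le_normalizer_centralizer D
  have hconj : ∀ (H : Subgroup G) (g : G), g ∈ normalizer (H : Set G) → ∀ y ∈ H, g⁻¹ * y * g ∈ H := by
    intro H g hg y hy
    have hg' : g⁻¹ ∈ normalizer (H : Set G) := inv_mem hg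
    have := (mem_normalizer_iff.mp hg' y).mp hy
    simpa using this
  have hNC : ∀ g ∈ Nd, ∀ y ∈ Cd, g⁻¹ * y * g ∈ Cd := fun g hg => hconj Cd g (hNnC hg)
  have hctl : ∀ (g : G) (y : Cd), lam y ≠ 1 → g⁻¹ * (y : G) * g ∈ Cd → g ∈ Nd := by
    intro g y hy h
    have := h43b g⁻¹ (y : G) y.2 (hkey y hy) (by simpa using h)
    simpa using inv_mem this
  -- an element of S outside Cd
  obtain ⟨s0, hs0S, hs0C⟩ : ∃ s0 ∈ (S : Subgroup G), s0 ∉ Cd := by
    by_contra hcon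
    push Not at hcon
    have hSle : (S : Subgroup G) ≤ Cd := hcon
    have hNle : Nd ≤ Cd := by rw [← hKS]; exact sup_le hKC hSle
    have : Cd.subgroupOf Nd = ⊤ := Subgroup.subgroupOf_eq_top.mpr hNle
    rw [this, Subgroup.index_top] at hidx
    omega
  have hs0x : s0 ∉ zpowers x := by
    intro h
    apply hs0C
    have : zpowers x ≤ Cd := by rw [← hSC]; exact inf_le_right
    exact this h
  have hs0inv : s0⁻¹ * x * s0 = x⁻¹ := hinvx s0 hs0S hs0x
  have hs0N : s0 ∈ Nd := hSN hs0S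
  have hs0K : ∀ k ∈ K, s0⁻¹ * k * s0 ∈ K := hconj K s0 (hNK hs0N)
  have hs0Cd : ∀ y ∈ Cd, s0⁻¹ * y * s0 ∈ Cd := hNC s0 hs0N
  have hlam_s0 := lam_conj_inv Cd K x hgen lam hlamK s0 hs0K hs0Cd hs0inv
  have hinv : ∀ g ∈ Nd, g ∉ Cd → ∀ (y : Cd) (h : g⁻¹ * (y : G) * g ∈ Cd),
      lam ⟨g⁻¹ * (y : G) * g, h⟩ = (lam y)⁻¹ := by
    intro g hgN hgC y h
    have hc : s0⁻¹ * g ∈ Cd := by
      have h2 := Subgroup.mul_mem_iff_of_index_two hidx
        (a := (⟨s0⁻¹, inv_mem hs0N⟩ : Nd)) (b := (⟨g, hgN⟩ : Nd))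
      rw [mem_subgroupOf, mem_subgroupOf, mem_subgroupOf] at h2
      apply h2.mpr
      constructor
      · intro h3
        exfalso; apply hs0C
        have := inv_mem h3
        simpa using this
      · intro h3
        exact absurd h3 hgC
    have heq : (⟨g⁻¹ * (y : G) * g, h⟩ : Cd)
        = (⟨s0⁻¹ * g, hc⟩ : Cd)⁻¹ * ⟨s0⁻¹ * (y : G) * s0, hs0Cd y y.2⟩ * ⟨s0⁻¹ * g, hc⟩ := by
      apply Subtype.ext
      simp only [Subgroup.coe_mul, Subgroup.coe_inv]
      group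
    rw [heq, map_mul, map_mul, map_inv, hlam_s0 y]
    rw [mul_comm ((lam ⟨s0⁻¹ * g, hc⟩)⁻¹) ((lam y)⁻¹), mul_assoc, inv_mul_cancel, mul_one]
  have hidx' : Nat.card Nd = 2 * Nat.card Cd := by
    have h1 := Subgroup.card_mul_index (Cd.subgroupOf Nd)
    rw [hidx] at h1
    have h2 : Nat.card ↥(Cd.subgroupOf Nd) = Nat.card Cd :=
      Nat.card_congr (Subgroup.subgroupOfEquivOfLe hCN).toEquiv
    rw [h2] at h1
    omega
  have hxCd : x ∈ Cd := by
    have : zpowers x ≤ Cd := by rw [← hSC]; exact inf_le_right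
    exact this (mem_zpowers x)
  have hsq : ∃ y : Cd, (lam y) ^ 2 ≠ 1 := ⟨⟨x, hxCd⟩, hlamx hxCd⟩
  obtain ⟨χ₁, χ₂, h1, h2, hdeg, hval⟩ := bs_core Cd Nd lam hCN hNC hctl hinv hidx' hsq
  refine ⟨χ₁, χ₂, h1, h2, hdeg, ?_⟩
  intro g hg
  apply hval g
  intro x' h
  by_contra hne
  apply hg
  have h3 := hkey ⟨x'⁻¹ * g * x', h⟩ hne
  rw [hcardD] at h3
  have h4 : orderOf (x'⁻¹ * g * x') = orderOf g := by
    have := Cfsg.Agent.Lib.Helper23.QuatSylow.orderOf_conj' x'⁻¹ g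
    simpa using this
  simp only [h4] at h3
  exact (pow_dvd_pow 2 (by omega : 2 ≤ n + 2)).trans h3

end Main

end Cfsg.Agent.Lib.Helper17
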