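import Mathlib
import Cfsg.Agent.Lib.Helper2.QuaternionInvolution
import Cfsg.Agent.Lib.Helper2.Column
import Cfsg.Agent.Lib.Helper25.GenOrtho
import Cfsg.Agent.Lib.Helper25.Kernel
import Cfsg.Agent.Lib.Helper17.BSQuat

/-!
# Involutions in groups with a generalized quaternion Sylow 2-subgroup, and the kernel argument
(helper17 library)
-/

set_option autoImplicit false

namespace Cfsg.Agent.Lib.Helper17

open Subgroup QuaternionGroup
open Cfsg.Agent.Lib.Helper2
open scoped ComplexConjugate Pointwise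

section Inv

variable {G : Type*} [Group G]

/-- The unique involution of a generalized quaternion subgroup. -/
theorem quat_unique_inv (S : Subgroup G) (m : ℕ) [NeZero m] (e : S ≃* QuaternionGroup m) :
    ∃ t0 : G, t0 ∈ S ∧ orderOf t0 = 2 ∧ ∀ s ∈ S, orderOf s = 2 → s = t0 := by
  refine ⟨((e.symm (a (m : ZMod (2 * m))) : S) : G), (e.symm _).2, ?_, ?_⟩
  · rw [Subgroup.orderOf_coe, MulEquiv.orderOf_eq]
    exact quaternion_orderOf_a_n
  · intro s hs hso
    have h1 : orderOf (e ⟨s, hs⟩) = 2 := by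
      rw [MulEquiv.orderOf_eq, Subgroup.orderOf_mk]; exact hso
    have h2 := quaternion_involution_eq _ h1
    have h3 : (⟨s, hs⟩ : S) = e.symm (a (m : ZMod (2 * m))) := by
      rw [← h2, MulEquiv.symm_apply_apply]
    exact congrArg Subtype.val h3

theorem isPGroup_two_zpowers_of_orderOf {t : G} (ht : orderOf t = 2) : IsPGroup 2 (zpowers t) := by
  apply IsPGroup.of_card (n := 1)
  rw [Nat.card_zpowers, ht, pow_one]

variable [Finite G]

/-- Every 2-subgroup is conjugate into a given Sylow 2-subgroup. -/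
theorem conj_into_sylow (S : Sylow 2 G) (P : Subgroup G) (hP : IsPGroup 2 P) :
    ∃ g : G, ∀ v ∈ P, g * v * g⁻¹ ∈ (S : Subgroup G) := by
  obtain ⟨Q, hQ⟩ := hP.exists_le_sylow
  obtain ⟨g, hg⟩ := MulAction.exists_smul_eq G Q S
  refine ⟨g, fun v hv => ?_⟩
  have h1 : MulAut.conj g • v ∈ MulAut.conj g • (Q : Subgroup G) :=
    Subgroup.smul_mem_pointwise_smul _ _ _ (hQ hv)
  rw [MulAut.smul_def, MulAut.conj_apply, ← Sylow.coe_subgroup_smul, hg] at h1
  exact h1

/-- With a generalized quaternion Sylow 2-subgroup, commuting involutions are equal. -/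
theorem commute_inv_eq (S : Sylow 2 G) (m : ℕ) [NeZero m]
    (e : ↥(S : Subgroup G) ≃* QuaternionGroup m) {u v : G} (hu : orderOf u = 2) (hv : orderOf v = 2)
    (huv : u * v = v * u) : u = v := by
  obtain ⟨t0, -, -, huniq⟩ := quat_unique_inv (S : Subgroup G) m e
  have hle : zpowers u ≤ normalizer ((zpowers v : Subgroup G) : Set G) := by
    have h1 : zpowers u ≤ centralizer ((zpowers v : Subgroup G) : Set G) := by
      rw [zpowers_le, mem_centralizer_iff]
      intro d hd
      obtain ⟨k, rfl⟩ := mem_zpowers_iff.mp hd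
      have hc : Commute u v := huv
      exact (hc.zpow_right k).eq.symm
    exact h1.trans (Subgroup.centralizer_le_normalizer _)
  have hV : IsPGroup 2 (zpowers u ⊔ zpowers v : Subgroup G) :=
    IsPGroup.to_sup_of_normal_right' (isPGroup_two_zpowers_of_orderOf hu)
      (isPGroup_two_zpowers_of_orderOf hv) hle
  obtain ⟨g, hg⟩ := conj_into_sylow S _ hV
  have hu' : g * u * g⁻¹ = t0 := by
    apply huniq _ (hg u ((le_sup_left : zpowers u ≤ _) (mem_zpowers u)))
    rw [Cfsg.Agent.Lib.Helper23.QuatSylow.orderOf_conj']; exact hu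
  have hv' : g * v * g⁻¹ = t0 := by
    apply huniq _ (hg v ((le_sup_right : zpowers v ≤ _) (mem_zpowers v)))
    rw [Cfsg.Agent.Lib.Helper23.QuatSylow.orderOf_conj']; exact hv
  have : g * u * g⁻¹ = g * v * g⁻¹ := hu'.trans hv'.symm
  have h2 : g * u = g * v := mul_right_cancel this
  exact mul_left_cancel h2

/-- With a generalized quaternion Sylow 2-subgroup, any two involutions are conjugate. -/
theorem inv_isConj (S : Sylow 2 G) (m : ℕ) [NeZero m]
    (e : ↥(S : Subgroup G) ≃* QuaternionGroup m) {u v : G} (hu : orderOf u = 2) (hv : orderOf v = 2) :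
    ∃ g : G, g * u * g⁻¹ = v := by
  obtain ⟨t0, -, -, huniq⟩ := quat_unique_inv (S : Subgroup G) m e
  obtain ⟨g, hg⟩ := conj_into_sylow S _ (isPGroup_two_zpowers_of_orderOf hu)
  obtain ⟨h, hh⟩ := conj_into_sylow S _ (isPGroup_two_zpowers_of_orderOf hv)
  have hu' : g * u * g⁻¹ = t0 := by
    apply huniq _ (hg u (mem_zpowers u))
    rw [Cfsg.Agent.Lib.Helper23.QuatSylow.orderOf_conj']; exact hu
  have hv' : h * v * h⁻¹ = t0 := by
    apply huniq _ (hh v (mem_zpowers v))
    rw [Cfsg.Agent.Lib.Helper23.QuatSylow.orderOf_conj']; exact hv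
  refine ⟨h⁻¹ * g, ?_⟩
  have : v = h⁻¹ * t0 * h := by rw [← hv']; group
  rw [this, ← hu']; group

/-- With a generalized quaternion Sylow 2-subgroup, a product of two involutions has odd order. -/
theorem prod_inv_odd (S : Sylow 2 G) (m : ℕ) [NeZero m]
    (e : ↥(S : Subgroup G) ≃* QuaternionGroup m) {u v : G} (hu : orderOf u = 2) (hv : orderOf v = 2) :
    ¬ 2 ∣ orderOf (u * v) := by
  intro hdvd
  obtain ⟨k, hk⟩ := hdvd
  set g := u * v with hg
  have hgpos : 0 < orderOf g := orderOf_pos g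
  have hkpos : 0 < k := by
    rcases Nat.eq_zero_or_pos k with h | h
    · rw [h] at hk; omega
    · exact h
  have huu : u * u = 1 := by rw [← pow_two, ← hu]; exact pow_orderOf_eq_one u
  have hvv : v * v = 1 := by rw [← pow_two, ← hv]; exact pow_orderOf_eq_one v
  have huinv : u⁻¹ = u := inv_eq_of_mul_eq_one_right huu
  have hvinv : v⁻¹ = v := inv_eq_of_mul_eq_one_right hvv
  have hginv : u * g * u⁻¹ = g⁻¹ := by
    rw [hg, mul_inv_rev, huinv, hvinv]
    calc u * (u * v) * u = (u * u) * v * u := by group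
      _ = v * u := by rw [huu, one_mul]
  set z := g ^ k with hz
  have hzo : orderOf z = 2 := by
    rw [hz, orderOf_pow_of_dvd hkpos.ne' ⟨2, by rw [hk]; ring⟩, hk]
    exact Nat.mul_div_cancel _ hkpos
  have hzz : z * z = 1 := by rw [← pow_two, ← hzo]; exact pow_orderOf_eq_one z
  have hzinv : z⁻¹ = z := inv_eq_of_mul_eq_one_right hzz
  have huz : u * z * u⁻¹ = z := by
    have : u * z * u⁻¹ = (u * g * u⁻¹) ^ k := by rw [hz, conj_pow]
    rw [this, hginv, inv_pow, ← hz, hzinv]
  have hcomm : u * z = z * u := by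
    calc u * z = (u * z * u⁻¹) * u := by group
      _ = z * u := by rw [huz]
  have huz' : u = z := commute_inv_eq S m e hu hzo hcomm
  -- then u commutes with g
  have hug : u * g * u⁻¹ = g := by
    rw [huz', hz]
    calc g ^ k * g * (g ^ k)⁻¹ = g ^ k * g ^ 1 * (g ^ k)⁻¹ := by rw [pow_one]
      _ = g ^ 1 * g ^ k * (g ^ k)⁻¹ := by rw [← pow_add, ← pow_add, add_comm]
      _ = g := by rw [mul_inv_cancel_right, pow_one]
  have hgg : g * g = 1 := by
    have : g = g⁻¹ := hug.symm.trans hginv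
    calc g * g = g * g⁻¹ := by rw [← this]
      _ = 1 := mul_inv_cancel g
  have hord : orderOf g ∣ 2 := orderOf_dvd_of_pow_eq_one (by rw [pow_two]; exact hgg)
  have hk1 : k = 1 := by
    have := Nat.le_of_dvd (by norm_num) hord
    omega
  have hzg : z = g := by rw [hz, hk1, pow_one]
  have : u = u * v := by rw [← hg, ← hzg]; exact huz'
  have hv1 : v = 1 := by
    have h3 : u * 1 = u * v := by rw [mul_one]; exact this
    exact (mul_left_cancel h3).symm
  rw [hv1, orderOf_one] at hv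
  omega

end Inv

section Ker

variable {G : Type*} [Group G] [Fintype G]

/-- The kernel argument: the involution lies in the kernel of `χ₁`. -/
theorem bs_kernel (t : G) (ht : orderOf t = 2)
    (hP : ∀ h g : G, IsConj (t * (h * t * h⁻¹)) g → ¬ 2 ∣ orderOf g)
    (χ₁ χ₂ : Cfsg.IrrCharacter G)
    (hdeg : (χ₁ : G → ℂ) 1 = (χ₂ : G → ℂ) 1 + 1)
    (hval : ∀ g : G, ¬ 4 ∣ orderOf g → (χ₁ : G → ℂ) g - (χ₂ : G → ℂ) g = 1) :
    (χ₁ : G → ℂ) t = (χ₁ : G → ℂ) 1 := by
  classical
  have : Fintype (Cfsg.IrrCharacter G) := Fintype.ofFinite _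
  have hGne : (Nat.card G : ℂ) ≠ 0 := card_ne_zero_complex
  set w : Cfsg.IrrCharacter G → ℂ := fun χ => (χ : G → ℂ) t ^ 2 / (χ : G → ℂ) 1 with hw
  set Θ : G → ℂ := (trivialIrr G : G → ℂ) + (χ₂ : G → ℂ) - (χ₁ : G → ℂ) with hΘ
  -- inner products
  have key1 : ∀ χ : Cfsg.IrrCharacter G, ∑ g : G, Θ g * conj ((χ : G → ℂ) g)
      = (Nat.card G : ℂ) * ((if trivialIrr G = χ then 1 else 0) + (if χ₂ = χ then 1 else 0)
        - (if χ₁ = χ then 1 else 0)) := by
    intro χ
    have h : Cfsg.classInner Θ (χ : G → ℂ) = (if trivialIrr G = χ then 1 else 0)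
        + (if χ₂ = χ then 1 else 0) - (if χ₁ = χ then 1 else 0) := by
      rw [hΘ, classInner_sub_left, classInner_add_left, classInner_irrCharacter,
        classInner_irrCharacter, classInner_irrCharacter]
    rw [classInner_def] at h
    exact (inv_mul_eq_iff_eq_mul₀ hGne).mp h
  -- the weight sum vanishes on elements of even order
  have hwsum : ∀ χ : Cfsg.IrrCharacter G, w χ
      = (Nat.card G : ℂ)⁻¹ * ∑ h : G, (χ : G → ℂ) (t * (h * t * h⁻¹)) := by
    intro χ
    rw [Cfsg.Agent.Lib.Helper25.sum_char_mul_conj χ.2 t t]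
    simp only [hw]
    field_simp
  have key2 : ∀ g : G, 2 ∣ orderOf g → ∑ χ : Cfsg.IrrCharacter G, w χ * conj ((χ : G → ℂ) g) = 0 := by
    intro g hg
    simp only [hwsum]
    have : ∀ χ : Cfsg.IrrCharacter G,
        (Nat.card G : ℂ)⁻¹ * (∑ h : G, (χ : G → ℂ) (t * (h * t * h⁻¹))) * conj ((χ : G → ℂ) g)
        = (Nat.card G : ℂ)⁻¹ * ∑ h : G, (χ : G → ℂ) (t * (h * t * h⁻¹)) * conj ((χ : G → ℂ) g) := by
      intro χ
      rw [mul_assoc, Finset.sum_mul]
    simp only [this]
    rw [← Finset.mul_sum, Finset.sum_comm]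
    have h0 : ∀ h : G, ∑ χ : Cfsg.IrrCharacter G,
        (χ : G → ℂ) (t * (h * t * h⁻¹)) * conj ((χ : G → ℂ) g) = 0 := by
      intro h
      rw [column_orthogonality, if_neg]
      intro hc
      exact hP h g hc hg
    simp only [h0, Finset.sum_const_zero, mul_zero]
  have key3 : ∀ g : G, Θ g * ∑ χ : Cfsg.IrrCharacter G, w χ * conj ((χ : G → ℂ) g) = 0 := by
    intro g
    by_cases h4 : 4 ∣ orderOf g
    · rw [key2 g ((by norm_num : (2 : ℕ) ∣ 4).trans h4), mul_zero]
    · have := hval g h4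
      have h0 : Θ g = 0 := by
        simp only [hΘ, Pi.add_apply, Pi.sub_apply]
        change (1 : ℂ) + (χ₂ : G → ℂ) g - (χ₁ : G → ℂ) g = 0
        linear_combination -this
      rw [h0, zero_mul]
  have hsum : ∑ g : G, Θ g * ∑ χ : Cfsg.IrrCharacter G, w χ * conj ((χ : G → ℂ) g) = 0 :=
    Finset.sum_eq_zero (fun g _ => key3 g)
  have hsum2 : ∑ g : G, Θ g * ∑ χ : Cfsg.IrrCharacter G, w χ * conj ((χ : G → ℂ) g)
      = ∑ χ : Cfsg.IrrCharacter G, w χ * ∑ g : G, Θ g * conj ((χ : G → ℂ) g) := by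
    simp only [Finset.mul_sum]
    rw [Finset.sum_comm]
    apply Finset.sum_congr rfl
    intro χ _
    apply Finset.sum_congr rfl
    intro g _
    ring
  rw [hsum2] at hsum
  simp only [key1] at hsum
  have hsum3 : ∑ χ : Cfsg.IrrCharacter G, w χ * ((Nat.card G : ℂ) *
      ((if trivialIrr G = χ then 1 else 0) + (if χ₂ = χ then 1 else 0)
        - (if χ₁ = χ then 1 else 0)))
      = (Nat.card G : ℂ) * (w (trivialIrr G) + w χ₂ - w χ₁) := by
    have : ∀ χ : Cfsg.IrrCharacter G, w χ * ((Nat.card G : ℂ) *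
      ((if trivialIrr G = χ then 1 else 0) + (if χ₂ = χ then 1 else 0)
        - (if χ₁ = χ then 1 else 0)))
      = (Nat.card G : ℂ) * ((if trivialIrr G = χ then w χ else 0) + (if χ₂ = χ then w χ else 0)
        - (if χ₁ = χ then w χ else 0)) := by
      intro χ
      split_ifs <;> ring
    simp only [this]
    rw [← Finset.mul_sum, Finset.sum_sub_distrib, Finset.sum_add_distrib,
      Finset.sum_ite_eq, Finset.sum_ite_eq, Finset.sum_ite_eq]
    simp
  rw [hsum3] at hsum
  have hw0 : w (trivialIrr G) + w χ₂ - w χ₁ = 0 := by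
    rcases mul_eq_zero.mp hsum with h | h
    · exact absurd h hGne
    · exact h
  -- algebra
  obtain ⟨d, hdpos, hd⟩ := IsIrrCharacter.apply_one χ₂.2
  have ht4 : ¬ 4 ∣ orderOf t := by rw [ht]; norm_num
  have hy := hval t ht4
  have hwt : w (trivialIrr G) = 1 := by
    simp only [hw]
    change (1 : ℂ) ^ 2 / 1 = 1
    norm_num
  simp only [hw] at hw0
  rw [show ((trivialIrr G : Cfsg.IrrCharacter G) : G → ℂ) t ^ 2 / ((trivialIrr G : Cfsg.IrrCharacter G) : G → ℂ) 1 = 1 from hwt] at hw0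
  have hy1 : (χ₁ : G → ℂ) t = (χ₂ : G → ℂ) t + 1 := by linear_combination hy
  rw [hy1, hdeg, hd] at hw0
  have hdne : (d : ℂ) ≠ 0 := by exact_mod_cast hdpos.ne'
  have hd1ne : (d : ℂ) + 1 ≠ 0 := by
    have : ((d + 1 : ℕ) : ℂ) ≠ 0 := by exact_mod_cast (Nat.succ_ne_zero d)
    push_cast at this
    exact this
  have hsq : ((d : ℂ) - (χ₂ : G → ℂ) t) ^ 2 = 0 := by
    field_simp at hw0
    linear_combination hw0
  have hyd : (χ₂ : G → ℂ) t = d := by
    have := pow_eq_zero_iff (two_ne_zero) |>.mp hsq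
    linear_combination -this
  rw [hy1, hdeg, hd, hyd]

end Ker

end Cfsg.Agent.Lib.Helper17
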