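import Mathlib
import Cfsg.Agent.S0845
import Cfsg.Agent.Lib.Helper17.BSKer

/-!
# Brauer-Suzuki for order ≥ 16: the subgroup generated by the involutions has cyclic Sylow 2-subgroups
(helper17 library)
-/

set_option autoImplicit false

namespace Cfsg.Agent.Lib.Helper17

open Subgroup QuaternionGroup
open scoped commutatorElement

/-- A normal subgroup of a generalized quaternion group lies in the cyclic maximal subgroup or
contains the commutator subgroup. -/
theorem quat_normal_dichotomy {m : ℕ} [NeZero m] (N' : Subgroup (QuaternionGroup m))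
    [hN : N'.Normal] :
    N' ≤ zpowers (a 1 : QuaternionGroup m) ∨ ⁅(⊤ : Subgroup (QuaternionGroup m)), ⊤⁆ ≤ N' := by
  by_cases h : N' ≤ zpowers (a 1 : QuaternionGroup m)
  · left; exact h
  · right
    obtain ⟨q, hq, hqn⟩ := SetLike.not_le_iff_exists.mp h
    rw [Cfsg.Agent.Lib.Helper23.QuatSylow.mem_zpowers_a_one_iff] at hqn
    rcases q with i | i
    · exact absurd ⟨i, rfl⟩ hqn
    · have h1 : a 1 * xa i * (a 1)⁻¹ ∈ N' := hN.conj_mem _ hq _
      have h1' : (a 1 : QuaternionGroup m) * xa i * (a 1)⁻¹ = xa (i - 2) := by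
        have : ((a 1 : QuaternionGroup m))⁻¹ = a (-1) := rfl
        rw [this, a_mul_xa, xa_mul_a]; congr 1; ring
      rw [h1'] at h1
      have h2 : xa (i - 2) * xa i ∈ N' := N'.mul_mem h1 hq
      have h3 : xa i * xa i ∈ N' := N'.mul_mem hq hq
      rw [xa_mul_xa] at h2 h3
      have h4 : a ((m : ZMod (2 * m)) + i - (i - 2)) * (a ((m : ZMod (2 * m)) + i - i))⁻¹ ∈ N' :=
        N'.mul_mem h2 (N'.inv_mem h3)
      have h5 : a ((m : ZMod (2 * m)) + i - (i - 2)) * (a ((m : ZMod (2 * m)) + i - i))⁻¹
          = (a 2 : QuaternionGroup m) := by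
        have : (a ((m : ZMod (2 * m)) + i - i) : QuaternionGroup m)⁻¹
            = a (-((m : ZMod (2 * m)) + i - i)) := rfl
        rw [this, a_mul_a]; congr 1; ring
      rw [h5] at h4
      rw [Cfsg.Agent.Lib.Helper23.QuatSylow.commutator_top, zpowers_le]
      exact h4

theorem bs_cyclic_aux.{u} : ∀ (N : ℕ) (G : Type u) [Group G] [Finite G], Nat.card G = N →
    ∀ (S : Sylow 2 G) (n : ℕ) (_e : ↥(S : Subgroup G) ≃* QuaternionGroup (2 ^ (n + 2)))
      (P : Subgroup G), IsPGroup 2 P → P ≤ closure {g : G | orderOf g = 2} → IsCyclic P := by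
  intro N
  induction N using Nat.strong_induction_on with
  | _ N ih =>
  intro G _ _ hcard S n e P hP hPL
  have : NeZero (2 ^ (n + 2)) := ⟨by positivity⟩
  obtain ⟨M, hMn, hMeven, hMcomm⟩ := Cfsg.Agent.S0845.result S n e
  have := hMn
  -- involutions lie in M
  have hinvM : ∀ g : G, orderOf g = 2 → g ∈ M := by
    intro g hg
    have h2 : 2 ∣ Nat.card M := even_iff_two_dvd.mp hMeven
    obtain ⟨t', ht'⟩ := exists_prime_orderOf_dvd_card' 2 h2
    have ht'o : orderOf (t' : G) = 2 := by rw [Subgroup.orderOf_coe]; exact ht'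
    obtain ⟨c, hc⟩ := inv_isConj S _ e ht'o hg
    rw [← hc]
    exact hMn.conj_mem _ t'.2 c
  have hLM : closure {g : G | orderOf g = 2} ≤ M := (closure_le M).mpr hinvM
  by_cases hH : M ⊔ (S : Subgroup G) = ⊤
  · -- case G = MS
    set N' : Subgroup (QuaternionGroup (2 ^ (n + 2))) :=
      (M.subgroupOf (S : Subgroup G)).map e.toMonoidHom with hN'
    have hN'n : N'.Normal := Subgroup.Normal.map inferInstance _ e.surjective
    rcases quat_normal_dichotomy N' with hA | hB
    · obtain ⟨g, hg⟩ := conj_into_sylow S P hP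
      let f0 : P →* (S : Subgroup G) :=
        { toFun := fun v => ⟨g * (v : G) * g⁻¹, hg v v.2⟩
          map_one' := by apply Subtype.ext; simp
          map_mul' := by
            intro a b
            apply Subtype.ext
            simp only [Subgroup.coe_mul]
            group }
      let f : P →* QuaternionGroup (2 ^ (n + 2)) := e.toMonoidHom.comp f0
      have hfinj : Function.Injective f := by
        intro v w hvw
        have h1 : f0 v = f0 w := e.injective hvw
        have h2 : g * (v : G) * g⁻¹ = g * (w : G) * g⁻¹ := congrArg Subtype.val h1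
        apply Subtype.ext
        exact mul_left_cancel (mul_right_cancel h2)
      have hfrange : ∀ v : P, f v ∈ zpowers (a 1 : QuaternionGroup (2 ^ (n + 2))) := by
        intro v
        apply hA
        rw [hN']
        refine ⟨f0 v, ?_, rfl⟩
        rw [SetLike.mem_coe, mem_subgroupOf]
        exact hMn.conj_mem _ (hLM (hPL v.2)) g
      let f' : P →* zpowers (a 1 : QuaternionGroup (2 ^ (n + 2))) := f.codRestrict _ hfrange
      have hf'inj : Function.Injective f' := by
        intro v w hvw
        apply hfinj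
        exact congrArg Subtype.val hvw
      exact isCyclic_of_injective f' hf'inj
    · exfalso
      apply hMcomm
      have hSS : ∀ s₁ ∈ (S : Subgroup G), ∀ s₂ ∈ (S : Subgroup G), ⁅s₁, s₂⁆ ∈ M := by
        intro s₁ h₁ s₂ h₂
        have hmem : ⁅e ⟨s₁, h₁⟩, e ⟨s₂, h₂⟩⁆ ∈ N' :=
          hB (Subgroup.commutator_mem_commutator (mem_top _) (mem_top _))
        rw [hN'] at hmem
        obtain ⟨y, hy, hye⟩ := hmem
        have hyy : y = ⁅(⟨s₁, h₁⟩ : (S : Subgroup G)), ⟨s₂, h₂⟩⁆ := by
          apply e.injective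
          rw [map_commutatorElement]
          exact hye
        rw [SetLike.mem_coe, mem_subgroupOf, hyy] at hy
        simpa [commutatorElement_def] using hy
      rw [commutator_def, Subgroup.commutator_le]
      intro g₁ _ g₂ _
      have hdec : ∀ g : G, ∃ m ∈ M, ∃ s ∈ (S : Subgroup G), m * s = g := by
        intro g
        have hg : g ∈ ((M ⊔ (S : Subgroup G) : Subgroup G) : Set G) := by rw [hH]; trivial
        rw [Subgroup.normal_mul] at hg
        obtain ⟨m, hm, s, hs, rfl⟩ := Set.mem_mul.mp hg
        exact ⟨m, hm, s, hs, rfl⟩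
      obtain ⟨m₁, hm₁, s₁, hs₁, rfl⟩ := hdec g₁
      obtain ⟨m₂, hm₂, s₂, hs₂, rfl⟩ := hdec g₂
      rw [← QuotientGroup.eq_one_iff, ← QuotientGroup.mk'_apply, map_commutatorElement, map_mul,
        map_mul]
      have e1 : QuotientGroup.mk' M m₁ = 1 := (QuotientGroup.eq_one_iff _).mpr hm₁
      have e2 : QuotientGroup.mk' M m₂ = 1 := (QuotientGroup.eq_one_iff _).mpr hm₂
      rw [e1, e2, one_mul, one_mul, ← map_commutatorElement]
      exact (QuotientGroup.eq_one_iff _).mpr (hSS s₁ hs₁ s₂ hs₂)
  · -- case MS proper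
    set H : Subgroup G := M ⊔ (S : Subgroup G) with hHdef
    have hSH : (S : Subgroup G) ≤ H := le_sup_right
    have hMH : M ≤ H := le_sup_left
    have hlt : Nat.card H < N := by
      rw [← hcard]
      apply lt_of_le_of_ne (Subgroup.card_le_card_group H)
      intro h
      exact hH (Subgroup.eq_top_of_card_eq H h)
    let S' : Sylow 2 H := S.subtype hSH
    let e' : ↥(S' : Subgroup H) ≃* QuaternionGroup (2 ^ (n + 2)) :=
      (Subgroup.subgroupOfEquivOfLe hSH).trans e
    have hPH : P ≤ H := hPL.trans (hLM.trans hMH)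
    have hP' : IsPGroup 2 (P.subgroupOf H) := hP.of_equiv (Subgroup.subgroupOfEquivOfLe hPH).symm
    have hP'L : P.subgroupOf H ≤ closure {h : H | orderOf h = 2} := by
      intro p' hp'
      rw [mem_subgroupOf] at hp'
      have h1 : closure {g : G | orderOf g = 2}
          ≤ (closure {h : H | orderOf h = 2}).map H.subtype := by
        rw [closure_le]
        intro g hg
        refine ⟨⟨g, hMH (hinvM g hg)⟩, subset_closure ?_, rfl⟩
        show orderOf (⟨g, _⟩ : H) = 2
        rw [Subgroup.orderOf_mk]; exact hg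
      obtain ⟨h', hh', hh'p⟩ := h1 (hPL hp')
      have : h' = p' := Subtype.ext hh'p
      rwa [← this]
    have hcyc := ih (Nat.card H) hlt H rfl S' n e' (P.subgroupOf H) hP' hP'L
    exact (Subgroup.subgroupOfEquivOfLe hPH).isCyclic.mp hcyc

end Cfsg.Agent.Lib.Helper17
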