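import Mathlib
import Cfsg.Agent.Lib.Helper7.NormalComplement
import Cfsg.Agent.Lib.Helper17.BSKer

/-!
# Brauer-Suzuki: from cyclic Sylow 2-subgroups of the subgroup generated by the involutions to the
centre of order two (helper17 library)
-/

set_option autoImplicit false

namespace Cfsg.Agent.Lib.Helper17

open Subgroup QuaternionGroup

section Final

variable {G : Type*} [Group G] [Finite G]

/-- an element all of whose odd-order powers are trivial is a 2-element -/
theorem exists_two_pow_of_odd_trivial {H : Type*} [Group H] [Finite H] (x : H)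
    (hodd : ∀ y : H, (orderOf y).Coprime 2 → y ∈ zpowers x → y = 1) : ∃ k : ℕ, x ^ 2 ^ k = 1 := by
  obtain ⟨k, r, hr, hx⟩ := Nat.exists_eq_two_pow_mul_odd (orderOf_pos x).ne'
  refine ⟨k, ?_⟩
  apply hodd
  · have h1 : orderOf (x ^ 2 ^ k) ∣ r := by
      apply orderOf_dvd_of_pow_eq_one
      rw [← pow_mul, ← hx, pow_orderOf_eq_one]
    have h2 : Nat.Coprime r 2 := Nat.Coprime.symm (Nat.coprime_two_left.mpr hr)
    exact Nat.Coprime.coprime_dvd_left h1 h2
  · exact Subgroup.pow_mem _ (mem_zpowers x) _

theorem bs_center (S : Sylow 2 G) (m : ℕ) (hm : 2 ≤ m)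
    (e : ↥(S : Subgroup G) ≃* QuaternionGroup m)
    (hO : ∀ N : Subgroup G, N.Normal → Odd (Nat.card N) → N = ⊥)
    (hcyc : ∀ P : Subgroup G, IsPGroup 2 P → P ≤ closure {g : G | orderOf g = 2} → IsCyclic P) :
    Nat.card (center G) = 2 := by
  have : NeZero m := ⟨by omega⟩
  have hconjo : ∀ g y : G, orderOf (g * y * g⁻¹) = orderOf y :=
    Cfsg.Agent.Lib.Helper23.QuatSylow.orderOf_conj'
  obtain ⟨L, hL⟩ : ∃ L : Subgroup G, L = closure {g : G | orderOf g = 2} := ⟨_, rfl⟩
  have hLn : L.Normal := by
    constructor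
    intro x hx g
    rw [hL] at hx ⊢
    induction hx using Subgroup.closure_induction with
    | mem y hy =>
      apply Subgroup.subset_closure
      show orderOf (g * y * g⁻¹) = 2
      rw [hconjo]; exact hy
    | one => simp
    | mul y z _ _ hy hz =>
      have : g * (y * z) * g⁻¹ = (g * y * g⁻¹) * (g * z * g⁻¹) := by group
      rw [this]; exact mul_mem hy hz
    | inv y _ hy =>
      have : g * y⁻¹ * g⁻¹ = (g * y * g⁻¹)⁻¹ := by group
      rw [this]; exact inv_mem hy
  -- Sylow 2-subgroup of L is cyclic
  obtain ⟨T⟩ : Nonempty (Sylow 2 L) := inferInstance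
  have hT : IsCyclic (T : Subgroup L) := by
    have h := hcyc ((T : Subgroup L).map L.subtype) (T.isPGroup'.map _)
      (by
        intro x hx
        obtain ⟨y, _, rfl⟩ := hx
        rw [← hL]; exact y.2)
    exact ((T : Subgroup L).equivMapOfInjective L.subtype (Subgroup.subtype_injective L)).isCyclic.mpr h
  have hmin : ∀ q : ℕ, q.Prime → q ∣ Nat.card L → 2 ≤ q := fun q hq _ => hq.two_le
  obtain ⟨K, hKn, hKodd, hKall⟩ :=
    Cfsg.Agent.Lib.Helper7.exists_normal_pPrime_of_cyclic_sylow hmin T hT
  -- K is trivial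
  have hKbot : K = ⊥ := by
    have hKGn : (K.map L.subtype).Normal := by
      constructor
      intro x hx g
      obtain ⟨k, hk, rfl⟩ := hx
      refine ⟨⟨g * (k : G) * g⁻¹, hLn.conj_mem _ k.2 g⟩, ?_, rfl⟩
      apply hKall
      have h1 : orderOf (⟨g * (k : G) * g⁻¹, hLn.conj_mem _ k.2 g⟩ : L) = orderOf k := by
        rw [Subgroup.orderOf_mk, hconjo, Subgroup.orderOf_coe]
      rw [h1]
      have h2 : orderOf k ∣ Nat.card K := Subgroup.orderOf_dvd_natCard K hk
      exact Nat.Coprime.symm ((Nat.Prime.coprime_iff_not_dvd Nat.prime_two).mpr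
        (fun h => hKodd (h.trans h2)))
    have hKGodd : Odd (Nat.card (K.map L.subtype)) := by
      rw [Subgroup.card_map_of_injective (Subgroup.subtype_injective L), ← Nat.not_even_iff_odd,
        even_iff_two_dvd]
      exact hKodd
    have := hO _ hKGn hKGodd
    exact (Subgroup.map_eq_bot_iff_of_injective K (Subgroup.subtype_injective L)).mp this
  -- L is a 2-group
  have hLp : IsPGroup 2 L := by
    intro x
    apply exists_two_pow_of_odd_trivial x
    intro y hy _
    have : y ∈ K := hKall y hy
    rw [hKbot, Subgroup.mem_bot] at this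
    exact this
  have hLc : IsCyclic L := hcyc L hLp (by rw [hL])
  -- unique involution
  have huniq : ∀ u v : G, orderOf u = 2 → orderOf v = 2 → u = v := by
    intro u v hu hv
    have huL : u ∈ L := by rw [hL]; exact Subgroup.subset_closure hu
    have hvL : v ∈ L := by rw [hL]; exact Subgroup.subset_closure hv
    let _ := hLc.commGroup
    have h1 : (⟨u, huL⟩ : L) * ⟨v, hvL⟩ = ⟨v, hvL⟩ * ⟨u, huL⟩ := mul_comm _ _
    exact commute_inv_eq S m e hu hv (congrArg Subtype.val h1)
  obtain ⟨t0, ht0S, ht0, -⟩ := quat_unique_inv (S : Subgroup G) m e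
  have ht0c : t0 ∈ center G := by
    rw [Subgroup.mem_center_iff]
    intro g
    have h1 : g * t0 * g⁻¹ = t0 := huniq _ _ (by rw [hconjo]; exact ht0) ht0
    calc g * t0 = (g * t0 * g⁻¹) * g := by group
      _ = t0 * g := by rw [h1]
  -- central elements
  have hcen : ∀ z ∈ center G, z = 1 ∨ z = t0 := by
    intro z hz
    have hzc : ∀ g : G, g * z = z * g := fun g => Subgroup.mem_center_iff.mp hz g
    have hzconj : ∀ g : G, g * z * g⁻¹ = z := by
      intro g
      rw [hzc g]; group
    -- z is a 2-element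
    obtain ⟨k, hk⟩ : ∃ k : ℕ, z ^ 2 ^ k = 1 := by
      apply exists_two_pow_of_odd_trivial z
      intro y hy hyz
      have hyn : (zpowers y).Normal := by
        constructor
        intro x hx g
        obtain ⟨j, rfl⟩ := mem_zpowers_iff.mp hx
        have hyc : g * y * g⁻¹ = y := by
          obtain ⟨i, rfl⟩ := mem_zpowers_iff.mp hyz
          have : g * z ^ i * g⁻¹ = (g * z * g⁻¹) ^ i := by rw [conj_zpow]
          rw [this, hzconj]
        have : g * y ^ j * g⁻¹ = (g * y * g⁻¹) ^ j := by rw [conj_zpow]
        rw [this, hyc]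
        exact Subgroup.zpow_mem _ (mem_zpowers y) j
      have hyodd : Odd (Nat.card (zpowers y)) := by
        rw [Nat.card_zpowers]
        exact Nat.coprime_two_left.mp (Nat.Coprime.symm hy)
      have := hO _ hyn hyodd
      have hy1 : y ∈ zpowers y := mem_zpowers y
      rw [this, Subgroup.mem_bot] at hy1
      exact hy1
    -- z ∈ S
    have hzS : z ∈ (S : Subgroup G) := by
      have hzo : orderOf z ∣ 2 ^ k := orderOf_dvd_of_pow_eq_one hk
      obtain ⟨b, -, hb⟩ := (Nat.dvd_prime_pow Nat.prime_two).mp hzo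
      have hp : IsPGroup 2 (zpowers z) := by
        apply IsPGroup.of_card (n := b)
        rw [Nat.card_zpowers, hb]
      obtain ⟨g, hg⟩ := conj_into_sylow S _ hp
      have := hg z (mem_zpowers z)
      rwa [hzconj] at this
    -- the image in the quaternion group is central
    have hq : ∀ p : QuaternionGroup m, e ⟨z, hzS⟩ * p = p * e ⟨z, hzS⟩ := by
      intro p
      obtain ⟨s, rfl⟩ := e.surjective p
      rw [← map_mul, ← map_mul]
      congr 1
      apply Subtype.ext
      simp only [Subgroup.coe_mul]
      exact (hzc s).symm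
    rcases hqe : e ⟨z, hzS⟩ with i | i
    · have h1 := hq (xa 0)
      rw [hqe, a_mul_xa, xa_mul_a] at h1
      have h2 : (0 : ZMod (2 * m)) - i = 0 + i := by injection h1
      have h3 : i + i = 0 := by linear_combination -h2
      by_cases hi0 : i = 0
      · left
        have : e ⟨z, hzS⟩ = 1 := by rw [hqe, hi0, a_zero]
        have h4 : (⟨z, hzS⟩ : (S : Subgroup G)) = 1 := by
          apply e.injective; rw [this, map_one]
        exact congrArg Subtype.val h4
      · right
        have him := Cfsg.Agent.Lib.Helper2.zmod_two_mul_eq_of_add_self i h3 hi0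
        apply huniq _ _ _ ht0
        have : orderOf (e ⟨z, hzS⟩) = 2 := by
          rw [hqe, him]; exact Cfsg.Agent.Lib.Helper2.quaternion_orderOf_a_n
        rw [MulEquiv.orderOf_eq, Subgroup.orderOf_mk] at this
        exact this
    · exfalso
      have h1 := hq (a 1)
      rw [hqe, a_mul_xa, xa_mul_a] at h1
      have h2 : i + 1 = i - 1 := by injection h1
      have h3 : ((2 : ℕ) : ZMod (2 * m)) = 0 := by
        push_cast
        linear_combination h2
      rw [ZMod.natCast_eq_zero_iff] at h3
      have := Nat.le_of_dvd (by norm_num) h3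
      omega
  have ht01 : t0 ≠ 1 := by
    intro h; rw [h, orderOf_one] at ht0; omega
  rw [Nat.card_eq_two_iff]
  refine ⟨⟨1, one_mem _⟩, ⟨t0, ht0c⟩, ?_, ?_⟩
  · intro h
    exact ht01 (congrArg Subtype.val h).symm
  · ext z
    simp only [Set.mem_insert_iff, Set.mem_singleton_iff, Set.mem_univ, iff_true]
    rcases hcen z z.2 with h | h
    · left; exact Subtype.ext h
    · right; exact Subtype.ext h

end Final

end Cfsg.Agent.Lib.Helper17
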