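import Mathlib
import Cfsg.Prelude
import Cfsg.Agent.Lib.Helper1.Cores
import Cfsg.Agent.Lib.Helper1.Coprime
import Cfsg.Agent.Lib.Helper9.Layer3
import Cfsg.Agent.Lib.Helper9.Misc
import Cfsg.Agent.Lib.Helper16.PCore
import Cfsg.Agent.Lib.Helper17.StrongPEmb
import Cfsg.Agent.Lib.Helper17.Conj

/-!
Action of a `p`-group on subnormal subgroups of `F*(H)` when `O_p(H) = 1`.
-/

set_option autoImplicit false

namespace Cfsg.Agent.Lib.Helper17

open Cfsg Cfsg.Agent.Lib.Helper9
open scoped commutatorElement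

section general

variable {G : Type*} [Group G]

/-- A quasisimple subgroup is perfect (ambient form). -/
theorem commutator_self_of_isQuasisimple {K : Subgroup G} (hK : IsQuasisimple ↥K) : ⁅K, K⁆ = K := by
  rw [← Subgroup.map_subtype_commutator, qs_commutator_eq_top hK, ← MonoidHom.range_eq_map,
    Subgroup.range_subtype]

/-- A quasisimple subgroup `K` normalized by `Y` satisfies `[K, Y] = K` or `[K, Y] = 1`. -/
theorem commutator_eq_self_or_bot_of_isQuasisimple {K Y : Subgroup G} (hK : IsQuasisimple ↥K)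
    (hY : Y ≤ Subgroup.normalizer (K : Set G)) : ⁅K, Y⁆ = K ∨ ⁅K, Y⁆ = ⊥ := by
  have hn : K ≤ Subgroup.normalizer ((⁅K, Y⁆ : Subgroup G) : Set G) :=
    Cfsg.Agent.Lib.Helper1.le_normalizer_commutator_left
  have hle : ⁅K, Y⁆ ≤ K := Cfsg.Agent.Lib.Helper1.commutator_le_of_le_normalizer hY
  haveI : ((⁅K, Y⁆ : Subgroup G).subgroupOf K).Normal :=
    (Subgroup.normal_subgroupOf_iff_le_normalizer hle).mpr hn
  rcases qs_normal_le_center_or_eq_top hK ((⁅K, Y⁆ : Subgroup G).subgroupOf K) with h | h
  · right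
    have hc : ⁅K, Y⁆ ≤ Subgroup.centralizer (K : Set G) := by
      intro x hx
      have hxK := hle hx
      have h3 : (⟨x, hxK⟩ : ↥K) ∈ Subgroup.center ↥K := h (Subgroup.mem_subgroupOf.mpr hx)
      rw [Subgroup.mem_centralizer_iff]
      intro k hk
      exact congrArg Subtype.val (Subgroup.mem_center_iff.mp h3 ⟨k, hk⟩)
    have e1 : ⁅⁅K, Y⁆, K⁆ = ⊥ := Subgroup.commutator_eq_bot_iff_le_centralizer.mpr hc
    have e2 : ⁅⁅Y, K⁆, K⁆ = ⊥ := by
      rw [Subgroup.commutator_comm Y]
      exact e1
    have e3 : ⁅⁅K, K⁆, Y⁆ = ⊥ := Subgroup.commutator_commutator_eq_bot_of_rotate e1 e2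
    rwa [commutator_self_of_isQuasisimple hK] at e3
  · left
    apply le_antisymm hle
    intro k hk
    have h3 : (⟨k, hk⟩ : ↥K) ∈ (⁅K, Y⁆ : Subgroup G).subgroupOf K := by
      rw [h]
      trivial
    exact Subgroup.mem_subgroupOf.mp h3

/-- If `L = [L,Y] C_L(Y)` then `[L,Y] = [L,Y,Y]`. -/
theorem commutator_eq_commutator_commutator {L Y : Subgroup G}
    (hYL : Y ≤ Subgroup.normalizer (L : Set G))
    (h : ⁅L, Y⁆ ⊔ (L ⊓ Subgroup.centralizer (Y : Set G)) = L) : ⁅L, Y⁆ = ⁅⁅L, Y⁆, Y⁆ := by
  apply le_antisymm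
  · rw [Subgroup.commutator_le]
    intro l hl y hy
    have hl' : l ∈ ⁅L, Y⁆ ⊔ (L ⊓ Subgroup.centralizer (Y : Set G)) := by rw [h]; exact hl
    have hn : L ⊓ Subgroup.centralizer (Y : Set G) ≤
        Subgroup.normalizer ((⁅L, Y⁆ : Subgroup G) : Set G) :=
      inf_le_left.trans Cfsg.Agent.Lib.Helper1.le_normalizer_commutator_left
    obtain ⟨a, ha, c, hc, rfl⟩ := (mem_sup_of_le_normalizer hn).mp hl'
    have hcy : y * c = c * y := Subgroup.mem_centralizer_iff.mp hc.2 y hy
    have e : ⁅a * c, y⁆ = ⁅a, y⁆ := by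
      rw [commutatorElement_def, commutatorElement_def]
      calc a * c * y * (a * c)⁻¹ * y⁻¹ = a * (c * y) * c⁻¹ * a⁻¹ * y⁻¹ := by group
        _ = a * (y * c) * c⁻¹ * a⁻¹ * y⁻¹ := by rw [hcy]
        _ = a * y * a⁻¹ * y⁻¹ := by group
    rw [e]
    exact Subgroup.commutator_mem_commutator ha hy
  · exact Cfsg.Agent.Lib.Helper1.commutator_le_of_le_normalizer
      Cfsg.Agent.Lib.Helper1.le_normalizer_commutator_right

end general

section inside

universe u

variable {H : Type u} [Group H] [Finite H] {p : ℕ} [Fact p.Prime]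

/-- With `O_p(H) = 1` the Fitting subgroup is a `p'`-group. -/
theorem fittingSubgroup_coprime (hO : pCore p H = ⊥) :
    (Nat.card (fittingSubgroup H)).Coprime p := by
  have hp : p.Prime := Fact.out
  have hnil : Group.IsNilpotent ↥(fittingSubgroup H) :=
    Cfsg.Agent.Lib.Helper1.fittingSubgroup_isNilpotent
  have hFn : (fittingSubgroup H).Normal := Cfsg.Agent.Lib.Helper1.fittingSubgroup_normal
  rw [Nat.coprime_comm, Nat.Prime.coprime_iff_not_dvd hp]
  intro hdvd
  obtain ⟨T⟩ : Nonempty (Sylow p ↥(fittingSubgroup H)) := inferInstance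
  have hall : ∀ (q : ℕ) (_hq : Fact q.Prime) (T : Sylow q ↥(fittingSubgroup H)),
      (T : Subgroup ↥(fittingSubgroup H)).Normal :=
    ((isNilpotent_of_finite_tfae (G := ↥(fittingSubgroup H))).out 0 3).mp hnil
  have hTn : (T : Subgroup ↥(fittingSubgroup H)).Normal := hall p inferInstance T
  haveI := T.characteristic_of_normal hTn
  have hTn' : ((T : Subgroup ↥(fittingSubgroup H)).map (fittingSubgroup H).subtype).Normal :=
    inferInstance
  have h1 := Cfsg.Agent.Lib.Helper16.le_pCore _ hTn' (T.2.map _)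
  rw [hO, le_bot_iff] at h1
  apply sylow_ne_bot_of_dvd hdvd T
  exact (Subgroup.map_eq_bot_iff_of_injective _ (Subgroup.subtype_injective _)).mp h1

/-- A subnormal subgroup of `F*(H)` is generated by the components it contains and its
intersection with `F(H)`. -/
theorem le_components_sup_fitting {L : Subgroup H} (hL : L.IsSubnormal)
    (hLF : L ≤ generalizedFittingSubgroup H) :
    L ≤ sSup {K : Subgroup H | IsComponent K ∧ K ≤ L} ⊔ (L ⊓ fittingSubgroup H) := by
  have hEL : sSup {K : Subgroup H | IsComponent K ∧ K ≤ L} ≤ L := sSup_le fun K hK => hK.2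
  have hE' : sSup {K : Subgroup H | IsComponent K ∧ ¬ K ≤ L} ≤ Subgroup.centralizer (L : Set H) := by
    apply sSup_le
    rintro K ⟨hK, hKL⟩
    rcases comp_le_or_commutator_eq_bot hK hL with h | h
    · exact absurd h hKL
    · exact Subgroup.commutator_eq_bot_iff_le_centralizer.mp h
  have hlayer : layer H = sSup {K : Subgroup H | IsComponent K ∧ K ≤ L} ⊔
      sSup {K : Subgroup H | IsComponent K ∧ ¬ K ≤ L} := by
    rw [← sSup_union]
    unfold layer
    congr 1
    ext K
    simp only [Set.mem_setOf_eq, Set.mem_union]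
    tauto
  have hcomm1 : ∀ a ∈ sSup {K : Subgroup H | IsComponent K ∧ K ≤ L},
      ∀ b ∈ sSup {K : Subgroup H | IsComponent K ∧ ¬ K ≤ L}, a * b = b * a := by
    intro a ha b hb
    exact (Subgroup.mem_centralizer_iff.mp (hE' hb) a (hEL ha))
  have hcomm2 : ∀ e ∈ layer H, ∀ f ∈ fittingSubgroup H, e * f = f * e := by
    intro e he f hf
    have h1 : layer H ≤ Subgroup.centralizer (fittingSubgroup H : Set H) :=
      Subgroup.commutator_eq_bot_iff_le_centralizer.mp commutator_layer_fitting
    exact (Subgroup.mem_centralizer_iff.mp (h1 he) f hf).symm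
  intro l hl
  have hl' : l ∈ layer H ⊔ fittingSubgroup H := hLF hl
  obtain ⟨e, he, f, hf, rfl⟩ := (mem_sup_of_commute hcomm2).mp hl'
  rw [hlayer] at he
  obtain ⟨a, ha, b, hb, rfl⟩ := (mem_sup_of_commute hcomm1).mp he
  have hbf : b * f ∈ L := by
    have := L.mul_mem (L.inv_mem (hEL ha)) hl
    have e1 : a⁻¹ * (a * b * f) = b * f := by group
    rwa [e1] at this
  -- `b` centralizes the layer
  have hb_layer : b ∈ layer H := by rw [hlayer]; exact Subgroup.mem_sup_right hb
  have hbc : b ∈ Subgroup.centralizer (layer H : Set H) := by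
    have h1 : layer H ≤ Subgroup.centralizer ({b} : Set H) := by
      rw [hlayer]
      apply sup_le
      · intro x hx
        rw [Subgroup.mem_centralizer_singleton_iff]
        exact hcomm1 x hx b hb
      · intro x hx
        rw [Subgroup.mem_centralizer_singleton_iff]
        -- `b f` centralizes `E'`, and `f` does
        have h2 : x * (b * f) = (b * f) * x := by
          exact (Subgroup.mem_centralizer_iff.mp (hE' hx) (b * f) hbf).symm
        have hx_layer : x ∈ layer H := by rw [hlayer]; exact Subgroup.mem_sup_right hx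
        have h3 : x * f = f * x := hcomm2 x hx_layer f hf
        calc x * b = x * (b * f) * f⁻¹ := by group
          _ = (b * f) * x * f⁻¹ := by rw [h2]
          _ = b * (f * x) * f⁻¹ := by group
          _ = b * (x * f) * f⁻¹ := by rw [h3]
          _ = b * x := by group
    rw [Subgroup.mem_centralizer_iff]
    intro x hx
    have := h1 hx
    rw [Subgroup.mem_centralizer_singleton_iff] at this
    exact this
  have hbF : b ∈ fittingSubgroup H := by
    have h1 : b ∈ (Subgroup.center ↥(layer H)).map (layer H).subtype := by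
      rw [map_center_eq_inf_centralizer]
      exact ⟨hb_layer, hbc⟩
    rw [map_center_layer_eq] at h1
    exact h1.1
  have e2 : a * b * f = a * (b * f) := by group
  rw [e2]
  exact Subgroup.mul_mem _ (Subgroup.mem_sup_left ha)
    (Subgroup.mem_sup_right ⟨hbf, Subgroup.mul_mem _ hbF hf⟩)

end inside

section action

universe u

variable {G : Type u} [Group G]

/-- Conjugation by an element of `N_G(H)`, as an automorphism of `H`. -/
def conjRestr (H : Subgroup G) (y : G) (hy : y ∈ Subgroup.normalizer (H : Set G)) : ↥H ≃* ↥H where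
  toFun h := ⟨y * h * y⁻¹, (Subgroup.mem_normalizer_iff.mp hy h).mp h.2⟩
  invFun h := ⟨y⁻¹ * h * y, by
    have := (Subgroup.mem_normalizer_iff.mp (Subgroup.inv_mem _ hy) h).mp h.2
    simpa using this⟩
  left_inv h := by
    apply Subtype.ext
    simp [mul_assoc]
  right_inv h := by
    apply Subtype.ext
    simp [mul_assoc]
  map_mul' a b := by
    apply Subtype.ext
    simp [mul_assoc]

theorem map_conjRestr (H : Subgroup G) (y : G) (hy : y ∈ Subgroup.normalizer (H : Set G))
    (K : Subgroup ↥H) :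
    (K.map (conjRestr H y hy).toMonoidHom).map H.subtype =
      (K.map H.subtype).map (MulAut.conj y).toMonoidHom := by
  ext x
  constructor
  · rintro ⟨_, ⟨k, hk, rfl⟩, rfl⟩
    exact ⟨(k : G), ⟨k, hk, rfl⟩, rfl⟩
  · rintro ⟨_, ⟨k, hk, rfl⟩, rfl⟩
    exact ⟨(conjRestr H y hy) k, ⟨k, hk, rfl⟩, rfl⟩

variable [Finite G] {p : ℕ} [Fact p.Prime]

/-- **Main theorem**: `H ≤ G` with `O_p(H) = 1`, `Y` a `p`-subgroup normalizing `H`, `L ≤ F*(H)`
subnormal in `H` and `Y`-invariant: `L = [L, Y] C_L(Y)`. -/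
theorem commutator_sup_centralizer_of_le_gfs (H : Subgroup G) (hO : pCore p ↥H = ⊥) (Y : Subgroup G)
    (hY : IsPGroup p ↥Y) (hYH : Y ≤ Subgroup.normalizer (H : Set G)) (L : Subgroup G)
    (hLF : L ≤ (generalizedFittingSubgroup ↥H).map H.subtype) (hLsn : (L.subgroupOf H).IsSubnormal)
    (hYL : Y ≤ Subgroup.normalizer (L : Set G)) :
    ⁅L, Y⁆ ⊔ (L ⊓ Subgroup.centralizer (Y : Set G)) = L := by
  have hp : p.Prime := Fact.out
  have hLH : L ≤ H := hLF.trans (Subgroup.map_subtype_le _)
  have hLY : ⁅L, Y⁆ ≤ L := Cfsg.Agent.Lib.Helper1.commutator_le_of_le_normalizer hYL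
  apply le_antisymm (sup_le hLY inf_le_left)
  -- decomposition inside `H`
  have hLF' : L.subgroupOf H ≤ generalizedFittingSubgroup ↥H := by
    intro x hx
    obtain ⟨z, hz, hzx⟩ := hLF (Subgroup.mem_subgroupOf.mp hx)
    have : z = x := Subtype.ext hzx
    rwa [← this]
  have hdec := le_components_sup_fitting hLsn hLF'
  have hdec' := Subgroup.map_mono (f := H.subtype) hdec
  rw [Subgroup.map_subgroupOf_eq_of_le hLH, Subgroup.map_sup] at hdec'
  refine hdec'.trans (sup_le ?_ ?_)
  · -- components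
    rw [sSup_eq_iSup', Subgroup.map_iSup, iSup_le_iff]
    rintro ⟨K', hK', hK'L⟩
    have hKL : K'.map H.subtype ≤ L := by
      rintro _ ⟨k, hk, rfl⟩
      exact Subgroup.mem_subgroupOf.mp (hK'L hk)
    have hKq : IsQuasisimple ↥(K'.map H.subtype) :=
      qs_of_mulEquiv (K'.equivMapOfInjective H.subtype H.subtype_injective) hK'.2
    show K'.map H.subtype ≤ _
    by_cases hYK : Y ≤ Subgroup.normalizer ((K'.map H.subtype : Subgroup G) : Set G)
    · rcases commutator_eq_self_or_bot_of_isQuasisimple hKq hYK with h | h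
      · refine le_trans ?_ le_sup_left
        rw [← h]
        exact Subgroup.commutator_mono hKL le_rfl
      · refine le_trans ?_ le_sup_right
        exact le_inf hKL (Subgroup.commutator_eq_bot_iff_le_centralizer.mp h)
    · obtain ⟨y, hyY, hyK⟩ := SetLike.not_le_iff_exists.mp hYK
      refine le_trans ?_ le_sup_left
      have hyH := hYH hyY
      have hK'' : IsComponent (K'.map (conjRestr H y hyH).toMonoidHom) :=
        isComponent_map_equiv (conjRestr H y hyH) hK'
      have hne : K' ≠ K'.map (conjRestr H y hyH).toMonoidHom := by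
        intro h
        apply hyK
        apply mem_normalizer_of_map_conj_eq
        rw [← map_conjRestr H y hyH K', ← h]
      have hcomm := comp_commutator_eq_bot_of_ne hK' hK'' hne
      have hcc : ∀ a ∈ K'.map H.subtype, ∀ b ∈ K'.map H.subtype, a * (y * b * y⁻¹) = (y * b * y⁻¹) * a := by
        rintro _ ⟨a, ha, rfl⟩ _ ⟨b, hb, rfl⟩
        have h1 : ⁅a, (conjRestr H y hyH) b⁆ ∈ ⁅K', K'.map (conjRestr H y hyH).toMonoidHom⁆ :=
          Subgroup.commutator_mem_commutator ha ⟨b, hb, rfl⟩
        rw [hcomm, Subgroup.mem_bot, commutatorElement_eq_one_iff_mul_comm] at h1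
        exact congrArg Subtype.val h1
      rw [← commutator_self_of_isQuasisimple hKq, Subgroup.commutator_le]
      intro k hk m hm
      have e : ⁅k, m⁆ = ⁅⁅k, y⁆, m⁆ := by
        have hu := hcc m hm k⁻¹ (Subgroup.inv_mem _ hk)
        rw [commutatorElement_def, commutatorElement_def, commutatorElement_def]
        have e1 : k * y * k⁻¹ * y⁻¹ * m * (k * y * k⁻¹ * y⁻¹)⁻¹ * m⁻¹ =
            k * ((y * k⁻¹ * y⁻¹) * m) * (y * k⁻¹ * y⁻¹)⁻¹ * k⁻¹ * m⁻¹ := by group
        rw [e1, ← hu]
        group
      rw [e]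
      have h2 : ⁅⁅k, y⁆, m⁆ ∈ ⁅⁅L, Y⁆, L⁆ :=
        Subgroup.commutator_mem_commutator
          (Subgroup.commutator_mem_commutator (hKL hk) hyY) (hKL hm)
      exact Cfsg.Agent.Lib.Helper1.commutator_le_of_le_normalizer
        Cfsg.Agent.Lib.Helper1.le_normalizer_commutator_left h2
  · -- the nilpotent part
    have hB : (L.subgroupOf H ⊓ fittingSubgroup ↥H).map H.subtype =
        L ⊓ (fittingSubgroup ↥H).map H.subtype := by
      rw [Subgroup.map_inf _ _ _ H.subtype_injective, Subgroup.map_subgroupOf_eq_of_le hLH]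
    rw [hB]
    have hYF : Y ≤ Subgroup.normalizer (((fittingSubgroup ↥H).map H.subtype : Subgroup G) : Set G) := by
      intro y hy
      apply mem_normalizer_of_map_conj_eq
      rw [← map_conjRestr H y (hYH hy)]
      congr 1
      haveI := Cfsg.Agent.Lib.Helper1.fittingSubgroup_characteristic (G := ↥H)
      exact Subgroup.characteristic_iff_map_eq.mp inferInstance (conjRestr H y (hYH hy))
    have hact : Cfsg.Agent.Lib.Helper1.CoprimeAct Y (L ⊓ (fittingSubgroup ↥H).map H.subtype) := by
      refine ⟨?_, ?_, Or.inl ?_⟩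
      · intro y hy
        exact mem_normalizer_inf (hYL hy) (hYF hy)
      · obtain ⟨k, hk⟩ := IsPGroup.iff_card.mp hY
        rw [hk]
        apply Nat.Coprime.pow_left
        have h1 : Nat.card ↥(L ⊓ (fittingSubgroup ↥H).map H.subtype) ∣
            Nat.card (fittingSubgroup ↥H) := by
          rw [← Subgroup.card_map_of_injective H.subtype_injective]
          exact Subgroup.card_dvd_of_le inf_le_right
        exact (Nat.Coprime.coprime_dvd_left h1 (fittingSubgroup_coprime hO)).symm
      · haveI := hY.isNilpotent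
        infer_instance
    have h3 := hact.commutator_sup_centralizer
    conv_lhs => rw [← h3]
    exact sup_le_sup (Subgroup.commutator_mono inf_le_left le_rfl) (inf_le_inf_right _ inf_le_left)

end action

end Cfsg.Agent.Lib.Helper17
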