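import Mathlib
import Cfsg.Agent.H5.SmallOrdBasic

/-!
# Models of `2.A4` and `2.A5` (helper17; farm-out FO-E1 / FO-E2 of helper5 for S0690)

`line_model`, `block_model` with exactly the signatures of
`notes/S0690_farmout_sigs_A.lean.txt`.
-/

set_option autoImplicit false
set_option linter.unusedSectionVars false
set_option maxRecDepth 1000000

namespace Cfsg.Agent.Lib.Helper17.ZassE

open Equiv

/-! ### arithmetic -/

theorem arith12 (n : ℕ) (h3 : 3 ∣ n) (h12 : n ∣ 12) : n = 3 ∨ n = 6 ∨ n = 12 := by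
  have hle := Nat.le_of_dvd (by norm_num) h12
  interval_cases n <;> omega

theorem arith60 (n i : ℕ) (h15 : 15 ∣ n) (h : n * i = 60) : i = 1 ∨ i = 2 ∨ i = 4 := by
  obtain ⟨k, rfl⟩ := h15
  have hk : k ≤ 4 := by
    rcases Nat.eq_zero_or_pos i with hi | hi
    · subst hi; omega
    · have : 15 * k * 1 ≤ 15 * k * i := Nat.mul_le_mul_left _ hi
      omega
  interval_cases k <;> omega

theorem dvd4 (n : ℕ) (h : n ∣ 4) : n = 1 ∨ n = 2 ∨ n = 4 := by
  have hle := Nat.le_of_dvd (by norm_num) h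
  interval_cases n <;> omega

theorem dvd6 (n : ℕ) (h : n ∣ 6) : n = 1 ∨ n = 2 ∨ n = 3 ∨ n = 6 := by
  have hle := Nat.le_of_dvd (by norm_num) h
  interval_cases n <;> omega

theorem dvd10 (n : ℕ) (h : n ∣ 10) : n = 1 ∨ n = 2 ∨ n = 5 ∨ n = 10 := by
  have hle := Nat.le_of_dvd (by norm_num) h
  interval_cases n <;> omega

/-! ### general lemmas on a homomorphism with kernel of order 2 -/

section General

variable {L A : Type*} [Group L] [Group A]

theorem card_map_mul (f : L →* A) (H : Subgroup L) :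
    Nat.card (H.map f) * Nat.card (H ⊓ f.ker : Subgroup L) = Nat.card H := by
  rw [← MonoidHom.domRestrict_range, ← Subgroup.index_ker, MonoidHom.ker_domRestrict,
    ← Subgroup.inf_subgroupOf_left f.ker H,
    ← Nat.card_congr (Subgroup.subgroupOfEquivOfLe (inf_le_left : H ⊓ f.ker ≤ H)).toEquiv,
    mul_comm, Subgroup.card_mul_index]

/-- a subgroup of order 6 contains at most one subgroup of order 3 -/
theorem eq_of_card_six {G : Type*} [Group G] (H P Q : Subgroup G) (hH : Nat.card H = 6)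
    (hP : Nat.card P = 3) (hQ : Nat.card Q = 3) (hPH : P ≤ H) (hQH : Q ≤ H) : P = Q := by
  have hidx : (P.subgroupOf H).index = 2 := by
    have h := Subgroup.card_mul_index (P.subgroupOf H)
    rw [Nat.card_congr (Subgroup.subgroupOfEquivOfLe hPH).toEquiv, hP, hH] at h
    omega
  have hQP : Q ≤ P := by
    intro x hx
    have hxH : x ∈ H := hQH hx
    have hx3 : x ^ 3 = 1 := by
      have h := Subgroup.orderOf_dvd_natCard Q hx
      rw [hQ] at h
      exact orderOf_dvd_iff_pow_eq_one.mp h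
    have hsq := Subgroup.sq_mem_of_index_two hidx (⟨x, hxH⟩ : H)
    rw [Subgroup.mem_subgroupOf] at hsq
    have hx2 : x ^ 2 ∈ P := by simpa using hsq
    have hx4 : x = (x ^ 2) ^ 2 := by
      calc x = x ^ 3 * x := by rw [hx3, one_mul]
        _ = (x ^ 2) ^ 2 := by group
    rw [hx4]
    exact P.pow_mem hx2 2
  haveI : Finite P := Nat.finite_of_card_ne_zero (by rw [hP]; norm_num)
  exact (Subgroup.eq_of_le_of_card_ge hQP (by rw [hP, hQ])).symm

/-- two different subgroups of order 3 of a subgroup of order 12 generate it -/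
theorem sup_eq_of_card_twelve {G : Type*} [Group G] (S T1 T2 : Subgroup G)
    (hS : Nat.card S = 12) (h1 : Nat.card T1 = 3) (h2 : Nat.card T2 = 3) (hne : T1 ≠ T2)
    (h1S : T1 ≤ S) (h2S : T2 ≤ S) : T1 ⊔ T2 = S := by
  haveI : Finite S := Nat.finite_of_card_ne_zero (by rw [hS]; norm_num)
  have hKS : T1 ⊔ T2 ≤ S := sup_le h1S h2S
  have h3 : 3 ∣ Nat.card (T1 ⊔ T2 : Subgroup G) := by
    have h := Subgroup.card_dvd_of_le (le_sup_left : T1 ≤ T1 ⊔ T2)
    rwa [h1] at h
  have h12 : Nat.card (T1 ⊔ T2 : Subgroup G) ∣ 12 := by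
    have h := Subgroup.card_dvd_of_le hKS
    rwa [hS] at h
  rcases arith12 _ h3 h12 with h | h | h
  · exfalso
    haveI : Finite (T1 ⊔ T2 : Subgroup G) :=
      Nat.finite_of_card_ne_zero (by rw [h]; norm_num)
    have e1 : T1 = T1 ⊔ T2 := Subgroup.eq_of_le_of_card_ge le_sup_left (by rw [h, h1])
    have e2 : T2 = T1 ⊔ T2 := Subgroup.eq_of_le_of_card_ge le_sup_right (by rw [h, h2])
    exact hne (e1.trans e2.symm)
  · exfalso
    exact hne (eq_of_card_six _ T1 T2 h h1 h2 le_sup_left le_sup_right)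
  · exact Subgroup.eq_of_le_of_card_ge hKS (by rw [h, hS])

theorem exists_ne_one_of_card_three {G : Type*} [Group G] (T : Subgroup G)
    (hT : Nat.card T = 3) : ∃ σ ∈ T, σ ≠ 1 := by
  have hne : T ≠ ⊥ := by
    intro h
    rw [h, Subgroup.card_bot] at hT
    omega
  obtain ⟨a, ha⟩ := (Subgroup.ne_bot_iff_exists_ne_one).mp hne
  exact ⟨a, a.2, fun h => ha (Subtype.ext h)⟩

/-- a nonidentity element of a subgroup of order 3 generates it and has cube 1 -/
theorem gen_of_card_three {G : Type*} [Group G] (T : Subgroup G) (hT : Nat.card T = 3)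
    (σ : G) (hσT : σ ∈ T) (hσ1 : σ ≠ 1) : σ ^ 3 = 1 ∧ T = Subgroup.zpowers σ := by
  haveI : Fact (Nat.Prime 3) := ⟨by norm_num⟩
  have h3 : σ ^ 3 = 1 := by
    have h := Subgroup.orderOf_dvd_natCard T hσT
    rw [hT] at h
    exact orderOf_dvd_iff_pow_eq_one.mp h
  refine ⟨h3, ?_⟩
  have ho : orderOf σ = 3 := orderOf_eq_prime h3 hσ1
  haveI : Finite T := Nat.finite_of_card_ne_zero (by rw [hT]; norm_num)
  have hle : Subgroup.zpowers σ ≤ T := by
    rw [Subgroup.zpowers_le]; exact hσT
  exact (Subgroup.eq_of_le_of_card_ge hle (by rw [hT, Nat.card_zpowers, ho])).symm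

theorem card_zpowers_three {G : Type*} [Group G] (σ : G) (h3 : σ ^ 3 = 1) (h1 : σ ≠ 1) :
    Nat.card (Subgroup.zpowers σ) = 3 := by
  haveI : Fact (Nat.Prime 3) := ⟨by norm_num⟩
  rw [Nat.card_zpowers, orderOf_eq_prime h3 h1]

theorem ker_le_of_even [Finite L] (f : L →* A) (hker : Nat.card f.ker = 2)
    (huniq : ∀ x : L, orderOf x = 2 → x ∈ f.ker) (H : Subgroup L) (h2 : 2 ∣ Nat.card H) :
    f.ker ≤ H := by
  haveI : Fact (Nat.Prime 2) := ⟨Nat.prime_two⟩
  obtain ⟨x, hx⟩ := exists_prime_orderOf_dvd_card' (G := H) 2 h2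
  have hxo : orderOf (x : L) = 2 := by rw [Subgroup.orderOf_coe]; exact hx
  have hxk : (x : L) ∈ f.ker := huniq _ hxo
  have hle : Subgroup.zpowers (x : L) ≤ f.ker := by
    rw [Subgroup.zpowers_le]; exact hxk
  have heq : Subgroup.zpowers (x : L) = f.ker :=
    Subgroup.eq_of_le_of_card_ge hle (by rw [hker, Nat.card_zpowers, hxo])
  rw [← heq, Subgroup.zpowers_le]
  exact x.2

theorem card_map_three (f : L →* A) (hker : Nat.card f.ker = 2) (P : Subgroup L)
    (hP : Nat.card P = 3) : Nat.card (P.map f) = 3 := by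
  have hbot : P ⊓ f.ker = ⊥ :=
    Subgroup.inf_eq_bot_of_coprime (by rw [hP, hker]; norm_num)
  have h := card_map_mul f P
  rw [hbot, Subgroup.card_bot, mul_one, hP] at h
  exact h

theorem card_comap (f : L →* A) (hf : Function.Surjective f) (hker : Nat.card f.ker = 2)
    (T : Subgroup A) : Nat.card (T.comap f) = Nat.card T * 2 := by
  have h := card_map_mul f (T.comap f)
  rw [Subgroup.map_comap_eq_self_of_surjective hf,
    inf_eq_right.mpr (MonoidHom.ker_le_comap f T), hker] at h
  exact h.symm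

theorem eq_of_map_eq (f : L →* A) (hf : Function.Surjective f) (hker : Nat.card f.ker = 2)
    (P Q : Subgroup L) (hP : Nat.card P = 3) (hQ : Nat.card Q = 3) (h : P.map f = Q.map f) :
    P = Q := by
  have hT := card_map_three f hker P hP
  have hM : Nat.card ((P.map f).comap f) = 6 := by rw [card_comap f hf hker, hT]
  exact eq_of_card_six _ P Q hM hP hQ (Subgroup.le_comap_map f P)
    (by rw [h]; exact Subgroup.le_comap_map f Q)

theorem exists_map_eq [Finite L] (f : L →* A) (hf : Function.Surjective f)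
    (hker : Nat.card f.ker = 2) (T : Subgroup A) (hT : Nat.card T = 3) :
    ∃ P : Subgroup L, Nat.card P = 3 ∧ P.map f = T := by
  haveI : Fact (Nat.Prime 3) := ⟨by norm_num⟩
  have hM : Nat.card (T.comap f) = 6 := by rw [card_comap f hf hker, hT]
  obtain ⟨x, hx⟩ := exists_prime_orderOf_dvd_card' (G := T.comap f) 3 (by rw [hM]; norm_num)
  have hxo : orderOf (x : L) = 3 := by rw [Subgroup.orderOf_coe]; exact hx
  have hc3 : Nat.card (Subgroup.zpowers (x : L)) = 3 := by rw [Nat.card_zpowers, hxo]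
  refine ⟨Subgroup.zpowers (x : L), hc3, ?_⟩
  have hle : (Subgroup.zpowers (x : L)).map f ≤ T := by
    rw [Subgroup.map_le_iff_le_comap, Subgroup.zpowers_le]; exact x.2
  have hc := card_map_three f hker (Subgroup.zpowers (x : L)) hc3
  haveI : Finite T := Nat.finite_of_card_ne_zero (by rw [hT]; norm_num)
  exact Subgroup.eq_of_le_of_card_ge hle (by rw [hT, hc])

theorem comap_map_of_even [Finite L] (f : L →* A) (hker : Nat.card f.ker = 2)
    (huniq : ∀ x : L, orderOf x = 2 → x ∈ f.ker) (H : Subgroup L) (h2 : 2 ∣ Nat.card H) :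
    (H.map f).comap f = H := by
  rw [Subgroup.comap_map_eq, sup_eq_left]
  exact ker_le_of_even f hker huniq H h2

/-- if the image of `H` has even order then `H` is the full preimage of its image -/
theorem eq_comap_of_even_map [Finite L] (f : L →* A) (hker : Nat.card f.ker = 2)
    (huniq : ∀ x : L, orderOf x = 2 → x ∈ f.ker) (H : Subgroup L) (T : Subgroup A)
    (hT : H.map f = T) (h2 : 2 ∣ Nat.card T) : H = T.comap f := by
  have heven : 2 ∣ Nat.card H := by
    have h := card_map_mul f H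
    rw [← h, hT]
    exact Dvd.dvd.mul_right h2 _
  rw [← hT, comap_map_of_even f hker huniq H heven]

theorem sq_eq_one_of_mem_ker (f : L →* A) (hker : Nat.card f.ker = 2) (y : L)
    (hy : y ∈ f.ker) : y ^ 2 = 1 := by
  have h := Subgroup.orderOf_dvd_natCard f.ker hy
  rw [hker] at h
  exact orderOf_dvd_iff_pow_eq_one.mp h

end General

/-! ### the alternating groups of degree 4 and 5 -/

/-- the stabiliser of a point in an alternating group -/
def stabA {n : ℕ} (i : Fin n) : Subgroup (alternatingGroup (Fin n)) where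
  carrier := {g | (g : Perm (Fin n)) i = i}
  one_mem' := by simp
  mul_mem' := by
    intro a b ha hb
    change (a : Perm (Fin n)) i = i at ha
    change (b : Perm (Fin n)) i = i at hb
    change ((a * b : alternatingGroup (Fin n)) : Perm (Fin n)) i = i
    rw [Subgroup.coe_mul, Perm.mul_apply, hb, ha]
  inv_mem' := by
    intro a ha
    change (a : Perm (Fin n)) i = i at ha
    change ((a⁻¹ : alternatingGroup (Fin n)) : Perm (Fin n)) i = i
    rw [Subgroup.coe_inv, Perm.inv_eq_iff_eq, ha]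

theorem mem_stabA {n : ℕ} {i : Fin n} {g : alternatingGroup (Fin n)} :
    g ∈ stabA i ↔ (g : Perm (Fin n)) i = i := Iff.rfl

instance {n : ℕ} (i : Fin n) : DecidablePred (· ∈ stabA i) := fun g =>
  inferInstanceAs (Decidable ((g : Perm (Fin n)) i = i))

abbrev A4 := alternatingGroup (Fin 4)
abbrev A5 := alternatingGroup (Fin 5)

theorem card_A4 : Nat.card A4 = 12 := by
  rw [nat_card_alternatingGroup, Nat.card_fin]; rfl

theorem card_A5 : Nat.card A5 = 60 := by
  rw [nat_card_alternatingGroup, Nat.card_fin]; rfl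

/-- fixed points of an element of `A5` -/
def fixS (σ : A5) : Finset (Fin 5) := Finset.univ.filter (fun i => (σ : Perm (Fin 5)) i = i)

theorem mem_fixS {σ : A5} {i : Fin 5} : i ∈ fixS σ ↔ σ ∈ stabA i := by
  unfold fixS
  rw [Finset.mem_filter, mem_stabA]
  simp

theorem D1 : ∀ σ : A5, σ ^ 3 = 1 → σ ≠ 1 → (fixS σ).card = 2 := by decide +kernel

theorem D2 : ∀ σ τ : A5, σ ^ 3 = 1 → σ ≠ 1 → τ ^ 3 = 1 → τ ≠ 1 → fixS σ = fixS τ →
    (τ = σ ∨ τ = σ ^ 2) := by decide +kernel

theorem D3 : ∀ s : Finset (Fin 5), s.card = 2 → ∃ σ : A5, σ ^ 3 = 1 ∧ σ ≠ 1 ∧ fixS σ = s := by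
  decide +kernel

theorem D4 : ∀ σ τ : A5, σ ^ 3 = 1 → σ ≠ 1 → τ ^ 3 = 1 → τ ≠ 1 →
    Disjoint (fixS σ) (fixS τ) → ((σ * τ) ^ 5 = 1 ∧ σ * τ ≠ 1) := by decide +kernel

theorem card_stab5 : ∀ i : Fin 5, Fintype.card (stabA i) = 12 := by decide +kernel

theorem D7 : ∀ i : Fin 5, ∃ g : A5, (g : Perm (Fin 5)) i ≠ i := by decide +kernel

theorem D8 : ∃ a b : A5, a * b ≠ b * a := by decide +kernel

theorem E4a : ∃ σ τ : A4, σ ^ 3 = 1 ∧ σ ≠ 1 ∧ τ ^ 3 = 1 ∧ τ ≠ 1 ∧
    (σ : Perm (Fin 4)) 3 = 3 ∧ (τ : Perm (Fin 4)) 3 ≠ 3 := by decide +kernel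

theorem E4b : ∀ a : A4, a ^ 2 = 1 ∨ a ^ 3 = 1 := by decide +kernel

theorem natCard_stab5 (i : Fin 5) : Nat.card (stabA i) = 12 :=
  Nat.card_eq_fintype_card.trans (card_stab5 i)

theorem stab5_ne_top (i : Fin 5) : (stabA i : Subgroup A5) ≠ ⊤ := by
  intro h
  obtain ⟨g, hg⟩ := D7 i
  have : g ∈ stabA i := by rw [h]; trivial
  exact hg this

theorem notComm : ¬ IsMulCommutative A5 := by
  intro h
  obtain ⟨a, b, hab⟩ := D8
  exact hab (h.is_comm.comm a b)

open scoped Nat in
theorem eq_top_of_fifteen_dvd (K : Subgroup A5) (h : 15 ∣ Nat.card K) : K = ⊤ := by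
  haveI := alternatingGroup.isSimpleGroup_five
  by_contra hK
  have hfac := Cfsg.H5.SmallOrd.two_card_dvd_factorial_index notComm K hK
  have hmul := Subgroup.card_mul_index K
  rw [card_A5] at hmul hfac
  rcases arith60 _ _ h hmul with hi | hi | hi
  · exact hK (Subgroup.index_eq_one.mp hi)
  · rw [hi] at hfac
    exact absurd hfac (by decide)
  · rw [hi] at hfac
    exact absurd hfac (by decide)

open Classical in
/-- common fixed points of a subgroup of `A5` -/
noncomputable def fixT (T : Subgroup A5) : Finset (Fin 5) :=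
  Finset.univ.filter (fun i => ∀ g ∈ T, (g : Perm (Fin 5)) i = i)

open Classical in
theorem mem_fixT {T : Subgroup A5} {i : Fin 5} : i ∈ fixT T ↔ T ≤ stabA i := by
  unfold fixT
  rw [Finset.mem_filter]
  simp only [Finset.mem_univ, true_and]
  constructor
  · intro h g hg
    exact h g hg
  · intro h g hg
    exact h hg

theorem fixT_eq_fixS (T : Subgroup A5) (hT : Nat.card T = 3) (σ : A5) (hσT : σ ∈ T)
    (hσ1 : σ ≠ 1) : fixT T = fixS σ := by
  obtain ⟨-, hz⟩ := gen_of_card_three T hT σ hσT hσ1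
  ext i
  rw [mem_fixT, mem_fixS]
  constructor
  · intro h
    exact h hσT
  · intro h
    rw [hz, Subgroup.zpowers_le]
    exact h

/-! ### FO-E1 -/

theorem line_model {L : Type*} [Group L] [Finite L] (f : L →* alternatingGroup (Fin 4))
    (hf : Function.Surjective f) (hker : Nat.card f.ker = 2)
    (huniq : ∀ x : L, orderOf x = 2 → x ∈ f.ker) :
    Nat.card {P : Subgroup L // Nat.card P = 3} = 4 ∧
    (∀ P Q : Subgroup L, Nat.card P = 3 → Nat.card Q = 3 → P ≠ Q → P ⊔ Q = ⊤) ∧
    (∀ x : L, orderOf x = 1 ∨ orderOf x = 2 ∨ orderOf x = 3 ∨ orderOf x = 4 ∨ orderOf x = 6) := by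
  haveI : Fact (Nat.Prime 3) := ⟨by norm_num⟩
  have hL : Nat.card L = 24 := by
    have h := card_comap f hf hker ⊤
    rw [Subgroup.comap_top, Subgroup.card_top, Subgroup.card_top, card_A4] at h
    exact h
  refine ⟨?_, ?_, ?_⟩
  · -- the subgroups of order 3 are the Sylow 3-subgroups
    have hcardS : ∀ S : Sylow 3 L, Nat.card (S : Subgroup L) = 3 := by
      intro S
      have h := Cfsg.H5.SmallOrd.sylow_card 3 1 8 (by norm_num)
        (hL.trans (by norm_num : (24 : ℕ) = 3 ^ 1 * 8)) S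
      rw [pow_one] at h
      exact h
    let e : Sylow 3 L → {P : Subgroup L // Nat.card P = 3} := fun S => ⟨S, hcardS S⟩
    have hebij : Function.Bijective e := by
      constructor
      · intro S S' h
        have h' : (S : Subgroup L) = (S' : Subgroup L) := congrArg Subtype.val h
        exact Sylow.ext h'
      · intro P
        have hPp : IsPGroup 3 P.1 := IsPGroup.of_card (n := 1) (by rw [P.2, pow_one])
        obtain ⟨S, hS⟩ := hPp.exists_le_sylow
        refine ⟨S, ?_⟩
        apply Subtype.ext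
        exact (Subgroup.eq_of_le_of_card_ge hS (by rw [hcardS S, P.2])).symm
    rw [← Nat.card_congr (Equiv.ofBijective e hebij)]
    -- the number of Sylow 3-subgroups is 1 or 4
    obtain ⟨S0⟩ : Nonempty (Sylow 3 L) := inferInstance
    have hidx : (S0 : Subgroup L).index = 8 :=
      Cfsg.H5.SmallOrd.sylow_index 3 1 8 (by norm_num)
        (hL.trans (by norm_num : (24 : ℕ) = 3 ^ 1 * 8)) S0
    have hdvd : Nat.card (Sylow 3 L) ∣ 8 := by
      have h := Sylow.card_dvd_index S0
      rwa [hidx] at h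
    have hmod : Nat.card (Sylow 3 L) % 3 = 1 := by
      have h := card_sylow_modEq_one 3 L
      unfold Nat.ModEq at h
      rw [h]
    have hle : Nat.card (Sylow 3 L) ≤ 8 := Nat.le_of_dvd (by norm_num) hdvd
    have h14 : Nat.card (Sylow 3 L) = 1 ∨ Nat.card (Sylow 3 L) = 4 := by
      generalize Nat.card (Sylow 3 L) = n at hdvd hmod hle
      interval_cases n <;> omega
    rcases h14 with h1 | h4
    · exfalso
      -- two different subgroups of order 3 in `A4` lift to two different Sylow subgroups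
      obtain ⟨σ, τ, hσ3, hσ1, hτ3, hτ1, hσf, hτf⟩ := E4a
      obtain ⟨P1, hP1, hP1m⟩ := exists_map_eq f hf hker (Subgroup.zpowers σ)
        (card_zpowers_three σ hσ3 hσ1)
      obtain ⟨P2, hP2, hP2m⟩ := exists_map_eq f hf hker (Subgroup.zpowers τ)
        (card_zpowers_three τ hτ3 hτ1)
      have hne : Subgroup.zpowers σ ≠ Subgroup.zpowers τ := by
        intro h
        have hle : Subgroup.zpowers σ ≤ stabA (3 : Fin 4) := by
          rw [Subgroup.zpowers_le]; exact hσf
        have hτmem : τ ∈ Subgroup.zpowers σ := by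
          rw [h]; exact Subgroup.mem_zpowers τ
        exact hτf (hle hτmem)
      have hss : Subsingleton {P : Subgroup L // Nat.card P = 3} := by
        have hc : Nat.card {P : Subgroup L // Nat.card P = 3} = 1 := by
          rw [← Nat.card_congr (Equiv.ofBijective e hebij)]; exact h1
        exact (Nat.card_eq_one_iff_unique.mp hc).1
      have heq : (⟨P1, hP1⟩ : {P : Subgroup L // Nat.card P = 3}) = ⟨P2, hP2⟩ :=
        Subsingleton.elim _ _
      have heq' : P1 = P2 := congrArg Subtype.val heq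
      apply hne
      rw [← hP1m, ← hP2m, heq']
    · exact h4
  · intro P Q hP hQ hne
    have hne' : P.map f ≠ Q.map f := fun h => hne (eq_of_map_eq f hf hker P Q hP hQ h)
    have htop : P.map f ⊔ Q.map f = ⊤ :=
      sup_eq_of_card_twelve ⊤ _ _ (by rw [Subgroup.card_top]; exact card_A4)
        (card_map_three f hker P hP) (card_map_three f hker Q hQ) hne' le_top le_top
    have hmap : (P ⊔ Q).map f = ⊤ := by rw [Subgroup.map_sup, htop]
    have h := eq_comap_of_even_map f hker huniq (P ⊔ Q) ⊤ hmap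
      (by rw [Subgroup.card_top]; rw [show Nat.card (alternatingGroup (Fin 4)) = 12 from card_A4]
          norm_num)
    rw [h, Subgroup.comap_top]
  · intro x
    rcases E4b (f x) with h | h
    · have hx : x ^ 2 ∈ f.ker := by rw [MonoidHom.mem_ker, map_pow, h]
      have h4 : x ^ 4 = 1 := by
        have h' := sq_eq_one_of_mem_ker f hker _ hx
        rw [← pow_mul] at h'
        exact h'
      rcases dvd4 _ (orderOf_dvd_of_pow_eq_one h4) with h' | h' | h'
      · left; exact h'
      · right; left; exact h'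
      · right; right; right; left; exact h'
    · have hx : x ^ 3 ∈ f.ker := by rw [MonoidHom.mem_ker, map_pow, h]
      have h6 : x ^ 6 = 1 := by
        have h' := sq_eq_one_of_mem_ker f hker _ hx
        rw [← pow_mul] at h'
        exact h'
      rcases dvd6 _ (orderOf_dvd_of_pow_eq_one h6) with h' | h' | h' | h'
      · left; exact h'
      · right; left; exact h'
      · right; right; left; exact h'
      · right; right; right; right; exact h'

/-! ### FO-E2 -/

section Block

variable {B : Type*} [Group B] [Finite B] (f : B →* alternatingGroup (Fin 5))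

/-- generator data for the image of a subgroup of order 3 -/
theorem gen_data (hker : Nat.card f.ker = 2) (P : Subgroup B) (hP : Nat.card P = 3) :
    ∃ σ : A5, σ ∈ P.map f ∧ σ ≠ 1 ∧ σ ^ 3 = 1 ∧ fixT (P.map f) = fixS σ ∧
      P.map f = Subgroup.zpowers σ := by
  have hT := card_map_three f hker P hP
  obtain ⟨σ, hσT, hσ1⟩ := exists_ne_one_of_card_three _ hT
  obtain ⟨h3, hz⟩ := gen_of_card_three _ hT σ hσT hσ1
  exact ⟨σ, hσT, hσ1, h3, fixT_eq_fixS _ hT σ hσT hσ1, hz⟩

/-- the map `P ↦` fixed points of `f(P)` -/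
noncomputable def phiFun (hker : Nat.card f.ker = 2)
    (P : {P : Subgroup B // Nat.card P = 3}) : {s : Finset (Fin 5) // s.card = 2} :=
  ⟨fixT (P.1.map f), by
    obtain ⟨σ, -, hσ1, h3, hfix, -⟩ := gen_data f hker P.1 P.2
    rw [hfix]; exact D1 σ h3 hσ1⟩

theorem phiFun_injective (hf : Function.Surjective f) (hker : Nat.card f.ker = 2) :
    Function.Injective (phiFun f hker) := by
  intro P Q h
  have h' : fixT (P.1.map f) = fixT (Q.1.map f) := congrArg Subtype.val h
  obtain ⟨σ, hσT, hσ1, hσ3, hσfix, hσz⟩ := gen_data f hker P.1 P.2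
  obtain ⟨τ, hτT, hτ1, hτ3, hτfix, hτz⟩ := gen_data f hker Q.1 Q.2
  rw [hσfix, hτfix] at h'
  have hmem : τ ∈ Subgroup.zpowers σ := by
    rcases D2 σ τ hσ3 hσ1 hτ3 hτ1 h' with h2 | h2
    · rw [h2]; exact Subgroup.mem_zpowers σ
    · rw [h2]; exact Subgroup.npow_mem_zpowers σ 2
  have hle : Subgroup.zpowers τ ≤ Subgroup.zpowers σ := by
    rw [Subgroup.zpowers_le]; exact hmem
  have heq : Subgroup.zpowers τ = Subgroup.zpowers σ :=
    Subgroup.eq_of_le_of_card_ge hle
      (by rw [card_zpowers_three σ hσ3 hσ1, card_zpowers_three τ hτ3 hτ1])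
  apply Subtype.ext
  apply eq_of_map_eq f hf hker P.1 Q.1 P.2 Q.2
  rw [hσz, hτz, heq]

theorem phiFun_surjective (hf : Function.Surjective f) (hker : Nat.card f.ker = 2) :
    Function.Surjective (phiFun f hker) := by
  intro s
  obtain ⟨σ, hσ3, hσ1, hσs⟩ := D3 s.1 s.2
  obtain ⟨P, hP, hPm⟩ := exists_map_eq f hf hker (Subgroup.zpowers σ)
    (card_zpowers_three σ hσ3 hσ1)
  refine ⟨⟨P, hP⟩, ?_⟩
  apply Subtype.ext
  show fixT (P.map f) = s.1
  rw [hPm, fixT_eq_fixS _ (card_zpowers_three σ hσ3 hσ1) σ (Subgroup.mem_zpowers σ) hσ1, hσs]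

end Block

theorem block_model {B : Type*} [Group B] [Finite B] (f : B →* alternatingGroup (Fin 5))
    (hf : Function.Surjective f) (hker : Nat.card f.ker = 2)
    (huniq : ∀ x : B, orderOf x = 2 → x ∈ f.ker) :
    (∃ Φ : {P : Subgroup B // Nat.card P = 3} ≃ {s : Finset (Fin 5) // s.card = 2},
      ∀ P Q : {P : Subgroup B // Nat.card P = 3},
        (Disjoint (Φ P).1 (Φ Q).1 → P.1 ⊔ Q.1 = ⊤) ∧
        (∀ i : Fin 5, (Φ P).1 ∩ (Φ Q).1 = {i} → Nat.card ↥(P.1 ⊔ Q.1) = 24 ∧
          ∀ R : {P : Subgroup B // Nat.card P = 3}, R.1 ≤ P.1 ⊔ Q.1 ↔ i ∈ (Φ R).1)) ∧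
    (∀ a y : B, orderOf a = 3 → orderOf y = 3 → Subgroup.zpowers a ⊔ Subgroup.zpowers y = ⊤ →
      orderOf (a * y) = 5 ∨ orderOf (a * y) = 10) := by
  haveI : Fact (Nat.Prime 5) := ⟨by norm_num⟩
  obtain ⟨Φ, hΦ⟩ : ∃ Φ : {P : Subgroup B // Nat.card P = 3} ≃ {s : Finset (Fin 5) // s.card = 2},
      ∀ P, (Φ P).1 = fixT (P.1.map f) :=
    ⟨Equiv.ofBijective (phiFun f hker) ⟨phiFun_injective f hf hker, phiFun_surjective f hf hker⟩,
      fun P => rfl⟩
  refine ⟨⟨Φ, ?_⟩, ?_⟩
  · intro P Q
    obtain ⟨σ, hσT, hσ1, hσ3, hσfix, hσz⟩ := gen_data f hker P.1 P.2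
    obtain ⟨τ, hτT, hτ1, hτ3, hτfix, hτz⟩ := gen_data f hker Q.1 Q.2
    have hT1 := card_map_three f hker P.1 P.2
    have hT2 := card_map_three f hker Q.1 Q.2
    constructor
    · intro hdisj
      rw [hΦ P, hΦ Q, hσfix, hτfix] at hdisj
      obtain ⟨h5, hne1⟩ := D4 σ τ hσ3 hσ1 hτ3 hτ1 hdisj
      have hmem : σ * τ ∈ P.1.map f ⊔ Q.1.map f :=
        Subgroup.mul_mem _ (Subgroup.mem_sup_left hσT) (Subgroup.mem_sup_right hτT)
      have ho5 : orderOf (σ * τ) = 5 := orderOf_eq_prime h5 hne1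
      have hd5 : 5 ∣ Nat.card (P.1.map f ⊔ Q.1.map f : Subgroup A5) := by
        have h := Subgroup.orderOf_dvd_natCard _ hmem
        rwa [ho5] at h
      have hd3 : 3 ∣ Nat.card (P.1.map f ⊔ Q.1.map f : Subgroup A5) := by
        have h := Subgroup.card_dvd_of_le (le_sup_left : P.1.map f ≤ P.1.map f ⊔ Q.1.map f)
        rwa [hT1] at h
      have hd15 : 15 ∣ Nat.card (P.1.map f ⊔ Q.1.map f : Subgroup A5) := by
        have h := Nat.Coprime.mul_dvd_of_dvd_of_dvd (by norm_num : Nat.Coprime 3 5) hd3 hd5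
        have h' : (15 : ℕ) = 3 * 5 := by norm_num
        rw [h']; exact h
      have htop := eq_top_of_fifteen_dvd _ hd15
      have hmap : (P.1 ⊔ Q.1).map f = ⊤ := by rw [Subgroup.map_sup, htop]
      have h := eq_comap_of_even_map f hker huniq (P.1 ⊔ Q.1) ⊤ hmap
        (by rw [Subgroup.card_top, show Nat.card (alternatingGroup (Fin 5)) = 60 from card_A5]
            norm_num)
      rw [h, Subgroup.comap_top]
    · intro i hi
      rw [hΦ P, hΦ Q, hσfix, hτfix] at hi
      have hmem : i ∈ fixS σ ∩ fixS τ := by rw [hi]; exact Finset.mem_singleton_self i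
      rw [Finset.mem_inter, mem_fixS, mem_fixS] at hmem
      have h1S : P.1.map f ≤ stabA i := by
        rw [hσz, Subgroup.zpowers_le]; exact hmem.1
      have h2S : Q.1.map f ≤ stabA i := by
        rw [hτz, Subgroup.zpowers_le]; exact hmem.2
      have hne : P.1.map f ≠ Q.1.map f := by
        intro h
        have h' : fixS σ = fixS τ := by rw [← hσfix, ← hτfix, h]
        rw [← h', Finset.inter_self] at hi
        have hc := D1 σ hσ3 hσ1
        rw [hi, Finset.card_singleton] at hc
        omega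
      have hsup : P.1.map f ⊔ Q.1.map f = stabA i :=
        sup_eq_of_card_twelve (stabA i) _ _ (natCard_stab5 i) hT1 hT2 hne h1S h2S
      have hmap : (P.1 ⊔ Q.1).map f = stabA i := by rw [Subgroup.map_sup, hsup]
      have hH := eq_comap_of_even_map f hker huniq (P.1 ⊔ Q.1) (stabA i) hmap
        (by rw [natCard_stab5]; norm_num)
      constructor
      · rw [hH, card_comap f hf hker, natCard_stab5]
      · intro R
        rw [hH, hΦ R, mem_fixT, Subgroup.map_le_iff_le_comap]
  · intro a y ha hy htop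
    have hσ3 : (f a) ^ 3 = 1 := by rw [← map_pow, ← ha, pow_orderOf_eq_one, map_one]
    have hτ3 : (f y) ^ 3 = 1 := by rw [← map_pow, ← hy, pow_orderOf_eq_one, map_one]
    have hne1 : ∀ x : B, orderOf x = 3 → f x ≠ 1 := by
      intro x hx h
      have hxk : x ∈ f.ker := h
      have h2 := sq_eq_one_of_mem_ker f hker x hxk
      have hd := orderOf_dvd_of_pow_eq_one h2
      rw [hx] at hd
      omega
    have hσ1 := hne1 a ha
    have hτ1 := hne1 y hy
    by_cases hd : Disjoint (fixS (f a)) (fixS (f y))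
    · obtain ⟨h5, hne⟩ := D4 (f a) (f y) hσ3 hσ1 hτ3 hτ1 hd
      have ho5 : orderOf (f (a * y)) = 5 := by
        rw [map_mul]; exact orderOf_eq_prime h5 hne
      have h5dvd : 5 ∣ orderOf (a * y) := by
        have h := orderOf_map_dvd f (a * y)
        rwa [ho5] at h
      have hk : (a * y) ^ 5 ∈ f.ker := by
        rw [MonoidHom.mem_ker, map_pow, map_mul]; exact h5
      have h10 : (a * y) ^ 10 = 1 := by
        have h' := sq_eq_one_of_mem_ker f hker _ hk
        rw [← pow_mul] at h'
        exact h'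
      rcases dvd10 _ (orderOf_dvd_of_pow_eq_one h10) with h' | h' | h' | h'
      · rw [h'] at h5dvd; omega
      · rw [h'] at h5dvd; omega
      · left; exact h'
      · right; exact h'
    · exfalso
      rw [Finset.not_disjoint_iff] at hd
      obtain ⟨i, hi1, hi2⟩ := hd
      rw [mem_fixS] at hi1 hi2
      have hle : (Subgroup.zpowers a ⊔ Subgroup.zpowers y).map f ≤ stabA i := by
        rw [Subgroup.map_sup, MonoidHom.map_zpowers, MonoidHom.map_zpowers]
        apply sup_le
        · rw [Subgroup.zpowers_le]; exact hi1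
        · rw [Subgroup.zpowers_le]; exact hi2
      rw [htop, Subgroup.map_top_of_surjective f hf] at hle
      exact stab5_ne_top i (top_le_iff.mp hle)

end Cfsg.Agent.Lib.Helper17.ZassE
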