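import Mathlib
import Cfsg.Prelude.Def_LocalStructure
import Cfsg.Agent.Lib.Helper17.Conj

set_option autoImplicit false
open Cfsg

namespace Cfsg.Agent.Lib.Helper17

variable {G : Type*} [Group G]

/-- In a finite group satisfying the normalizer condition every subgroup is subnormal. -/
theorem isSubnormal_of_normalizerCondition [Finite G] (hnc : NormalizerCondition G) :
    ∀ (n : ℕ) (B : Subgroup G), Nat.card G - Nat.card B = n → B.IsSubnormal := by
  intro n
  induction n using Nat.strong_induction_on with
  | _ n ih =>
    intro B hn
    by_cases hB : B = ⊤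
    · rw [hB]; exact Subgroup.IsSubnormal.top
    · have hlt : B < ⊤ := lt_top_iff_ne_top.mpr hB
      have h1 : B < Subgroup.normalizer (B : Set G) := hnc B hlt
      have hcard : Nat.card B < Nat.card (Subgroup.normalizer (B : Set G)) := by
        by_contra hge
        rw [not_lt] at hge
        exact h1.ne (Subgroup.eq_of_le_of_card_ge h1.le hge)
      have hle : Nat.card (Subgroup.normalizer (B : Set G)) ≤ Nat.card G := Subgroup.card_le_card_group _
      have h2 : (Subgroup.normalizer (B : Set G)).IsSubnormal :=
        ih (Nat.card G - Nat.card (Subgroup.normalizer (B : Set G))) (by omega) _ rfl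
      exact Subgroup.IsSubnormal.step B _ Subgroup.le_normalizer h2
        (Subgroup.normal_in_normalizer)

/-- Every subgroup of a finite `p`-group is subnormal. -/
theorem isSubnormal_of_isPGroup [Finite G] {p : ℕ} [Fact p.Prime] (hG : IsPGroup p G)
    (B : Subgroup G) : B.IsSubnormal := by
  haveI : Group.IsNilpotent G := hG.isNilpotent
  exact isSubnormal_of_normalizerCondition Group.normalizerCondition_of_isNilpotent _ B rfl

/-- In a finite group the intersection of subnormal subgroups is subnormal. -/
theorem isSubnormal_sInf [Finite G] (S : Set (Subgroup G)) (h : ∀ K ∈ S, K.IsSubnormal) :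
    (sInf S).IsSubnormal := by
  have hfin : S.Finite := Set.toFinite S
  revert h
  refine Set.Finite.induction_on (motive := fun S _ => (∀ K ∈ S, K.IsSubnormal) →
    (sInf S).IsSubnormal) S hfin ?_ ?_
  · intro _
    rw [sInf_empty]; exact Subgroup.IsSubnormal.top
  · intro a s _ _ ih h
    rw [sInf_insert]
    exact (h a (Set.mem_insert a s)).inf (ih (fun K hK => h K (Set.mem_insert_of_mem a hK)))

theorem subnormalClosure_isSubnormal [Finite G] (A : Subgroup G) :
    (subnormalClosure A).IsSubnormal :=
  isSubnormal_sInf _ (fun _ hK => hK.2)

theorem le_subnormalClosure (A : Subgroup G) : A ≤ subnormalClosure A :=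
  le_sInf (fun _ hK => hK.1)

theorem subnormalClosure_le {A L : Subgroup G} (hAL : A ≤ L) (hL : L.IsSubnormal) :
    subnormalClosure A ≤ L :=
  sInf_le ⟨hAL, hL⟩

/-- The normalizer of `A` normalizes the subnormal closure of `A`. -/
theorem normalizer_le_normalizer_subnormalClosure [Finite G] (A : Subgroup G) :
    Subgroup.normalizer (A : Set G) ≤ Subgroup.normalizer ((subnormalClosure A : Subgroup G) : Set G) := by
  intro g hg
  apply mem_normalizer_of_map_conj_eq
  have hsn : ((subnormalClosure A).map (MulAut.conj g).toMonoidHom).IsSubnormal :=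
    (subnormalClosure_isSubnormal A).map (MulAut.conj g).surjective
  have hA : A ≤ (subnormalClosure A).map (MulAut.conj g).toMonoidHom := by
    have e := map_conj_eq_of_mem_normalizer hg
    calc A = A.map (MulAut.conj g).toMonoidHom := e.symm
      _ ≤ _ := Subgroup.map_mono (le_subnormalClosure A)
  have hle := subnormalClosure_le hA hsn
  exact (Subgroup.eq_of_le_of_card_ge hle (by rw [card_map_conj])).symm

/-- A subnormal subgroup of the subnormal closure `K` of `A` containing `A` is all of `K`. -/
theorem eq_top_of_isSubnormal_of_le [Finite G] (A : Subgroup G)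
    (B : Subgroup ↥(subnormalClosure A)) (hB : B.IsSubnormal)
    (hAB : A.subgroupOf (subnormalClosure A) ≤ B) : B = ⊤ := by
  have h1 : (B.map (subnormalClosure A).subtype).IsSubnormal :=
    hB.trans' (subnormalClosure_isSubnormal A)
  have h2 : A ≤ B.map (subnormalClosure A).subtype := by
    have : (A.subgroupOf (subnormalClosure A)).map (subnormalClosure A).subtype = A := by
      rw [Subgroup.subgroupOf_map_subtype, inf_of_le_left (le_subnormalClosure A)]
    calc A = (A.subgroupOf (subnormalClosure A)).map (subnormalClosure A).subtype := this.symm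
      _ ≤ _ := Subgroup.map_mono hAB
  have h3 := subnormalClosure_le h2 h1
  rw [eq_top_iff]
  intro x _
  obtain ⟨y, hy, hxy⟩ := h3 x.2
  have : y = x := Subtype.ext hxy
  rwa [← this]

end Cfsg.Agent.Lib.Helper17
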