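import Mathlib
import Cfsg.Agent.Lib.Helper1.NoncyclicAbelian

/-!
# Helper17 library: coprime automorphisms, elementwise

* `Fx e`: the fixed-point subgroup of an automorphism `e`.
* `apply_eq_of_apply_comm_eq`: if `e` has order coprime to `|W|` and fixes `x⁻¹ * e x` then `e x = x`.
* `le_of_inf_Fx_le`: coprime generation for a noncyclic abelian group of automorphisms
  (`K = ⟨C_K(e) : e ∈ E#⟩`), in the form of an induction principle.
-/

set_option autoImplicit false

namespace Cfsg.Agent.Lib.Helper17.OddAct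

variable {W : Type*} [Group W]

/-- The fixed points of an automorphism, as a subgroup. -/
def Fx (e : MulAut W) : Subgroup W where
  carrier := {x | e x = x}
  mul_mem' := by
    intro a b ha hb
    simp only [Set.mem_ofPred_eq] at *
    rw [map_mul, ha, hb]
  one_mem' := by simp
  inv_mem' := by
    intro a ha
    simp only [Set.mem_ofPred_eq] at *
    rw [map_inv, ha]

theorem mem_Fx {e : MulAut W} {x : W} : x ∈ Fx e ↔ e x = x := Iff.rfl

theorem pow_apply_of_apply_eq_mul (e : MulAut W) (x c : W) (hx : e x = x * c) (hc : e c = c)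
    (k : ℕ) : (e ^ k) x = x * c ^ k := by
  induction k with
  | zero => simp
  | succ k ih =>
    rw [pow_succ', MulAut.mul_apply, ih, map_mul, map_pow, hx, hc, mul_assoc, ← pow_succ']

/-- If `e` has order coprime to `|W|` and fixes `x⁻¹ * e x`, then `e` fixes `x`. -/
theorem apply_eq_of_apply_comm_eq [Finite W] (e : MulAut W)
    (hcop : (orderOf e).Coprime (Nat.card W)) (x : W)
    (hc : e (x⁻¹ * e x) = x⁻¹ * e x) : e x = x := by
  have hx : e x = x * (x⁻¹ * e x) := by group
  have h1 := pow_apply_of_apply_eq_mul e x (x⁻¹ * e x) hx hc (orderOf e)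
  rw [pow_orderOf_eq_one, MulAut.one_apply] at h1
  have hck : (x⁻¹ * e x) ^ orderOf e = 1 := by
    have h2 : x * (x⁻¹ * e x) ^ orderOf e = x * 1 := by rw [mul_one]; exact h1.symm
    exact mul_left_cancel h2
  have hd1 : orderOf (x⁻¹ * e x) ∣ orderOf e := orderOf_dvd_of_pow_eq_one hck
  have hd2 : orderOf (x⁻¹ * e x) ∣ Nat.card W := orderOf_dvd_natCard _
  have h3 : orderOf (x⁻¹ * e x) = 1 := Nat.eq_one_of_dvd_coprimes hcop hd1 hd2
  have h4 : x⁻¹ * e x = 1 := orderOf_eq_one_iff.mp h3
  rw [hx, h4, mul_one]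

/-- The order of an element of a subgroup of automorphisms of order coprime to `|W|`. -/
theorem orderOf_coprime_of_mem [Finite W] {E : Subgroup (MulAut W)}
    (hcop : (Nat.card ↥E).Coprime (Nat.card W)) {e : MulAut W} (he : e ∈ E) :
    (orderOf e).Coprime (Nat.card W) := by
  have h1 : orderOf e ∣ Nat.card ↥E := by
    have := orderOf_dvd_natCard (⟨e, he⟩ : ↥E)
    rwa [Subgroup.orderOf_mk] at this
  exact Nat.Coprime.coprime_dvd_left h1 hcop

theorem le_of_inf_Fx_le_aux [Finite W] (E : Subgroup (MulAut W)) [IsMulCommutative ↥E]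
    (hnc : ¬ IsCyclic ↥E) (hcop : (Nat.card ↥E).Coprime (Nat.card W))
    (K : Subgroup W) (hK : ∀ e ∈ E, ∀ x ∈ K, e x ∈ K)
    (S : Subgroup W) (hS : ∀ e ∈ E, e ≠ 1 → K ⊓ Fx e ≤ S)
    {G : Type*} [Group G] [Finite G] (inl : W →* G) (inr : ↥E →* G)
    (hinl : Function.Injective inl) (hinr : Function.Injective inr)
    (haut : ∀ (g : ↥E) (k : W), inl ((g : MulAut W) k) = inr g * inl k * (inr g)⁻¹) : K ≤ S := by
  classical
  let A : Subgroup G := inr.range
  let K' : Subgroup G := K.map inl
  let eqv : ↥E ≃* ↥A := MonoidHom.ofInjective hinr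
  have : IsMulCommutative ↥A := by
    refine ⟨⟨?_⟩⟩
    intro a b
    obtain ⟨g, hg⟩ := eqv.surjective a
    obtain ⟨h, hh⟩ := eqv.surjective b
    rw [← hg, ← hh, ← map_mul, ← map_mul, mul_comm' g h]
  have hA : ¬ IsCyclic ↥A := by
    intro hcyc
    exact hnc ((MulEquiv.isCyclic eqv).mpr hcyc)
  have hconj : ∀ (g : ↥E) (n : G), n ∈ K' → inr g * n * (inr g)⁻¹ ∈ K' := by
    intro g n hn
    obtain ⟨k, hk, rfl⟩ := hn
    exact ⟨(g : MulAut W) k, hK _ g.2 k hk, haut g k⟩
  have hAK : A ≤ Subgroup.normalizer (K' : Set G) := by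
    rintro _ ⟨g, rfl⟩
    rw [Subgroup.mem_normalizer_iff]
    intro n
    constructor
    · intro hn
      exact hconj g n hn
    · intro hn
      have := hconj g⁻¹ _ hn
      rw [map_inv, inv_inv] at this
      have h2 : (inr g)⁻¹ * (inr g * n * (inr g)⁻¹) * inr g = n := by group
      rw [h2] at this
      exact this
  have hcardA : Nat.card ↥A = Nat.card ↥E := (Nat.card_congr eqv.toEquiv).symm
  have hcardK' : Nat.card ↥K' = Nat.card ↥K := Subgroup.card_map_of_injective hinl
  have hcop' : (Nat.card ↥A).Coprime (Nat.card ↥K') := by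
    rw [hcardA, hcardK']
    exact Nat.Coprime.coprime_dvd_right (Subgroup.card_subgroup_dvd_card K) hcop
  have hgen := Cfsg.Agent.Lib.Helper1.iSup_inf_centralizer_eq_of_not_isCyclic A K' hA hAK hcop'
  have hle : K' ≤ S.map inl := by
    rw [← hgen]
    refine iSup₂_le ?_
    rintro a ⟨haA, ha1⟩
    obtain ⟨g, rfl⟩ := haA
    intro y hy
    obtain ⟨hyK, hyC⟩ := Subgroup.mem_inf.mp hy
    obtain ⟨k, hk, rfl⟩ := hyK
    have hcomm : inr g * inl k = inl k * inr g :=
      Subgroup.mem_centralizer_iff.mp hyC (inr g) (Set.mem_singleton _)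
    have hg1 : (g : MulAut W) ≠ 1 := by
      intro h
      apply ha1
      have : g = 1 := Subtype.ext h
      rw [this, map_one]
    have hfix : (g : MulAut W) k = k := by
      apply hinl
      rw [haut g k, hcomm]
      group
    exact ⟨k, hS _ g.2 hg1 (Subgroup.mem_inf.mpr ⟨hk, hfix⟩), rfl⟩
  intro k hk
  obtain ⟨s, hs, hsk⟩ := hle (Subgroup.mem_map_of_mem inl hk)
  rw [← hinl hsk]
  exact hs

/-- **Coprime generation** for a noncyclic abelian group `E` of automorphisms of `W`: an
`E`-invariant subgroup `K` is generated by its subgroups of fixed points of the nonidentity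
elements of `E`. -/
theorem le_of_inf_Fx_le [Finite W] (E : Subgroup (MulAut W)) [IsMulCommutative ↥E]
    (hnc : ¬ IsCyclic ↥E) (hcop : (Nat.card ↥E).Coprime (Nat.card W))
    (K : Subgroup W) (hK : ∀ e ∈ E, ∀ x ∈ K, e x ∈ K)
    (S : Subgroup W) (hS : ∀ e ∈ E, e ≠ 1 → K ⊓ Fx e ≤ S) : K ≤ S := by
  have : Finite (W ⋊[E.subtype] ↥E) := Finite.of_equiv _ SemidirectProduct.equivProd.symm
  refine le_of_inf_Fx_le_aux E hnc hcop K hK S hS
    (SemidirectProduct.inl : W →* W ⋊[E.subtype] ↥E) SemidirectProduct.inr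
    SemidirectProduct.inl_injective SemidirectProduct.inr_injective ?_
  intro g k
  have := SemidirectProduct.inl_aut (φ := E.subtype) g k
  rw [map_inv] at this
  exact this

end Cfsg.Agent.Lib.Helper17.OddAct
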