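import Mathlib
import Cfsg.Prelude.Def_KGroupFacts
import Cfsg.Agent.Lib.Helper12.SchurMore

/-!
# S2041 piece [L5]: restriction of a stem extension with `p`-group kernel to the preimage of a
subgroup of `p'`-index, and the order of the preimage of a subgroup
-/

set_option autoImplicit false

namespace Cfsg.Agent.Lib.Helper10.Weak

open Cfsg

universe u v

/-- [L5a] restriction of a stem extension with `p`-group kernel to the preimage of a subgroup of `p'`-index
(as `Cfsg.Agent.Lib.Helper17`/`Helper10` `Sz8S1.stem_restrict`, with `p` instead of `2`) -/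
theorem stem_restrict_p {Γ : Type u} {G : Type v} [Group Γ] [Finite Γ] [Group G] (σ : Γ →* G)
    (hσ : IsStemExtension σ) {p : ℕ} [Fact p.Prime] (hk : IsPGroup p σ.ker) (H : Subgroup G)
    (hH : ¬ p ∣ H.index) : IsStemExtension (σ.subgroupComap H) := by
  obtain ⟨hsurj, hcen, hcomm⟩ := hσ
  have hp : p.Prime := Fact.out
  have hker : ∀ a : H.comap σ, a ∈ (σ.subgroupComap H).ker ↔ (a : Γ) ∈ σ.ker := by
    intro a
    rw [MonoidHom.mem_ker, MonoidHom.mem_ker]
    constructor
    · intro h; exact congrArg Subtype.val h
    · intro h; exact Subtype.ext h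
  refine ⟨σ.subgroupComap_surjective_of_surjective H hsurj, ?_, ?_⟩
  · intro a ha
    have hac : (a : Γ) ∈ Subgroup.center Γ := hcen ((hker a).mp ha)
    rw [Subgroup.mem_center_iff]
    intro b
    apply Subtype.ext
    simp only [Subgroup.coe_mul]
    exact Subgroup.mem_center_iff.mp hac b
  · intro a ha
    have haZ := (hker a).mp ha
    obtain ⟨h, hmem⟩ := Cfsg.Agent.Lib.Helper12.Schur.pow_index_mem_commutator
      (H.comap σ) (hcen haZ) (hcomm haZ)
    have hpow : (⟨(a : Γ) ^ (H.comap σ).index, h⟩ : H.comap σ) = a ^ (H.comap σ).index := by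
      apply Subtype.ext; simp
    rw [hpow] at hmem
    have hidx : (H.comap σ).index = H.index := Subgroup.index_comap_of_surjective H hsurj
    obtain ⟨k, hk'⟩ := hk ⟨(a : Γ), haZ⟩
    have hk'' : a ^ p ^ k = 1 := by
      apply Subtype.ext
      have := congrArg Subtype.val hk'
      simpa using this
    have hord : orderOf a ∣ p ^ k := orderOf_dvd_of_pow_eq_one hk''
    have hcop : ((H.comap σ).index).Coprime (orderOf a) := by
      rw [hidx]
      have h1 : (H.index).Coprime (p ^ k) := by
        apply Nat.Coprime.pow_right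
        exact ((Nat.Prime.coprime_iff_not_dvd hp).mpr hH).symm
      exact Nat.Coprime.coprime_dvd_right hord h1
    obtain ⟨m, hm⟩ := exists_pow_eq_self_of_coprime hcop
    rw [← hm]
    exact pow_mem hmem m

/-- [L5b] the order of the preimage of a subgroup -/
theorem card_comap {Γ : Type u} {G : Type v} [Group Γ] [Finite Γ] [Group G] (σ : Γ →* G)
    (hs : Function.Surjective σ) (H : Subgroup G) :
    Nat.card (H.comap σ) = Nat.card σ.ker * Nat.card H := by
  haveI : Finite G := Finite.of_surjective σ hs
  have hidx : (H.comap σ).index = H.index := Subgroup.index_comap_of_surjective H hs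
  have hkidx : σ.ker.index = Nat.card G := by
    rw [Subgroup.index_ker, MonoidHom.range_eq_top.mpr hs, Subgroup.card_top]
  have h1 : Nat.card σ.ker * Nat.card G = Nat.card Γ := by
    rw [← hkidx]; exact Subgroup.card_mul_index σ.ker
  have h2 : Nat.card (H.comap σ) * H.index = Nat.card Γ := by
    rw [← hidx]; exact Subgroup.card_mul_index (H.comap σ)
  have h3 : Nat.card H * H.index = Nat.card G := Subgroup.card_mul_index H
  have hpos : 0 < H.index := Nat.pos_of_ne_zero Subgroup.index_ne_zero_of_finite
  have : Nat.card (H.comap σ) * H.index = (Nat.card σ.ker * Nat.card H) * H.index := by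
    rw [h2, ← h1, ← h3]; ring
  exact Nat.eq_of_mul_eq_mul_right hpos this

end Cfsg.Agent.Lib.Helper10.Weak
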