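import Mathlib
import Cfsg.Prelude.Def_KGroupFacts
import Cfsg.Agent.Lib.Helper12.SchurMore

/-!
# S2112 piece [S1]: restriction of a stem extension to the preimage of a subgroup of odd index

If `σ : Γ →* G` is a finite stem extension whose kernel is a `2`-group and `H ≤ G` has odd index,
then `σ⁻¹(H) → H` is again a stem extension (transfer into `σ⁻¹(H)`).
-/

set_option autoImplicit false

namespace Cfsg.Agent.Lib.Helper7.Sz8

open Cfsg

universe u v

/-- [S1] restriction of a stem extension with `2`-group kernel to the preimage of a subgroup of odd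
index (transfer: `Cfsg.Agent.Lib.Helper12.Schur.pow_index_mem_commutator`) -/
theorem stem_restrict {Γ : Type u} {G : Type v} [Group Γ] [Finite Γ] [Group G] (σ : Γ →* G)
    (hσ : IsStemExtension σ) (h2 : IsPGroup 2 σ.ker) (H : Subgroup G) (hH : Odd H.index) :
    IsStemExtension (σ.subgroupComap H) := by
  obtain ⟨hsurj, hcen, hcomm⟩ := hσ
  have hker : ∀ a : H.comap σ, a ∈ (σ.subgroupComap H).ker ↔ (a : Γ) ∈ σ.ker := by
    intro a
    rw [MonoidHom.mem_ker, MonoidHom.mem_ker]
    constructor
    · intro h; exact congrArg Subtype.val h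
    · intro h; exact Subtype.ext h
  refine ⟨σ.subgroupComap_surjective_of_surjective H hsurj, ?_, ?_⟩
  · intro a ha
    have hac : (a : Γ) ∈ Subgroup.center Γ := hcen ((hker a).mp ha)
    rw [Subgroup.mem_center_iff]
    intro b
    apply Subtype.ext
    simp only [Subgroup.coe_mul]
    exact Subgroup.mem_center_iff.mp hac b
  · intro a ha
    have haZ := (hker a).mp ha
    obtain ⟨h, hmem⟩ := Cfsg.Agent.Lib.Helper12.Schur.pow_index_mem_commutator
      (H.comap σ) (hcen haZ) (hcomm haZ)
    have hpow : (⟨(a : Γ) ^ (H.comap σ).index, h⟩ : H.comap σ) = a ^ (H.comap σ).index := by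
      apply Subtype.ext; simp
    rw [hpow] at hmem
    have hidx : (H.comap σ).index = H.index := Subgroup.index_comap_of_surjective H hsurj
    obtain ⟨k, hk⟩ := h2 ⟨(a : Γ), haZ⟩
    have hk' : a ^ 2 ^ k = 1 := by
      apply Subtype.ext
      have := congrArg Subtype.val hk
      simpa using this
    have hord : orderOf a ∣ 2 ^ k := orderOf_dvd_of_pow_eq_one hk'
    have hcop : ((H.comap σ).index).Coprime (orderOf a) := by
      rw [hidx]
      have h1 : (H.index).Coprime (2 ^ k) := by
        apply Nat.Coprime.pow_right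
        exact hH.coprime_two_right
      exact Nat.Coprime.coprime_dvd_right hord h1
    obtain ⟨m, hm⟩ := exists_pow_eq_self_of_coprime hcop
    rw [← hm]
    exact pow_mem hmem m

end Cfsg.Agent.Lib.Helper7.Sz8
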