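import Mathlib
import Cfsg.Agent.S0494
import Cfsg.Agent.S3669
import Cfsg.Agent.Lib.Helper16.SL25Recog
import Cfsg.Agent.Lib.Helper1.Hall

/-!
# S4150, piece SIX: in `A₆`, elements of orders 3 and 5 generate `A₅` or `A₆`

The closure `H` has order divisible by 15 and dividing 360; it is not solvable (a Hall
`{3,5}`-subgroup would contain an element of order 15, and `S₆` has none), so `|H| ≥ 60`;
indices 2, 3, 4 are impossible in the simple group `A₆`; so `|H| = 60` (simple, hence `A₅`)
or `H = A₆`.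
-/

set_option autoImplicit false

namespace Cfsg.Agent.Lib.Helper1.S4150

namespace Helper17

/-- `S₆` has no element of order 15 -/
theorem pow_fifteen_six :
    ∀ g : Equiv.Perm (Fin 6), g ^ 15 = 1 → g ^ 3 = 1 ∨ g ^ 5 = 1 := by
  decide +kernel

theorem orderOf_ne_fifteen (g : Equiv.Perm (Fin 6)) : orderOf g ≠ 15 := by
  intro h
  have h15 : g ^ 15 = 1 := by rw [← h]; exact pow_orderOf_eq_one g
  rcases pow_fifteen_six g h15 with h3 | h5
  · have := orderOf_dvd_of_pow_eq_one h3
    rw [h] at this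
    omega
  · have := orderOf_dvd_of_pow_eq_one h5
    rw [h] at this
    omega

theorem conj_pow_pow_six {G : Type*} [Group G] {m a : G} {r : ℕ} (h : m * a * m⁻¹ = a ^ r)
    (i : ℕ) : m ^ i * a * (m ^ i)⁻¹ = a ^ r ^ i := by
  induction i with
  | zero => simp
  | succ i ih =>
    have h1 : m ^ (i + 1) * a * (m ^ (i + 1))⁻¹ = m * (m ^ i * a * (m ^ i)⁻¹) * m⁻¹ := by
      rw [pow_succ']; group
    rw [h1, ih]
    have h2 : m * a ^ r ^ i * m⁻¹ = (m * a * m⁻¹) ^ r ^ i := by
      rw [conj_pow]
    rw [h2, h, ← pow_mul, pow_succ, mul_comm]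

/-- a group of order 15 or 45 has an element of order 15 -/
theorem exists_orderOf_fifteen {K : Type*} [Group K] [Finite K]
    (hK : Nat.card K = 15 ∨ Nat.card K = 45) : ∃ g : K, orderOf g = 15 := by
  haveI : Fact (Nat.Prime 5) := ⟨by norm_num⟩
  haveI : Fact (Nat.Prime 3) := ⟨by norm_num⟩
  obtain ⟨P⟩ : Nonempty (Sylow 5 K) := inferInstance
  obtain ⟨n, hn⟩ := IsPGroup.iff_card.mp P.isPGroup'
  have hidx : Nat.card P * (P : Subgroup K).index = Nat.card K := (P : Subgroup K).card_mul_index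
  have hnd : ¬ 5 ∣ (P : Subgroup K).index := P.not_dvd_index
  have hPc : Nat.card P = 5 := by
    rcases n with _ | _ | n
    · exfalso
      rw [pow_zero] at hn
      rw [hn, one_mul] at hidx
      apply hnd
      rw [hidx]
      rcases hK with h | h <;> rw [h] <;> norm_num
    · rw [hn]; norm_num
    · exfalso
      have h25 : 25 ∣ Nat.card K := by
        rw [← hidx, hn]
        exact Dvd.dvd.mul_right (by
          rw [show n + 1 + 1 = 2 + n by ring, pow_add]; exact Dvd.intro _ rfl) _
      rcases hK with h | h <;> rw [h] at h25 <;> omega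
  have hi : (P : Subgroup K).index = 3 ∨ (P : Subgroup K).index = 9 := by
    rw [hPc] at hidx
    rcases hK with h | h
    · left; omega
    · right; omega
  have hcard_syl : Nat.card (Sylow 5 K) = 1 := by
    have h1 : Nat.card (Sylow 5 K) ≡ 1 [MOD 5] := card_sylow_modEq_one 5 K
    have h2 : Nat.card (Sylow 5 K) ∣ (P : Subgroup K).index := Sylow.card_dvd_index P
    unfold Nat.ModEq at h1
    generalize Nat.card (Sylow 5 K) = s at h1 h2 ⊢
    rcases hi with hi | hi <;> rw [hi] at h2
    · have hle : s ≤ 3 := Nat.le_of_dvd (by norm_num) h2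
      interval_cases s <;> first | rfl | omega
    · have hle : s ≤ 9 := Nat.le_of_dvd (by norm_num) h2
      interval_cases s <;> first | rfl | omega
  haveI : Subsingleton (Sylow 5 K) := (Nat.card_eq_one_iff_unique.mp hcard_syl).1
  haveI hPn : (P : Subgroup K).Normal := Sylow.normal_of_subsingleton P
  obtain ⟨w, hw⟩ : ∃ w : (P : Subgroup K), orderOf w = 5 :=
    exists_prime_orderOf_dvd_card' (G := (P : Subgroup K)) 5 (by rw [hPc])
  obtain ⟨z, hz⟩ : ∃ z : K, orderOf z = 3 :=
    exists_prime_orderOf_dvd_card' (G := K) 3 (by rcases hK with h | h <;> rw [h] <;> norm_num)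
  have hw1 : w ≠ 1 := by
    intro h; rw [h, orderOf_one] at hw; omega
  have htop : Subgroup.zpowers w = ⊤ := zpowers_eq_top_of_prime_card hPc hw1
  have hwK : orderOf (w : K) = 5 := by rw [Subgroup.orderOf_coe]; exact hw
  -- z normalises ⟨w⟩
  have hmem : z * (w : K) * z⁻¹ ∈ (P : Subgroup K) := hPn.conj_mem _ w.2 z
  have hmem2 : (⟨z * (w : K) * z⁻¹, hmem⟩ : (P : Subgroup K)) ∈ Subgroup.zpowers w := by
    rw [htop]; exact Subgroup.mem_top _
  rw [← mem_powers_iff_mem_zpowers] at hmem2
  obtain ⟨k, hk⟩ := (Submonoid.mem_powers_iff _ _).mp hmem2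
  have hkK : z * (w : K) * z⁻¹ = (w : K) ^ k := by
    have := congrArg (Subtype.val) hk
    simpa using this.symm
  have h3 := conj_pow_pow_six hkK 3
  have hz3 : z ^ 3 = 1 := by rw [← hz]; exact pow_orderOf_eq_one z
  rw [hz3] at h3
  simp only [one_mul, inv_one, mul_one] at h3
  -- w = w ^ k ^ 3
  have h4 : (w : K) ^ (k ^ 3) = (w : K) ^ 1 := by rw [pow_one]; exact h3.symm
  rw [pow_eq_pow_iff_modEq, hwK] at h4
  have h5 : (w : K) ^ k = (w : K) ^ 1 := by
    rw [pow_eq_pow_iff_modEq, hwK]
    unfold Nat.ModEq at h4 ⊢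
    have hk5 : k % 5 < 5 := Nat.mod_lt _ (by norm_num)
    have hpm : k ^ 3 % 5 = (k % 5) ^ 3 % 5 := Nat.pow_mod k 3 5
    rw [hpm] at h4
    generalize k % 5 = j at h4 hk5 ⊢
    interval_cases j <;> first | rfl | (exfalso; revert h4; decide)
  rw [pow_one] at h5
  have hcomm : Commute z (w : K) := by
    unfold Commute SemiconjBy
    have : z * (w : K) * z⁻¹ = (w : K) := by rw [hkK, h5]
    calc z * (w : K) = z * (w : K) * z⁻¹ * z := by group
      _ = (w : K) * z := by rw [this]
  refine ⟨z * (w : K), ?_⟩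
  rw [hcomm.orderOf_mul_eq_mul_orderOf_of_coprime (by rw [hz, hwK]; norm_num), hz, hwK]

/-- a proper subgroup of a finite simple group has index `k` with `|G| ∣ k!` -/
theorem card_dvd_factorial_index {G : Type*} [Group G] [Finite G] [IsSimpleGroup G]
    (H : Subgroup G) (hH : H ≠ ⊤) : Nat.card G ∣ H.index.factorial := by
  let φ : G →* Equiv.Perm (G ⧸ H) := MulAction.toPermHom G (G ⧸ H)
  have hker : φ.ker ≤ H := by
    intro g hg
    have h1 : φ g = 1 := hg
    have h2 : φ g ((1 : G) : G ⧸ H) = ((1 : G) : G ⧸ H) := by rw [h1]; rfl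
    have h3 : ((g * 1 : G) : G ⧸ H) = ((1 : G) : G ⧸ H) := h2
    rw [mul_one] at h3
    have h4 := QuotientGroup.eq.mp h3
    simpa using H.inv_mem h4
  have hinj : Function.Injective φ := by
    rw [← MonoidHom.ker_eq_bot_iff]
    rcases IsSimpleGroup.eq_bot_or_eq_top_of_normal φ.ker inferInstance with h | h
    · exact h
    · exfalso; apply hH; rw [eq_top_iff, ← h]; exact hker
  have h1 := Subgroup.card_dvd_of_injective φ hinj
  rw [Nat.card_perm, ← Subgroup.index_eq_card] at h1
  exact h1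

theorem card_A6 : Nat.card (alternatingGroup (Fin 6)) = 360 := by
  rw [Nat.card_eq_fintype_card]
  have h := two_mul_card_alternatingGroup (α := Fin 6)
  rw [Fintype.card_perm, Fintype.card_fin] at h
  have : Nat.factorial 6 = 720 := rfl
  omega

end Helper17

open Helper17 in
theorem six (x y : alternatingGroup (Fin 6)) (hx : orderOf x = 3) (hy : orderOf y = 5) :
    ∃ d : ℕ, 5 ≤ d ∧ Nonempty (Subgroup.closure ({x, y} : Set (alternatingGroup (Fin 6))) ≃*
      alternatingGroup (Fin d)) := by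
  set H : Subgroup (alternatingGroup (Fin 6)) := Subgroup.closure ({x, y} : Set _) with hHdef
  have hxH : x ∈ H := Subgroup.subset_closure (by simp)
  have hyH : y ∈ H := Subgroup.subset_closure (by simp)
  have h3 : 3 ∣ Nat.card H := by
    have := orderOf_dvd_natCard (⟨x, hxH⟩ : H)
    rwa [Subgroup.orderOf_mk, hx] at this
  have h5 : 5 ∣ Nat.card H := by
    have := orderOf_dvd_natCard (⟨y, hyH⟩ : H)
    rwa [Subgroup.orderOf_mk, hy] at this
  have h15 : 15 ∣ Nat.card H :=
    Nat.Coprime.mul_dvd_of_dvd_of_dvd (by norm_num : Nat.Coprime 3 5) h3 h5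
  have h360 : Nat.card H ∣ 360 := by
    rw [← card_A6]; exact Subgroup.card_subgroup_dvd_card H
  -- no element of order 15 in H
  have hno15 : ∀ g : H, orderOf g ≠ 15 := by
    intro g hg
    have h1 : orderOf ((g : alternatingGroup (Fin 6)) : Equiv.Perm (Fin 6)) = 15 := by
      rw [Subgroup.orderOf_coe, Subgroup.orderOf_coe]; exact hg
    exact orderOf_ne_fifteen _ h1
  -- H is not solvable
  have hns : ¬ Group.IsSolvable H := by
    intro hs
    haveI := hs
    obtain ⟨k, hk⟩ := h15
    have hk24 : k ∣ 24 := by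
      rw [hk] at h360
      exact Nat.dvd_of_mul_dvd_mul_left (by norm_num : 0 < 15) (by simpa using h360)
    have hkm : k ∈ Nat.divisors 24 := Nat.mem_divisors.mpr ⟨hk24, by norm_num⟩
    have hdiv : Nat.divisors 24 = {1, 2, 3, 4, 6, 8, 12, 24} := by decide
    rw [hdiv] at hkm
    simp only [Finset.mem_insert, Finset.mem_singleton] at hkm
    have key : ∃ K : Subgroup H, Nat.card K = 15 ∨ Nat.card K = 45 := by
      rcases hkm with rfl | rfl | rfl | rfl | rfl | rfl | rfl | rfl
      · obtain ⟨K, hK⟩ := Cfsg.Agent.Lib.Helper1.hall_exists (G := H) 15 1 (by rw [hk]) (by norm_num)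
        exact ⟨K, Or.inl hK⟩
      · obtain ⟨K, hK⟩ := Cfsg.Agent.Lib.Helper1.hall_exists (G := H) 15 2 (by rw [hk]) (by norm_num)
        exact ⟨K, Or.inl hK⟩
      · obtain ⟨K, hK⟩ := Cfsg.Agent.Lib.Helper1.hall_exists (G := H) 45 1 (by rw [hk]) (by norm_num)
        exact ⟨K, Or.inr hK⟩
      · obtain ⟨K, hK⟩ := Cfsg.Agent.Lib.Helper1.hall_exists (G := H) 15 4 (by rw [hk]) (by norm_num)
        exact ⟨K, Or.inl hK⟩
      · obtain ⟨K, hK⟩ := Cfsg.Agent.Lib.Helper1.hall_exists (G := H) 45 2 (by rw [hk]) (by norm_num)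
        exact ⟨K, Or.inr hK⟩
      · obtain ⟨K, hK⟩ := Cfsg.Agent.Lib.Helper1.hall_exists (G := H) 15 8 (by rw [hk]) (by norm_num)
        exact ⟨K, Or.inl hK⟩
      · obtain ⟨K, hK⟩ := Cfsg.Agent.Lib.Helper1.hall_exists (G := H) 45 4 (by rw [hk]) (by norm_num)
        exact ⟨K, Or.inr hK⟩
      · obtain ⟨K, hK⟩ := Cfsg.Agent.Lib.Helper1.hall_exists (G := H) 45 8 (by rw [hk]) (by norm_num)
        exact ⟨K, Or.inr hK⟩
    obtain ⟨K, hK⟩ := key
    obtain ⟨g, hg⟩ := exists_orderOf_fifteen (K := K) hK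
    exact hno15 (g : H) (by rw [Subgroup.orderOf_coe]; exact hg)
  -- the order is at least 60
  have h60 : 60 ≤ Nat.card H := by
    by_contra hlt
    push Not at hlt
    exact hns (Cfsg.Agent.S3669.isSolvable_of_card_lt _ H rfl hlt)
  haveI : IsSimpleGroup (alternatingGroup (Fin 6)) := alternatingGroup.isSimpleGroup (by simp)
  by_cases htop : H = ⊤
  · refine ⟨6, by norm_num, ⟨?_⟩⟩
    exact (MulEquiv.subgroupCongr htop).trans Subgroup.topEquiv
  · have hfac := card_dvd_factorial_index H htop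
    rw [card_A6] at hfac
    have hidx : Nat.card H * H.index = 360 := by rw [H.card_mul_index, card_A6]
    -- index ≥ 5 since 360 ∤ k! for k ≤ 4
    have hi5 : 5 ≤ H.index := by
      by_contra hlt
      push Not at hlt
      have hpos : 0 < H.index := Nat.pos_of_ne_zero Subgroup.index_ne_zero_of_finite
      generalize H.index = i at hfac hlt hpos
      interval_cases i <;> simp [Nat.factorial] at hfac <;> omega
    have hc60 : Nat.card H = 60 := by
      obtain ⟨k, hk⟩ := h15
      have hk24 : k ∣ 24 := by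
        rw [hk] at h360
        exact Nat.dvd_of_mul_dvd_mul_left (by norm_num : 0 < 15) (by simpa using h360)
      have hkle : k ≤ 24 := Nat.le_of_dvd (by norm_num) hk24
      rw [hk] at hidx h60 ⊢
      -- 15 k * index = 360, index ≥ 5, 15 k ≥ 60: k ≥ 4 and k * index = 24, index ≥ 5 → k ≤ 4
      have hki : k * H.index = 24 := by nlinarith
      have hk4 : 4 ≤ k := by omega
      have : k * 5 ≤ 24 := by nlinarith
      have : k = 4 := by omega
      rw [this]
    haveI : IsSimpleGroup H := Cfsg.Agent.Lib.Helper16.SL25Recog.simple_of_card_sixty hc60 hns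
    exact ⟨5, le_refl 5, Cfsg.Agent.S0494.result hc60⟩

end Cfsg.Agent.Lib.Helper1.S4150
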