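import Cfsg.Agent.Lib.Helper17.YL2

set_option autoImplicit false

namespace Cfsg.Agent.Lib.Helper17

open scoped commutatorElement Pointwise

section CoprimeGen

variable {G : Type*} [Group G] {p : ℕ}

/-- `B` normalizes `⁅A, B⁆`. -/
theorem le_normalizer_commutator_right [Finite G] (A B : Subgroup G) :
    B ≤ Subgroup.normalizer ((⁅A, B⁆ : Subgroup G) : Set G) := by
  intro j hj
  apply mem_normalizer_of_map_conj_le
  rw [Subgroup.commutator_def, MonoidHom.map_closure, Subgroup.closure_le]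
  rintro _ ⟨_, ⟨a, ha, b, hb, rfl⟩, rfl⟩
  simp only [MulEquiv.coe_toMonoidHom, MulAut.conj_apply]
  have e : j * ⁅a, b⁆ * j⁻¹ = (⁅a, j⁆)⁻¹ * ⁅a, j * b⁆ := by
    simp only [commutatorElement_def]; group
  rw [e]
  exact Subgroup.mul_mem _ (Subgroup.inv_mem _ (Subgroup.commutator_mem_commutator ha hj))
    (Subgroup.commutator_mem_commutator ha (B.mul_mem hj hb))

/-- `A` normalizes `⁅A, B⁆`. -/
theorem le_normalizer_commutator_left [Finite G] (A B : Subgroup G) :
    A ≤ Subgroup.normalizer ((⁅A, B⁆ : Subgroup G) : Set G) := by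
  rw [Subgroup.commutator_comm]
  exact le_normalizer_commutator_right B A

/-- If the `p`-group `J` normalizes `K`, every `p'`-element of `KJ` lies in `K`. -/
theorem mem_of_coprime_of_mem_sup_pgroup [Finite G] [hp : Fact p.Prime] {K J : Subgroup G}
    (hJ : IsPGroup p J) (hJK : J ≤ Subgroup.normalizer (K : Set G)) {y : G} (hy : y ∈ K ⊔ J)
    (hcop : (orderOf y).Coprime p) : y ∈ K := by
  have hmul : ((K ⊔ J : Subgroup G) : Set G) = (K : Set G) * (J : Set G) :=
    Subgroup.coe_mul_of_right_le_normalizer_left K J hJK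
  have hy' : y ∈ ((K ⊔ J : Subgroup G) : Set G) := hy
  rw [hmul] at hy'
  obtain ⟨k, hk, j, hj, rfl⟩ := Set.mem_mul.mp hy'
  -- k * j = j * (j⁻¹ k j)
  have hjN : j ∈ Subgroup.normalizer (K : Set G) := hJK hj
  have hk' : j⁻¹ * k * j⁻¹⁻¹ ∈ K :=
    (Subgroup.mem_normalizer_iff.mp (Subgroup.inv_mem _ hjN) k).mp hk
  have e : k * j = j * (j⁻¹ * k * j⁻¹⁻¹) := by group
  obtain ⟨m, hm⟩ := hJ ⟨j, hj⟩
  have hjm : j ^ p ^ m = 1 := by
    have := congrArg Subtype.val hm
    simpa using this
  obtain ⟨c', hc', hpow⟩ := pow_mul_mem_of_mem_normalizer K hjN hk' (p ^ m)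
  have h1 : (k * j) ^ p ^ m ∈ K := by
    rw [e, hpow, hjm, one_mul]; exact hc'
  set y := k * j with hydef
  rcases Nat.lt_or_ge 1 (orderOf y) with hlt | hle
  · have hcop' : Nat.Coprime (p ^ m) (orderOf y) := (Nat.Coprime.pow_right m hcop).symm
    obtain ⟨c, -, hc⟩ := Nat.exists_mul_mod_eq_one_of_coprime hcop' hlt
    have e2 : y = (y ^ p ^ m) ^ c := by
      rw [← pow_mul]
      conv_rhs => rw [← Nat.div_add_mod (p ^ m * c) (orderOf y), hc, pow_add, pow_mul,
        pow_orderOf_eq_one, one_pow, one_mul, pow_one]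
    rw [e2]
    exact K.pow_mem h1 c
  · have hpos : 0 < orderOf y := orderOf_pos y
    have : orderOf y = 1 := by omega
    rw [orderOf_eq_one_iff.mp this]
    exact K.one_mem

/-- The subgroup generated by the `p'`-elements of `L` is normalized by `N_G(L)`. -/
theorem normalizer_le_normalizer_closure_coprime (L : Subgroup G) :
    Subgroup.normalizer (L : Set G) ≤ Subgroup.normalizer
      ((Subgroup.closure {x : G | x ∈ L ∧ (orderOf x).Coprime p} : Subgroup G) : Set G) := by
  intro n hn
  have key : ∀ m : G, m ∈ Subgroup.normalizer (L : Set G) → ∀ y : G,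
      y ∈ Subgroup.closure {x : G | x ∈ L ∧ (orderOf x).Coprime p} →
      m * y * m⁻¹ ∈ Subgroup.closure {x : G | x ∈ L ∧ (orderOf x).Coprime p} := by
    intro m hm y hy
    have : Subgroup.closure {x : G | x ∈ L ∧ (orderOf x).Coprime p} ≤
        (Subgroup.closure {x : G | x ∈ L ∧ (orderOf x).Coprime p}).comap
          (MulAut.conj m).toMonoidHom := by
      rw [Subgroup.closure_le]
      rintro x ⟨hxL, hxo⟩
      apply Subgroup.subset_closure
      refine ⟨?_, ?_⟩
      · simp only [MulEquiv.coe_toMonoidHom, MulAut.conj_apply]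
        exact (Subgroup.mem_normalizer_iff.mp hm x).mp hxL
      · simp only [MulEquiv.coe_toMonoidHom, MulAut.conj_apply]
        rw [show m * x * m⁻¹ = MulAut.conj m x from rfl, MulEquiv.orderOf_eq]
        exact hxo
    have := this hy
    simpa [MulAut.conj_apply] using this
  rw [Subgroup.mem_normalizer_iff]
  intro y
  constructor
  · exact key n hn y
  · intro h
    have := key n⁻¹ (Subgroup.inv_mem _ hn) _ h
    have e : n⁻¹ * (n * y * n⁻¹) * n⁻¹⁻¹ = y := by group
    rwa [e] at this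

end CoprimeGen

end Cfsg.Agent.Lib.Helper17
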