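import Cfsg.Agent.Lib.Helper28.BSGSCore

/-!
# Counting instead of Schreier–Sims (S2074, piece P2)

If transversal tables along a base chain consist of elements of `K` that fix the previous base points
and move the base point to the listed orbit points, then the product of the orbit lengths is a lower
bound for `|K|`; if it is also an upper bound, every element of `K` sifts through the chain.
-/

set_option autoImplicit false

namespace Cfsg.Agent.Lib.Helper22.SuzOut

open Cfsg.Agent.Lib.Helper28.BSGS MulAction

variable {G₀ : Type*} [Group G₀] {X : Type*} [MulAction G₀ X]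

/-- counting conditions along a chain (NO Schreier generators): the basic orbit lists have no
repetitions, and each transversal element lies in `K`, moves the base point to its orbit point and
fixes all previous base points -/
def CountChain (K : Subgroup G₀) : List X → List (SLevel G₀ X) → Prop
  | _, [] => True
  | prev, lv :: rest =>
      lv.O.Nodup ∧
      (∀ x ∈ lv.O, lv.u x ∈ K ∧ lv.u x • lv.b = x ∧ ∀ p ∈ prev, lv.u x • p = p) ∧
      CountChain K (lv.b :: prev) rest

namespace Helper17

/-- the elements of `K` fixing every point of the list `prev` -/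
def fixSub (K : Subgroup G₀) (prev : List X) : Subgroup G₀ where
  carrier := {z | z ∈ K ∧ ∀ p ∈ prev, z • p = p}
  one_mem' := ⟨K.one_mem, fun p _ => one_smul _ p⟩
  mul_mem' := fun {a b} ha hb =>
    ⟨K.mul_mem ha.1 hb.1, fun p hp => by rw [mul_smul, hb.2 p hp, ha.2 p hp]⟩
  inv_mem' := fun {a} ha =>
    ⟨K.inv_mem ha.1, fun p hp => by rw [inv_smul_eq_iff]; exact (ha.2 p hp).symm⟩

theorem mem_fixSub (K : Subgroup G₀) (prev : List X) (z : G₀) :
    z ∈ fixSub K prev ↔ z ∈ K ∧ ∀ p ∈ prev, z • p = p := Iff.rfl

theorem fixSub_nil (K : Subgroup G₀) : fixSub K ([] : List X) = K := by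
  ext z
  rw [mem_fixSub]
  constructor
  · intro h; exact h.1
  · intro h; exact ⟨h, fun p hp => by simp at hp⟩

theorem count_aux [Finite G₀] (K : Subgroup G₀) : ∀ (levels : List (SLevel G₀ X)) (prev : List X),
    CountChain K prev levels →
    chainSize levels ≤ Nat.card (fixSub K prev) ∧
    (Nat.card (fixSub K prev) ≤ chainSize levels → ∀ z ∈ fixSub K prev, Sifts levels z) := by
  classical
  intro levels
  induction levels with
  | nil =>
    intro prev _
    refine ⟨?_, ?_⟩
    · show 1 ≤ Nat.card (fixSub K prev)
      exact Nat.card_pos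
    · intro hle z hz
      show z = 1
      have hbot : fixSub K prev = ⊥ := (fixSub K prev).eq_bot_of_card_le hle
      rw [hbot] at hz
      exact Subgroup.mem_bot.mp hz
  | cons lv rest ih =>
    intro prev h
    obtain ⟨hnd, hO, hrest⟩ := h
    obtain ⟨ih1, ih2⟩ := ih (lv.b :: prev) hrest
    have hH'H : ∀ r ∈ fixSub K (lv.b :: prev), r ∈ fixSub K prev :=
      fun r hr => ⟨hr.1, fun p hp => hr.2 p (List.mem_cons_of_mem _ hp)⟩
    have hH'b : ∀ r ∈ fixSub K (lv.b :: prev), r • lv.b = lv.b :=
      fun r hr => hr.2 lv.b (by simp)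
    have huH : ∀ x ∈ lv.O, lv.u x ∈ fixSub K prev :=
      fun x hx => ⟨(hO x hx).1, (hO x hx).2.2⟩
    let f : {x // x ∈ lv.O} × ↥(fixSub K (lv.b :: prev)) → ↥(fixSub K prev) := fun q =>
      ⟨lv.u q.1.1 * q.2.1, (fixSub K prev).mul_mem (huH _ q.1.2) (hH'H _ q.2.2)⟩
    have hfv : ∀ q, ((f q : ↥(fixSub K prev)) : G₀) = lv.u q.1.1 * q.2.1 := fun q => rfl
    have hfb : ∀ q, ((f q : ↥(fixSub K prev)) : G₀) • lv.b = q.1.1 := by
      intro q
      rw [hfv, mul_smul, hH'b _ q.2.2, (hO _ q.1.2).2.1]
    have hf : Function.Injective f := by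
      intro q q' hqq
      have h1 : ((f q : ↥(fixSub K prev)) : G₀) = ((f q' : ↥(fixSub K prev)) : G₀) :=
        congrArg Subtype.val hqq
      have h2 : q.1.1 = q'.1.1 := by rw [← hfb q, ← hfb q', h1]
      have h3 : q.2.1 = q'.2.1 := by
        rw [hfv, hfv, h2] at h1
        exact mul_left_cancel h1
      exact Prod.ext (Subtype.ext h2) (Subtype.ext h3)
    have hcO : Nat.card {x // x ∈ lv.O} = lv.O.length := by
      rw [← List.toFinset_card_of_nodup hnd,
        Nat.card_congr (Equiv.subtypeEquivRight (fun x => (List.mem_toFinset).symm)),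
        Nat.card_eq_fintype_card, Fintype.card_coe]
    have hcard_dom : Nat.card ({x // x ∈ lv.O} × ↥(fixSub K (lv.b :: prev))) =
        lv.O.length * Nat.card (fixSub K (lv.b :: prev)) := by
      rw [Nat.card_prod, hcO]
    have hle : lv.O.length * Nat.card (fixSub K (lv.b :: prev)) ≤ Nat.card (fixSub K prev) := by
      rw [← hcard_dom]; exact Nat.card_le_card_of_injective f hf
    refine ⟨?_, ?_⟩
    · show lv.O.length * chainSize rest ≤ Nat.card (fixSub K prev)
      exact le_trans (Nat.mul_le_mul_left _ ih1) hle
    · intro hHle z hz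
      have hHle' : Nat.card (fixSub K prev) ≤ lv.O.length * chainSize rest := hHle
      have hHpos : 0 < Nat.card (fixSub K prev) := Nat.card_pos
      have hOpos : 0 < lv.O.length := by
        rcases Nat.eq_zero_or_pos lv.O.length with h0 | h0
        · rw [h0, zero_mul] at hHle'; omega
        · exact h0
      have hH'le : Nat.card (fixSub K (lv.b :: prev)) ≤ chainSize rest := by
        have : lv.O.length * Nat.card (fixSub K (lv.b :: prev)) ≤ lv.O.length * chainSize rest :=
          le_trans hle hHle'
        exact Nat.le_of_mul_le_mul_left this hOpos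
      have hbij : Function.Bijective f := by
        apply hf.bijective_of_nat_card_le
        rw [hcard_dom]
        calc Nat.card (fixSub K prev) ≤ lv.O.length * chainSize rest := hHle'
          _ ≤ lv.O.length * Nat.card (fixSub K (lv.b :: prev)) := Nat.mul_le_mul_left _ ih1
      obtain ⟨q, hq⟩ := hbij.2 ⟨z, hz⟩
      have hzq : z = lv.u q.1.1 * q.2.1 := by
        have := congrArg Subtype.val hq
        rw [hfv] at this
        exact this.symm
      have hzb : z • lv.b = q.1.1 := by
        have := hfb q
        rw [hq] at this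
        exact this
      show z • lv.b ∈ lv.O ∧ Sifts rest ((lv.u (z • lv.b))⁻¹ * z)
      rw [hzb]
      refine ⟨q.1.2, ?_⟩
      have hr : (lv.u q.1.1)⁻¹ * z = q.2.1 := by rw [hzq]; group
      rw [hr]
      exact ih2 hH'le _ q.2.2

end Helper17

open Helper17

/-- the transversal elements reached by sifting lie in `K`, so sifting is sound -/
theorem mem_of_sifts (K : Subgroup G₀) : ∀ (levels : List (SLevel G₀ X)) (prev : List X),
    CountChain K prev levels → ∀ z, Sifts levels z → z ∈ K := by
  intro levels
  induction levels with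
  | nil =>
    intro prev _ z hz
    have : z = 1 := hz
    rw [this]; exact K.one_mem
  | cons lv rest ih =>
    intro prev h z hz
    obtain ⟨_, hO, hrest⟩ := h
    obtain ⟨hzO, hzr⟩ := hz
    have h1 : (lv.u (z • lv.b))⁻¹ * z ∈ K := ih (lv.b :: prev) hrest _ hzr
    have h2 : lv.u (z • lv.b) ∈ K := (hO _ hzO).1
    have h3 : z = lv.u (z • lv.b) * ((lv.u (z • lv.b))⁻¹ * z) := by group
    rw [h3]; exact K.mul_mem h2 h1

/-- the product of the orbit lengths is a lower bound for the order of `K` -/
theorem count_chain_le [Finite G₀] (K : Subgroup G₀) (levels : List (SLevel G₀ X))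
    (h : CountChain K [] levels) : chainSize levels ≤ Nat.card K := by
  have h1 := (count_aux K levels [] h).1
  rw [fixSub_nil] at h1
  exact h1

/-- COUNTING instead of Schreier–Sims: if the orbit lengths multiply to (at least) the order of `K`,
then every element of `K` sifts through the chain, and the order is exactly the product. -/
theorem count_chain_main [Finite G₀] (K : Subgroup G₀) (levels : List (SLevel G₀ X))
    (h : CountChain K [] levels) (hcard : Nat.card K ≤ chainSize levels) :
    Nat.card K = chainSize levels ∧ ∀ z ∈ K, Sifts levels z := by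
  obtain ⟨h1, h2⟩ := count_aux K levels [] h
  rw [fixSub_nil] at h1 h2
  exact ⟨le_antisymm hcard h1, fun z hz => h2 hcard z hz⟩

end Cfsg.Agent.Lib.Helper22.SuzOut
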