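import Mathlib
import Cfsg.Prelude.Def_KGroupFacts
import Cfsg.Agent.H5.StemTC
import Cfsg.Agent.Lib.Helper12.SchurMore
import Cfsg.Agent.Lib.Helper17.WeakL5

/-!
# S2041 piece [L6]: the main generic bound

Lifts `γh i` of generators `γ i` of a subgroup `H` of `p'`-index, relators that hold for the lifts and a
Todd–Coxeter certificate over a finite subgroup `K` bound `|ker σ| · |H|` by `bound · |K|`.
-/

set_option autoImplicit false

namespace Cfsg.Agent.Lib.Helper10.Weak

open Cfsg Cfsg.H5.TCk

universe u v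

namespace Helper17

theorem gl_congr_lt {Γ : Type*} [Group Γ] (g g' : ℕ → Γ) (t : ℕ) (h : ∀ i < t, g i = g' i) (l : ℕ)
    (hl : l < 2 * t) : gl g l = gl g' l := by
  unfold gl
  have h2 : l / 2 < t := by omega
  rw [h _ h2]

/-- words only see the generators whose letters occur -/
theorem ev_congr_lt {Γ : Type*} [Group Γ] (g g' : ℕ → Γ) (t : ℕ) (h : ∀ i < t, g i = g' i)
    (w : List ℕ) (hw : w.all (fun l => decide (l < 2 * t)) = true) : ev g w = ev g' w := by
  induction w with
  | nil => rfl
  | cons l w ih =>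
    rw [List.all_cons, Bool.and_eq_true] at hw
    simp only [ev]
    rw [gl_congr_lt g g' t h l (of_decide_eq_true hw.1), ih hw.2]

end Helper17

/-- [L6] the MAIN generic bound: lifts `γh i` of `p'`-order of generators `γ i` of a subgroup `H` of `p'`-index,
relators that hold for the lifts, a Todd-Coxeter certificate over a finite subgroup `K` containing the
subgroup generators. -/
theorem card_ker_mul_card_le {G : Type u} [Group G] {Γ : Type u} [Group Γ] [Finite Γ]
    (σ : Γ →* G) (hσ : IsStemExtension σ) (p : ℕ) [Fact p.Prime] (hk : IsPGroup p σ.ker)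
    (t : ℕ) (γ : ℕ → G)
    (hidx : ¬ p ∣ (Subgroup.closure (Set.range fun i : Fin t => γ i.val)).index)
    (γh : ℕ → Γ) (hγh : ∀ i < t, σ (γh i) = γ i)
    (rels : List (List ℕ)) (hl : ∀ r ∈ rels, r.all (fun l => decide (l < 2 * t)) = true)
    (hrels : ∀ r ∈ rels, ev γh r = 1)
    (sgens : List (List ℕ)) (hsl : ∀ g ∈ sgens, g.all (fun l => decide (l < 2 * t)) = true)
    (K : Subgroup Γ) (hK : ∀ g ∈ sgens, ev γh g ∈ K)
    (D F ncos bound : ℕ) (defs : List (ℕ × ℕ)) (log : List ℕ)
    (hchk : check D F (2 * t) ncos bound defs rels sgens log = true) :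
    Nat.card σ.ker * Nat.card (Subgroup.closure (Set.range fun i : Fin t => γ i.val)) ≤
      bound * Nat.card K := by
  classical
  have hsurj : Function.Surjective σ := hσ.1
  -- the subgroup generated by the `γ i` and its preimage
  have hτ : IsStemExtension
      (σ.subgroupComap (Subgroup.closure (Set.range fun i : Fin t => γ i.val))) :=
    stem_restrict_p σ hσ hk _ hidx
  have hcardM : Nat.card ((Subgroup.closure (Set.range fun i : Fin t => γ i.val)).comap σ) =
      Nat.card σ.ker * Nat.card (Subgroup.closure (Set.range fun i : Fin t => γ i.val)) :=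
    card_comap σ hsurj _
  generalize hHdef : Subgroup.closure (Set.range fun i : Fin t => γ i.val) = H at hτ hcardM ⊢
  have hγH : ∀ i < t, γ i ∈ H := by
    intro i hi
    rw [← hHdef]
    exact Subgroup.subset_closure ⟨⟨i, hi⟩, rfl⟩
  have hγhM : ∀ i < t, γh i ∈ H.comap σ := by
    intro i hi
    rw [Subgroup.mem_comap, hγh i hi]
    exact hγH i hi
  let γm : ℕ → H.comap σ := fun i => if h : i < t then ⟨γh i, hγhM i h⟩ else 1
  have hγm : ∀ i < t, ((γm i : H.comap σ) : Γ) = γh i := by
    intro i hi
    simp only [γm, dif_pos hi]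
  have hev : ∀ w : List ℕ, w.all (fun l => decide (l < 2 * t)) = true →
      ((ev γm w : H.comap σ) : Γ) = ev γh w := by
    intro w hw
    have h1 : ((ev γm w : H.comap σ) : Γ) = ev (fun i => ((γm i : H.comap σ) : Γ)) w :=
      Cfsg.H5.StemTC.map_ev (H.comap σ).subtype γm w
    rw [h1]
    exact Helper17.ev_congr_lt _ _ t (fun i hi => hγm i hi) w hw
  -- the lifts generate the preimage
  have hgenM : Subgroup.closure (Set.range fun i : Fin t => γm i.val) = ⊤ := by
    apply Cfsg.H5.StemLift.eq_top_of_map_eq_top (σ.subgroupComap H) hτ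
    apply Subgroup.map_injective H.subtype_injective
    have h1 : (⊤ : Subgroup H).map H.subtype = H := by
      rw [← MonoidHom.range_eq_map, Subgroup.range_subtype]
    rw [h1, Subgroup.map_map, MonoidHom.map_closure]
    have himg : (⇑(H.subtype.comp (σ.subgroupComap H)) '' Set.range fun i : Fin t => γm i.val) =
        Set.range fun i : Fin t => γ i.val := by
      ext x
      constructor
      · rintro ⟨_, ⟨i, rfl⟩, rfl⟩
        refine ⟨i, ?_⟩
        show γ i.val = σ ((γm i.val : H.comap σ) : Γ)
        rw [hγm i.val i.isLt, hγh i.val i.isLt]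
      · rintro ⟨i, rfl⟩
        refine ⟨γm i.val, ⟨i, rfl⟩, ?_⟩
        show σ ((γm i.val : H.comap σ) : Γ) = γ i.val
        rw [hγm i.val i.isLt, hγh i.val i.isLt]
    rw [himg]
    exact hHdef
  -- Todd–Coxeter inside the preimage
  have hrelM : ∀ r ∈ rels, ev γm r = 1 := by
    intro r hr
    apply Subtype.ext
    rw [hev r (hl r hr), hrels r hr]
    rfl
  have hsgM : ∀ g ∈ sgens, ev γm g ∈ K.subgroupOf (H.comap σ) := by
    intro g hg
    rw [Subgroup.mem_subgroupOf, hev g (hsl g hg)]
    exact hK g hg
  have hfinal := (tc_sound (K.subgroupOf (H.comap σ)) γm defs rels sgens D F t ncos bound log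
    hrelM hsgM hgenM hchk).2
  have hKle : Nat.card (K.subgroupOf (H.comap σ)) ≤ Nat.card K := by
    apply Nat.card_le_card_of_injective
      (fun x : K.subgroupOf (H.comap σ) => (⟨(x.1 : Γ), Subgroup.mem_subgroupOf.mp x.2⟩ : K))
    intro x y hxy
    apply Subtype.ext
    apply Subtype.ext
    have h2 : ((x.1 : H.comap σ) : Γ) = ((y.1 : H.comap σ) : Γ) :=
      congrArg (fun z : K => (z : Γ)) hxy
    exact h2
  calc Nat.card σ.ker * Nat.card H = Nat.card (H.comap σ) := hcardM.symm
    _ ≤ bound * Nat.card (K.subgroupOf (H.comap σ)) := hfinal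
    _ ≤ bound * Nat.card K := Nat.mul_le_mul_left _ hKle

end Cfsg.Agent.Lib.Helper10.Weak
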