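import Mathlib
import Cfsg.Agent.H5.StemTC
import Cfsg.Agent.Lib.Helper17.WeakL6

/-!
# S2041 piece [L9]: a Todd–Coxeter certificate bounds the order of the subgroup generated by
elements satisfying the relators (no finiteness of the ambient group assumed)
-/

set_option autoImplicit false

namespace Cfsg.Agent.Lib.Helper10.Weak

open Cfsg Cfsg.H5.TCk

universe u v

/-- [L9] `tc_sound` inside the subgroup generated by the `γh i`, `i < t` -/
theorem card_closure_le {Γ : Type u} [Group Γ] (γh : ℕ → Γ) (t : ℕ) (rels : List (List ℕ))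
    (hl : ∀ r ∈ rels, r.all (fun l => decide (l < 2 * t)) = true)
    (hrels : ∀ r ∈ rels, Cfsg.H5.TCk.ev γh r = 1) (sgens : List (List ℕ))
    (hsl : ∀ g ∈ sgens, g.all (fun l => decide (l < 2 * t)) = true) (K : Subgroup Γ) [Finite K]
    (hK : ∀ g ∈ sgens, Cfsg.H5.TCk.ev γh g ∈ K) (D F ncos bound : ℕ) (defs : List (ℕ × ℕ))
    (log : List ℕ) (hchk : Cfsg.H5.TCk.check D F (2 * t) ncos bound defs rels sgens log = true) :
    Finite (Subgroup.closure (Set.range fun i : Fin t => γh i.val)) ∧
      Nat.card (Subgroup.closure (Set.range fun i : Fin t => γh i.val)) ≤ bound * Nat.card K := by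
  classical
  generalize hMdef : Subgroup.closure (Set.range fun i : Fin t => γh i.val) = M
  have hγM : ∀ i < t, γh i ∈ M := by
    intro i hi
    rw [← hMdef]
    exact Subgroup.subset_closure ⟨⟨i, hi⟩, rfl⟩
  let γm : ℕ → M := fun i => if h : i < t then ⟨γh i, hγM i h⟩ else 1
  have hγm : ∀ i < t, ((γm i : M) : Γ) = γh i := by
    intro i hi
    simp only [γm, dif_pos hi]
  have hev : ∀ w : List ℕ, w.all (fun l => decide (l < 2 * t)) = true →
      ((ev γm w : M) : Γ) = ev γh w := by
    intro w hw
    have h1 : ((ev γm w : M) : Γ) = ev (fun i => ((γm i : M) : Γ)) w :=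
      Cfsg.H5.StemTC.map_ev M.subtype γm w
    rw [h1]
    exact Helper17.ev_congr_lt _ _ t (fun i hi => hγm i hi) w hw
  have hgenM : Subgroup.closure (Set.range fun i : Fin t => γm i.val) = ⊤ := by
    apply Subgroup.map_injective M.subtype_injective
    have h1 : (⊤ : Subgroup M).map M.subtype = M := by
      rw [← MonoidHom.range_eq_map, Subgroup.range_subtype]
    rw [h1, MonoidHom.map_closure]
    have himg : (⇑M.subtype '' Set.range fun i : Fin t => γm i.val) =
        Set.range fun i : Fin t => γh i.val := by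
      ext x
      constructor
      · rintro ⟨_, ⟨i, rfl⟩, rfl⟩
        exact ⟨i, (hγm i.val i.isLt).symm⟩
      · rintro ⟨i, rfl⟩
        exact ⟨γm i.val, ⟨i, rfl⟩, hγm i.val i.isLt⟩
    rw [himg]
    exact hMdef
  have hrelM : ∀ r ∈ rels, ev γm r = 1 := by
    intro r hr
    apply Subtype.ext
    rw [hev r (hl r hr), hrels r hr]
    rfl
  have hsgM : ∀ g ∈ sgens, ev γm g ∈ K.subgroupOf M := by
    intro g hg
    rw [Subgroup.mem_subgroupOf, hev g (hsl g hg)]
    exact hK g hg
  have hinj : Function.Injective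
      (fun x : K.subgroupOf M => (⟨(x.1 : Γ), Subgroup.mem_subgroupOf.mp x.2⟩ : K)) := by
    intro x y hxy
    apply Subtype.ext
    apply Subtype.ext
    have h2 : ((x.1 : M) : Γ) = ((y.1 : M) : Γ) := congrArg (fun z : K => (z : Γ)) hxy
    exact h2
  haveI : Finite (K.subgroupOf M) := Finite.of_injective _ hinj
  obtain ⟨hfin, hfinal⟩ := tc_sound (K.subgroupOf M) γm defs rels sgens D F t ncos bound log
    hrelM hsgM hgenM hchk
  have hKle : Nat.card (K.subgroupOf M) ≤ Nat.card K := Nat.card_le_card_of_injective _ hinj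
  exact ⟨hfin, le_trans hfinal (Nat.mul_le_mul_left _ hKle)⟩

end Cfsg.Agent.Lib.Helper10.Weak
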