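import Mathlib
import Cfsg.Agent.Lib.Helper29.Ord5040A

/-!
# Order 5040: the Sylow 5 datum `(56, 2, 9)` is impossible (helper17, farm-out L56 of helper29)

`|C(P5)| = 45` contains a Sylow 3-subgroup `P3` of `G`, so `P5 ≤ C(P3) ≤ N3 := N(P3)`.
Counting Sylow 5-subgroups of `N3` gives `|N3| ∈ {45, 90}` (index `> 7`, `P3` not normal).
If `|N3| = 45` then `N3 = P3 P5` centralises `P3` (Burnside transfer); if `|N3| = 90` then
`n_3 = 56 ≢ 1 (mod 3)`.
-/

set_option autoImplicit false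
set_option linter.unusedSectionVars false

namespace Cfsg.Agent.Lib.Helper17.Ord5040L56

open Cfsg.H5.SmallOrd Cfsg.H5.SylowTuple

variable {G : Type*} [Group G] [Finite G]

theorem arith_aux (a n N idx : ℕ) (ha1 : 45 ∣ a) (ha2 : a ∣ 90) (hform : N = a * n)
    (hmod5 : n % 5 = 1) (hdvd : N ∣ 5040) (hmul : N * idx = 5040) (hidx : 7 < idx) :
    N = 45 ∨ N = 90 := by
  have ha : a = 45 ∨ a = 90 := by
    have h1 : a ≤ 90 := Nat.le_of_dvd (by norm_num) ha2
    obtain ⟨k, rfl⟩ := ha1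
    have hk : k ≤ 2 := by omega
    interval_cases k
    · simp at ha2
    · left; rfl
    · right; rfl
  have hN630 : N ≤ 630 := by
    have h1 : N * 8 ≤ N * idx := Nat.mul_le_mul_left N (by omega)
    omega
  rcases ha with rfl | rfl
  · subst hform
    have hn14 : n ≤ 14 := by omega
    interval_cases n <;> omega
  · subst hform
    have hn7 : n ≤ 7 := by omega
    interval_cases n <;> omega

theorem kill_56 [IsSimpleGroup G] (hG : ¬ IsMulCommutative G) (hn : Nat.card G = 5040)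
    [Fact (Nat.Prime 5)] (h5 : Cfsg.H5.SylowTuple.IsSD G 5 56 2 9) : False := by
  haveI h3p : Fact (Nat.Prime 3) := ⟨by norm_num⟩
  obtain ⟨P5⟩ : Nonempty (Sylow 5 G) := inferInstance
  obtain ⟨C5, hC5d⟩ : ∃ C : Subgroup G,
      C = Subgroup.centralizer ((P5 : Subgroup G) : Set G) := ⟨_, rfl⟩
  obtain ⟨N5, hN5d⟩ : ∃ N : Subgroup G,
      N = Subgroup.normalizer ((P5 : Subgroup G) : Set G) := ⟨_, rfl⟩
  have hC5 : Nat.card C5 = 45 := by
    rw [hC5d]; exact (h5.card_C P5).trans (by norm_num)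
  have hN5 : Nat.card N5 = 90 := by
    rw [hN5d]; exact (h5.card_N P5).trans (by norm_num)
  have hP5c : Nat.card (P5 : Subgroup G) = 5 := h5.card_P P5
  have hC5N5 : C5 ≤ N5 := by
    rw [hC5d, hN5d]; exact Subgroup.centralizer_le_normalizer _
  have hP5N5 : (P5 : Subgroup G) ≤ N5 := by
    rw [hN5d]; exact Subgroup.le_normalizer
  -- a Sylow 3-subgroup of `G` inside `C5`
  have hdvd : 3 ^ 2 ∣ Nat.card C5 := by rw [hC5]; norm_num
  obtain ⟨K0, hK0⟩ := Sylow.exists_subgroup_card_pow_prime 3 hdvd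
  have hQcard : Nat.card (K0.map C5.subtype) = 3 ^ 2 := by
    rw [Subgroup.card_map_of_injective (Subgroup.subtype_injective _), hK0]
  have hQle : K0.map C5.subtype ≤ C5 := Subgroup.map_subtype_le K0
  have hQp : IsPGroup 3 (K0.map C5.subtype) := IsPGroup.of_card hQcard
  obtain ⟨P3, hQP3⟩ := hQp.exists_le_sylow
  have hP3c : Nat.card (P3 : Subgroup G) = 3 ^ 2 :=
    sylow_card 3 2 560 (by norm_num) (hn.trans (by norm_num)) P3
  have hP3c9 : Nat.card (P3 : Subgroup G) = 9 := hP3c.trans (by norm_num)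
  have hQeq : K0.map C5.subtype = (P3 : Subgroup G) :=
    Subgroup.eq_of_le_of_card_ge hQP3 (by rw [hP3c, hQcard])
  have hP3C5 : (P3 : Subgroup G) ≤ C5 := by
    rw [← hQeq]; exact hQle
  -- `P3` is abelian
  have hP3comm : ∀ a ∈ (P3 : Subgroup G), ∀ b ∈ (P3 : Subgroup G), a * b = b * a := by
    intro a ha b hb
    have h := (IsPGroup.isMulCommutative_of_card_eq_prime_sq (p := 3) hP3c).is_comm.comm
      (⟨a, ha⟩ : (P3 : Subgroup G)) ⟨b, hb⟩
    exact congrArg Subtype.val h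
  have hP3CP3 : (P3 : Subgroup G) ≤ Subgroup.centralizer ((P3 : Subgroup G) : Set G) := by
    intro a ha
    rw [Subgroup.mem_centralizer_iff]
    intro b hb
    exact hP3comm b hb a ha
  have hP5CP3 : (P5 : Subgroup G) ≤ Subgroup.centralizer ((P3 : Subgroup G) : Set G) := by
    intro x hx
    rw [Subgroup.mem_centralizer_iff]
    intro y hy
    have hyC : y ∈ C5 := hP3C5 hy
    rw [hC5d, Subgroup.mem_centralizer_iff] at hyC
    exact (hyC x hx).symm
  obtain ⟨N3, hN3d⟩ : ∃ N : Subgroup G,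
      N = Subgroup.normalizer ((P3 : Subgroup G) : Set G) := ⟨_, rfl⟩
  have hCN3 : Subgroup.centralizer ((P3 : Subgroup G) : Set G) ≤ N3 := by
    rw [hN3d]; exact Subgroup.centralizer_le_normalizer _
  have hP3N3 : (P3 : Subgroup G) ≤ N3 := by
    rw [hN3d]; exact Subgroup.le_normalizer
  have hP5N3 : (P5 : Subgroup G) ≤ N3 := hP5CP3.trans hCN3
  have hsupN3 : (P3 : Subgroup G) ⊔ (P5 : Subgroup G) ≤ N3 := sup_le hP3N3 hP5N3
  have hsupN5 : (P3 : Subgroup G) ⊔ (P5 : Subgroup G) ≤ N5 :=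
    sup_le (hP3C5.trans hC5N5) hP5N5
  have h45 : 45 ∣ Nat.card ((P3 : Subgroup G) ⊔ (P5 : Subgroup G) : Subgroup G) := by
    have h9 : 9 ∣ Nat.card ((P3 : Subgroup G) ⊔ (P5 : Subgroup G) : Subgroup G) := by
      have h := Subgroup.card_dvd_of_le
        (le_sup_left : (P3 : Subgroup G) ≤ (P3 : Subgroup G) ⊔ (P5 : Subgroup G))
      rwa [hP3c9] at h
    have h5' : 5 ∣ Nat.card ((P3 : Subgroup G) ⊔ (P5 : Subgroup G) : Subgroup G) := by
      have h := Subgroup.card_dvd_of_le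
        (le_sup_right : (P5 : Subgroup G) ≤ (P3 : Subgroup G) ⊔ (P5 : Subgroup G))
      rwa [hP5c] at h
    have h := Nat.Coprime.mul_dvd_of_dvd_of_dvd (by norm_num : Nat.Coprime 9 5) h9 h5'
    have h' : (45 : ℕ) = 9 * 5 := by norm_num
    rw [h']; exact h
  -- counting Sylow 5-subgroups of `N3`
  have hform := Cfsg.Agent.Lib.Helper29.Ord5040.card_eq_card_inf_normalizer_mul P5 N3 hP5N3
  rw [← hN5d] at hform
  have hmod5 : Nat.card (Sylow 5 N3) % 5 = 1 :=
    Cfsg.Agent.Lib.Helper18.SylowOver.card_sylow_subgroup_mod N3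
  have ha1 : 45 ∣ Nat.card (N3 ⊓ N5 : Subgroup G) :=
    h45.trans (Subgroup.card_dvd_of_le (le_inf hsupN3 hsupN5))
  have ha2 : Nat.card (N3 ⊓ N5 : Subgroup G) ∣ 90 := by
    have h := Subgroup.card_dvd_of_le (inf_le_right : N3 ⊓ N5 ≤ N5)
    rwa [hN5] at h
  have hN3dvd : Nat.card N3 ∣ 5040 := by
    have h := Subgroup.card_subgroup_dvd_card N3
    rwa [hn] at h
  have hP3bot : (P3 : Subgroup G) ≠ ⊥ := by
    intro h
    rw [h, Subgroup.card_bot] at hP3c9
    omega
  have hP3top : (P3 : Subgroup G) ≠ ⊤ := by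
    intro h
    rw [h, Subgroup.card_top, hn] at hP3c9
    omega
  have hN3top : N3 ≠ ⊤ := by
    intro h
    rw [hN3d, Subgroup.normalizer_eq_top_iff] at h
    exact Cfsg.Agent.S0493.false_of_normal _ h hP3bot hP3top
  have hidx7 := Cfsg.Agent.Lib.Helper29.Ord5040.index_gt_seven hG hn N3 hN3top
  have hmul := Subgroup.card_mul_index N3
  rw [hn] at hmul
  rcases arith_aux _ _ _ _ ha1 ha2 hform hmod5 hN3dvd hmul hidx7 with h | h
  · have hle : Nat.card N3 ≤
        Nat.card ((P3 : Subgroup G) ⊔ (P5 : Subgroup G) : Subgroup G) := by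
      rw [h]; exact Nat.le_of_dvd Nat.card_pos h45
    have heq : (P3 : Subgroup G) ⊔ (P5 : Subgroup G) = N3 :=
      Subgroup.eq_of_le_of_card_ge hsupN3 hle
    have hNC : Subgroup.normalizer ((P3 : Subgroup G) : Set G) ≤
        Subgroup.centralizer ((P3 : Subgroup G) : Set G) := by
      rw [← hN3d, ← heq]; exact sup_le hP3CP3 hP5CP3
    rcases sylow_eq_bot_or_top_of_normalizer_le_centralizer' P3 hNC with hb | ht
    · exact hP3bot hb
    · exact hP3top ht
  · have hidx : N3.index = 56 := by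
      rw [h] at hmul; omega
    have hn3 : Nat.card (Sylow 3 G) = N3.index := by
      rw [hN3d]; exact P3.card_eq_index_normalizer
    have hmod := card_sylow_modEq_one 3 G
    rw [hn3, hidx] at hmod
    unfold Nat.ModEq at hmod
    norm_num at hmod

end Cfsg.Agent.Lib.Helper17.Ord5040L56
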