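import Mathlib
import Cfsg.Prelude.Def_Local
import Cfsg.Prelude.Def_CaseTheorems
import Cfsg.Prelude.Def_Transfer

set_option autoImplicit false

/-!
# S2924 definitions (helper17)

`th y` is the core `O(C_X(y))` of the centralizer of `y`, as a subgroup of the ambient group `X`.
-/

namespace Cfsg.Agent.Lib.Helper17.S2924

open Cfsg

/-- `θ(y) = O(C_X(y))`, as a subgroup of `X`. -/
def th {X : Type*} [Group X] (y : X) : Subgroup X :=
  (Cfsg.oddCore ↥(Subgroup.centralizer ({y} : Set X))).map
    (Subgroup.centralizer ({y} : Set X)).subtype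

theorem mem_th_iff {X : Type*} [Group X] {y a : X} :
    a ∈ th y ↔ ∃ h : a ∈ Subgroup.centralizer ({y} : Set X),
      (⟨a, h⟩ : ↥(Subgroup.centralizer ({y} : Set X))) ∈
        Cfsg.oddCore ↥(Subgroup.centralizer ({y} : Set X)) := by
  unfold th
  constructor
  · rintro ⟨b, hb, rfl⟩
    exact ⟨b.2, hb⟩
  · rintro ⟨h, hb⟩
    exact ⟨⟨a, h⟩, hb, rfl⟩

theorem th_le_centralizer {X : Type*} [Group X] (y : X) :
    th y ≤ Subgroup.centralizer ({y} : Set X) := by
  unfold th
  exact Subgroup.map_subtype_le _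

end Cfsg.Agent.Lib.Helper17.S2924
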