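import Mathlib
import Cfsg.Prelude.Def_Characters
import Cfsg.Agent.Lib.Helper22.M11FiveMain
import Cfsg.Agent.Lib.Helper21.BSWCountE
import Cfsg.Agent.Lib.Helper7.NormalDefect
import Cfsg.Agent.Lib.Helper25.EvenDegree
import Cfsg.Agent.Lib.Helper7.Orbits2
import Cfsg.Agent.Lib.Helper2.BurnsidePQ

/-!
# Involution centralizers in a simple group of order 7920 (helper17, for S0435)

From the part of the character table given by `Data` (degrees `11, 16, 16, 44` and the values at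
elements of order `5`): every involution `t` has `|C(t)| = 48`.

* `S_eval` : `∑_χ χ(t)² χ(y)/χ(1) = (12 p² - 136 p + 428)/44` with `χ₁₁(t) = 2p - 11`
  (2-defect zero for the degrees `16`, column orthogonality of `t` against `y`).
* `exists_inverting` : the class-algebra constant is nonzero, so a conjugate of `t` inverts `y`.
* `card_centralizer_involution` : the Brauer–Suzuki–Wall identity gives `|C(t)|² = 36 (12p² - 136p + 428)`,
  a perfect square only for `p = 7`.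
-/

set_option autoImplicit false

namespace Cfsg.Agent.Lib.Helper17.M11Invol

open Cfsg
open scoped ComplexConjugate

section Gen

variable {G : Type*} [Group G]

theorem orderOf_conj_eq' (c x : G) : orderOf (c * x * c⁻¹) = orderOf x := by
  have h := orderOf_injective (MulAut.conj c).toMonoidHom (MulAut.conj c).injective x
  simpa using h

theorem orderOf_eq_of_isConj {a b : G} (h : IsConj a b) : orderOf b = orderOf a := by
  obtain ⟨c, rfl⟩ := isConj_iff.mp h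
  exact orderOf_conj_eq' c a

theorem mul_self_of_isConj {a b : G} (h : IsConj a b) (ha : a * a = 1) : b * b = 1 := by
  obtain ⟨c, rfl⟩ := isConj_iff.mp h
  calc c * a * c⁻¹ * (c * a * c⁻¹) = c * (a * a) * c⁻¹ := by group
    _ = 1 := by rw [ha]; group

theorem mul_self_of_orderOf_two {t : G} (ht : orderOf t = 2) : t * t = 1 := by
  have h := pow_orderOf_eq_one t
  rwa [ht, pow_two] at h

theorem centralizer_singleton_eq_zpowers (y : G) :
    Subgroup.centralizer ({y} : Set G) = Subgroup.centralizer ((Subgroup.zpowers y : Subgroup G) : Set G) := by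
  ext a
  simp only [Subgroup.mem_centralizer_iff, SetLike.mem_coe, Set.mem_singleton_iff]
  constructor
  · intro h z hz
    obtain ⟨k, rfl⟩ := Subgroup.mem_zpowers_iff.mp hz
    have h1 : Commute y a := h y rfl
    exact (h1.zpow_left k).eq
  · intro h z hz
    subst hz
    exact h z (Subgroup.mem_zpowers z)

/-- the value of a character at an involution -/
theorem invol_val [Finite G] {χ : G → ℂ} (hχ : IsCharacter G χ) {n : ℕ} (h1 : χ 1 = n) {t : G}
    (ht : orderOf t = 2) : ∃ p : ℕ, p ≤ n ∧ χ t = 2 * (p : ℂ) - n := by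
  classical
  obtain ⟨m, ρ, rfl⟩ := hχ
  obtain ⟨μ, hμ, hk, -⟩ := Cfsg.Agent.Lib.Helper2.exists_eigenvalues ρ t
  have hm : Module.finrank ℂ (Fin m → ℂ) = n := by
    have h2 := Representation.char_one ρ
    rw [h2] at h1
    exact_mod_cast h1
  have hmC : ((Module.finrank ℂ (Fin m → ℂ) : ℕ) : ℂ) = (n : ℂ) := by exact_mod_cast hm
  have hval : ρ.character t = ∑ i, μ i := by
    have h2 := hk 1
    simpa using h2
  have hμ' : ∀ i, μ i = 1 ∨ μ i = -1 := by
    intro i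
    have h2 := hμ i
    rw [ht, pow_two] at h2
    exact mul_self_eq_one_iff.mp h2
  have hrw : ∀ i, μ i = 2 * (if μ i = 1 then (1 : ℂ) else 0) - 1 := by
    intro i
    rcases hμ' i with h | h
    · rw [if_pos h, h]; norm_num
    · have hne : μ i ≠ 1 := by rw [h]; norm_num
      rw [if_neg hne, h]; norm_num
  refine ⟨(Finset.univ.filter (fun i => μ i = 1)).card, ?_, ?_⟩
  · calc (Finset.univ.filter (fun i => μ i = 1)).card
        ≤ (Finset.univ : Finset (Fin (Module.finrank ℂ (Fin m → ℂ)))).card := Finset.card_filter_le _ _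
      _ = n := by rw [Finset.card_univ, Fintype.card_fin]; exact hm
  · rw [hval, Finset.sum_congr rfl (fun i _ => hrw i), Finset.sum_sub_distrib, ← Finset.mul_sum,
      Finset.sum_boole, Finset.sum_const, Finset.card_univ, Fintype.card_fin, nsmul_eq_mul, mul_one, hmC]

end Gen

section M11

variable {G : Type*} [Group G] [Fintype G] [Fintype (IrrCharacter G)]

/-- the part of the character table of a simple group of order 7920 that is used -/
def Data (G : Type*) [Group G] [Fintype (IrrCharacter G)] : Prop :=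
  ∃ χ₁ χ₂ χ₃ χ₄ χ₅ χ₆ χ₇ χ₈ χ₉ χ₁₀ : IrrCharacter G,
    (∀ F : IrrCharacter G → ℂ, ∑ χ, F χ =
      F χ₁ + F χ₂ + F χ₃ + F χ₄ + F χ₅ + F χ₆ + F χ₇ + F χ₈ + F χ₉ + F χ₁₀) ∧
    (∀ g : G, (χ₁ : G → ℂ) g = 1) ∧
    ((χ₅ : G → ℂ) 1 = 11 ∧ (χ₆ : G → ℂ) 1 = 16 ∧ (χ₇ : G → ℂ) 1 = 16 ∧ (χ₈ : G → ℂ) 1 = 44) ∧
    ∀ y : G, orderOf y = 5 → ((χ₂ : G → ℂ) y = 0 ∧ (χ₃ : G → ℂ) y = 0 ∧ (χ₄ : G → ℂ) y = 0 ∧
      (χ₅ : G → ℂ) y = 1 ∧ (χ₆ : G → ℂ) y = 1 ∧ (χ₇ : G → ℂ) y = 1 ∧ (χ₈ : G → ℂ) y = -1 ∧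
      (χ₉ : G → ℂ) y = 0 ∧ (χ₁₀ : G → ℂ) y = 0)

omit [Fintype G] in
/-- `Data` from the list form of the character table -/
theorem data_of_list
    (h : ∃ χ₁ χ₂ χ₃ χ₄ χ₅ χ₆ χ₇ χ₈ χ₉ χ₁₀ : Cfsg.IrrCharacter G,
      (Finset.univ : Finset (Cfsg.IrrCharacter G)).val =
        χ₁ ::ₘ χ₂ ::ₘ χ₃ ::ₘ χ₄ ::ₘ χ₅ ::ₘ χ₆ ::ₘ χ₇ ::ₘ χ₈ ::ₘ χ₉ ::ₘ {χ₁₀} ∧
      χ₁ = Cfsg.Agent.Lib.Helper2.trivialIrr G ∧
      ((χ₁ : G → ℂ) 1 = 1 ∧ (χ₂ : G → ℂ) 1 = 10 ∧ (χ₃ : G → ℂ) 1 = 10 ∧ (χ₄ : G → ℂ) 1 = 10 ∧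
        (χ₅ : G → ℂ) 1 = 11 ∧ (χ₆ : G → ℂ) 1 = 16 ∧ (χ₇ : G → ℂ) 1 = 16 ∧ (χ₈ : G → ℂ) 1 = 44 ∧
        (χ₉ : G → ℂ) 1 = 45 ∧ (χ₁₀ : G → ℂ) 1 = 55) ∧
      ∀ y : G, orderOf y = 5 → ((χ₁ : G → ℂ) y = 1 ∧ (χ₂ : G → ℂ) y = 0 ∧ (χ₃ : G → ℂ) y = 0 ∧
        (χ₄ : G → ℂ) y = 0 ∧ (χ₅ : G → ℂ) y = 1 ∧ (χ₆ : G → ℂ) y = 1 ∧ (χ₇ : G → ℂ) y = 1 ∧
        (χ₈ : G → ℂ) y = -1 ∧ (χ₉ : G → ℂ) y = 0 ∧ (χ₁₀ : G → ℂ) y = 0)) : Data G := by
  obtain ⟨χ₁, χ₂, χ₃, χ₄, χ₅, χ₆, χ₇, χ₈, χ₉, χ₁₀, hval, htriv, hdeg, hy⟩ := h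
  refine ⟨χ₁, χ₂, χ₃, χ₄, χ₅, χ₆, χ₇, χ₈, χ₉, χ₁₀, ?_, ?_, ?_, ?_⟩
  · intro F
    rw [Finset.sum_eq_multiset_sum, hval]
    simp only [Multiset.map_cons, Multiset.sum_cons, Multiset.map_singleton, Multiset.sum_singleton]
    ring
  · intro g
    rw [htriv]
    rfl
  · exact ⟨hdeg.2.2.2.2.1, hdeg.2.2.2.2.2.1, hdeg.2.2.2.2.2.2.1, hdeg.2.2.2.2.2.2.2.1⟩
  · intro y hy5
    obtain ⟨-, v2, v3, v4, v5, v6, v7, v8, v9, v10⟩ := hy y hy5
    exact ⟨v2, v3, v4, v5, v6, v7, v8, v9, v10⟩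

theorem S_eval (hord : Nat.card G = 7920) (hdata : Data G) {t y : G} (ht : orderOf t = 2)
    (hy : orderOf y = 5) :
    ∃ p : ℕ, p ≤ 11 ∧
      ∑ χ : IrrCharacter G, (χ : G → ℂ) t * (χ : G → ℂ) t * (χ : G → ℂ) y / (χ : G → ℂ) 1
        = (12 * (p : ℂ) ^ 2 - 136 * (p : ℂ) + 428) / 44 := by
  classical
  obtain ⟨χ₁, χ₂, χ₃, χ₄, χ₅, χ₆, χ₇, χ₈, χ₉, χ₁₀, hsum, h1, ⟨d5, d6, d7, d8⟩, hval⟩ := hdata
  obtain ⟨v2, v3, v4, v5, v6, v7, v8, v9, v10⟩ := hval y hy
  haveI : Fact (Nat.Prime 2) := ⟨Nat.prime_two⟩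
  obtain ⟨M, hM⟩ := Cfsg.Agent.Lib.Helper25.exists_isPModular 2 Nat.prime_two
  have hzero : ∀ χ : IrrCharacter G, (χ : G → ℂ) 1 = 16 → (χ : G → ℂ) t = 0 := by
    intro χ h16
    have hdeg : charDegree (χ : G → ℂ) = 16 := by
      have h2 := Cfsg.Agent.Lib.Helper25.char_one_eq_charDegree
        (Cfsg.Agent.Lib.Helper25.isCharacter_of_irr χ.2)
      rw [h16] at h2
      exact_mod_cast h2.symm
    apply Cfsg.Agent.Lib.Helper7.irr_eq_zero_of_singular_of_not_dvd hM χ ?_ t (dvd_of_eq ht.symm)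
    rw [hdeg, hord]
    norm_num
  have e6 := hzero χ₆ d6
  have e7 := hzero χ₇ d7
  obtain ⟨p, hp, hc⟩ := invol_val (Cfsg.Agent.Lib.Helper25.isCharacter_of_irr χ₅.2) (n := 11)
    (by rw [d5]; norm_num) ht
  push_cast at hc
  have hnc : ¬ IsConj t y := by
    intro h
    have h2 := orderOf_eq_of_isConj h
    rw [ht, hy] at h2
    norm_num at h2
  have hcol := Cfsg.Agent.Lib.Helper2.column_orthogonality t y
  rw [if_neg hnc] at hcol
  have hF := hsum (fun χ => (χ : G → ℂ) t * conj ((χ : G → ℂ) y))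
  beta_reduce at hF
  rw [hF, h1 t, h1 y, v2, v3, v4, v5, v6, v7, v8, v9, v10, e6, e7] at hcol
  simp only [map_one, map_zero, map_neg] at hcol
  have hd : (χ₈ : G → ℂ) t = 1 + (χ₅ : G → ℂ) t := by linear_combination (-1 : ℂ) * hcol
  refine ⟨p, hp, ?_⟩
  have hS := hsum (fun χ => (χ : G → ℂ) t * (χ : G → ℂ) t * (χ : G → ℂ) y / (χ : G → ℂ) 1)
  beta_reduce at hS
  rw [hS, h1 t, h1 y, h1 1, v2, v3, v4, v5, v6, v7, v8, v9, v10, e6, e7, d5, d8, hd, hc]
  simp only [mul_zero, zero_div, zero_mul, add_zero]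
  ring

omit [Fintype (IrrCharacter G)] in
theorem card_filter_isConj_ne_zero (t : G) {inst : DecidablePred fun s : G => IsConj t s} :
    (((@Finset.filter G (fun s : G => IsConj t s) inst Finset.univ).card : ℂ)) ^ 2 ≠ 0 := by
  apply pow_ne_zero
  rw [Nat.cast_ne_zero]
  apply Finset.card_ne_zero_of_mem (a := t)
  exact Finset.mem_filter.mpr ⟨Finset.mem_univ t, IsConj.refl t⟩

theorem exists_inverting (hord : Nat.card G = 7920) (hdata : Data G) {t y : G} (ht : orderOf t = 2)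
    (hy : orderOf y = 5) : ∃ s : G, IsConj t s ∧ s * y * s⁻¹ = y⁻¹ := by
  have hyi : orderOf y⁻¹ = 5 := by rw [orderOf_inv, hy]
  obtain ⟨p, hp, hS⟩ := S_eval hord hdata ht hyi
  have hcount := Cfsg.Agent.Lib.Helper21.BSWCount.card_pairs_mul_card t y
  rw [hS] at hcount
  have hSne : (12 * (p : ℂ) ^ 2 - 136 * (p : ℂ) + 428) / 44 ≠ 0 := by
    interval_cases p <;> norm_num
  have hne : Nat.card {s : G × G // IsConj t s.1 ∧ IsConj t s.2 ∧ s.1 * s.2 = y} ≠ 0 := by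
    intro h0
    rw [h0, Nat.cast_zero, zero_mul] at hcount
    rcases mul_eq_zero.mp hcount.symm with hk | hk
    · exact card_filter_isConj_ne_zero t hk
    · exact hSne hk
  obtain ⟨⟨⟨⟨s, s'⟩, hs, hs', hprod⟩⟩, -⟩ := Nat.card_ne_zero.mp hne
  simp only at hs hs' hprod
  have ht2 := mul_self_of_orderOf_two ht
  have hs2 : s * s = 1 := mul_self_of_isConj hs ht2
  have hs'2 : s' * s' = 1 := mul_self_of_isConj hs' ht2
  have hsi : s⁻¹ = s := inv_eq_of_mul_eq_one_left hs2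
  have hs'i : s'⁻¹ = s' := inv_eq_of_mul_eq_one_left hs'2
  refine ⟨s, hs, ?_⟩
  rw [← hprod, mul_inv_rev, hsi, hs'i]
  calc s * (s * s') * s = (s * s) * s' * s := by group
    _ = s' * s := by rw [hs2, one_mul]

theorem exists_five [IsSimpleGroup G] (hord : Nat.card G = 7920) : ∃ y : G, orderOf y = 5 := by
  haveI : Fact (Nat.Prime 5) := ⟨by norm_num⟩
  exact exists_prime_orderOf_dvd_card' 5 (by rw [hord]; norm_num)

theorem centralizer_five [IsSimpleGroup G] (hord : Nat.card G = 7920) {y : G} (hy : orderOf y = 5) :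
    Subgroup.centralizer ({y} : Set G) = Subgroup.zpowers y := by
  haveI : Fact (Nat.Prime 5) := ⟨by norm_num⟩
  have hcard : Nat.card (Subgroup.zpowers y) = 5 := by rw [Nat.card_zpowers, hy]
  have hp : IsPGroup 5 (Subgroup.zpowers y) := IsPGroup.of_card (n := 1) (by rw [hcard, pow_one])
  obtain ⟨Q, hQ⟩ := hp.exists_le_sylow
  have hQc : Nat.card (Q : Subgroup G) = 5 := by
    have h2 := Cfsg.H5.SmallOrd.sylow_card 5 1 1584 (by norm_num) (by rw [hord]; norm_num) Q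
    rwa [pow_one] at h2
  have hQe : Subgroup.zpowers y = (Q : Subgroup G) :=
    Subgroup.eq_of_le_of_card_ge hQ (by rw [hQc, hcard])
  have h1 := Cfsg.Agent.Lib.Helper22.M11Five.centralizer_sylow_five hord Q
  rw [← hQe] at h1
  rw [centralizer_singleton_eq_zpowers y, h1]

theorem sq_arith {N p : ℕ} (hp : p ≤ 11) (h : N * N + 4896 * p = 432 * p * p + 15408) : N = 48 := by
  interval_cases p
  all_goals
    have hN : N ≤ 124 := by
      by_contra hh
      push Not at hh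
      have h2 : 125 * 125 ≤ N * N := Nat.mul_le_mul hh hh
      omega
    interval_cases N <;> omega

/-- every involution of a simple group of order 7920 (with the character data) has centralizer of
order 48 -/
theorem card_centralizer_involution_aux [IsSimpleGroup G] (hord : Nat.card G = 7920) (hdata : Data G)
    {t : G} (ht : orderOf t = 2) : Nat.card (Subgroup.centralizer ({t} : Set G)) = 48 := by
  obtain ⟨y, hy⟩ := exists_five hord
  obtain ⟨s, hts, hsy⟩ := exists_inverting hord hdata ht hy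
  have hs : orderOf s = 2 := by rw [orderOf_eq_of_isConj hts, ht]
  have hs2 : s * s = 1 := mul_self_of_orderOf_two hs
  have hC := centralizer_five hord hy
  have hodd : Odd (orderOf y) := by rw [hy]; exact ⟨2, by norm_num⟩
  have hb := Cfsg.Agent.Lib.Helper21.BSWCount.bsw_identity s y hodd hC hs2 hsy
  have hyi : orderOf y⁻¹ = 5 := by rw [orderOf_inv, hy]
  obtain ⟨p, hp, hS⟩ := S_eval hord hdata hs hyi
  rw [hS, hy, hord] at hb
  rw [← Cfsg.Agent.Lib.Helper7.card_centralizer_eq_of_isConj hts]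
  have hnat : Nat.card (Subgroup.centralizer ({s} : Set G)) * Nat.card (Subgroup.centralizer ({s} : Set G))
      + 4896 * p = 432 * p * p + 15408 := by
    have h2 : ((Nat.card (Subgroup.centralizer ({s} : Set G)) *
        Nat.card (Subgroup.centralizer ({s} : Set G)) + 4896 * p : ℕ) : ℂ)
        = ((432 * p * p + 15408 : ℕ) : ℂ) := by
      push_cast at hb ⊢
      linear_combination (1 / 5 : ℂ) * hb
    exact_mod_cast h2
  exact sq_arith hp hnat

end M11

/-- **Involution centralizers of a simple group of order 7920** (from the character data). -/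
theorem card_centralizer_involution {G : Type*} [Group G] [Finite G] [IsSimpleGroup G]
    [Fintype (IrrCharacter G)] (hord : Nat.card G = 7920) (hdata : Data G) (t : G)
    (ht : orderOf t = 2) : Nat.card (Subgroup.centralizer ({t} : Set G)) = 48 := by
  letI : Fintype G := Fintype.ofFinite G
  exact card_centralizer_involution_aux hord hdata ht

end Cfsg.Agent.Lib.Helper17.M11Invol
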