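import Mathlib
import Cfsg.Agent.Lib.Helper11.S3282Defs

/-!
# S3282, piece G3 (`G3_torus`), relative to the facts G1/G2 taken as hypotheses

`torus_of_facts`: with the G1/G2 facts of the skeleton as explicit hypotheses (bundled in `Facts`),
`N(C(x)) = C(x) ⊔ ⟨u⟩` for `x ∈ RO K` inverted by the involution `u`.
-/

set_option autoImplicit false

namespace Cfsg.Agent.Lib.Helper17.S3282G3

open Cfsg Cfsg.Agent.Lib.Helper11 Cfsg.Agent.Lib.Helper11.S3282

universe u

/-- a free action of a finite group on a finite set: the order of the group divides the size of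
the set -/
theorem card_dvd_of_free {R X : Type*} [Group R] [MulAction R X] [Finite R] [Finite X]
    (hfree : ∀ (r : R) (x : X), r • x = x → r = 1) : Nat.card R ∣ Nat.card X := by
  classical
  rw [Nat.card_congr (MulAction.selfEquivSigmaOrbits' R X)]
  letI : Fintype (MulAction.orbitRel.Quotient R X) := Fintype.ofFinite _
  rw [Nat.card_sigma]
  apply Finset.dvd_sum
  intro ω _
  induction ω using Quotient.inductionOn' with
  | h x =>
    rw [MulAction.orbitRel.Quotient.orbit_mk]
    have e : R ≃ MulAction.orbit R x :=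
      Equiv.ofBijective (fun r : R => (⟨r • x, MulAction.mem_orbit x r⟩ : MulAction.orbit R x))
        ⟨fun r r' hrr' => by
          have h1 : r • x = r' • x := congrArg Subtype.val hrr'
          have h2 : (r'⁻¹ * r) • x = x := by rw [mul_smul, h1, inv_smul_smul]
          have h3 := hfree _ _ h2
          exact (inv_mul_eq_one.mp h3).symm,
        fun ⟨y, r, hr⟩ => ⟨r, Subtype.ext hr⟩⟩
    rw [← Nat.card_congr e]

variable {G : Type u} [Group G]

/-- in a subgroup of odd order every element is a square -/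
theorem exists_sq_of_odd {F : Subgroup G} (hodd : Odd (Nat.card F)) {f : G} (hf : f ∈ F) :
    ∃ e ∈ F, e * e = f := by
  obtain ⟨m, hm⟩ := hodd
  refine ⟨f ^ (m + 1), F.pow_mem hf _, ?_⟩
  have h3 : (⟨f, hf⟩ : F) ^ Nat.card F = 1 := pow_card_eq_one'
  have h1 : f ^ Nat.card F = 1 := by
    have h4 : ((⟨f, hf⟩ : F) : G) ^ Nat.card F = 1 := by
      rw [← Subgroup.coe_pow, h3, Subgroup.coe_one]
    exact h4
  rw [← pow_add]
  have h5 : m + 1 + (m + 1) = Nat.card F + 1 := by omega
  rw [h5, pow_succ, h1, one_mul]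

/-- in a subgroup of odd order an element with `f * f = 1` is trivial -/
theorem eq_one_of_sq_of_odd {F : Subgroup G} (hodd : Odd (Nat.card F)) {f : G} (hf : f ∈ F)
    (hff : f * f = 1) : f = 1 := by
  obtain ⟨m, hm⟩ := hodd
  have h3 : (⟨f, hf⟩ : F) ^ Nat.card F = 1 := pow_card_eq_one'
  have h1 : f ^ Nat.card F = 1 := by
    have h4 : ((⟨f, hf⟩ : F) : G) ^ Nat.card F = 1 := by
      rw [← Subgroup.coe_pow, h3, Subgroup.coe_one]
    exact h4
  have h2 : f ^ (2 * m) = 1 := by
    rw [pow_mul, pow_two, hff, one_pow]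
  rw [hm, pow_succ, h2, one_mul] at h1
  exact h1

/-- the conjugation action of a subgroup of the normalizer on the non-identity elements -/
@[reducible] def conjAct (F R : Subgroup G) (hRN : R ≤ Subgroup.normalizer ((F : Subgroup G) : Set G)) :
    MulAction R ↥(((F : Subgroup G) : Set G) \ {1}) where
  smul r y := ⟨(r : G) * y.1 * (r : G)⁻¹, by
    obtain ⟨hyF, hy1⟩ := y.2
    refine ⟨(Subgroup.mem_normalizer_iff.mp (hRN r.2) y.1).mp hyF, ?_⟩
    intro h
    apply hy1
    rw [Set.mem_singleton_iff] at h ⊢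
    have h5 : y.1 = (r : G)⁻¹ * ((r : G) * y.1 * (r : G)⁻¹) * (r : G) := by group
    rw [h5, h]
    group⟩
  one_smul y := by
    apply Subtype.ext
    change ((1 : R) : G) * y.1 * ((1 : R) : G)⁻¹ = y.1
    simp
  mul_smul r r' y := by
    apply Subtype.ext
    change ((r * r' : R) : G) * y.1 * ((r * r' : R) : G)⁻¹ =
      (r : G) * ((r' : G) * y.1 * (r' : G)⁻¹) * (r : G)⁻¹
    simp [mul_assoc]

section core
variable [Finite G] {t s : G} {K : Subgroup G}

/-- the G1/G2 facts of the skeleton, for one triple `(t, s, K)` -/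
structure Facts (t s : G) (K : Subgroup G) : Prop where
  invol_of_not_mem : ∀ {x : G}, x ∈ Subgroup.centralizer ({t} : Set G) → x ∉ K → orderOf x = 2
  commute : ∀ {x y : G}, y ∈ conjSet K → x * y = y * x → x ≠ 1 → x ∈ conjSet K
  invol_mem : ∀ {z : G}, orderOf z = 2 → z ∈ conjSet K
  odd : ∀ {x : G}, x ∈ RO K → Odd (Nat.card (Subgroup.centralizer ({x} : Set G)))
  inverts : ∀ {x u : G}, x ∈ RO K → orderOf u = 2 → u * x * u⁻¹ = x⁻¹ →
    ∀ y ∈ Subgroup.centralizer ({x} : Set G), u * y * u⁻¹ = y⁻¹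
  comm : ∀ {x : G}, x ∈ RO K → ∀ y ∈ Subgroup.centralizer ({x} : Set G),
    ∀ z ∈ Subgroup.centralizer ({x} : Set G), y * z = z * y
  cent : ∀ {x y : G}, x ∈ RO K → y ∈ Subgroup.centralizer ({x} : Set G) → y ≠ 1 →
    y ∈ RO K ∧ Subgroup.centralizer ({y} : Set G) = Subgroup.centralizer ({x} : Set G)

theorem inv_eq_self_of_order_two {v : G} (hv : orderOf v = 2) : v⁻¹ = v := by
  have h1 : v ^ 2 = 1 := by rw [← hv]; exact pow_orderOf_eq_one v
  rw [pow_two] at h1
  exact inv_eq_of_mul_eq_one_left h1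

/-- two elements inverting `x` differ by an element of `C(x)` -/
theorem mul_inv_mem_centralizer {x v w : G} (hv : v * x * v⁻¹ = x⁻¹) (hw : w * x * w⁻¹ = x⁻¹) :
    v * w⁻¹ ∈ Subgroup.centralizer ({x} : Set G) := by
  rw [Subgroup.mem_centralizer_singleton_iff]
  have hxw : x = w * x⁻¹ * w⁻¹ := by
    calc x = (x⁻¹)⁻¹ := (inv_inv x).symm
      _ = (w * x * w⁻¹)⁻¹ := by rw [hw]
      _ = w * x⁻¹ * w⁻¹ := by group
  have h1 : w⁻¹ * x = x⁻¹ * w⁻¹ := by
    calc w⁻¹ * x = w⁻¹ * (w * x⁻¹ * w⁻¹) := by rw [← hxw]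
      _ = x⁻¹ * w⁻¹ := by group
  have h2 : v * x⁻¹ = x * v := by
    have : v * x⁻¹ = (v * x * v⁻¹)⁻¹ * v := by group
    rw [this, hv]; group
  calc v * w⁻¹ * x = v * (w⁻¹ * x) := by group
    _ = v * (x⁻¹ * w⁻¹) := by rw [h1]
    _ = (v * x⁻¹) * w⁻¹ := by group
    _ = x * v * w⁻¹ := by rw [h2]
    _ = x * (v * w⁻¹) := by group

/-- the case `u = t` -/
theorem torus_aux (hF : Facts t s K) (ht : orderOf t = 2) (htK : t ∈ K)
    (hRO : ∀ x ∈ RO K, Nat.card (Subgroup.centralizer ({x} : Set G)) = Nat.card K - 1)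
    {x : G} (hx : x ∈ RO K) (htx : t * x * t⁻¹ = x⁻¹) :
    Subgroup.normalizer ((Subgroup.centralizer ({x} : Set G) : Subgroup G) : Set G)
      = Subgroup.centralizer ({x} : Set G) ⊔ Subgroup.zpowers t := by
  set F : Subgroup G := Subgroup.centralizer ({x} : Set G) with hFdef
  have hxF : x ∈ F := by rw [hFdef, Subgroup.mem_centralizer_singleton_iff]
  have hx1 : x ≠ 1 := hx.1
  have hoddF : Odd (Nat.card F) := hF.odd hx
  have htinv : ∀ y ∈ F, t * y * t⁻¹ = y⁻¹ := hF.inverts hx ht htx
  have htt : t⁻¹ = t := inv_eq_self_of_order_two ht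
  have htN : t ∈ Subgroup.normalizer (F : Set G) := by
    rw [Subgroup.mem_normalizer_iff]
    intro y
    constructor
    · intro hy
      rw [htinv y hy]; exact F.inv_mem hy
    · intro hy
      have h1 := htinv _ hy
      have h2 : t * (t * y * t⁻¹) * t⁻¹ = y := by
        have : t * (t * y * t⁻¹) * t⁻¹ = t * t * y * (t⁻¹ * t⁻¹) := by group
        rw [this]
        have h3 : t * t = 1 := by
          have := mul_inv_cancel t
          rwa [htt] at this
        rw [htt, h3]; group
      rw [h2] at h1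
      have := F.inv_mem hy
      rw [← h1] at this
      simpa using F.inv_mem this
  -- the subgroup R
  set R : Subgroup G := Subgroup.normalizer (F : Set G) ⊓ Subgroup.centralizer ({t} : Set G) with hRdef
  have htC : t ∈ Subgroup.centralizer ({t} : Set G) := by
    rw [Subgroup.mem_centralizer_singleton_iff]
  have htR : t ∈ R := ⟨htN, htC⟩
  -- R ≤ K
  have hRK : R ≤ K := by
    intro r hr
    by_contra hrK
    have hr2 : orderOf r = 2 := hF.invol_of_not_mem hr.2 hrK
    have hrr : r⁻¹ = r := inv_eq_self_of_order_two hr2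
    -- r inverts F
    have hrinv : ∀ y ∈ F, r * y * r⁻¹ = y⁻¹ := by
      intro y hy
      have hy' : r * y * r⁻¹ ∈ F := (Subgroup.mem_normalizer_iff.mp hr.1 y).mp hy
      set z := y * (r * y * r⁻¹) with hz
      have hzF : z ∈ F := F.mul_mem hy hy'
      have hrz : r * z * r⁻¹ = z := by
        have h1 : r * z * r⁻¹ = (r * y * r⁻¹) * (r * (r * y * r⁻¹) * r⁻¹) := by rw [hz]; group
        have h2 : r * (r * y * r⁻¹) * r⁻¹ = y := by
          have : r * (r * y * r⁻¹) * r⁻¹ = r * r * y * (r⁻¹ * r⁻¹) := by group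
          rw [this]
          have h3 : r * r = 1 := by
            have := mul_inv_cancel r
            rwa [hrr] at this
          rw [hrr, h3]; group
        rw [h1, h2, hz]
        exact hF.comm hx _ hy' _ hy
      by_cases hz1 : z = 1
      · rw [hz] at hz1
        exact (eq_inv_of_mul_eq_one_right hz1)
      · exfalso
        have hzRO := (hF.cent hx hzF hz1).1
        have hrconj : r ∈ conjSet K := hF.invol_mem hr2
        have hcomm : z * r = r * z := by
          have : r * z = (r * z * r⁻¹) * r := by group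
          rw [this, hrz]
        exact hzRO.2.1 (hF.commute hrconj hcomm hz1)
    have hfF : r * t⁻¹ ∈ F := mul_inv_mem_centralizer (hrinv x hxF) htx
    have hrt : r * t = t * r := by
      have := Subgroup.mem_centralizer_singleton_iff.mp hr.2
      exact this
    have hfix : t * (r * t⁻¹) * t⁻¹ = r * t⁻¹ := by
      have : t * (r * t⁻¹) * t⁻¹ = (t * r) * t⁻¹ * t⁻¹ := by group
      rw [this, ← hrt]; group
    have hinvf := htinv _ hfF
    rw [hfix] at hinvf
    have hff : (r * t⁻¹) * (r * t⁻¹) = 1 := by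
      nth_rewrite 2 [hinvf]
      exact mul_inv_cancel _
    have hf1 := eq_one_of_sq_of_odd hoddF hfF hff
    have : r = t := by
      have := mul_inv_eq_one.mp hf1
      exact this
    rw [this] at hrK
    exact hrK htK
  -- the free action of R on F ∖ {1}
  have hRN : R ≤ Subgroup.normalizer (F : Set G) := inf_le_left
  have hdvd1 : Nat.card R ∣ Nat.card K := Subgroup.card_dvd_of_le hRK
  have hdvd2 : Nat.card R ∣ Nat.card F - 1 := by
    letI := conjAct F R hRN
    have hfree : ∀ (r : R) (y : ↥((F : Set G) \ {1})), r • y = y → r = 1 := by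
      intro r y hry
      by_contra hr1
      have hrG : (r : G) ≠ 1 := fun h => hr1 (Subtype.ext h)
      have hrconj : (r : G) ∈ conjSet K := mem_conjSet_of_mem K (hRK r.2) hrG
      have hyF : y.1 ∈ F := y.2.1
      have hy1 : y.1 ≠ 1 := fun h => y.2.2 (by rw [Set.mem_singleton_iff]; exact h)
      have hyRO := (hF.cent hx hyF hy1).1
      have hconj : (r : G) * y.1 * (r : G)⁻¹ = y.1 := congrArg Subtype.val hry
      have hcomm : y.1 * (r : G) = (r : G) * y.1 := by
        have : (r : G) * y.1 = ((r : G) * y.1 * (r : G)⁻¹) * (r : G) := by group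
        rw [this, hconj]
      exact hyRO.2.1 (hF.commute hrconj hcomm hy1)
    have h1 := card_dvd_of_free hfree
    have h2 : Nat.card ↥((F : Set G) \ {1}) = Nat.card F - 1 := by
      rw [_root_.Nat.card_coe_set_eq, Set.ncard_sdiff_singleton_of_mem (show (1 : G) ∈ (F : Set G) from F.one_mem)]
      rw [← _root_.Nat.card_coe_set_eq]
      rfl
    rwa [h2] at h1
  have hFcard : Nat.card F = Nat.card K - 1 := hRO x hx
  have hFpos : 0 < Nat.card F := Nat.card_pos
  have hdvd3 : Nat.card R ∣ 2 := by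
    have h1 : Nat.card R ∣ Nat.card K - (Nat.card F - 1) := Nat.dvd_sub hdvd1 hdvd2
    have h2 : Nat.card K - (Nat.card F - 1) = 2 := by omega
    rwa [h2] at h1
  have hR2 : Nat.card R ≤ 2 := Nat.le_of_dvd (by norm_num) hdvd3
  have hzt : Nat.card (Subgroup.zpowers t) = 2 := by rw [Nat.card_zpowers, ht]
  have hReq : Subgroup.zpowers t = R :=
    Subgroup.eq_of_le_of_card_ge ((Subgroup.zpowers_le).mpr htR) (by rw [hzt]; exact hR2)
  -- main
  apply le_antisymm
  · intro n hn
    have hnx : n * x * n⁻¹ ∈ F := (Subgroup.mem_normalizer_iff.mp hn x).mp hxF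
    have hx'1 : n * x * n⁻¹ ≠ 1 := by
      intro h
      apply hx1
      have h5 : x = n⁻¹ * (n * x * n⁻¹) * n := by group
      rw [h5, h]; group
    obtain ⟨hx'RO, hCx'⟩ := hF.cent hx hnx hx'1
    have hu'2 : orderOf (n * t * n⁻¹) = 2 := by
      have := (MulAut.conj n).orderOf_eq t
      rw [MulAut.conj_apply] at this
      rw [this, ht]
    have hu'x' : (n * t * n⁻¹) * (n * x * n⁻¹) * (n * t * n⁻¹)⁻¹ = (n * x * n⁻¹)⁻¹ := by
      have : (n * t * n⁻¹) * (n * x * n⁻¹) * (n * t * n⁻¹)⁻¹ = n * (t * x * t⁻¹) * n⁻¹ := by group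
      rw [this, htx]; group
    have hu'inv := hF.inverts hx'RO hu'2 hu'x'
    rw [hCx'] at hu'inv
    have hfF : (n * t * n⁻¹) * t⁻¹ ∈ F := mul_inv_mem_centralizer (hu'inv x hxF) htx
    obtain ⟨e, heF, hee⟩ := exists_sq_of_odd hoddF hfF
    -- e t e⁻¹ = n t n⁻¹
    have hte : t * e * t⁻¹ = e⁻¹ := htinv e heF
    have h1 : e * t * e⁻¹ = n * t * n⁻¹ := by
      have h2 : t * e⁻¹ = e * t := by
        have : t * e⁻¹ = (t * e * t⁻¹)⁻¹ * t := by group
        rw [this, hte]; group
      have h3 : n * t * n⁻¹ = e * e * t := by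
        rw [hee]; group
      rw [h3]
      calc e * t * e⁻¹ = e * (t * e⁻¹) := by group
        _ = e * (e * t) := by rw [h2]
        _ = e * e * t := by group
    have hrC : e⁻¹ * n ∈ Subgroup.centralizer ({t} : Set G) := by
      rw [Subgroup.mem_centralizer_singleton_iff]
      have h4 : n * t = e * t * e⁻¹ * n := by rw [h1]; group
      calc e⁻¹ * n * t = e⁻¹ * (n * t) := by group
        _ = e⁻¹ * (e * t * e⁻¹ * n) := by rw [h4]
        _ = t * (e⁻¹ * n) := by group
    have hrN : e⁻¹ * n ∈ Subgroup.normalizer (F : Set G) :=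
      (Subgroup.normalizer (F : Set G)).mul_mem
        ((Subgroup.normalizer (F : Set G)).inv_mem (Subgroup.le_normalizer heF)) hn
    have hrR : e⁻¹ * n ∈ R := ⟨hrN, hrC⟩
    rw [← hReq] at hrR
    have : n = e * (e⁻¹ * n) := by group
    rw [this]
    exact Subgroup.mul_mem_sup heF hrR
  · exact sup_le Subgroup.le_normalizer ((Subgroup.zpowers_le).mpr htN)

end core

/-- `conjSet` does not change when the subgroup is conjugated -/
theorem conjSet_map_conj (K : Subgroup G) (g : G) :
    conjSet (K.map (MulAut.conj g).toMonoidHom) = conjSet K := by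
  ext y
  constructor
  · rintro ⟨hy1, x, hx⟩
    refine ⟨hy1, g⁻¹ * x, ?_⟩
    obtain ⟨k, hk, hkx⟩ := Subgroup.mem_map.mp hx
    have h1 : g * k * g⁻¹ = x * y * x⁻¹ := by
      rw [← hkx]; rfl
    have h2 : g⁻¹ * x * y * (g⁻¹ * x)⁻¹ = k := by
      calc g⁻¹ * x * y * (g⁻¹ * x)⁻¹ = g⁻¹ * (x * y * x⁻¹) * g := by group
        _ = g⁻¹ * (g * k * g⁻¹) * g := by rw [h1]
        _ = k := by group
    rw [h2]; exact hk
  · rintro ⟨hy1, x, hx⟩
    refine ⟨hy1, g * x, ?_⟩
    refine Subgroup.mem_map.mpr ⟨x * y * x⁻¹, hx, ?_⟩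
    change g * (x * y * x⁻¹) * g⁻¹ = g * x * y * (g * x)⁻¹
    group

theorem RO_map_conj (K : Subgroup G) (g : G) :
    RO (K.map (MulAut.conj g).toMonoidHom) = RO K := by
  unfold RO
  rw [conjSet_map_conj]

/-- **G3**, relative to the G1/G2 facts (for all triples) and the conjugation invariance of `Hyp`. -/
theorem torus_of_facts [Finite G] {t s : G} {K : Subgroup G}
    (hFacts : ∀ (t' s' : G) (K' : Subgroup G), Hyp t' s' K' → Facts t' s' K')
    (hconjHyp : ∀ g : G, Hyp (g * t * g⁻¹) (g * s * g⁻¹) (K.map (MulAut.conj g).toMonoidHom))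
    (h : Hyp t s K)
    (hRO : ∀ x ∈ RO K, Nat.card (Subgroup.centralizer ({x} : Set G)) = Nat.card K - 1)
    {x u : G} (hx : x ∈ RO K) (hu : orderOf u = 2) (hux : u * x * u⁻¹ = x⁻¹) :
    Subgroup.normalizer ((Subgroup.centralizer ({x} : Set G) : Subgroup G) : Set G)
      = Subgroup.centralizer ({x} : Set G) ⊔ Subgroup.zpowers u := by
  obtain ⟨g, hg⟩ := isConj_iff.mp (h.hconj t u h.ht hu)
  have h' := hconjHyp g
  have hF' := hFacts _ _ _ h'
  have hcard : Nat.card (K.map (MulAut.conj g).toMonoidHom) = Nat.card K :=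
    (Nat.card_congr (K.equivMapOfInjective _ (MulAut.conj g).injective).toEquiv).symm
  have hRO' : ∀ x ∈ RO (K.map (MulAut.conj g).toMonoidHom),
      Nat.card (Subgroup.centralizer ({x} : Set G)) =
        Nat.card (K.map (MulAut.conj g).toMonoidHom) - 1 := by
    intro x' hx'
    rw [RO_map_conj] at hx'
    rw [hRO x' hx', hcard]
  have hx' : x ∈ RO (K.map (MulAut.conj g).toMonoidHom) := by
    rw [RO_map_conj]; exact hx
  have hmain := torus_aux hF' h'.ht h'.htK hRO' hx' (by rw [hg]; exact hux)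
  rw [hg] at hmain
  exact hmain

end Cfsg.Agent.Lib.Helper17.S3282G3
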