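import Mathlib.GroupTheory.Sylow
import Mathlib.GroupTheory.Commutator.Basic
import Mathlib.GroupTheory.Frattini
import Mathlib.RingTheory.PrincipalIdealDomain
import Mathlib.Data.Nat.Prime.Int
import Mathlib.RingTheory.Int.Basic

set_option autoImplicit false

namespace Cfsg.Agent.Lib.Helper17

open scoped commutatorElement

section frattini

variable {P : Type*} [Group P]

/-- If `D` contains all `p`-th powers and all commutators of the finite group `P` (`p` prime),
then the Frattini subgroup of `P` lies in `D`. -/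
theorem frattini_le_of_pow_comm [Finite P] {p : ℕ} [hp : Fact p.Prime] (D : Subgroup P)
    (hpow : ∀ x : P, x ^ p ∈ D) (hcomm : ∀ x y : P, ⁅x, y⁆ ∈ D) : frattini P ≤ D := by
  intro x hxF
  by_contra hxD
  -- every subgroup containing D is normal
  have hnormal : ∀ M : Subgroup P, D ≤ M → M.Normal := by
    intro M hM
    apply Subgroup.Normal.of_commutator_le
    rw [commutator_eq_closure, Subgroup.closure_le]
    rintro _ ⟨a, b, rfl⟩
    exact hM (hcomm a b)
  -- choose M maximal among subgroups containing D and avoiding x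
  obtain ⟨M, -, hMmax⟩ := Finite.exists_le_maximal (p := fun M : Subgroup P => D ≤ M ∧ x ∉ M)
    (a := D) ⟨le_rfl, hxD⟩
  have hDM : D ≤ M := hMmax.prop.1
  have hxM : x ∉ M := hMmax.prop.2
  have : M.Normal := hnormal M hDM
  have hco : IsCoatom M := by
    refine ⟨fun h => hxM (h ▸ Subgroup.mem_top x), ?_⟩
    intro N hMN
    have hxN : x ∈ N := by
      by_contra hxN
      exact (lt_irrefl M) (lt_of_lt_of_le hMN (hMmax.le_of_ge ⟨hDM.trans hMN.le, hxN⟩ hMN.le))
    rw [eq_top_iff]
    intro y _
    by_cases hyM : y ∈ M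
    · exact hMN.le hyM
    -- x ∈ M ⊔ zpowers y
    have hx2 : x ∈ M ⊔ Subgroup.zpowers y := by
      by_contra hx2
      have hle : M ≤ M ⊔ Subgroup.zpowers y := le_sup_left
      have := hMmax.le_of_ge ⟨hDM.trans hle, hx2⟩ hle
      exact hyM (this (Subgroup.mem_sup_right (Subgroup.mem_zpowers y)))
    rw [Subgroup.mem_sup_of_normal_left] at hx2
    obtain ⟨m, hm, z, hz, rfl⟩ := hx2
    obtain ⟨k, rfl⟩ := Subgroup.mem_zpowers_iff.mp hz
    -- p does not divide k
    have hpk : ¬ (p : ℤ) ∣ k := by
      rintro ⟨j, rfl⟩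
      apply hxM
      apply M.mul_mem hm
      rw [zpow_mul, zpow_natCast]
      exact M.zpow_mem (hDM (hpow y)) j
    have hcop : IsCoprime k (p : ℤ) := by
      have : IsCoprime (p : ℤ) k := (Nat.prime_iff_prime_int.mp hp.out).coprime_iff_not_dvd.mpr hpk
      exact this.symm
    obtain ⟨a, b, hab⟩ := hcop
    have hyk : y ^ k ∈ N := by
      have : y ^ k = m⁻¹ * (m * y ^ k) := by group
      rw [this]
      exact N.mul_mem (N.inv_mem (hMN.le hm)) hxN
    have : y = (y ^ k) ^ a * (y ^ p) ^ b := by
      rw [← zpow_mul, ← zpow_natCast y p, ← zpow_mul, ← zpow_add, mul_comm k a, mul_comm (p : ℤ) b, hab, zpow_one]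
    rw [this]
    exact N.mul_mem (N.zpow_mem hyk a) (N.zpow_mem (hMN.le (hDM (hpow y))) b)
  exact hxM (frattini_le_coatom hco hxF)

end frattini

end Cfsg.Agent.Lib.Helper17
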