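import Cfsg.Agent.Lib.Helper17.McLWMC39

set_option autoImplicit false
set_option maxRecDepth 100000

namespace Cfsg.Agent.Lib.Helper12.McLW.Helper17

theorem chk_378 : chk 378 = true := by decide +kernel

theorem chk_379 : chk 379 = true := by decide +kernel

theorem chk_380 : chk 380 = true := by decide +kernel

theorem chk_381 : chk 381 = true := by decide +kernel

theorem chk_382 : chk 382 = true := by decide +kernel

theorem chk_383 : chk 383 = true := by decide +kernel

theorem chk_384 : chk 384 = true := by decide +kernel

theorem chk_385 : chk 385 = true := by decide +kernel

theorem chk_386 : chk 386 = true := by decide +kernel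

end Cfsg.Agent.Lib.Helper12.McLW.Helper17
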