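import Cfsg.Agent.Lib.Helper17.McLWMC40

set_option autoImplicit false
set_option maxRecDepth 100000

namespace Cfsg.Agent.Lib.Helper12.McLW.Helper17

theorem chk_387 : chk 387 = true := by decide +kernel

theorem chk_388 : chk 388 = true := by decide +kernel

theorem chk_389 : chk 389 = true := by decide +kernel

theorem chk_390 : chk 390 = true := by decide +kernel

theorem chk_391 : chk 391 = true := by decide +kernel

theorem chk_392 : chk 392 = true := by decide +kernel

theorem chk_393 : chk 393 = true := by decide +kernel

theorem chk_394 : chk 394 = true := by decide +kernel

theorem chk_395 : chk 395 = true := by decide +kernel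

end Cfsg.Agent.Lib.Helper12.McLW.Helper17
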