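import Cfsg.Agent.Lib.Helper17.McLWMC41

set_option autoImplicit false
set_option maxRecDepth 100000

namespace Cfsg.Agent.Lib.Helper12.McLW.Helper17

theorem chk_396 : chk 396 = true := by decide +kernel

theorem chk_397 : chk 397 = true := by decide +kernel

theorem chk_398 : chk 398 = true := by decide +kernel

theorem chk_399 : chk 399 = true := by decide +kernel

theorem chk_400 : chk 400 = true := by decide +kernel

theorem chk_401 : chk 401 = true := by decide +kernel

theorem chk_402 : chk 402 = true := by decide +kernel

theorem chk_403 : chk 403 = true := by decide +kernel

theorem chk_404 : chk 404 = true := by decide +kernel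

end Cfsg.Agent.Lib.Helper12.McLW.Helper17
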