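import Cfsg.Agent.Lib.Helper17.McLWMTab

/-! # S2047-[M] (helper17): the tables commute with the fibre shift -/

set_option autoImplicit false
set_option maxRecDepth 100000

namespace Cfsg.Agent.Lib.Helper12.McLW.Helper17

/-- the `j`-th chunk of the check -/
noncomputable def zchk (j : ℕ) : Bool := zOK 10 lk (j * 7425) 7425

theorem zchk_0 : zchk 0 = true := by decide +kernel

theorem zchk_1 : zchk 1 = true := by decide +kernel

theorem zchk_2 : zchk 2 = true := by decide +kernel

theorem zchk_3 : zchk 3 = true := by decide +kernel

theorem zchk_4 : zchk 4 = true := by decide +kernel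

theorem zchk_5 : zchk 5 = true := by decide +kernel

theorem zchk_6 : zchk 6 = true := by decide +kernel

theorem zchk_7 : zchk 7 = true := by decide +kernel

theorem zchk_8 : zchk 8 = true := by decide +kernel

end Cfsg.Agent.Lib.Helper12.McLW.Helper17
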