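import Cfsg.Agent.Lib.Helper17.McLWMP
import Cfsg.Agent.Lib.Helper17.McLWMZ
import Cfsg.Agent.Lib.Helper17.McLWMC42
import Cfsg.Agent.Lib.Helper17.McLWMC43
import Cfsg.Agent.Lib.Helper17.McLWMC44

/-!
# S2047-[M] (helper17): the permutation model of `3 · McL` on `66825` points

The five generators (data of helper12, `notes/S2047_helper12/S2047_model66825.json`) as packed tables in blocks
(`McLWMTab`); they are permutations (`McLWMP`) and commute with the shift `zs` of the fibres
`{3 c, 3 c + 1, 3 c + 2}` (`McLWMZ`); the `128` relators of `relsW` and the cube of `wordZ` fix the `22275` points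
`3 c` (`McLWMC0 … McLWMC44` in three import chains: `405` checks of `55` points each), hence all points; `wordZ` moves the point `0` to `2`.
-/

set_option autoImplicit false

namespace Cfsg.Agent.Lib.Helper12.McLW

open Cfsg.H5.TCk

namespace Helper17

theorem chk_all : ∀ j < 405, chk j = true := by
  intro j hj
  interval_cases j
  exacts [
    chk_0, chk_1, chk_2, chk_3, chk_4, chk_5, chk_6, chk_7, chk_8, chk_9, chk_10, chk_11, chk_12,
    chk_13, chk_14, chk_15, chk_16, chk_17, chk_18, chk_19, chk_20, chk_21, chk_22, chk_23, chk_24,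
    chk_25, chk_26, chk_27, chk_28, chk_29, chk_30, chk_31, chk_32, chk_33, chk_34, chk_35, chk_36,
    chk_37, chk_38, chk_39, chk_40, chk_41, chk_42, chk_43, chk_44, chk_45, chk_46, chk_47, chk_48,
    chk_49, chk_50, chk_51, chk_52, chk_53, chk_54, chk_55, chk_56, chk_57, chk_58, chk_59, chk_60,
    chk_61, chk_62, chk_63, chk_64, chk_65, chk_66, chk_67, chk_68, chk_69, chk_70, chk_71, chk_72,
    chk_73, chk_74, chk_75, chk_76, chk_77, chk_78, chk_79, chk_80, chk_81, chk_82, chk_83, chk_84,
    chk_85, chk_86, chk_87, chk_88, chk_89, chk_90, chk_91, chk_92, chk_93, chk_94, chk_95, chk_96,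
    chk_97, chk_98, chk_99, chk_100, chk_101, chk_102, chk_103, chk_104, chk_105, chk_106, chk_107,
    chk_108, chk_109, chk_110, chk_111, chk_112, chk_113, chk_114, chk_115, chk_116, chk_117,
    chk_118, chk_119, chk_120, chk_121, chk_122, chk_123, chk_124, chk_125, chk_126, chk_127,
    chk_128, chk_129, chk_130, chk_131, chk_132, chk_133, chk_134, chk_135, chk_136, chk_137,
    chk_138, chk_139, chk_140, chk_141, chk_142, chk_143, chk_144, chk_145, chk_146, chk_147,
    chk_148, chk_149, chk_150, chk_151, chk_152, chk_153, chk_154, chk_155, chk_156, chk_157,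
    chk_158, chk_159, chk_160, chk_161, chk_162, chk_163, chk_164, chk_165, chk_166, chk_167,
    chk_168, chk_169, chk_170, chk_171, chk_172, chk_173, chk_174, chk_175, chk_176, chk_177,
    chk_178, chk_179, chk_180, chk_181, chk_182, chk_183, chk_184, chk_185, chk_186, chk_187,
    chk_188, chk_189, chk_190, chk_191, chk_192, chk_193, chk_194, chk_195, chk_196, chk_197,
    chk_198, chk_199, chk_200, chk_201, chk_202, chk_203, chk_204, chk_205, chk_206, chk_207,
    chk_208, chk_209, chk_210, chk_211, chk_212, chk_213, chk_214, chk_215, chk_216, chk_217,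
    chk_218, chk_219, chk_220, chk_221, chk_222, chk_223, chk_224, chk_225, chk_226, chk_227,
    chk_228, chk_229, chk_230, chk_231, chk_232, chk_233, chk_234, chk_235, chk_236, chk_237,
    chk_238, chk_239, chk_240, chk_241, chk_242, chk_243, chk_244, chk_245, chk_246, chk_247,
    chk_248, chk_249, chk_250, chk_251, chk_252, chk_253, chk_254, chk_255, chk_256, chk_257,
    chk_258, chk_259, chk_260, chk_261, chk_262, chk_263, chk_264, chk_265, chk_266, chk_267,
    chk_268, chk_269, chk_270, chk_271, chk_272, chk_273, chk_274, chk_275, chk_276, chk_277,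
    chk_278, chk_279, chk_280, chk_281, chk_282, chk_283, chk_284, chk_285, chk_286, chk_287,
    chk_288, chk_289, chk_290, chk_291, chk_292, chk_293, chk_294, chk_295, chk_296, chk_297,
    chk_298, chk_299, chk_300, chk_301, chk_302, chk_303, chk_304, chk_305, chk_306, chk_307,
    chk_308, chk_309, chk_310, chk_311, chk_312, chk_313, chk_314, chk_315, chk_316, chk_317,
    chk_318, chk_319, chk_320, chk_321, chk_322, chk_323, chk_324, chk_325, chk_326, chk_327,
    chk_328, chk_329, chk_330, chk_331, chk_332, chk_333, chk_334, chk_335, chk_336, chk_337,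
    chk_338, chk_339, chk_340, chk_341, chk_342, chk_343, chk_344, chk_345, chk_346, chk_347,
    chk_348, chk_349, chk_350, chk_351, chk_352, chk_353, chk_354, chk_355, chk_356, chk_357,
    chk_358, chk_359, chk_360, chk_361, chk_362, chk_363, chk_364, chk_365, chk_366, chk_367,
    chk_368, chk_369, chk_370, chk_371, chk_372, chk_373, chk_374, chk_375, chk_376, chk_377,
    chk_378, chk_379, chk_380, chk_381, chk_382, chk_383, chk_384, chk_385, chk_386, chk_387,
    chk_388, chk_389, chk_390, chk_391, chk_392, chk_393, chk_394, chk_395, chk_396, chk_397,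
    chk_398, chk_399, chk_400, chk_401, chk_402, chk_403, chk_404]

theorem fix_all (c : ℕ) (hc : 3 * c < 66825) (r : List ℕ) (hr : r ∈ relsM) :
    trW lk r (3 * c) = 3 * c := by
  have h := chk_all (c / 55) (by omega)
  unfold chk at h
  exact fixRange_sound lk relsM _ 55 h c (by omega) (by omega) r hr

theorem zchk_all : ∀ j < 9, zchk j = true := by
  intro j hj
  interval_cases j
  exacts [zchk_0, zchk_1, zchk_2, zchk_3, zchk_4, zchk_5, zchk_6, zchk_7, zchk_8]

theorem z_all (k : ℕ) (hk : k < 66825) (l : ℕ) (hl : l < 2 * 5) : lk l (zs k) = zs (lk l k) := by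
  have h := zchk_all (k / 7425) (by omega)
  unfold zchk at h
  exact zOK_sound 10 lk _ 7425 h k (by omega) (by omega) l hl

theorem pair_all : ∀ i < 5, pairF 66825 (lk (2 * i)) (lk (2 * i + 1)) = true := by
  intro i hi
  interval_cases i
  exacts [pair_0, pair_1, pair_2, pair_3, pair_4]

theorem ev_eq_one (r : List ℕ) (hr : r ∈ relsM) : ev (pm 66825 lk) r = 1 :=
  ev_eq_one_of_fix 66825 lk 5 pair_all z_all (by norm_num) r
    (fun l hl => lettersLt_sound 10 relsM letters_ok r hr l hl) (fun c hc => fix_all c hc r hr)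

end Helper17

open Helper17 in
/-- [M] the permutation model of `3 · McL` on the `66825` cosets of `2 · A₈` -/
theorem exists_model : ∃ p : ℕ → Equiv.Perm (Fin 66825), (∀ r ∈ relsW, ev p r = 1) ∧
    ev p wordZ ≠ 1 ∧ ev p (wordZ ++ wordZ ++ wordZ) = 1 := by
  refine ⟨pm 66825 lk, fun r hr => ev_eq_one r (relsW_sub r hr), ?_, ev_eq_one _ wordZ3_mem⟩
  intro h
  have h1 := ev_apply 66825 lk 5 pair_all wordZ (by decide) ⟨0, by norm_num⟩
  rw [h, trW_wordZ] at h1
  exact absurd h1 (by decide)

end Cfsg.Agent.Lib.Helper12.McLW
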