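import Cfsg.Agent.Lib.Helper17.StrongPEmb
import Mathlib.GroupTheory.GroupAction.ConjAct

set_option autoImplicit false

namespace Cfsg.Agent.Lib.Helper17

open Cfsg

section SPE2

variable {G : Type*} [Group G] {p : ℕ}

/-- Every `p`-subgroup of `G` meeting `H` nontrivially lies in `H`. -/
def PMeetControl (p : ℕ) (H : Subgroup G) : Prop :=
  ∀ R : Subgroup G, IsPGroup p R → R ⊓ H ≠ ⊥ → R ≤ H

theorem PNormControl.pMeetControl [Finite G] [Fact p.Prime] {H : Subgroup G}
    (hH : PNormControl p H) : PMeetControl p H :=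
  fun _ hR hRH => hH.le_of_inf_ne_bot hR hRH

/-- Two Sylow `p`-subgroups of `G` contained in `H` are conjugate by an element of `H`. -/
theorem exists_smul_eq_of_le [Finite G] [Fact p.Prime] {H : Subgroup G} (R₁ R₂ : Sylow p G)
    (h₁ : (R₁ : Subgroup G) ≤ H) (h₂ : (R₂ : Subgroup G) ≤ H) :
    ∃ h ∈ H, h • R₁ = R₂ := by
  obtain ⟨h, hh⟩ := MulAction.exists_smul_eq H (R₁.subtype h₁) (R₂.subtype h₂)
  rw [Sylow.smul_subtype h₁ h] at hh
  refine ⟨h, h.2, ?_⟩
  apply Sylow.ext
  have h2 := congrArg (fun S : Sylow p H => (S : Subgroup H)) hh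
  simp only [Sylow.coe_subtype] at h2
  rw [Subgroup.subgroupOf_inj, inf_of_le_left (Sylow.smul_le h₁ h), inf_of_le_left h₂] at h2
  exact h2

theorem PMeetControl.exists_sylow_eq_map [Finite G] [Fact p.Prime] {H : Subgroup G}
    (hH : PMeetControl p H) (S : Sylow p H) (hS : (S : Subgroup H) ≠ ⊥) :
    ∃ P : Sylow p G, (P : Subgroup G) = (S : Subgroup H).map H.subtype := by
  have hSp : IsPGroup p ((S : Subgroup H).map H.subtype) := S.2.map _
  have hS1 : (S : Subgroup H).map H.subtype ≠ ⊥ := by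
    intro h
    exact hS ((Subgroup.map_eq_bot_iff_of_injective _ H.subtype_injective).mp h)
  have hSH : (S : Subgroup H).map H.subtype ≤ H := Subgroup.map_subtype_le _
  obtain ⟨P, hP⟩ := hSp.exists_le_sylow
  have hPH : (P : Subgroup G) ≤ H := by
    apply hH _ P.2
    intro h
    exact hS1 (le_bot_iff.mp (h ▸ le_inf hP hSH))
  refine ⟨P, ?_⟩
  have h1 : (S : Subgroup H) ≤ (P : Subgroup G).subgroupOf H := by
    intro s hs
    rw [Subgroup.mem_subgroupOf]
    exact hP ⟨s, hs, rfl⟩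
  have h2 : (P : Subgroup G).subgroupOf H = (S : Subgroup H) :=
    S.is_maximal' (P.2.comap_subtype) h1
  rw [← h2, Subgroup.subgroupOf_map_subtype, inf_of_le_left hPH]

/-- If `H` absorbs `p`-subgroups meeting it and contains the normalizer of one Sylow `p`-subgroup
of `G` lying in `H`, then `H` contains the normalizer of each of its nontrivial `p`-subgroups. -/
theorem pNormControl_of_pMeetControl [Finite G] [Fact p.Prime] {H : Subgroup G}
    (hH : PMeetControl p H) (R₀ : Sylow p G) (hR₀ : (R₀ : Subgroup G) ≤ H)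
    (hN : Subgroup.normalizer ((R₀ : Subgroup G) : Set G) ≤ H) : PNormControl p H := by
  intro Q hQH hQ hQ1 g hg
  obtain ⟨R, hQR⟩ := hQ.exists_le_sylow
  have hRH : (R : Subgroup G) ≤ H := by
    apply hH _ R.2
    intro h
    exact hQ1 (le_bot_iff.mp (h ▸ le_inf hQR hQH))
  have hgR : ((g • R : Sylow p G) : Subgroup G) ≤ H := by
    apply hH _ (g • R).2
    intro h
    have h1 : Q ≤ ((g • R : Sylow p G) : Subgroup G) ⊓ H := by
      refine le_inf ?_ hQH
      intro q hq
      rw [mem_smul_sylow]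
      apply hQR
      have := (Subgroup.mem_normalizer_iff.mp ((Subgroup.normalizer (Q : Set G)).inv_mem hg) q).mp hq
      simpa using this
    exact hQ1 (le_bot_iff.mp (h ▸ h1))
  obtain ⟨h₁, hh₁, e₁⟩ := exists_smul_eq_of_le R₀ R hR₀ hRH
  obtain ⟨h₂, hh₂, e₂⟩ := exists_smul_eq_of_le R₀ (g • R) hR₀ hgR
  have h3 : (h₂⁻¹ * g * h₁) • R₀ = R₀ := by
    rw [mul_smul, mul_smul, e₁, ← e₂, inv_smul_smul]
  have h4 : h₂⁻¹ * g * h₁ ∈ Subgroup.normalizer ((R₀ : Subgroup G) : Set G) :=
    Sylow.smul_eq_iff_mem_normalizer.mp h3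
  have h5 := hN h4
  have : g = h₂ * (h₂⁻¹ * g * h₁) * h₁⁻¹ := by group
  rw [this]
  exact H.mul_mem (H.mul_mem hh₂ h5) (H.inv_mem hh₁)

/-- In a finite `p`-group a nontrivial normal subgroup meets the centre nontrivially
(same argument as `Helper10.normal_inf_center_ne_bot`). -/
theorem normal_inf_center_ne_bot' [Finite G] [Fact p.Prime]
    (hG : IsPGroup p G) (N : Subgroup G) [N.Normal] (hN : N ≠ ⊥) :
    N ⊓ Subgroup.center G ≠ ⊥ := by
  have hGc : IsPGroup p (ConjAct G) := hG.of_equiv ConjAct.toConjAct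
  have hNp : IsPGroup p N := hG.to_subgroup N
  have hdvd : p ∣ Nat.card N := by
    rcases hNp.card_eq_or_dvd with h | h
    · exact absurd ((Subgroup.card_eq_one).mp h) hN
    · exact h
  have h1 : (1 : N) ∈ MulAction.fixedPoints (ConjAct G) N := by
    intro g
    exact smul_one g
  obtain ⟨b, hb, hb1⟩ := hGc.exists_fixed_point_of_prime_dvd_card_of_fixed_point N hdvd h1
  intro hbot
  apply hb1
  have hbc : (b : G) ∈ N ⊓ Subgroup.center G := by
    refine Subgroup.mem_inf.mpr ⟨b.2, ?_⟩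
    rw [Subgroup.mem_center_iff]
    intro g
    have := hb (ConjAct.toConjAct g)
    have h2 := congrArg Subtype.val this
    rw [ConjAct.Subgroup.val_conj_smul, ConjAct.toConjAct_smul] at h2
    calc g * (b : G) = (g * (b : G) * g⁻¹) * g := by group
      _ = (b : G) * g := by rw [h2]
  rw [hbot, Subgroup.mem_bot] at hbc
  exact (Subtype.ext hbc).symm

/-- If the `p`-group `R₁` normalizes its nontrivial subgroup `R₀`, some element of order `p` of
`R₀` is centralized by `R₁`. -/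
theorem exists_central_order_p [Finite G] [hp : Fact p.Prime] {R₀ R₁ : Subgroup G}
    (hR₁ : IsPGroup p R₁) (h01 : R₀ ≤ R₁) (hn : R₁ ≤ Subgroup.normalizer (R₀ : Set G))
    (h0 : R₀ ≠ ⊥) : ∃ x ∈ R₀, orderOf x = p ∧ ∀ n ∈ R₁, n * x = x * n := by
  have hnorm : (R₀.subgroupOf R₁).Normal := by
    constructor
    intro a ha b
    rw [Subgroup.mem_subgroupOf] at ha ⊢
    have := (Subgroup.mem_normalizer_iff.mp (hn b.2) a).mp ha
    simpa using this
  have hne : R₀.subgroupOf R₁ ≠ ⊥ := by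
    intro h
    apply h0
    rw [Subgroup.subgroupOf_eq_bot] at h
    rw [disjoint_iff, inf_of_le_left h01] at h
    exact h
  have h1 := normal_inf_center_ne_bot' hR₁ (R₀.subgroupOf R₁) hne
  have hZp : IsPGroup p ↥(R₀.subgroupOf R₁ ⊓ Subgroup.center R₁) := hR₁.to_subgroup _
  have hdvd : p ∣ Nat.card ↥(R₀.subgroupOf R₁ ⊓ Subgroup.center R₁) := by
    rcases hZp.card_eq_or_dvd with h | h
    · exact absurd ((Subgroup.card_eq_one).mp h) h1
    · exact h
  obtain ⟨z, hz⟩ := exists_prime_orderOf_dvd_card' p hdvd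
  have hz1 : (z : R₁) ∈ R₀.subgroupOf R₁ := (Subgroup.mem_inf.mp z.2).1
  have hz2 : (z : R₁) ∈ Subgroup.center R₁ := (Subgroup.mem_inf.mp z.2).2
  refine ⟨((z : R₁) : G), Subgroup.mem_subgroupOf.mp hz1, ?_, ?_⟩
  · rw [Subgroup.orderOf_coe, Subgroup.orderOf_coe]; exact hz
  · intro n hn'
    have := (Subgroup.mem_center_iff.mp hz2) ⟨n, hn'⟩
    exact congrArg Subtype.val this

/-- If `H` contains the centralizers of all its elements of order `p`, then every `p`-subgroup
meeting `H` nontrivially lies in `H`. -/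
theorem pMeetControl_of_centralizer_le [Finite G] [Fact p.Prime] {H : Subgroup G}
    (hC : ∀ x ∈ H, orderOf x = p → Subgroup.centralizer ({x} : Set G) ≤ H) :
    PMeetControl p H := by
  intro R hR hRH
  by_contra hne
  have hlt : R ⊓ H < R := lt_of_le_of_ne inf_le_left (fun h => hne (h ▸ inf_le_right))
  obtain ⟨n, hnR, hnN, hnQ⟩ := pgroup_normalizer_gt hR hlt
  -- R₁ = R ⊓ N(R ⊓ H)
  have hR₁ : IsPGroup p ↥(R ⊓ Subgroup.normalizer ((R ⊓ H : Subgroup G) : Set G)) :=
    hR.to_le inf_le_left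
  obtain ⟨x, hx0, hxp, hxc⟩ := exists_central_order_p hR₁
    (le_inf inf_le_left Subgroup.le_normalizer) inf_le_right hRH
  have hnc : n ∈ Subgroup.centralizer ({x} : Set G) := by
    rw [Subgroup.mem_centralizer_singleton_iff]
    exact hxc n ⟨hnR, hnN⟩
  exact hnQ ⟨hnR, hC x hx0.2 hxp hnc⟩

end SPE2

end Cfsg.Agent.Lib.Helper17
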