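import Mathlib
import Cfsg.Prelude
import Cfsg.Agent.Lib.Helper1.Frattini
import Cfsg.Agent.Lib.Helper17.GfsAction

/-!
`Z(G) ∩ G' ≤ Φ(G)`, and the averaging argument on the abelianization:
if `L = [L, Q]` and `|Q|` is coprime to `|L : L'|` then `C_L(Q) ≤ L'`.
-/

set_option autoImplicit false

namespace Cfsg.Agent.Lib.Helper17

open scoped commutatorElement Pointwise

section frat

variable {G : Type*} [Group G]

/-- `Z(G) ∩ G' ≤ Φ(G)`. -/
theorem center_inf_commutator_le_frattini : Subgroup.center G ⊓ commutator G ≤ frattini G := by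
  rw [Cfsg.Agent.Lib.Helper1.le_frattini_iff]
  intro M hM
  by_contra hnot
  obtain ⟨z, hz, hzM⟩ := SetLike.not_le_iff_exists.mp hnot
  have hzc : z ∈ Subgroup.center G := hz.1
  have hsup : M ⊔ Subgroup.center G = ⊤ := by
    apply hM.2
    refine lt_of_le_of_ne le_sup_left ?_
    intro h
    apply hzM
    rw [h]
    exact Subgroup.mem_sup_right hzc
  have hcomm : commutator G ≤ M := by
    rw [commutator_def, Subgroup.commutator_le]
    intro a _ b _
    have ha : a ∈ M ⊔ Subgroup.center G := by rw [hsup]; trivial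
    have hb : b ∈ M ⊔ Subgroup.center G := by rw [hsup]; trivial
    rw [← SetLike.mem_coe, Subgroup.mul_normal] at ha hb
    obtain ⟨m₁, hm₁, c₁, hc₁, rfl⟩ := Set.mem_mul.mp ha
    obtain ⟨m₂, hm₂, c₂, hc₂, rfl⟩ := Set.mem_mul.mp hb
    have e : ⁅m₁ * c₁, m₂ * c₂⁆ = ⁅m₁, m₂⁆ := by
      rw [commutatorElement_def, commutatorElement_def]
      have h1 := Subgroup.mem_center_iff.mp hc₁
      have h2 := Subgroup.mem_center_iff.mp hc₂
      calc m₁ * c₁ * (m₂ * c₂) * (m₁ * c₁)⁻¹ * (m₂ * c₂)⁻¹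
          = m₁ * (c₁ * m₂) * c₂ * c₁⁻¹ * m₁⁻¹ * c₂⁻¹ * m₂⁻¹ := by group
        _ = m₁ * (m₂ * c₁) * c₂ * c₁⁻¹ * m₁⁻¹ * c₂⁻¹ * m₂⁻¹ := by rw [h1 m₂]
        _ = m₁ * m₂ * (c₁ * c₂) * c₁⁻¹ * m₁⁻¹ * c₂⁻¹ * m₂⁻¹ := by group
        _ = m₁ * m₂ * (c₂ * c₁) * c₁⁻¹ * m₁⁻¹ * c₂⁻¹ * m₂⁻¹ := by rw [h2 c₁]
        _ = m₁ * m₂ * (c₂ * m₁⁻¹) * c₂⁻¹ * m₂⁻¹ := by group
        _ = m₁ * m₂ * (m₁⁻¹ * c₂) * c₂⁻¹ * m₂⁻¹ := by rw [h2 m₁⁻¹]
        _ = m₁ * m₂ * m₁⁻¹ * m₂⁻¹ := by group
    rw [e]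
    exact M.mul_mem (M.mul_mem (M.mul_mem hm₁ hm₂) (M.inv_mem hm₁)) (M.inv_mem hm₂)
  exact hzM (hcomm hz.2)

/-- Subgroup form: if `D ≤ L` is central in `L` and `D ≤ [L, L]`, then `D ≤ Φ(L)`. -/
theorem le_map_frattini_of_central_of_le_commutator {L D : Subgroup G}
    (hDc : D ≤ Subgroup.centralizer (L : Set G)) (hDL : D ≤ ⁅L, L⁆) :
    D ≤ (frattini ↥L).map L.subtype := by
  intro z hz
  have hzL : z ∈ L :=
    Cfsg.Agent.Lib.Helper1.commutator_le_of_le_normalizer Subgroup.le_normalizer (hDL hz)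
  refine ⟨⟨z, hzL⟩, ?_, rfl⟩
  apply center_inf_commutator_le_frattini
  refine Subgroup.mem_inf.mpr ⟨?_, ?_⟩
  · rw [Subgroup.mem_center_iff]
    rintro ⟨l, hl⟩
    apply Subtype.ext
    exact Subgroup.mem_centralizer_iff.mp (hDc hz) l hl
  · have h1 : z ∈ (commutator ↥L).map L.subtype := by
      rw [Subgroup.map_subtype_commutator]
      exact hDL hz
    obtain ⟨w, hw, hwz⟩ := h1
    have : w = ⟨z, hzL⟩ := Subtype.ext hwz
    rwa [← this]

theorem centralizer_sup_eq (A B : Subgroup G) :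
    Subgroup.centralizer ((A ⊔ B : Subgroup G) : Set G) =
      Subgroup.centralizer (A : Set G) ⊓ Subgroup.centralizer (B : Set G) := by
  apply le_antisymm
  · exact le_inf (Subgroup.centralizer_le (by exact_mod_cast (le_sup_left : A ≤ A ⊔ B)))
      (Subgroup.centralizer_le (by exact_mod_cast (le_sup_right : B ≤ A ⊔ B)))
  · intro g hg
    have hA : A ≤ Subgroup.centralizer ({g} : Set G) := by
      intro a ha
      rw [Subgroup.mem_centralizer_singleton_iff]
      exact Subgroup.mem_centralizer_iff.mp hg.1 a ha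
    have hB : B ≤ Subgroup.centralizer ({g} : Set G) := by
      intro b hb
      rw [Subgroup.mem_centralizer_singleton_iff]
      exact Subgroup.mem_centralizer_iff.mp hg.2 b hb
    rw [Subgroup.mem_centralizer_iff]
    intro h hh
    have := (sup_le hA hB) hh
    rwa [Subgroup.mem_centralizer_singleton_iff] at this

theorem mem_normalizer_centralizer {L : Subgroup G} {g : G}
    (hg : g ∈ Subgroup.normalizer (L : Set G)) :
    g ∈ Subgroup.normalizer ((Subgroup.centralizer (L : Set G) : Subgroup G) : Set G) := by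
  have key : ∀ g : G, g ∈ Subgroup.normalizer (L : Set G) →
      ∀ x ∈ Subgroup.centralizer (L : Set G), g * x * g⁻¹ ∈ Subgroup.centralizer (L : Set G) := by
    intro g hg x hx
    rw [Subgroup.mem_centralizer_iff]
    intro l hl
    have hl' : g⁻¹ * l * g ∈ L := by
      have := (Subgroup.mem_normalizer_iff.mp (Subgroup.inv_mem _ hg) l).mp hl
      simpa using this
    have h1 := Subgroup.mem_centralizer_iff.mp hx _ hl'
    calc l * (g * x * g⁻¹) = g * ((g⁻¹ * l * g) * x) * g⁻¹ := by group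
      _ = g * (x * (g⁻¹ * l * g)) * g⁻¹ := by rw [h1]
      _ = g * x * g⁻¹ * l := by group
  rw [Subgroup.mem_normalizer_iff]
  intro x
  refine ⟨key g hg x, fun hx => ?_⟩
  have := key g⁻¹ (Subgroup.inv_mem _ hg) _ hx
  simpa [mul_assoc] using this

end frat

section avg

variable {G : Type*} [Group G]

/-- The averaging hom `L → L/L'`. -/
noncomputable def avgAb (L Q : Subgroup G) [Fintype ↥Q] (hQL : Q ≤ Subgroup.normalizer (L : Set G)) :
    ↥L →* Abelianization ↥L :=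
  ∏ q : ↥Q, (Abelianization.of).comp (conjRestr L (q : G) (hQL q.2)).toMonoidHom

theorem avgAb_apply (L Q : Subgroup G) [Fintype ↥Q] (hQL : Q ≤ Subgroup.normalizer (L : Set G))
    (l : ↥L) :
    avgAb L Q hQL l = ∏ q : ↥Q, Abelianization.of (conjRestr L (q : G) (hQL q.2) l) := by
  unfold avgAb
  rw [MonoidHom.finset_prod_apply]
  rfl

theorem avgAb_conj (L Q : Subgroup G) [Fintype ↥Q] (hQL : Q ≤ Subgroup.normalizer (L : Set G))
    (q₀ : ↥Q) (l : ↥L) :
    avgAb L Q hQL (conjRestr L (q₀ : G) (hQL q₀.2) l) = avgAb L Q hQL l := by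
  rw [avgAb_apply, avgAb_apply]
  apply Fintype.prod_equiv (Equiv.mulRight q₀)
  intro q
  congr 1
  apply Subtype.ext
  simp [conjRestr, mul_assoc]

theorem avgAb_of_mem_centralizer (L Q : Subgroup G) [Fintype ↥Q]
    (hQL : Q ≤ Subgroup.normalizer (L : Set G)) (l : ↥L)
    (hl : (l : G) ∈ Subgroup.centralizer (Q : Set G)) :
    avgAb L Q hQL l = Abelianization.of l ^ Fintype.card ↥Q := by
  rw [avgAb_apply]
  have : ∀ q : ↥Q, conjRestr L (q : G) (hQL q.2) l = l := by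
    intro q
    apply Subtype.ext
    have := Subgroup.mem_centralizer_iff.mp hl q q.2
    show (q : G) * l * (q : G)⁻¹ = l
    rw [this]; group
  simp [this]

/-- If `L = [L, Q]` and `|Q|` is coprime to `|L : L'|`, then `C_L(Q) ≤ L'`. -/
theorem inf_centralizer_le_commutator [Finite G] {L Q : Subgroup G}
    (hQL : Q ≤ Subgroup.normalizer (L : Set G)) (hLQ : ⁅L, Q⁆ = L)
    (hcop : (Nat.card ↥Q).Coprime (commutator ↥L).index) :
    L ⊓ Subgroup.centralizer (Q : Set G) ≤ ⁅L, L⁆ := by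
  classical
  haveI : Fintype ↥Q := Fintype.ofFinite _
  have hker : ∀ l : ↥L, avgAb L Q hQL l = 1 := by
    have h1 : L ≤ (avgAb L Q hQL).ker.map L.subtype := by
      conv_lhs => rw [← hLQ]
      rw [Subgroup.commutator_le]
      intro l hl q hq
      have hmem : ⁅l, q⁆ ∈ L :=
        Cfsg.Agent.Lib.Helper1.commutator_le_of_le_normalizer hQL
          (Subgroup.commutator_mem_commutator hl hq)
      refine ⟨⟨⁅l, q⁆, hmem⟩, ?_, rfl⟩
      rw [SetLike.mem_coe, MonoidHom.mem_ker]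
      have e : (⟨⁅l, q⁆, hmem⟩ : ↥L) = ⟨l, hl⟩ * (conjRestr L q (hQL hq) ⟨l, hl⟩)⁻¹ := by
        apply Subtype.ext
        show ⁅l, q⁆ = l * (q * l * q⁻¹)⁻¹
        rw [commutatorElement_def]; group
      rw [e, map_mul, map_inv]
      have := avgAb_conj L Q hQL ⟨q, hq⟩ ⟨l, hl⟩
      rw [this, mul_inv_cancel]
    intro l
    obtain ⟨l', hl', hll'⟩ := h1 l.2
    have : l' = l := Subtype.ext hll'
    rw [← this]
    exact MonoidHom.mem_ker.mp hl'
  intro z hz
  have hzL : z ∈ L := hz.1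
  have h2 := avgAb_of_mem_centralizer L Q hQL ⟨z, hzL⟩ hz.2
  rw [hker] at h2
  have h3 : (Abelianization.of (⟨z, hzL⟩ : ↥L)) ^ Nat.card (Abelianization ↥L) = 1 :=
    pow_card_eq_one'
  have h4 : Nat.card (Abelianization ↥L) = (commutator ↥L).index := by
    rw [Subgroup.index_eq_card]
    rfl
  have h5 : Abelianization.of (⟨z, hzL⟩ : ↥L) = 1 := by
    have d1 := orderOf_dvd_of_pow_eq_one h2.symm
    have d2 := orderOf_dvd_of_pow_eq_one h3
    rw [← Nat.card_eq_fintype_card] at d1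
    rw [h4] at d2
    have d3 := Nat.dvd_gcd d1 d2
    rw [Nat.Coprime.gcd_eq_one hcop, Nat.dvd_one, orderOf_eq_one_iff] at d3
    exact d3
  have h6 : (⟨z, hzL⟩ : ↥L) ∈ commutator ↥L := by
    rw [← Abelianization.ker_of, MonoidHom.mem_ker]
    exact h5
  have h7 : z ∈ (commutator ↥L).map L.subtype := ⟨_, h6, rfl⟩
  rw [Subgroup.map_subtype_commutator] at h7
  exact h7

/-- If `L = [L,L] K` with `K ≤ L`, then `|L : L'|` divides `|K|`. -/
theorem index_commutator_dvd [Finite G] {L K : Subgroup G} (hKL : K ≤ L)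
    (h : L ≤ ⁅L, L⁆ ⊔ K) : (commutator ↥L).index ∣ Nat.card ↥K := by
  have h1 : commutator ↥L ⊔ K.subgroupOf L = ⊤ := by
    rw [eq_top_iff]
    rintro ⟨l, hl⟩ -
    have h2 : l ∈ (commutator ↥L ⊔ K.subgroupOf L).map L.subtype := by
      rw [Subgroup.map_sup, Subgroup.map_subtype_commutator, Subgroup.map_subgroupOf_eq_of_le hKL]
      exact h hl
    obtain ⟨w, hw, hwl⟩ := h2
    have : w = ⟨l, hl⟩ := Subtype.ext hwl
    rwa [← this]
  have h3 : (commutator ↥L).index = (commutator ↥L).relIndex (K.subgroupOf L) := by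
    rw [← Subgroup.relIndex_top_right, ← h1, Subgroup.relIndex_sup_left]
  rw [h3]
  have h4 := Subgroup.relIndex_dvd_card (commutator ↥L) (K.subgroupOf L)
  have h5 : Nat.card ↥(K.subgroupOf L) = Nat.card ↥K :=
    Nat.card_congr (Subgroup.subgroupOfEquivOfLe hKL).toEquiv
  rwa [h5] at h4

end avg

end Cfsg.Agent.Lib.Helper17
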