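import Mathlib
import Cfsg.Agent.H5.TCkSound
import Cfsg.Agent.H5.StemTC
import Cfsg.Agent.Lib.Helper14.Co2CDefs
import Cfsg.Agent.Lib.Helper4.TC.BitMat
import Cfsg.Agent.Lib.Helper9.SpGenD

/-!
# S2136-[S] (helper14's Co2 centraliser front): the three matrices `A1, A2, A3` generate `Sp₆(2)`
-/

set_option autoImplicit false
set_option maxRecDepth 100000

namespace Cfsg.Agent.Lib.Helper14.Co2C

namespace Helper17

open Cfsg.Agent.Helper4.TC hiding gl ev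
open Cfsg.H5.TCk

/-- the numbering: bit `i` = `Sum.inl i`, bit `3 + i` = `Sum.inr i` -/
def eps : Fin 3 ⊕ Fin 3 ≃ Fin 6 := finSumFinEquiv

/-- the bit matrices (columns) of the six letters `A1, A1⁻¹, A2, A2⁻¹, A3, A3⁻¹` -/
def lB : ℕ → BitMat 6
  | 0 => ⟨[1, 5, 3, 56, 32, 16]⟩
  | 1 => ⟨[1, 5, 3, 56, 32, 16]⟩
  | 2 => ⟨[2, 1, 4, 16, 8, 32]⟩
  | 3 => ⟨[2, 1, 4, 16, 8, 32]⟩
  | 4 => ⟨[1, 33, 35, 15, 21, 17]⟩
  | 5 => ⟨[1, 6, 48, 63, 33, 3]⟩
  | _ => BitMat.one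

theorem lB_len : ∀ l, (lB l).c.length = 6
  | 0 => rfl
  | 1 => rfl
  | 2 => rfl
  | 3 => rfl
  | 4 => rfl
  | 5 => rfl
  | (_ + 6) => BitMat.length_one

/-- the matrices of the letters -/
def lM (l : ℕ) : Matrix (Fin 3 ⊕ Fin 3) (Fin 3 ⊕ Fin 3) (ZMod 2) := (lB l).toMatE eps

theorem lM_mem : ∀ l : Fin 6, lM l.val ∈ Matrix.symplecticGroup (Fin 3) (ZMod 2) := by
  intro l
  rw [SymplecticGroup.mem_iff]
  revert l
  decide +kernel

theorem M_eq : M1 = lM 0 ∧ M2 = lM 2 ∧ M3 = lM 4 := by decide +kernel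

/-- the three generators -/
def gS : ℕ → Sp6
  | 0 => A1
  | 1 => A2
  | 2 => A3
  | _ => 1

/-- the six letters in `Sp₆(2)` -/
def lS (l : Fin 6) : Sp6 := ⟨lM l.val, lM_mem l⟩

theorem lM_mul (l l' : ℕ) : lM l * lM l' = ((lB l).mul (lB l')).toMatE eps :=
  (BitMat.toMatE_mul eps _ _ (lB_len l)).symm

theorem inv_chk : (lB 0).mul (lB 1) = BitMat.one ∧ (lB 2).mul (lB 3) = BitMat.one ∧
    (lB 4).mul (lB 5) = BitMat.one := by decide +kernel

theorem lS_mul_one (l l' : Fin 6) (h : (lB l.val).mul (lB l'.val) = BitMat.one) :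
    lS l * lS l' = 1 := by
  apply Subtype.ext
  show lM l.val * lM l'.val = 1
  rw [lM_mul, h, BitMat.toMatE_one]

theorem gS0 : gS 0 = lS 0 := Subtype.ext M_eq.1
theorem gS1 : gS 1 = lS 2 := Subtype.ext M_eq.2.1
theorem gS2 : gS 2 = lS 4 := Subtype.ext M_eq.2.2

theorem gl_gS : ∀ l : Fin 6, gl gS l.val = lS l := by
  intro l
  fin_cases l
  · exact gS0
  · show (gS 0)⁻¹ = _
    rw [gS0]
    exact inv_eq_of_mul_eq_one_right (lS_mul_one 0 1 inv_chk.1)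
  · exact gS1
  · show (gS 1)⁻¹ = _
    rw [gS1]
    exact inv_eq_of_mul_eq_one_right (lS_mul_one 2 3 inv_chk.2.1)
  · exact gS2
  · show (gS 2)⁻¹ = _
    rw [gS2]
    exact inv_eq_of_mul_eq_one_right (lS_mul_one 4 5 inv_chk.2.2)

theorem coe_gl {l : ℕ} (hl : l < 6) :
    ((gl gS l : Sp6) : Matrix (Fin 3 ⊕ Fin 3) (Fin 3 ⊕ Fin 3) (ZMod 2)) = lM l := by
  rw [gl_gS ⟨l, hl⟩]
  rfl

theorem coe_ev (w : List ℕ) (hw : ∀ l ∈ w, l < 6) :
    ((ev gS w : Sp6) : Matrix (Fin 3 ⊕ Fin 3) (Fin 3 ⊕ Fin 3) (ZMod 2)) =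
      (BitMat.prodB (w.map lB)).toMatE eps := by
  induction w with
  | nil => exact (BitMat.toMatE_one eps).symm
  | cons l w ih =>
    have h1 := coe_gl (hw l List.mem_cons_self)
    have h2 := ih fun l' hl' => hw l' (List.mem_cons_of_mem _ hl')
    show ((gl gS l : Sp6) : Matrix (Fin 3 ⊕ Fin 3) (Fin 3 ⊕ Fin 3) (ZMod 2)) *
      ((ev gS w : Sp6) : Matrix (Fin 3 ⊕ Fin 3) (Fin 3 ⊕ Fin 3) (ZMod 2)) = _
    rw [h1, h2, List.map_cons]
    exact (BitMat.toMatE_mul eps _ _ (lB_len l)).symm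

/-- a word for the Coxeter element -/
def wordCox : List ℕ := [0, 4, 4, 4, 0, 2, 5, 5, 0, 4, 2, 5]
/-- a word for the transvection `T (e 0) 1` -/
def wordT : List ℕ := [4, 4, 4, 4, 2, 4, 2, 5, 5, 0, 4, 2, 4, 2, 4, 0]
/-- a word for an element with `e₁ ↦ e₁ + e₀` -/
def wordG : List ℕ := [5, 5, 0, 4]

end Helper17

open Helper17 Cfsg.H5.TCk Cfsg.Agent.Lib.Helper9 in
/-- [S] the three matrices generate `Sp₆(2)` -/
theorem sp6_closure_top : Subgroup.closure ({A1, A2, A3} : Set Sp6) = ⊤ := by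
  set L := Subgroup.closure ({A1, A2, A3} : Set Sp6) with hL
  have hmem : ∀ i < 3, gS i ∈ L := by
    intro i hi
    apply Subgroup.subset_closure
    interval_cases i
    · exact Set.mem_insert _ _
    · exact Set.mem_insert_of_mem _ (Set.mem_insert _ _)
    · exact Set.mem_insert_of_mem _ (Set.mem_insert_of_mem _ rfl)
  have hev : ∀ w : List ℕ, w.all (fun l => decide (l < 2 * 3)) = true → ev gS w ∈ L :=
    fun w hw => Cfsg.H5.StemTC.ev_mem gS L 3 hmem w hw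
  have hcox : SpGen.cox 2 (ZMod 2) ∈ L := by
    have : ev gS wordCox = SpGen.cox 2 (ZMod 2) := by
      apply Subtype.ext
      rw [coe_ev _ (by decide)]
      decide +kernel
    rw [← this]
    exact hev _ (by decide)
  have hT : ∀ t : ZMod 2, SpGen.T (SpGen.e 0 : Fin 3 ⊕ Fin 3 → ZMod 2) t ∈ L := by
    intro t
    rcases (by decide : ∀ t : ZMod 2, t = 0 ∨ t = 1) t with rfl | rfl
    · rw [SpGen.T_zero]
      exact L.one_mem
    · have : ev gS wordT = SpGen.T (SpGen.e 0 : Fin 3 ⊕ Fin 3 → ZMod 2) 1 := by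
        apply Subtype.ext
        rw [coe_ev _ (by decide)]
        show _ = Cfsg.sympTransvection 3 (SpGen.e 0 : Fin 3 ⊕ Fin 3 → ZMod 2) 1
        decide +kernel
      rw [← this]
      exact hev _ (by decide)
  have hge : SpGen.act (ev gS wordG) (SpGen.e 1 : Fin 3 ⊕ Fin 3 → ZMod 2) =
      (SpGen.e 1 : Fin 3 ⊕ Fin 3 → ZMod 2) + (1 : ZMod 2) • (SpGen.e 0 : Fin 3 ⊕ Fin 3 → ZMod 2) := by
    rw [SpGen.act_def, coe_ev _ (by decide)]
    decide +kernel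
  exact SpGen.final (n := 1) L hcox hT (ev gS wordG) (hev _ (by decide)) 1 one_ne_zero hge

end Cfsg.Agent.Lib.Helper14.Co2C
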