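import Mathlib
import Cfsg.Prelude.Def_GeometricClasses
import Cfsg.Agent.Lib.Helper7.AschDefs

/-!
# Vocabulary for S5673 (Aschbacher's theorem for `Ω_{2m+1}(q)`, `q` odd)  (helper17, architect)

Everything is stated for a quadratic FUNCTION `Q : (ι → F) → F` on a general index type `ι`
(the frozen statement has `ι = Unit ⊕ (Fin m ⊕ Fin m)`, `Q = quadFormOdd m F`; the proof runs on `ι = Fin n`).

* `OSetup Q`        : `|F|` odd, `|ι|` odd, `Q` non-degenerate, Gram matrix of the polar form over the prime field;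
* `InOClass N Q M`  : `M` is a member of one of the geometric classes (VERBATIM the frozen `InOrthogonalOddClass` with
                      `quadFormOdd m F` replaced by `Q` and `2 * m + 1` by `N`);
* `InClassO N Q H`  : `H` lies in a member;
* `reQ e Q`         : the form `Q` read on the index type `κ` through `e : ι ≃ κ`;
* wrappers `InClassO.of_*` for the eight disjuncts (use these, never unfold the `Or`).
-/

set_option autoImplicit false

namespace Cfsg.Agent.Lib.Helper17.AschO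

open Matrix Cfsg Cfsg.Geo

variable {F : Type*} [Field F] {ι : Type} [Fintype ι] [DecidableEq ι]

/-- the standing hypotheses on the quadratic function `Q` -/
structure OSetup [Fintype F] (Q : (ι → F) → F) : Prop where
  odd_card : Odd (Fintype.card F)
  odd_dim : Odd (Fintype.card ι)
  quad : IsNondegenerateQuadraticForm Q
  gram_prime : ∀ i j, gramMatrix (QuadraticMap.polar Q) i j ∈ (⊥ : Subfield F)

/-- `M` is a member of one of the geometric classes of the isometry group of `Q` (generic-index copy of the frozen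
`InOrthogonalOddClass`; `N` plays the role of `2 * m + 1`) -/
def InOClass [Fintype F] (N : ℕ) (Q : (ι → F) → F) (M : Subgroup (GL ι F)) : Prop :=
  let f := QuadraticMap.polar Q
  let I := isometryGroup F Q
  (∃ W : Submodule F (ι → F), W ≠ ⊥ ∧ IsTotallySingularQuad Q W ∧ M = subspaceStabilizer W ⊓ I) ∨
  (∃ W : Submodule F (ι → F), W ≠ ⊥ ∧ W ≠ ⊤ ∧ IsNondegenerateOn f W ∧ M = subspaceStabilizer W ⊓ I) ∨
  (∃ (t k : ℕ) (D : Fin t → Submodule F (ι → F)), 1 < k ∧ IsOrthogonalMDecomposition Q k D ∧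
      M = decompositionStabilizer D ⊓ I) ∨
  (∃ (t : ℕ) (D : Fin t → Submodule F (ι → F)), (Fintype.card F).Prime ∧ IsOrthogonalMDecomposition Q 1 D ∧
      M = decompositionStabilizer D ⊓ I) ∨
  (∃ (r : ℕ) (K : Subalgebra F (Matrix ι ι F)), r.Prime ∧ N ≠ r ∧
      IsFieldSubalgebra r K ∧ IsSelfAdjointFor f K ∧ M = subalgebraNormalizer K ⊓ I) ∨
  (∃ (n₁ n₂ : ℕ) (e : ι ≃ Fin n₁ × Fin n₂) (P : GL ι F)
      (f₁ : (Fin n₁ → F) → (Fin n₁ → F) → F) (f₂ : (Fin n₂ → F) → (Fin n₂ → F) → F),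
      3 ≤ n₁ ∧ n₁ < n₂ ∧ IsSymmetricForm f₁ ∧ IsSymmetricForm f₂ ∧ IsTensorFormStructure id f f₁ f₂ e P ∧
      M = tensorProductSubgroup n₁ n₂ e P ⊓ I) ∨
  (∃ (F₀ : Subfield F) (r : ℕ) (P : GL ι F), r.Prime ∧ Fintype.card F = Nat.card F₀ ^ r ∧
      IsQuadFormRationalStructure Q F₀ P ∧ M = subfieldSubgroup F₀ P ⊓ I) ∨
  (∃ (k t : ℕ) (e : ι ≃ (Fin t → Fin k)) (P : GL ι F)
      (f₁ : (Fin k → F) → (Fin k → F) → F), 3 ≤ k ∧ 2 ≤ t ∧ ¬ (Fintype.card F = 3 ∧ k = 3) ∧ IsSymmetricForm f₁ ∧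
      IsTensorPowerFormStructure id f f₁ e P ∧ M = tensorWreathSubgroup k t e P ⊓ I)

/-- the frozen class predicate is the generic one at `quadFormOdd` -/
theorem inOrthogonalOddClass_iff [Fintype F] (m : ℕ) (M : Subgroup (GL (Unit ⊕ (Fin m ⊕ Fin m)) F)) :
    InOrthogonalOddClass m F M ↔ InOClass (2 * m + 1) (quadFormOdd m F) M := Iff.rfl

/-- `H` lies in a member of one of the geometric classes -/
def InClassO [Fintype F] (N : ℕ) (Q : (ι → F) → F) (H : Subgroup (GL ι F)) : Prop :=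
  ∃ M : Subgroup (GL ι F), InOClass N Q M ∧ H ≤ M

/-- the quadratic function `Q` read on the index type `κ` -/
def reQ {κ : Type} (e : ι ≃ κ) (Q : (ι → F) → F) : (κ → F) → F := fun v => Q (v ∘ e)

section wrappers

variable [Fintype F] {N : ℕ} {Q : (ι → F) → F}

theorem InClassO.mono {H K : Subgroup (GL ι F)} (h : H ≤ K) (hK : InClassO N Q K) : InClassO N Q H := by
  obtain ⟨M, hM, hKM⟩ := hK
  exact ⟨M, hM, h.trans hKM⟩

theorem InClassO.of_singular (H : Subgroup (GL ι F)) (hHI : H ≤ isometryGroup F Q) (W : Submodule F (ι → F))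
    (h0 : W ≠ ⊥) (hW : IsTotallySingularQuad Q W) (hH : H ≤ subspaceStabilizer W) : InClassO N Q H :=
  ⟨_, Or.inl ⟨W, h0, hW, rfl⟩, le_inf hH hHI⟩

theorem InClassO.of_nondeg (H : Subgroup (GL ι F)) (hHI : H ≤ isometryGroup F Q) (W : Submodule F (ι → F))
    (h0 : W ≠ ⊥) (h1 : W ≠ ⊤) (hW : IsNondegenerateOn (QuadraticMap.polar Q) W) (hH : H ≤ subspaceStabilizer W) :
    InClassO N Q H :=
  ⟨_, Or.inr (Or.inl ⟨W, h0, h1, hW, rfl⟩), le_inf hH hHI⟩

theorem InClassO.of_decomposition (H : Subgroup (GL ι F)) (hHI : H ≤ isometryGroup F Q) {t : ℕ} (k : ℕ)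
    (D : Fin t → Submodule F (ι → F)) (hk : 1 < k) (hD : IsOrthogonalMDecomposition Q k D)
    (hH : H ≤ decompositionStabilizer D) : InClassO N Q H :=
  ⟨_, Or.inr (Or.inr (Or.inl ⟨t, k, D, hk, hD, rfl⟩)), le_inf hH hHI⟩

theorem InClassO.of_frame (H : Subgroup (GL ι F)) (hHI : H ≤ isometryGroup F Q) {t : ℕ}
    (D : Fin t → Submodule F (ι → F)) (hq : (Fintype.card F).Prime) (hD : IsOrthogonalMDecomposition Q 1 D)
    (hH : H ≤ decompositionStabilizer D) : InClassO N Q H :=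
  ⟨_, Or.inr (Or.inr (Or.inr (Or.inl ⟨t, D, hq, hD, rfl⟩))), le_inf hH hHI⟩

theorem InClassO.of_field (H : Subgroup (GL ι F)) (hHI : H ≤ isometryGroup F Q) (r : ℕ)
    (K : Subalgebra F (Matrix ι ι F)) (hr : r.Prime) (hNr : N ≠ r) (hK : IsFieldSubalgebra r K)
    (hsa : IsSelfAdjointFor (QuadraticMap.polar Q) K) (hH : H ≤ subalgebraNormalizer K) : InClassO N Q H :=
  ⟨_, Or.inr (Or.inr (Or.inr (Or.inr (Or.inl ⟨r, K, hr, hNr, hK, hsa, rfl⟩)))), le_inf hH hHI⟩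

theorem InClassO.of_tensor (H : Subgroup (GL ι F)) (hHI : H ≤ isometryGroup F Q) (n₁ n₂ : ℕ)
    (e : ι ≃ Fin n₁ × Fin n₂) (P : GL ι F) (f₁ : (Fin n₁ → F) → (Fin n₁ → F) → F)
    (f₂ : (Fin n₂ → F) → (Fin n₂ → F) → F) (h1 : 3 ≤ n₁) (h2 : n₁ < n₂) (hf₁ : IsSymmetricForm f₁)
    (hf₂ : IsSymmetricForm f₂) (hT : IsTensorFormStructure id (QuadraticMap.polar Q) f₁ f₂ e P)
    (hH : H ≤ tensorProductSubgroup n₁ n₂ e P) : InClassO N Q H :=
  ⟨_, Or.inr (Or.inr (Or.inr (Or.inr (Or.inr (Or.inl ⟨n₁, n₂, e, P, f₁, f₂, h1, h2, hf₁, hf₂, hT, rfl⟩))))),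
    le_inf hH hHI⟩

theorem InClassO.of_subfield (H : Subgroup (GL ι F)) (hHI : H ≤ isometryGroup F Q) (F₀ : Subfield F) (r : ℕ)
    (P : GL ι F) (hr : r.Prime) (hc : Fintype.card F = Nat.card F₀ ^ r)
    (hrat : IsQuadFormRationalStructure Q F₀ P) (hH : H ≤ subfieldSubgroup F₀ P) : InClassO N Q H :=
  ⟨_, Or.inr (Or.inr (Or.inr (Or.inr (Or.inr (Or.inr (Or.inl ⟨F₀, r, P, hr, hc, hrat, rfl⟩)))))),
    le_inf hH hHI⟩

theorem InClassO.of_tensorWreath (H : Subgroup (GL ι F)) (hHI : H ≤ isometryGroup F Q) (k t : ℕ)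
    (e : ι ≃ (Fin t → Fin k)) (P : GL ι F) (f₁ : (Fin k → F) → (Fin k → F) → F) (hk : 3 ≤ k) (ht : 2 ≤ t)
    (h33 : ¬ (Fintype.card F = 3 ∧ k = 3)) (hf₁ : IsSymmetricForm f₁)
    (hT : IsTensorPowerFormStructure id (QuadraticMap.polar Q) f₁ e P)
    (hH : H ≤ tensorWreathSubgroup k t e P) : InClassO N Q H :=
  ⟨_, Or.inr (Or.inr (Or.inr (Or.inr (Or.inr (Or.inr (Or.inr ⟨k, t, e, P, f₁, hk, ht, h33, hf₁, hT, rfl⟩)))))),
    le_inf hH hHI⟩

end wrappers

end Cfsg.Agent.Lib.Helper17.AschO
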