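import Cfsg.Agent.Lib.Helper17.HeOutP1

/-!
# A rigidity criterion for a trivial outer automorphism group (S2080, piece FO1)

`G = ⟨a, d, y⟩` finite, `⟨a⟩` a Sylow `p`-subgroup of order `p`, self-centralizing, `d a d⁻¹ = a ^ r`
with `r ≢ 1`, the powers of `r` reach `1` from every unit, automorphisms fixing `a` and `d` fix `y`:
then every automorphism is inner.  Also a version for a subgroup of an ambient group.
-/

set_option autoImplicit false

namespace Cfsg.Agent.Lib.Helper15.OutOne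

open Cfsg.Agent.Lib.Helper29.HeOut.Helper17 in
theorem out_card_one_of_rigid {G : Type*} [Group G] [Finite G] {p : ℕ} [Fact p.Prime]
    {a d y : G} {r : ℕ} (ha : orderOf a = p) (hfac : (Nat.card G).factorization p = 1)
    (hd : d * a * d⁻¹ = a ^ r) (hr1 : r % p ≠ 1)
    (hr : ∀ k : ℕ, 1 ≤ k → k < p → ∃ i : ℕ, k * r ^ i % p = 1)
    (hCa : ∀ c : G, c * a = a * c → c ∈ Subgroup.zpowers a)
    (hgen : Subgroup.closure {a, d, y} = ⊤)
    (hy : ∀ ψ : MulAut G, ψ a = a → ψ d = d → ψ y = y) :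
    Nat.card (Cfsg.Out G) = 1 := by
  have hfix : ∀ ψ : MulAut G, ψ a = a → ψ ∈ Cfsg.Inn G :=
    fun ψ hψ => inner_of_fix ha hd hr1 hCa hgen hy ψ hψ
  have hr' : ∀ k : ℕ, 1 ≤ k → k < p → ∃ i : ℕ, k * r ^ i % p = 1 ∨ k * r ^ i % p = 1 := by
    intro k hk1 hkp
    obtain ⟨i, hi⟩ := hr k hk1 hkp
    exact ⟨i, Or.inl hi⟩
  have htop : Cfsg.Inn G = ⊤ := by
    rw [eq_top_iff]
    intro φ _
    obtain ⟨c, hc⟩ := exists_fix_or_pow (t := 1) ha hfac hd hr' φ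
    have hc' : (MulAut.conj c * φ) a = a := by
      rcases hc with hc | hc
      · exact hc
      · rw [hc, pow_one]
    have hcinn : MulAut.conj c ∈ Cfsg.Inn G := ⟨c, rfl⟩
    have h1 := hfix _ hc'
    have h2 : φ = (MulAut.conj c)⁻¹ * (MulAut.conj c * φ) := by group
    rw [h2]
    exact (Cfsg.Inn G).mul_mem ((Cfsg.Inn G).inv_mem hcinn) h1
  show Nat.card (MulAut G ⧸ Cfsg.Inn G) = 1
  rw [← Subgroup.index_eq_card, Subgroup.index_eq_one]
  exact htop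

theorem out_card_one_of_rigid_sub {G₀ : Type*} [Group G₀] (K : Subgroup G₀) [Finite K] {p : ℕ}
    [Fact p.Prime] {a d y : G₀} {r : ℕ} (hak : a ∈ K) (hdk : d ∈ K) (hyk : y ∈ K)
    (ha : orderOf a = p) (hfac : (Nat.card K).factorization p = 1)
    (hd : d * a * d⁻¹ = a ^ r) (hr1 : r % p ≠ 1)
    (hr : ∀ k : ℕ, 1 ≤ k → k < p → ∃ i : ℕ, k * r ^ i % p = 1)
    (hCa : ∀ c ∈ K, c * a = a * c → c ∈ Subgroup.zpowers a)
    (hgen : K ≤ Subgroup.closure {a, d, y})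
    (hy : ∀ ψ : MulAut K, ψ ⟨a, hak⟩ = ⟨a, hak⟩ → ψ ⟨d, hdk⟩ = ⟨d, hdk⟩ → ψ ⟨y, hyk⟩ = ⟨y, hyk⟩) :
    Nat.card (Cfsg.Out K) = 1 := by
  have ha' : orderOf (⟨a, hak⟩ : K) = p := by
    rw [Subgroup.orderOf_mk]; exact ha
  have hd' : (⟨d, hdk⟩ : K) * ⟨a, hak⟩ * (⟨d, hdk⟩ : K)⁻¹ = (⟨a, hak⟩ : K) ^ r := by
    apply Subtype.ext
    simp only [Subgroup.coe_mul, Subgroup.coe_inv, Subgroup.coe_pow]
    exact hd
  have hCa' : ∀ c : K, c * ⟨a, hak⟩ = ⟨a, hak⟩ * c → c ∈ Subgroup.zpowers (⟨a, hak⟩ : K) := by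
    intro c hc
    have h1 : (c : G₀) * a = a * (c : G₀) := by
      have := congrArg Subtype.val hc
      simpa using this
    obtain ⟨i, hi⟩ := Subgroup.mem_zpowers_iff.mp (hCa c.1 c.2 h1)
    rw [Subgroup.mem_zpowers_iff]
    refine ⟨i, ?_⟩
    apply Subtype.ext
    rw [Subgroup.coe_zpow]
    exact hi
  have hgen' : Subgroup.closure {(⟨a, hak⟩ : K), ⟨d, hdk⟩, ⟨y, hyk⟩} = ⊤ := by
    rw [eq_top_iff]
    intro x _
    have himg : (Subgroup.closure {(⟨a, hak⟩ : K), ⟨d, hdk⟩, ⟨y, hyk⟩}).map K.subtype =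
        Subgroup.closure {a, d, y} := by
      rw [MonoidHom.map_closure]
      congr 1
      simp [Set.image_insert_eq]
    have hx : (x : G₀) ∈ (Subgroup.closure {(⟨a, hak⟩ : K), ⟨d, hdk⟩, ⟨y, hyk⟩}).map K.subtype := by
      rw [himg]; exact hgen x.2
    obtain ⟨z, hz, hzx⟩ := hx
    have : z = x := Subtype.ext hzx
    rw [← this]; exact hz
  exact out_card_one_of_rigid ha' hfac hd' hr1 hr hCa' hgen' hy

end Cfsg.Agent.Lib.Helper15.OutOne
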