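import Mathlib
import Cfsg.Agent.Lib.Helper6.Unitary

/-!
# Hyperbolic unitary blocks (helper17, farm-out FO-T2 for helper15's S2511)

For an invertible `k × k` matrix `X` over a field `F` with `q ^ 2` elements there is a matrix `M` of
size `k + k` preserving the standard Hermitian form, conjugate (over `F`) to `diag(X, X^{-*})`.
-/

set_option autoImplicit false
set_option linter.unusedSectionVars false
set_option linter.style.haveILetI false
open Cfsg

namespace Cfsg.Agent.Lib.Helper17.UnitaryHyp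

open Matrix Module Cfsg.Agent.S0779 Cfsg.Agent.Lib.Helper6

variable {F : Type*} [Field F] [Fintype F] {q : ℕ}

theorem herm_eq_dot {n : ℕ} (hF : Fintype.card F = q ^ 2) (u v : Fin n → F) :
    hermForm n F q u v = u ⬝ᵥ (⇑(conjQ hF) ∘ v) := by
  simp only [hermForm, dotProduct, Function.comp_apply, conjQ_apply]

theorem herm_mulVec_mulVec {n : ℕ} (hF : Fintype.card F = q ^ 2)
    (X Y : Matrix (Fin n) (Fin n) F) (h : Yᵀ * X.map (conjQ hF) = 1) (u v : Fin n → F) :
    hermForm n F q (Y *ᵥ u) (X *ᵥ v) = hermForm n F q u v := by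
  rw [herm_eq_dot hF, herm_eq_dot hF]
  have h1 : ⇑(conjQ hF) ∘ (X *ᵥ v) = X.map (conjQ hF) *ᵥ (⇑(conjQ hF) ∘ v) := by
    funext i
    exact RingHom.map_mulVec (conjQ hF) X v i
  have h2 : ∀ w : Fin n → F, (Y *ᵥ u) ⬝ᵥ w = u ⬝ᵥ (Yᵀ *ᵥ w) := by
    intro w
    rw [dotProduct_comm (Y *ᵥ u) w, dotProduct_mulVec, dotProduct_comm (w ᵥ* Y) u,
      mulVec_transpose]
  rw [h1, h2, mulVec_mulVec, h, one_mulVec]

theorem herm_mulVec_mulVec' {n : ℕ} (hF : Fintype.card F = q ^ 2)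
    (X Y : Matrix (Fin n) (Fin n) F) (h : Yᵀ * X.map (conjQ hF) = 1) (u v : Fin n → F) :
    hermForm n F q (X *ᵥ u) (Y *ᵥ v) = hermForm n F q u v := by
  rw [← herm_conj hF (Y *ᵥ v) (X *ᵥ u), herm_mulVec_mulVec hF X Y h, herm_conj hF]

/-- the hyperbolic Hermitian form on `F^k ⊕ F^k` -/
noncomputable def hypB (k : ℕ) (hF : Fintype.card F = q ^ 2) :
    (Fin k ⊕ Fin k → F) →ₛₗ[conjQ hF] (Fin k ⊕ Fin k → F) →ₗ[F] F :=
  LinearMap.mk₂'ₛₗ (conjQ hF) (RingHom.id F)
    (fun u v => hermForm k F q (v ∘ Sum.inr) (u ∘ Sum.inl) +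
      hermForm k F q (v ∘ Sum.inl) (u ∘ Sum.inr))
    (fun u u' v => by
      have h1 : (u + u') ∘ (Sum.inl : Fin k → Fin k ⊕ Fin k) = u ∘ Sum.inl + u' ∘ Sum.inl := rfl
      have h2 : (u + u') ∘ (Sum.inr : Fin k → Fin k ⊕ Fin k) = u ∘ Sum.inr + u' ∘ Sum.inr := rfl
      rw [h1, h2, herm_add_right hF, herm_add_right hF]
      ring)
    (fun c u v => by
      have h1 : (c • u) ∘ (Sum.inl : Fin k → Fin k ⊕ Fin k) = c • (u ∘ Sum.inl) := rfl
      have h2 : (c • u) ∘ (Sum.inr : Fin k → Fin k ⊕ Fin k) = c • (u ∘ Sum.inr) := rfl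
      rw [h1, h2, herm_smul_right, herm_smul_right, smul_eq_mul, conjQ_apply]
      ring)
    (fun u v v' => by
      have h1 : (v + v') ∘ (Sum.inl : Fin k → Fin k ⊕ Fin k) = v ∘ Sum.inl + v' ∘ Sum.inl := rfl
      have h2 : (v + v') ∘ (Sum.inr : Fin k → Fin k ⊕ Fin k) = v ∘ Sum.inr + v' ∘ Sum.inr := rfl
      rw [h1, h2, herm_add_left, herm_add_left]
      ring)
    (fun c u v => by
      have h1 : (c • v) ∘ (Sum.inl : Fin k → Fin k ⊕ Fin k) = c • (v ∘ Sum.inl) := rfl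
      have h2 : (c • v) ∘ (Sum.inr : Fin k → Fin k ⊕ Fin k) = c • (v ∘ Sum.inr) := rfl
      rw [h1, h2, herm_smul_left, herm_smul_left, RingHom.id_apply, smul_eq_mul]
      ring)

theorem hypB_apply (k : ℕ) (hF : Fintype.card F = q ^ 2) (u v : Fin k ⊕ Fin k → F) :
    hypB k hF u v = hermForm k F q (v ∘ Sum.inr) (u ∘ Sum.inl) +
      hermForm k F q (v ∘ Sum.inl) (u ∘ Sum.inr) := rfl

theorem hypB_isSymm (k : ℕ) (hF : Fintype.card F = q ^ 2) : (hypB k hF).IsSymm :=
  ⟨fun u v => by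
    change (hermForm k F q (v ∘ Sum.inr) (u ∘ Sum.inl) +
      hermForm k F q (v ∘ Sum.inl) (u ∘ Sum.inr)) ^ q =
      hermForm k F q (u ∘ Sum.inr) (v ∘ Sum.inl) + hermForm k F q (u ∘ Sum.inl) (v ∘ Sum.inr)
    rw [add_pow_q hF, herm_conj hF, herm_conj hF, add_comm]⟩

theorem hypB_nondeg (k : ℕ) (hF : Fintype.card F = q ^ 2) (u : Fin k ⊕ Fin k → F)
    (h : ∀ v, hypB k hF u v = 0) : u = 0 := by
  have h1 : u ∘ (Sum.inl : Fin k → Fin k ⊕ Fin k) = 0 := by
    apply herm_nondeg hF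
    intro y
    apply herm_swap_zero hF
    have h0 := h (Sum.elim 0 y)
    rw [hypB_apply] at h0
    have e1 : (Sum.elim (0 : Fin k → F) y) ∘ Sum.inr = y := rfl
    have e2 : (Sum.elim (0 : Fin k → F) y) ∘ Sum.inl = 0 := rfl
    rw [e1, e2, herm_zero_left, add_zero] at h0
    exact h0
  have h2 : u ∘ (Sum.inr : Fin k → Fin k ⊕ Fin k) = 0 := by
    apply herm_nondeg hF
    intro y
    apply herm_swap_zero hF
    have h0 := h (Sum.elim y 0)
    rw [hypB_apply] at h0
    have e1 : (Sum.elim y (0 : Fin k → F)) ∘ Sum.inr = 0 := rfl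
    have e2 : (Sum.elim y (0 : Fin k → F)) ∘ Sum.inl = y := rfl
    rw [e1, e2, herm_zero_left, zero_add] at h0
    exact h0
  funext i
  rcases i with i | i
  · exact congrFun h1 i
  · exact congrFun h2 i

theorem scalar_sum (k : ℕ) (ν : F) :
    scalar (Fin k ⊕ Fin k) ν = fromBlocks (scalar (Fin k) ν) 0 0 (scalar (Fin k) ν) := by
  rw [scalar_apply, scalar_apply, fromBlocks_diagonal]
  congr 1
  funext i
  rcases i with i | i <;> rfl

theorem scalar_eq_smul_one {n : Type*} [Fintype n] [DecidableEq n] (a : F) :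
    scalar n a = a • (1 : Matrix n n F) := by
  rw [scalar_apply, smul_one_eq_diagonal]

/-- FO-T2: the hyperbolic unitary block of an invertible matrix `X`. -/
theorem exists_unitary_hyperbolic {F : Type*} [Field F] [Fintype F] {q : ℕ}
    (hF : Fintype.card F = q ^ 2) {k : ℕ} (hk : 0 < k)
    (X : Matrix (Fin k) (Fin k) F) (hX : X.det ≠ 0) :
    ∃ M : Matrix (Fin (k + k)) (Fin (k + k)) F,
      (∀ x y, Cfsg.hermForm (k + k) F q (M *ᵥ x) (M *ᵥ y) = Cfsg.hermForm (k + k) F q x y) ∧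
      M.det = X.det * ((X.det) ^ q)⁻¹ ∧
      (∀ (j : ℕ) (ν : F), M ^ j = Matrix.scalar (Fin (k + k)) ν ↔
        (X ^ j = Matrix.scalar (Fin k) ν ∧ ν ^ (q + 1) = 1)) := by
  haveI : Nonempty (Fin k) := ⟨⟨0, hk⟩⟩
  set A : Matrix (Fin k) (Fin k) F := (X.map (conjQ hF))ᵀ with hA
  have hAdet : A.det = X.det ^ q := by
    rw [hA, det_transpose]
    have h := RingHom.map_det (conjQ hF) X
    rw [RingHom.mapMatrix_apply, conjQ_apply] at h
    exact h.symm
  have hAunit : IsUnit A.det := by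
    rw [hAdet]
    exact isUnit_iff_ne_zero.mpr (pow_ne_zero _ hX)
  set Y : Matrix (Fin k) (Fin k) F := A⁻¹ with hY
  have hAY : A * Y = 1 := Matrix.mul_nonsing_inv A hAunit
  have hYA : Y * A = 1 := Matrix.nonsing_inv_mul A hAunit
  have hYX : Yᵀ * X.map (conjQ hF) = 1 := by
    have h : (A * Y)ᵀ = 1 := by rw [hAY, transpose_one]
    rw [transpose_mul, hA, transpose_transpose] at h
    exact h
  have hYdet : Y.det = (X.det ^ q)⁻¹ := by
    have h1 : Y.det * A.det = 1 := by rw [← det_mul, hYA, det_one]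
    rw [hAdet] at h1
    exact eq_inv_of_mul_eq_one_left h1
  set D : Matrix (Fin k ⊕ Fin k) (Fin k ⊕ Fin k) F := fromBlocks X 0 0 Y with hD
  have hD1 : ∀ u : Fin k ⊕ Fin k → F, (D *ᵥ u) ∘ Sum.inl = X *ᵥ (u ∘ Sum.inl) := by
    intro u
    rw [hD, fromBlocks_mulVec]
    funext i
    simp
  have hD2 : ∀ u : Fin k ⊕ Fin k → F, (D *ᵥ u) ∘ Sum.inr = Y *ᵥ (u ∘ Sum.inr) := by
    intro u
    rw [hD, fromBlocks_mulVec]
    funext i
    simp
  have hDiso : ∀ u v, hypB k hF (D *ᵥ u) (D *ᵥ v) = hypB k hF u v := by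
    intro u v
    rw [hypB_apply, hypB_apply, hD1, hD2, hD1, hD2, herm_mulVec_mulVec hF X Y hYX,
      herm_mulVec_mulVec' hF X Y hYX]
  have hfin : finrank F (Fin k ⊕ Fin k → F) = k + k := by
    rw [Module.finrank_fintype_fun_eq_card, Fintype.card_sum, Fintype.card_fin]
  obtain ⟨φ, hφ⟩ := exists_std_herm hF (hypB k hF) (hypB_isSymm k hF) (hypB_nondeg k hF)
    (k + k) hfin
  set P : Matrix (Fin (k + k)) (Fin k ⊕ Fin k) F :=
    LinearMap.toMatrix' (φ : (Fin k ⊕ Fin k → F) →ₗ[F] (Fin (k + k) → F)) with hP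
  set Q : Matrix (Fin k ⊕ Fin k) (Fin (k + k)) F :=
    LinearMap.toMatrix' (φ.symm : (Fin (k + k) → F) →ₗ[F] (Fin k ⊕ Fin k → F)) with hQ
  have hPQ : P * Q = 1 := by
    rw [hP, hQ, ← LinearMap.toMatrix'_comp]
    have h : (φ : (Fin k ⊕ Fin k → F) →ₗ[F] (Fin (k + k) → F)) ∘ₗ
        (φ.symm : (Fin (k + k) → F) →ₗ[F] (Fin k ⊕ Fin k → F)) = LinearMap.id :=
      LinearMap.ext fun x => by simp
    rw [h, LinearMap.toMatrix'_id]
  have hQP : Q * P = 1 := by
    rw [hP, hQ, ← LinearMap.toMatrix'_comp]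
    have h : (φ.symm : (Fin (k + k) → F) →ₗ[F] (Fin k ⊕ Fin k → F)) ∘ₗ
        (φ : (Fin k ⊕ Fin k → F) →ₗ[F] (Fin (k + k) → F)) = LinearMap.id :=
      LinearMap.ext fun x => by simp
    rw [h, LinearMap.toMatrix'_id]
  have hPv : ∀ u, P *ᵥ u = φ u := fun u => LinearMap.toMatrix'_mulVec _ u
  have hQv : ∀ x, Q *ᵥ x = φ.symm x := fun x => LinearMap.toMatrix'_mulVec _ x
  have hpow : ∀ j : ℕ, (P * D * Q) ^ j = P * D ^ j * Q := by
    intro j
    induction j with
    | zero => rw [pow_zero, pow_zero, Matrix.mul_one, hPQ]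
    | succ n ih =>
      rw [pow_succ, ih, pow_succ]
      calc P * D ^ n * Q * (P * D * Q) = P * D ^ n * (Q * P) * D * Q := by
            simp only [Matrix.mul_assoc]
        _ = P * (D ^ n * D) * Q := by
            rw [hQP]
            simp only [Matrix.mul_one, Matrix.mul_assoc]
  refine ⟨P * D * Q, ?_, ?_, ?_⟩
  · intro x y
    have hM : ∀ z, (P * D * Q) *ᵥ z = φ (D *ᵥ (φ.symm z)) := by
      intro z
      rw [← mulVec_mulVec, ← mulVec_mulVec, hQv, hPv]
    rw [hM, hM, hφ, hDiso, ← hφ, LinearEquiv.apply_symm_apply, LinearEquiv.apply_symm_apply]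
  · rw [det_conj_of_mul_eq_one hPQ hQP, hD, det_fromBlocks_zero₂₁, hYdet]
  · intro j ν
    have hscal : (P * D * Q) ^ j = scalar (Fin (k + k)) ν ↔ D ^ j = scalar (Fin k ⊕ Fin k) ν := by
      rw [hpow]
      constructor
      · intro h
        have h1 : Q * (P * D ^ j * Q) * P = D ^ j := by
          calc Q * (P * D ^ j * Q) * P = (Q * P) * D ^ j * (Q * P) := by
                simp only [Matrix.mul_assoc]
            _ = D ^ j := by rw [hQP, Matrix.one_mul, Matrix.mul_one]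
        rw [← h1, h, scalar_eq_smul_one, scalar_eq_smul_one, Matrix.mul_smul, Matrix.smul_mul,
          Matrix.mul_one, hQP]
      · intro h
        rw [h, scalar_eq_smul_one, scalar_eq_smul_one, Matrix.mul_smul, Matrix.smul_mul,
          Matrix.mul_one, hPQ]
    have hDj : D ^ j = scalar (Fin k ⊕ Fin k) ν ↔
        (X ^ j = scalar (Fin k) ν ∧ Y ^ j = scalar (Fin k) ν) := by
      rw [hD, fromBlocks_diagonal_pow, scalar_sum, fromBlocks_inj]
      constructor
      · rintro ⟨a, -, -, b⟩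
        exact ⟨a, b⟩
      · rintro ⟨a, b⟩
        exact ⟨a, rfl, rfl, b⟩
    have hYj : X ^ j = scalar (Fin k) ν → (Y ^ j = scalar (Fin k) ν ↔ ν ^ (q + 1) = 1) := by
      intro hXj
      have hν : ν ≠ 0 := by
        rintro rfl
        rw [map_zero] at hXj
        have h0 : (X ^ j).det = 0 := by rw [hXj, det_zero]
        rw [det_pow] at h0
        exact hX (eq_zero_of_pow_eq_zero h0)
      have hAj : A ^ j = scalar (Fin k) (ν ^ q) := by
        rw [hA, ← transpose_pow]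
        have h1 : (X.map (conjQ hF)) ^ j = (X ^ j).map (conjQ hF) := by
          have h := map_pow (conjQ hF).mapMatrix X j
          simpa [RingHom.mapMatrix_apply] using h.symm
        rw [h1, hXj]
        simp only [scalar_apply]
        rw [diagonal_map (map_zero _), diagonal_transpose]
        rfl
      rw [hY, inv_pow', hAj]
      constructor
      · intro h
        have h2 : (scalar (Fin k) (ν ^ q))⁻¹ = scalar (Fin k) ((ν ^ q)⁻¹) := by
          apply inv_eq_right_inv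
          rw [← map_mul, mul_inv_cancel₀ (pow_ne_zero _ hν), map_one]
        rw [h2, scalar_inj] at h
        calc ν ^ (q + 1) = ν ^ q * ν := pow_succ _ _
          _ = ν ^ q * (ν ^ q)⁻¹ := by rw [h]
          _ = 1 := mul_inv_cancel₀ (pow_ne_zero _ hν)
      · intro h
        apply inv_eq_right_inv
        rw [← map_mul, ← pow_succ, h, map_one]
    rw [hscal, hDj]
    constructor
    · rintro ⟨h1, h2⟩
      exact ⟨h1, (hYj h1).mp h2⟩
    · rintro ⟨h1, h2⟩
      exact ⟨h1, (hYj h1).mpr h2⟩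

end Cfsg.Agent.Lib.Helper17.UnitaryHyp
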