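import Mathlib
import Cfsg.Prelude.Def_GeometricClasses
import Cfsg.Agent.Lib.Helper7.AschDefs
import Cfsg.Agent.Lib.Helper7.AschWrap
import Cfsg.Agent.Lib.Helper22.AschC7Defs
import Cfsg.Agent.Lib.Helper22.AschC7Core
import Cfsg.Agent.Lib.Helper22.AschC7Top

/-!
# S5662 / S5673, piece C7-DATA (`c7_data`): the data of the tensor-induced case  (helper17)

Re-run of helper22's `AschC7Top.c7_case` keeping the data: the bijection `e`, the change of basis `P`, and ONE subgroup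
`Y ≤ GL_m(F)` (the preimage of `L` under `φ`) which spans `M_m(F)` and acts in every tensor position through elements of `H`.
EXACT signature of `Cfsg.Agent.Lib.Helper16.SpAC7Skel.c7_data`.
-/

set_option autoImplicit false
set_option linter.unusedVariables false

namespace Cfsg.Agent.Lib.Helper17.S5662C7DATA

open Matrix Cfsg.Geo Cfsg.Agent.Lib.Helper7.Asch Cfsg.Agent.Lib.Helper22.AschC7
open scoped Kronecker commutatorElement

section aux

variable {F : Type*} [Field F] {n : ℕ}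

/-- a group spanning the full matrix algebra is absolutely irreducible -/
theorem absIrr_of_span_eq_top {m : ℕ} (Y : Subgroup (GL (Fin m) F))
    (h : Submodule.span F (matrixSet Y) = ⊤) : AbsIrr Y := by
  have hall : ∀ (p : Matrix (Fin m) (Fin m) F → Prop), (∀ s ∈ matrixSet Y, p s) → p 0 →
      (∀ a b, p a → p b → p (a + b)) → (∀ (c : F) a, p a → p (c • a)) → ∀ M, p M := by
    intro p hs h0 hadd hsmul M
    have hM : M ∈ Submodule.span F (matrixSet Y) := by
      rw [h]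
      trivial
    exact Submodule.span_induction (p := fun M _ => p M) (fun s hs' => hs s hs') h0
      (fun a b _ _ ha hb => hadd a b ha hb) (fun c a _ ha => hsmul c a ha) hM
  constructor
  · intro W hW
    have hW' : ∀ M : Matrix (Fin m) (Fin m) F, ∀ v ∈ W, M *ᵥ v ∈ W := by
      apply hall (fun M => ∀ v ∈ W, M *ᵥ v ∈ W)
      · intro s hs v hv
        exact hW s hs ⟨v, hv, by simp [Matrix.toLin'_apply]⟩
      · intro v _
        simp
      · intro a b ha hb v hv
        rw [Matrix.add_mulVec]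
        exact W.add_mem (ha v hv) (hb v hv)
      · intro c a ha v hv
        rw [Matrix.smul_mulVec]
        exact W.smul_mem c (ha v hv)
    by_cases hW0 : W = ⊥
    · exact Or.inl hW0
    right
    obtain ⟨w, hwW, hw0⟩ := Submodule.exists_mem_ne_zero_of_ne_bot hW0
    obtain ⟨j₀, hj₀⟩ : ∃ j, w j ≠ 0 := by
      by_contra hcon
      push Not at hcon
      exact hw0 (funext hcon)
    rw [eq_top_iff]
    intro v _
    have key := hW' (Matrix.of fun i j => if j = j₀ then v i * (w j₀)⁻¹ else 0) w hwW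
    have hv : (Matrix.of fun i j => if j = j₀ then v i * (w j₀)⁻¹ else 0) *ᵥ w = v := by
      funext i
      simp only [Matrix.mulVec, dotProduct, Matrix.of_apply, ite_mul, zero_mul, Finset.sum_ite_eq',
        Finset.mem_univ, if_true]
      field_simp
    rw [hv] at key
    exact key
  · intro M hM
    have hcomm : ∀ N : Matrix (Fin m) (Fin m) F, M * N = N * M := by
      apply hall (fun N => M * N = N * M) hM
      · simp
      · intro a b ha hb
        rw [mul_add, add_mul, ha, hb]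
      · intro c a ha
        rw [Matrix.mul_smul, Matrix.smul_mul, ha]
    obtain ⟨c, hc⟩ := Matrix.mem_range_scalar_of_commute_single (M := M) (fun i j _ => (hcomm _).symm)
    refine ⟨c, ?_⟩
    rw [← hc, Matrix.smul_one_eq_diagonal]
    rfl

theorem conj_cancel {κ : Type} [Fintype κ] [DecidableEq κ] (P : GL κ F) (A B : Matrix κ κ F)
    (h : (P : Matrix κ κ F) * A * ((P⁻¹ : GL κ F) : Matrix κ κ F) =
      (P : Matrix κ κ F) * B * ((P⁻¹ : GL κ F) : Matrix κ κ F)) : A = B := by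
  have hPP : ((P⁻¹ : GL κ F) : Matrix κ κ F) * (P : Matrix κ κ F) = 1 := by
    rw [← Units.val_mul, inv_mul_cancel, Units.val_one]
  have := congrArg (fun M => ((P⁻¹ : GL κ F) : Matrix κ κ F) * M * (P : Matrix κ κ F)) h
  beta_reduce at this
  rw [← mul_assoc, ← mul_assoc, hPP, one_mul, mul_assoc, hPP, mul_one] at this
  rw [← mul_assoc, ← mul_assoc, hPP, one_mul, mul_assoc, hPP, mul_one] at this
  exact this

/-- helper22's `tensor_recognition` for GIVEN `e`, `P` (same proof) -/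
theorem tensor_recognition' (m t : ℕ) (ht : 0 < t)
    (φ : Fin t → (Matrix (Fin m) (Fin m) F →ₐ[F] Matrix (Fin n) (Fin n) F))
    (e : Fin n ≃ (Fin t → Fin m)) (P : GL (Fin n) F)
    (hP' : ∀ i a, φ i a = (P : Matrix (Fin n) (Fin n) F) * Matrix.reindex e.symm e.symm (pos i a) *
      ((P⁻¹ : GL (Fin n) F) : Matrix (Fin n) (Fin n) F))
    (h : GL (Fin n) F) (hh : ∃ σ : Equiv.Perm (Fin t), ∀ i a, ∃ b, conjAlg h (φ i a) = φ (σ i) b) :
    h ∈ tensorWreathSubgroup m t e P := by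
  have hPP : ((P⁻¹ : GL (Fin n) F) : Matrix (Fin n) (Fin n) F) * (P : Matrix (Fin n) (Fin n) F) = 1 := by
    rw [← Units.val_mul, inv_mul_cancel, Units.val_one]
  have hPP' : (P : Matrix (Fin n) (Fin n) F) * ((P⁻¹ : GL (Fin n) F) : Matrix (Fin n) (Fin n) F) = 1 := by
    rw [← Units.val_mul, mul_inv_cancel, Units.val_one]
  obtain ⟨Φ, hP⟩ : ∃ Φ : Matrix (Fin t → Fin m) (Fin t → Fin m) F → Matrix (Fin n) (Fin n) F, ∀ A, Φ A =
      (P : Matrix (Fin n) (Fin n) F) * Matrix.reindex e.symm e.symm A * ((P⁻¹ : GL (Fin n) F) : Matrix (Fin n) (Fin n) F) :=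
    ⟨_, fun _ => rfl⟩
  have hΦ : ∀ i a, Φ (pos i a) = φ i a := fun i a => by rw [hP, hP' i a]
  have hΦinj : Function.Injective Φ := by
    intro A B hAB
    rw [hP, hP] at hAB
    exact (Matrix.reindex e.symm e.symm).injective (conj_cancel P _ _ hAB)
  obtain ⟨σ, hσ⟩ := hh
  obtain ⟨g, hg⟩ : ∃ g : GL (Fin t → Fin m) F, g = (glReindex e.symm).symm (P⁻¹ * h * P) := ⟨_, rfl⟩
  have hgr : glReindex e.symm g = P⁻¹ * h * P := by rw [hg, MulEquiv.apply_symm_apply]
  have hgh : h = P * (glReindex e.symm g) * P⁻¹ := by rw [hgr]; group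
  have hcoe : ∀ k : GL (Fin t → Fin m) F, ((glReindex e.symm k : GL (Fin n) F) : Matrix (Fin n) (Fin n) F) =
      Matrix.reindex e.symm e.symm (k : Matrix (Fin t → Fin m) (Fin t → Fin m) F) := fun k => rfl
  have hre_mul : ∀ A B : Matrix (Fin t → Fin m) (Fin t → Fin m) F,
      Matrix.reindex e.symm e.symm (A * B) = Matrix.reindex e.symm e.symm A * Matrix.reindex e.symm e.symm B := by
    intro A B
    exact map_mul (Matrix.reindexAlgEquiv F F e.symm) A B
  have key : ∀ A, Φ ((g : Matrix (Fin t → Fin m) (Fin t → Fin m) F) * A *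
      ((g⁻¹ : GL (Fin t → Fin m) F) : Matrix (Fin t → Fin m) (Fin t → Fin m) F)) = conjAlg h (Φ A) := by
    intro A
    rw [hP, hP, conjAlg_apply, hre_mul, hre_mul, ← hcoe g, ← hcoe g⁻¹, map_inv]
    have e1 : (h : Matrix (Fin n) (Fin n) F) = (P : Matrix (Fin n) (Fin n) F) *
        ((glReindex e.symm g : GL (Fin n) F) : Matrix (Fin n) (Fin n) F) * ((P⁻¹ : GL (Fin n) F) : Matrix (Fin n) (Fin n) F) := by
      conv_lhs => rw [hgh]
      rw [Units.val_mul, Units.val_mul]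
    have e2 : ((h⁻¹ : GL (Fin n) F) : Matrix (Fin n) (Fin n) F) = (P : Matrix (Fin n) (Fin n) F) *
        (((glReindex e.symm g)⁻¹ : GL (Fin n) F) : Matrix (Fin n) (Fin n) F) * ((P⁻¹ : GL (Fin n) F) : Matrix (Fin n) (Fin n) F) := by
      conv_lhs => rw [hgh]
      rw [_root_.mul_inv_rev, _root_.mul_inv_rev, inv_inv, Units.val_mul, Units.val_mul, mul_assoc]
    rw [e1, e2]
    simp only [mul_assoc]
    rw [← mul_assoc ((P⁻¹ : GL (Fin n) F) : Matrix (Fin n) (Fin n) F) (P : Matrix (Fin n) (Fin n) F), hPP, one_mul]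
    rw [← mul_assoc ((P⁻¹ : GL (Fin n) F) : Matrix (Fin n) (Fin n) F) (P : Matrix (Fin n) (Fin n) F), hPP, one_mul]
  have hmem : g ∈ tensorWreathStandard m t F := by
    apply mem_tensorWreathStandard ht g σ
    intro i a
    obtain ⟨b, hb⟩ := hσ i a
    refine ⟨b, hΦinj ?_⟩
    rw [key, hΦ, hΦ, hb]
  rw [hgh]
  exact Subgroup.mem_map.mpr ⟨glReindex e.symm g, Subgroup.mem_map.mpr ⟨g, hmem, rfl⟩, rfl⟩

end aux

variable {F : Type*} [Field F] [Fintype F] {n : ℕ}

/-- **C7-DATA** -/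
theorem c7_data (hn : 3 ≤ n) (H L : Subgroup (GL (Fin n) F)) (hH : AbsIrr H) (hQP : QP H)
    (hLH : L ≤ H) (hLs : ¬ L ≤ scalars (Fin n) F) (hperf : ⁅L, L⁆ = L) (hqs : SimpleModScal L)
    (hconj : ∀ h ∈ H, (∀ x ∈ L, h * x * h⁻¹ ∈ L) ∨
      (∀ x ∈ L, ∀ y ∈ L, (h * x * h⁻¹) * y = y * (h * x * h⁻¹)))
    (hnn : ¬ NormBy H L) :
    ∃ (m t : ℕ) (e : Fin n ≃ (Fin t → Fin m)) (P : GL (Fin n) F) (Y : Subgroup (GL (Fin m) F)),
      2 ≤ m ∧ 2 ≤ t ∧ H ≤ tensorWreathSubgroup m t e P ∧ AbsIrr Y ∧ Submodule.span F (matrixSet Y) = ⊤ ∧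
      ⁅Y, Y⁆ = Y ∧ ¬ Y ≤ scalars (Fin m) F ∧
      ∀ i : Fin t, ∀ a ∈ Y, ∃ g ∈ H, (g : Matrix (Fin n) (Fin n) F) = (P : Matrix (Fin n) (Fin n) F) *
        Matrix.reindex e.symm e.symm (pos i (a : Matrix (Fin m) (Fin m) F)) *
        ((P⁻¹ : GL (Fin n) F) : Matrix (Fin n) (Fin n) F) := by
  obtain ⟨t, hs, ht, hsH, ⟨i₀, hi₀⟩, hcomm, hperm⟩ := exists_conj_enum H L hLH hconj hnn
  have hN : AbsIrr (⨆ i, cj (hs i) L) := absIrr_iSup_cj H L hQP hLH hLs hs hsH ⟨i₀, hi₀⟩ hperm
  have hLN : L ≤ ⨆ i, cj (hs i) L := by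
    have := le_iSup (fun i => cj (hs i) L) i₀
    rwa [hi₀] at this
  obtain ⟨m, φ, h1, h2⟩ := exists_algHom_span (by omega) _ L hN hLN (exists_factor L hs i₀ hi₀ hcomm)
  have hc : ∀ i j, i ≠ j → ∀ a b, ((conjAlg (hs i)).comp φ) a * ((conjAlg (hs j)).comp φ) b =
      ((conjAlg (hs j)).comp φ) b * ((conjAlg (hs i)).comp φ) a :=
    fun i j hij a b => commute_ranges L φ h1 (hs i) (hs j) (hcomm i j hij) a b
  have hgen := adjoin_ranges_eq_top L φ h2 hs hN
  obtain ⟨e, P, hP'⟩ := exists_tens (by omega) m t (fun i => (conjAlg (hs i)).comp φ) hc hgen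
  have hm : 2 ≤ m := two_le_of_algHom (by omega) L hLs m φ h2
  have hHle : H ≤ tensorWreathSubgroup m t e P := by
    intro h hh
    apply tensor_recognition' m t (by omega) (fun i => (conjAlg (hs i)).comp φ) e P hP' h
    obtain ⟨σ, hσ⟩ := hperm h hh
    exact ⟨σ, fun i a => conj_range_perm L φ h1 h2 h (hs i) (hs (σ i)) (hσ i) a⟩
  -- `φ` is injective
  have hφinj : Function.Injective φ := by
    intro a b hab
    have h3 : ((conjAlg (hs ⟨0, by omega⟩)).comp φ) a = ((conjAlg (hs ⟨0, by omega⟩)).comp φ) b := by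
      rw [AlgHom.comp_apply, AlgHom.comp_apply, hab]
    rw [hP' ⟨0, by omega⟩ a, hP' ⟨0, by omega⟩ b] at h3
    exact pos_injective _ ((Matrix.reindex e.symm e.symm).injective (conj_cancel P _ _ h3))
  -- the group `Y`
  let ψ : GL (Fin m) F →* GL (Fin n) F := Units.map (φ : Matrix (Fin m) (Fin m) F →* Matrix (Fin n) (Fin n) F)
  have hψval : ∀ a : GL (Fin m) F, ((ψ a : GL (Fin n) F) : Matrix (Fin n) (Fin n) F) =
      φ (a : Matrix (Fin m) (Fin m) F) := fun a => rfl
  have hψinj : Function.Injective ψ := by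
    intro a b hab
    apply Units.ext
    apply hφinj
    rw [← hψval, ← hψval, hab]
  have hsurj : ∀ x ∈ L, ∃ a : GL (Fin m) F, ψ a ∈ L ∧ ψ a = x := by
    intro x hx
    obtain ⟨a₀, ha₀⟩ := h2 x hx
    obtain ⟨b₀, hb₀⟩ := h2 x⁻¹ (L.inv_mem hx)
    have hab : a₀ * b₀ = 1 := by
      apply hφinj
      rw [map_mul, ha₀, hb₀, map_one, ← Units.val_mul, mul_inv_cancel, Units.val_one]
    have hba : b₀ * a₀ = 1 := by
      apply hφinj
      rw [map_mul, ha₀, hb₀, map_one, ← Units.val_mul, inv_mul_cancel, Units.val_one]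
    have hax : ψ ⟨a₀, b₀, hab, hba⟩ = x := by
      apply Units.ext
      rw [hψval]
      exact ha₀
    exact ⟨⟨a₀, b₀, hab, hba⟩, by rw [hax]; exact hx, hax⟩
  have hspan : Submodule.span F (matrixSet (L.comap ψ)) = ⊤ := by
    rw [eq_top_iff]
    intro b _
    have hle : Submodule.span F (matrixSet L) ≤
        (Submodule.span F (matrixSet (L.comap ψ))).map φ.toLinearMap := by
      rw [Submodule.span_le]
      rintro _ ⟨x, hx, rfl⟩
      obtain ⟨a, haL, hax⟩ := hsurj x hx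
      refine ⟨(a : Matrix (Fin m) (Fin m) F), Submodule.subset_span ⟨a, haL, rfl⟩, ?_⟩
      rw [← hax]
      rfl
    obtain ⟨c, hc', hcb⟩ := hle (h1 b)
    have hcb' : c = b := hφinj hcb
    rw [← hcb']
    exact hc'
  have hmapY : (L.comap ψ).map ψ = L := by
    ext x
    constructor
    · rintro ⟨a, ha, rfl⟩
      exact ha
    · intro hx
      obtain ⟨a, haL, hax⟩ := hsurj x hx
      exact ⟨a, haL, hax⟩
  have hYperf : ⁅L.comap ψ, L.comap ψ⁆ = L.comap ψ := by
    apply Subgroup.map_injective hψinj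
    rw [Subgroup.map_commutator, hmapY, hperf]
  have hYns : ¬ L.comap ψ ≤ scalars (Fin m) F := by
    intro hY
    apply hLs
    intro x hx
    obtain ⟨a, haL, rfl⟩ := hsurj x hx
    obtain ⟨c, hc'⟩ := (mem_scalars_iff a).1 (hY haL)
    rw [mem_scalars_iff]
    refine ⟨c, ?_⟩
    rw [hψval, hc', map_smul, map_one]
  refine ⟨m, t, e, P, L.comap ψ, hm, ht, hHle, absIrr_of_span_eq_top _ hspan, hspan, hYperf, hYns,
    fun i a ha => ?_⟩
  refine ⟨hs i * ψ a * (hs i)⁻¹, H.mul_mem (H.mul_mem (hsH i) (hLH ha)) (H.inv_mem (hsH i)), ?_⟩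
  rw [← hP' i (a : Matrix (Fin m) (Fin m) F), AlgHom.comp_apply, conjAlg_apply, Units.val_mul, Units.val_mul,
    hψval]

end Cfsg.Agent.Lib.Helper17.S5662C7DATA
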