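import Mathlib
import Cfsg.Prelude.Def_GeometricClasses
import Cfsg.Agent.Lib.Helper7.AschDefs
import Cfsg.Agent.Lib.Helper7.AschCore
import Cfsg.Agent.Lib.Helper8.S5630I1
import Cfsg.Agent.Lib.Helper8.S5630I4TENS3
import Cfsg.Agent.Lib.Helper23.S5630I5
import Cfsg.Agent.Lib.Helper12.S5630I8
import Cfsg.Agent.Lib.Helper12.AschDescent
import Cfsg.Agent.Lib.Helper12.S5662SF
import Cfsg.Agent.Lib.Helper23.S5630CoreF1
import Cfsg.Agent.Lib.Helper9.HubCorA1
import Cfsg.Agent.Lib.Helper24.HubCorA2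
import Cfsg.Agent.Lib.Helper17.AschODefs
import Cfsg.Agent.Lib.Helper2.S5673O1
import Cfsg.Agent.Lib.Helper18.S5673Field
import Cfsg.Agent.Lib.Helper20.S5673O7a
import Cfsg.Agent.Lib.Helper20.S5673O4d12
import Cfsg.Agent.Lib.Helper20.S5673O4d3
import Cfsg.Agent.Lib.Helper14.S5673O6
import Cfsg.Agent.Lib.Helper14.S5673TRSTD
import Cfsg.Agent.Lib.Helper21.S5673OFSQ
import Cfsg.Agent.Lib.Helper21.S5673O4a
import Cfsg.Agent.Lib.Helper21.S5673O4b
import Cfsg.Agent.Lib.Helper22.AschC7Defs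
import Cfsg.Agent.Lib.Helper22.S5630I7A
import Cfsg.Agent.Lib.Helper20.S5673OT33
import Cfsg.Agent.Lib.Helper14.S5673TR
import Cfsg.Agent.Lib.Helper17.S5662C7DATA
import Cfsg.Agent.Lib.Helper12.S5662C7A
import Cfsg.Agent.Lib.Helper12.S5662C7F
import Cfsg.Agent.Lib.Helper11.AschCliffDefs
import Cfsg.Agent.Lib.Helper11.AschCliffAct
import Cfsg.Agent.Lib.Helper11.FormCliffDefs
import Cfsg.Agent.Lib.Helper11.FormCliffComps
import Cfsg.Agent.Lib.Helper11.FormCliffField
import Cfsg.Agent.Lib.Helper11.AschCliffBridge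
import Cfsg.Agent.Lib.Helper11.FormCliffBridge

/-!
# S5673: Aschbacher's theorem for the isometry group of a non-degenerate quadratic form in odd dimension, `q` odd (helper17, architect)

ALL blocks are REAL (wired to the landed pieces): O1 + OF-POLAR helper2; O2 block helper18; OF-SQ, O4a, O4b helper21; O4d1-3, O7a, O-T33
helper20 (spare O-T33 helper18); O6, TR-STD, TR block helper14 (on helper16/helper19's GeoTR); O8a/O8b helper12 (form descent, AschDescent);
formClifford = helper11's generic Clifford-with-forms (pieces helper2, helper23, helper26, helper7, helper8, helper18); formC7 = helper16's SpI7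
pieces (C7-DATA mine, C7-G/I/E/F helper12) on helper22's I7 machinery; OF-C5, O4d4, the class-7 normalisation and the assemblies mine.
Paper proofs: `notes/S5673_helper17.md`.
-/

set_option autoImplicit false
set_option linter.unusedVariables false
set_option linter.unusedSectionVars false

namespace Cfsg.Agent.Lib.Helper17.AschO

open Matrix Cfsg Cfsg.Geo Cfsg.Agent.Lib.Helper7.Asch
open scoped commutatorElement Kronecker

variable {F : Type*} [Field F] [Fintype F] {n : ℕ} {Q : (Fin n → F) → F}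

/-! ## shared form pieces (Fin n world) -/

/-- **OF-POLAR** the polar form of a non-degenerate quadratic function is a non-degenerate symmetric form, and
`Q v = polar Q v v / 2` -/
theorem isSymmetricForm_polar (S : OSetup Q) : IsSymmetricForm (QuadraticMap.polar Q) :=
  Cfsg.Agent.Lib.Helper2.S5673O1.isSymmetricForm_polar S

/-- **OF-POLAR** -/
theorem polar_self (S : OSetup Q) (v : Fin n → F) : QuadraticMap.polar Q v v = 2 * Q v :=
  Cfsg.Agent.Lib.Helper2.S5673O1.polar_self S v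

/-- **OF-POLAR** isometries of `Q` fix the polar form -/
theorem fixesForm_of_le_isometryGroup (H : Subgroup (GL (Fin n) F)) (hHI : H ≤ isometryGroup F Q) :
    FixesForm (matrixSet H) (QuadraticMap.polar Q) :=
  Cfsg.Agent.Lib.Helper2.S5673O1.fixesForm_of_le_isometryGroup H hHI

/-- **OF-POLAR** conversely (char ≠ 2) a matrix fixing the polar form is an isometry of `Q` -/
theorem mem_isometryGroup_of_fixes (S : OSetup Q) (g : GL (Fin n) F)
    (hg : ∀ u v, QuadraticMap.polar Q ((g : Matrix (Fin n) (Fin n) F) *ᵥ u) ((g : Matrix (Fin n) (Fin n) F) *ᵥ v) =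
      QuadraticMap.polar Q u v) : g ∈ isometryGroup F Q :=
  Cfsg.Agent.Lib.Helper2.S5673O1.mem_isometryGroup_of_fixes S g hg

/-! ### Gram-matrix calculus (REAL) -/

theorem formOfGram_id_eq {κ : Type} [Fintype κ] (G : Matrix κ κ F) (x y : κ → F) :
    formOfGram id G x y = x ⬝ᵥ (G *ᵥ y) := by
  unfold formOfGram
  simp only [dotProduct, mulVec, id, Finset.mul_sum, mul_assoc]

theorem formOfGram_single {κ : Type} [Fintype κ] [DecidableEq κ] (G : Matrix κ κ F) (a b : κ) :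
    formOfGram id G (Pi.single a 1) (Pi.single b 1) = G a b := by
  rw [formOfGram_id_eq]
  simp

theorem formOfGram_smul {κ : Type} [Fintype κ] (μ : F) (G : Matrix κ κ F) (x y : κ → F) :
    formOfGram id (μ • G) x y = μ * formOfGram id G x y := by
  rw [formOfGram_id_eq, formOfGram_id_eq, Matrix.smul_mulVec, dotProduct_smul, smul_eq_mul]

theorem formOfGram_conj {κ : Type} [Fintype κ] (G A : Matrix κ κ F) (x y : κ → F) :
    formOfGram id (Aᵀ * G * A) x y = formOfGram id G (A *ᵥ x) (A *ᵥ y) := by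
  rw [formOfGram_id_eq, formOfGram_id_eq, ← Matrix.mulVec_mulVec, ← Matrix.mulVec_mulVec,
    Matrix.dotProduct_mulVec, Matrix.vecMul_transpose]

/-! ## O1 : reducible groups -/

/-- **O1**.  `W` invariant, `0 < W < V`.  `R := W ⊓ W^⊥` (`W^⊥ = {v | ∀ w ∈ W, polar Q w v = 0}`) is invariant
(`H` fixes the polar form).  `R ≠ ⊥`: `Q` vanishes on `R` (`polar_self`, `2 ≠ 0`): `of_singular`.  `R = ⊥`: `W` is
non-degenerate (`IsNondegenerateOn`): `of_nondeg`.  (Model: `Helper8.S5630I1.inClass_of_not_irr`.) -/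
theorem inClassO_of_not_irr (S : OSetup Q) (H : Subgroup (GL (Fin n) F)) (hHI : H ≤ isometryGroup F Q)
    (h : ¬ Irr H) : InClassO n Q H :=
  Cfsg.Agent.Lib.Helper2.S5673O1.inClassO_of_not_irr S H hHI h

/-! ## the field exits (O2 and the field case of O4) -/

/-- **OF-SA** an adjoint-closed field subalgebra of ODD degree is elementwise self-adjoint.
`τ k := k'` is unique (non-degeneracy), an `F`-algebra endomorphism of `K` (commutative), `τ² = id` (symmetry of `f`).
`K = K₊ ⊕ K₋` (`2 ≠ 0`); if `ω ∈ K₋`, `ω ≠ 0`, then `x ↦ ω x` is an `F`-linear bijection `K₊ → K₋`, so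
`r = 2 dim K₊`: contradiction.  So `K₋ = 0`. -/
theorem isSelfAdjointFor_of_adjointClosed (hq : Odd (Fintype.card F)) (f : (Fin n → F) → (Fin n → F) → F)
    (hf : IsSymmetricForm f) (r : ℕ) (hr : Odd r) (K : Subalgebra F (Matrix (Fin n) (Fin n) F))
    (hK : IsFieldSubalgebra r K) (hac : IsAdjointClosedFor f K) : IsSelfAdjointFor f K :=
  Cfsg.Agent.Lib.Helper18.S5673Field.isSelfAdjointFor_of_adjointClosed hq f hf r hr K hK hac

/-- **OF-FX** a group of isometries centralising a self-adjoint field of degree `n = dim V` is scalar.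
`C(K) = K` (fix `v ≠ 0`: `k ↦ k v` is injective, hence bijective `K → V`; `M ∈ C(K)`, `M v = k₀ v` ⇒ `M = k₀`).
`x ∈ X`: `x ∈ K` self-adjoint and an isometry ⇒ `f u (x² v) = f u v` ⇒ `x² = 1` ⇒ `(x-1)(x+1) = 0` ⇒ `x = ±1`. -/
theorem le_scalars_of_centralizes_field (f : (Fin n → F) → (Fin n → F) → F) (hf : IsSymmetricForm f)
    (K : Subalgebra F (Matrix (Fin n) (Fin n) F)) (hK : IsFieldSubalgebra n K) (hsa : IsSelfAdjointFor f K)
    (X : Subgroup (GL (Fin n) F)) (hfix : FixesForm (matrixSet X) f)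
    (hXK : ∀ x ∈ X, ∀ k ∈ K, (x : Matrix (Fin n) (Fin n) F) * k = k * (x : Matrix (Fin n) (Fin n) F)) :
    X ≤ scalars (Fin n) F :=
  Cfsg.Agent.Lib.Helper18.S5673Field.le_scalars_of_centralizes_field f hf K hK hsa X hfix hXK

/-- **O2a** the commutant of an irreducible, not absolutely irreducible group of isometries contains an adjoint-closed
subfield of prime degree, centralised by `H`.  `E := commutant`, a field (CORE-SCHa/b); `E` is adjoint-closed (`x ∈ E`,
`h* = h⁻¹` for `h ∈ H` ⇒ `x* ∈ E`; `x* = G⁻¹ xᵀ G`, `G` the Gram matrix); CORE-FFa `exists_prime_field_subalgebra` gives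
`K = {x ∈ E | x^(q^r) = x}`, adjoint-closed because `*` is a ring automorphism of the commutative `E`. -/
theorem exists_field_of_not_absIrr (hn : 3 ≤ n) (f : (Fin n → F) → (Fin n → F) → F) (hf : IsSymmetricForm f)
    (H : Subgroup (GL (Fin n) F)) (hfix : FixesForm (matrixSet H) f) (h1 : Irr H) (h2 : ¬ AbsIrr H) :
    ∃ (r : ℕ) (K : Subalgebra F (Matrix (Fin n) (Fin n) F)), r.Prime ∧ IsFieldSubalgebra r K ∧
      IsAdjointClosedFor f K ∧
      (∀ x ∈ H, ∀ k ∈ K, (x : Matrix (Fin n) (Fin n) F) * k = k * (x : Matrix (Fin n) (Fin n) F)) :=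
  Cfsg.Agent.Lib.Helper18.S5673Field.exists_field_of_not_absIrr hn f hf H hfix h1 h2

/-- elements centralising a subalgebra normalise it -/
theorem le_subalgebraNormalizer_of_centralizes (H : Subgroup (GL (Fin n) F))
    (K : Subalgebra F (Matrix (Fin n) (Fin n) F))
    (hHK : ∀ x ∈ H, ∀ k ∈ K, (x : Matrix (Fin n) (Fin n) F) * k = k * (x : Matrix (Fin n) (Fin n) F)) :
    H ≤ subalgebraNormalizer K :=
  Cfsg.Agent.Lib.Helper18.S5673Field.le_subalgebraNormalizer_of_centralizes H K hHK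

/-- the common field exit: an adjoint-closed field subalgebra of prime degree normalised by `H`, centralised by a
non-scalar `X ≤ I` -/
theorem inClassO_of_field (S : OSetup Q) (hn : 3 ≤ n) (H X : Subgroup (GL (Fin n) F)) (hHI : H ≤ isometryGroup F Q)
    (hXI : X ≤ isometryGroup F Q) (hXs : ¬ X ≤ scalars (Fin n) F) (r : ℕ)
    (K : Subalgebra F (Matrix (Fin n) (Fin n) F)) (hr : r.Prime) (hK : IsFieldSubalgebra r K)
    (hac : IsAdjointClosedFor (QuadraticMap.polar Q) K)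
    (hXK : ∀ x ∈ X, ∀ k ∈ K, (x : Matrix (Fin n) (Fin n) F) * k = k * (x : Matrix (Fin n) (Fin n) F))
    (hH : H ≤ subalgebraNormalizer K) : InClassO n Q H := by
  have hnpos : 0 < n := by omega
  have hdvd : r ∣ n := Cfsg.Agent.Lib.Helper24.HubCor.dvd_of_isFieldSubalgebra K hK hnpos
  have hnodd : Odd n := by simpa using S.odd_dim
  have hrodd : Odd r := by
    rcases Nat.even_or_odd r with he | ho
    · exact absurd (he.two_dvd.trans hdvd) (by rw [← Nat.not_even_iff_odd] at hnodd; exact fun h => hnodd (even_iff_two_dvd.2 h))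
    · exact ho
  have hsa := isSelfAdjointFor_of_adjointClosed S.odd_card _ (isSymmetricForm_polar S) r hrodd K hK hac
  refine InClassO.of_field H hHI r K hr ?_ hK hsa hH
  rintro rfl
  exact hXs (le_scalars_of_centralizes_field _ (isSymmetricForm_polar S) K hK hsa X
    (fixesForm_of_le_isometryGroup X hXI) hXK)

/-- **O2** irreducible, not absolutely irreducible: class 3 -/
theorem inClassO_of_not_absIrr (S : OSetup Q) (hn : 3 ≤ n) (H : Subgroup (GL (Fin n) F))
    (hHI : H ≤ isometryGroup F Q) (h1 : Irr H) (h2 : ¬ AbsIrr H) : InClassO n Q H := by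
  obtain ⟨r, K, hr, hK, hac, hHK⟩ := exists_field_of_not_absIrr hn _ (isSymmetricForm_polar S) H
    (fixesForm_of_le_isometryGroup H hHI) h1 h2
  exact inClassO_of_field S hn H H hHI hHI
    (Cfsg.Agent.Lib.Helper8.S5630I1.not_scalar_of_irr (by omega) H h1) r K hr hK hac hHK
    (le_subalgebraNormalizer_of_centralizes H K hHK)

/-! ## the subfield exit (used by the frames and by O8) -/

/-- **OF-SQ** (square classes).  `n` odd, `a^n u = v s²` with `u, v ∈ F₁ˣ`: some `μ² a` lies in `F₁`.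
`r` odd: `F₁ˣ (Fˣ)² = Fˣ` (a non-square `g` of `F₁` stays a non-square: `(q-1)/(q₁-1) = 1 + q₁ + ⋯ + q₁^(r-1)` is odd).
`r = 2`: every element of `F₁` is a square in `F`, so `a^n` is a square, so `a` is (`n` odd): `μ = 1/√a`. -/
theorem exists_sq_mul_mem (hq : Odd (Fintype.card F)) (F₁ : Subfield F) (r : ℕ) (hr : r.Prime)
    (hc : Fintype.card F = Nat.card F₁ ^ r) (N : ℕ) (hN : Odd N) (a u v s : F) (ha : a ≠ 0) (hu : u ∈ F₁)
    (hv : v ∈ F₁) (hu0 : u ≠ 0) (hv0 : v ≠ 0) (hs : s ≠ 0) (h : a ^ N * u = v * s ^ 2) :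
    ∃ μ : F, μ ≠ 0 ∧ μ ^ 2 * a ∈ F₁ :=
  Cfsg.Agent.Lib.Helper21.S5673OFSQ.exists_sq_mul_mem hq F₁ r hr hc N hN a u v s ha hu hv hu0 hv0 hs h

/-! ### the class-5 funnel OF-C5 (REAL assembly on OF-SQ and OF-POLAR) -/

theorem two_ne_zero_of_odd (hq : Odd (Fintype.card F)) : (2 : F) ≠ 0 := by
  intro h
  have h2 : ringChar F = 2 := CharP.ringChar_of_prime_eq_zero Nat.prime_two (by exact_mod_cast h)
  have := FiniteField.even_card_of_char_two h2
  rcases hq with ⟨k, hk⟩
  omega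

theorem two_mem (F₁ : Subfield F) : (2 : F) ∈ F₁ := by
  rw [← one_add_one_eq_two]
  exact F₁.add_mem F₁.one_mem F₁.one_mem

theorem det_mem_of_entries_mem (F₁ : Subfield F) (M : Matrix (Fin n) (Fin n) F) (h : ∀ i j, M i j ∈ F₁) :
    M.det ∈ F₁ := by
  have hM : M = (F₁.subtype).mapMatrix (Matrix.of fun i j => (⟨M i j, h i j⟩ : F₁)) := by
    ext i j
    rfl
  rw [hM, ← RingHom.map_det]
  exact SetLike.coe_mem _

theorem map_conj_mul_of_mem {G : Type*} [Group G] (K : Subgroup G) (P b : G) (hb : b ∈ K) :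
    K.map (MulAut.conj (P * b)).toMonoidHom = K.map (MulAut.conj P).toMonoidHom := by
  ext x
  rw [Subgroup.mem_map_equiv, Subgroup.mem_map_equiv]
  simp only [MulAut.conj_symm_apply]
  have h : (P * b)⁻¹ * x * (P * b) = b⁻¹ * (P⁻¹ * x * P) * b := by group
  rw [h]
  constructor
  · intro h'
    have := K.mul_mem (K.mul_mem hb h') (K.inv_mem hb)
    convert this using 1
    group
  · intro h'
    exact K.mul_mem (K.mul_mem (K.inv_mem hb) h') hb

/-- the polar form is the form of its Gram matrix -/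
theorem polar_eq_formOfGram (S : OSetup Q) (u v : Fin n → F) :
    QuadraticMap.polar Q u v = formOfGram id (gramMatrix (QuadraticMap.polar Q)) u v := by
  rw [formOfGram_id_eq]
  have h := Cfsg.Agent.Lib.Helper23.S5630CoreF.sesq_repr (RingEquiv.refl F) _
    (Cfsg.Agent.Lib.Helper23.S5630CoreF.isSesq_of_isBilinearForm _ S.quad.polar_bilinear) u v
  simpa using h

theorem isUnit_gram (S : OSetup Q) : IsUnit (gramMatrix (QuadraticMap.polar Q)) :=
  Cfsg.Agent.Lib.Helper23.S5630CoreF.gram_isUnit (RingEquiv.refl F) _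
    (Cfsg.Agent.Lib.Helper23.S5630CoreF.isSesq_of_isBilinearForm _ S.quad.polar_bilinear) S.quad.nondegenerate

/-- **OF-C5** the class-5 funnel (REAL): `H ≤ I` inside a subfield group for `F₁` of prime index whose structure carries the
polar form up to a scalar `ζ` (shape of helper12's `S5662SF.exists_subfield_data`).  `X₁ := ζ P₀ᵀ G P₀` is over `F₁`;
`det`: `ζ⁻ⁿ det X₁ = det G (det P₀)²`, `det G ∈ ⊥ ≤ F₁` (`S.gram_prime`); OF-SQ gives `μ` with `μ² ζ⁻¹ ∈ F₁`; `P := P₀ μ` has the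
same subfield group and `Q (P u) = μ² ζ⁻¹ (ζ f (P₀ u) (P₀ u)) / 2 ∈ F₁`. -/
theorem inClassO_of_formRational (S : OSetup Q) (H : Subgroup (GL (Fin n) F)) (hHI : H ≤ isometryGroup F Q)
    (F₁ : Subfield F) (r : ℕ) (hr : r.Prime) (hc : Fintype.card F = Nat.card F₁ ^ r) (P₀ : GL (Fin n) F)
    (hH : H ≤ subfieldSubgroup F₁ P₀) (ζ : F) (hζ : ζ ≠ 0)
    (hrat : IsFormRationalStructure (QuadraticMap.polar Q) F₁ ζ P₀) : InClassO n Q H := by
  have hnodd : Odd n := by simpa using S.odd_dim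
  have h2 : (2 : F) ≠ 0 := two_ne_zero_of_odd S.odd_card
  have single_mem : ∀ i : Fin n, ∀ k, (Pi.single i (1 : F) : Fin n → F) k ∈ F₁ := by
    intro i k
    rw [Pi.single_apply]
    split_ifs
    · exact F₁.one_mem
    · exact F₁.zero_mem
  have hentry : ∀ i j, (ζ • ((P₀ : Matrix (Fin n) (Fin n) F)ᵀ * gramMatrix (QuadraticMap.polar Q) *
      (P₀ : Matrix (Fin n) (Fin n) F))) i j ∈ F₁ := by
    intro i j
    have h := hrat (Pi.single i 1) (Pi.single j 1) (single_mem i) (single_mem j)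
    rw [polar_eq_formOfGram S, ← formOfGram_conj, formOfGram_single] at h
    rw [Matrix.smul_apply, smul_eq_mul]
    exact h
  have hdetX := det_mem_of_entries_mem F₁ _ hentry
  have hdetG0 : (gramMatrix (QuadraticMap.polar Q)).det ≠ 0 :=
    ((Matrix.isUnit_iff_isUnit_det _).1 (isUnit_gram S)).ne_zero
  have hdetG : (gramMatrix (QuadraticMap.polar Q)).det ∈ F₁ :=
    det_mem_of_entries_mem F₁ _ (fun i j => (bot_le : (⊥ : Subfield F) ≤ F₁) (S.gram_prime i j))
  have hdetP0 : (P₀ : Matrix (Fin n) (Fin n) F).det ≠ 0 :=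
    ((Matrix.isUnit_iff_isUnit_det _).1 ⟨P₀, rfl⟩).ne_zero
  have hdet : (ζ⁻¹) ^ n * (ζ • ((P₀ : Matrix (Fin n) (Fin n) F)ᵀ * gramMatrix (QuadraticMap.polar Q) *
      (P₀ : Matrix (Fin n) (Fin n) F))).det =
      (gramMatrix (QuadraticMap.polar Q)).det * (P₀ : Matrix (Fin n) (Fin n) F).det ^ 2 := by
    rw [Matrix.det_smul, Matrix.det_mul, Matrix.det_mul, Matrix.det_transpose, Fintype.card_fin, inv_pow,
      ← mul_assoc, inv_mul_cancel₀ (pow_ne_zero n hζ), one_mul]
    ring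
  have hX0 : (ζ • ((P₀ : Matrix (Fin n) (Fin n) F)ᵀ * gramMatrix (QuadraticMap.polar Q) *
      (P₀ : Matrix (Fin n) (Fin n) F))).det ≠ 0 := by
    intro h0
    rw [h0, mul_zero] at hdet
    exact (mul_ne_zero hdetG0 (pow_ne_zero 2 hdetP0)) hdet.symm
  obtain ⟨μ, hμ, hμa⟩ := exists_sq_mul_mem S.odd_card F₁ r hr hc n hnodd ζ⁻¹ _ _ _ (inv_ne_zero hζ) hdetX hdetG hX0
    hdetG0 hdetP0 hdet
  -- the rescaled change of basis
  let z : GL (Fin n) F := Units.map (Matrix.scalar (Fin n) : F →+* Matrix (Fin n) (Fin n) F).toMonoidHom (Units.mk0 μ hμ)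
  have hz : z ∈ scalars (Fin n) F := ⟨Units.mk0 μ hμ, rfl⟩
  have hzval : (z : Matrix (Fin n) (Fin n) F) = μ • (1 : Matrix (Fin n) (Fin n) F) := by
    simp [z, Matrix.smul_one_eq_diagonal]
  have hsub : subfieldSubgroup F₁ (P₀ * z) = subfieldSubgroup F₁ P₀ := by
    unfold subfieldSubgroup
    exact map_conj_mul_of_mem _ P₀ z (Subgroup.mem_sup_right hz)
  refine InClassO.of_subfield H hHI F₁ r (P₀ * z) hr hc ?_ (hsub ▸ hH)
  intro u hu
  have hPu : ((P₀ * z : GL (Fin n) F) : Matrix (Fin n) (Fin n) F) *ᵥ u =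
      μ • ((P₀ : Matrix (Fin n) (Fin n) F) *ᵥ u) := by
    rw [Units.val_mul, hzval, Matrix.mul_smul, Matrix.mul_one, Matrix.smul_mulVec]
  rw [hPu, S.quad.smul]
  have hself := polar_self S ((P₀ : Matrix (Fin n) (Fin n) F) *ᵥ u)
  have hmem := hrat u u hu hu
  have hQ : μ ^ 2 * Q ((P₀ : Matrix (Fin n) (Fin n) F) *ᵥ u) =
      (μ ^ 2 * ζ⁻¹) * (2⁻¹ * (ζ * QuadraticMap.polar Q ((P₀ : Matrix (Fin n) (Fin n) F) *ᵥ u)
        ((P₀ : Matrix (Fin n) (Fin n) F) *ᵥ u))) := by
    rw [hself]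
    field_simp
  rw [hQ]
  exact F₁.mul_mem hμa (F₁.mul_mem (F₁.inv_mem (two_mem F₁)) hmem)

/-- the class-5 funnel in Gram-matrix shape (used by O4b) -/
theorem inClassO_of_subfield_gram (S : OSetup Q) (H : Subgroup (GL (Fin n) F)) (hHI : H ≤ isometryGroup F Q)
    (F₁ : Subfield F) (r : ℕ) (hr : r.Prime) (hc : Fintype.card F = Nat.card F₁ ^ r) (P₀ : GL (Fin n) F)
    (hH : H ≤ subfieldSubgroup F₁ P₀) (a : F) (ha : a ≠ 0) (X₁ : Matrix (Fin n) (Fin n) F)
    (hX₁ : ∀ i j, X₁ i j ∈ F₁)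
    (hX : (P₀ : Matrix (Fin n) (Fin n) F)ᵀ * gramMatrix (QuadraticMap.polar Q) * (P₀ : Matrix (Fin n) (Fin n) F) =
      a • X₁) : InClassO n Q H := by
  refine inClassO_of_formRational S H hHI F₁ r hr hc P₀ hH a⁻¹ (inv_ne_zero ha) ?_
  intro u v hu hv
  rw [polar_eq_formOfGram S, ← formOfGram_conj, hX, formOfGram_smul, ← mul_assoc, inv_mul_cancel₀ ha, one_mul]
  unfold formOfGram
  simp only [id]
  exact F₁.sum_mem (fun i _ => F₁.sum_mem (fun j _ => F₁.mul_mem (F₁.mul_mem (hu i) (hX₁ i j)) (hv j)))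

/-! ## O4 : Clifford theory with the form -/

/-- a symmetric form is a reflexive sesquilinear form for `σ = id` (helper11's vocabulary) -/
theorem rsForm_of_symmetric (f : (Fin n → F) → (Fin n → F) → F) (hf : IsSymmetricForm f) :
    Cfsg.Agent.Lib.Helper11.FCliff.RSForm (RingEquiv.refl F) f where
  add_left := hf.bilinear.add_left
  smul_left := hf.bilinear.smul_left
  add_right := hf.bilinear.add_right
  smul_right := by
    intro c v x
    simpa using hf.bilinear.smul_right c v x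
  refl := by
    intro u v h
    rw [hf.symm v u]
    exact h
  nondeg := hf.nondegenerate

section formClifford

open Cfsg.Agent.Lib.Helper11.Cliff Cfsg.Agent.Lib.Helper11.CliffAct Cfsg.Agent.Lib.Helper11.FCliff
  Cfsg.Agent.Lib.Helper11.CliffBridge Cfsg.Agent.Lib.Helper11.FCliffBridge

/-- **FORM-CLIFFORD** (REAL: helper11's generic Clifford-with-forms block `FormCliffMain.clifford_form_gen`, re-assembled here from the
same pieces [helper2, helper23, helper26, helper7, helper8, helper18, helper11] with ONE extra conjunct in the field outcome: `N`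
centralises `K`, which excludes `r = n` in class 3).  `N` normalised by the absolutely irreducible `H` fixing the symmetric `f`. -/
theorem formClifford (hn : 3 ≤ n) (f : (Fin n → F) → (Fin n → F) → F) (hf : IsSymmetricForm f)
    (H N : Subgroup (GL (Fin n) F)) (hH : AbsIrr H) (hfix : FixesForm (matrixSet H) f) (hNH : N ≤ H)
    (hnorm : NormBy H N) :
    (∃ (t k : ℕ) (D : Fin t → Submodule F (Fin n → F)), IsNondegenerateMDecomposition f k D ∧
      H ≤ decompositionStabilizer D) ∨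
    (∃ (k : ℕ) (D : Fin 2 → Submodule F (Fin n → F)), IsMDecomposition k D ∧
      (∀ i, IsTotallySingularFor f (D i)) ∧ H ≤ decompositionStabilizer D) ∨
    (∃ (r : ℕ) (K : Subalgebra F (Matrix (Fin n) (Fin n) F)), r.Prime ∧ IsFieldSubalgebra r K ∧
      IsAdjointClosedFor f K ∧
      (∀ x ∈ N, ∀ k ∈ K, (x : Matrix (Fin n) (Fin n) F) * k = k * (x : Matrix (Fin n) (Fin n) F)) ∧
      H ≤ subalgebraNormalizer K) ∨
    (∃ (d s : ℕ) (e : Fin n ≃ Fin d × Fin s) (P : GL (Fin n) F) (G₁ : Matrix (Fin d) (Fin d) F)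
      (G₂ : Matrix (Fin s) (Fin s) F), 2 ≤ d ∧ 2 ≤ s ∧ IsUnit G₁ ∧ IsUnit G₂ ∧
      H ≤ tensorProductSubgroup d s e P ∧
      ∀ x y : Fin d × Fin s → F,
        f ((P : Matrix (Fin n) (Fin n) F) *ᵥ (x ∘ e)) ((P : Matrix (Fin n) (Fin n) F) *ᵥ (y ∘ e)) =
          formOfGram id (G₁ ⊗ₖ G₂) x y) ∨
    N ≤ scalars (Fin n) F ∨ AbsIrr N := by
  have hRS := rsForm_of_symmetric f hf
  have hHf := hfix
  have hXf : FixesForm (matrixSet N) f := fun s hs => by
    obtain ⟨x, hx, rfl⟩ := hs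
    exact hfix _ ⟨x, hNH hx, rfl⟩
  have hX := hnorm
  have hss := isSemisimple_envEnd H N hH.1 hX
  rcases homog_or_comps H N hH.1 hX with hhom | ⟨t, m, D, hc⟩
  swap
  · obtain ⟨ν, hν⟩ := exists_partner hRS hX hss hXf D hc
    obtain ⟨hinv, heq, hdich⟩ := partner_invol_and_dichotomy hRS hX hHf hXf D hc ν hν
    rcases hdich with hid | hfp
    · left
      have hν' : ∀ i j, D j ≤ perpM hRS hXf (D i) ↔ j ≠ i := by
        intro i j
        rw [hν i j, hid i]
      obtain ⟨h1, h2⟩ := nondeg_decomposition_of_partner_self hRS hX hXf D hc hν'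
      exact ⟨t, m, _, h1, h2⟩
    · have ht2 : 2 ≤ t := hc.dec.two_le
      rcases Nat.lt_or_ge 2 t with ht | ht
      · left
        obtain ⟨t', E, h1, h2⟩ := nondeg_decomposition_of_pairs hRS hX hXf ht D hc ν hν hinv hfp heq
        exact ⟨t', 2 * m, E, h1, h2⟩
      · right; left
        have ht' : t = 2 := by omega
        subst ht'
        obtain ⟨h1, h2, h3⟩ := singular_pair_of_partner hRS hX hXf D hc ν hν hfp
        exact ⟨m, _, h1, h2, h3⟩
  obtain ⟨d, s, e, P, Y, hY, hXY⟩ := exists_block_form (by omega) N hss hhom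
  have hds : d * s = n := by
    have := Fintype.card_congr e
    simpa [Fintype.card_prod] using this.symm
  have hd0 : 1 ≤ d := by
    rcases Nat.eq_zero_or_pos d with h0 | h0
    · subst h0; simp at hds; omega
    · exact h0
  have hs0 : 1 ≤ s := by
    rcases Nat.eq_zero_or_pos s with h0 | h0
    · subst h0; simp at hds; omega
    · exact h0
  by_cases hYa : AbsIrr Y
  · rcases Nat.lt_or_ge d 2 with hd | hd
    · have hd1 : d = 1 := by omega
      subst hd1
      exact Or.inr (Or.inr (Or.inr (Or.inr (Or.inl (hXY ▸ map_kronL_le_scalars e P Y)))))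
    · rcases Nat.lt_or_ge s 2 with hs | hs
      · have hs1 : s = 1 := by omega
        subst hs1
        exact Or.inr (Or.inr (Or.inr (Or.inr (Or.inr (hXY ▸ absIrr_map_kronL e P Y hYa)))))
      · right; right; right; left
        have hle := le_tensorProductSubgroup_of_normalizes H N hX hd0 hs0 e P Y hYa hXY
        obtain ⟨G₁, G₂, hG1, hG2, hinvY, hform⟩ := gram_kron_of_fixes hRS hd0 hs0 e P Y hYa (hXY ▸ hXf)
        exact ⟨d, s, e, P, G₁, G₂, hd, hs, (Matrix.isUnit_iff_isUnit_det G₁).2 hG1,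
          (Matrix.isUnit_iff_isUnit_det G₂).2 hG2, hle, fun x y => hform x y⟩
  · right; right; left
    obtain ⟨r, K, hr, hK, hcanon, hle⟩ := exists_field_block H N hX hs0 e P Y hY hYa hXY
    refine ⟨r, K, hr, hK,
      isAdjointClosedFor_of_canonical hRS (cenAlg N) K _ (isAdjointClosedFor_cenAlg hRS N hXf) hcanon, ?_, hle⟩
    intro x hx k hk
    have hk1 := ((hcanon k).1 hk).1
    rw [mem_cenAlg_iff] at hk1
    exact (mem_commAlg_iff N k).1 hk1.1 x hx

end formClifford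

/-- **O4a** an irreducible group of isometries permutes the members of an invariant non-degenerate decomposition
transitively (the sum of an orbit is invariant), so the members are pairwise isometric. -/
theorem isOrthogonalMDecomposition_of_irr (S : OSetup Q) (H : Subgroup (GL (Fin n) F))
    (hHI : H ≤ isometryGroup F Q) (hirr : Irr H) {t : ℕ} (k : ℕ) (D : Fin t → Submodule F (Fin n → F))
    (hD : IsNondegenerateMDecomposition (QuadraticMap.polar Q) k D) (hH : H ≤ decompositionStabilizer D) :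
    IsOrthogonalMDecomposition Q k D :=
  Cfsg.Agent.Lib.Helper21.S5673O4a.isOrthogonalMDecomposition_of_irr S H hHI hirr k D hD hH

/-- **O4b** an orthogonal frame over a NON-prime field: class 5.  `D i = span {v i}`, `Q (v i) = c` for all `i` after
rescaling (isometric members), `h v i = ± v (σ i)`: `H ≤ subfieldSubgroup F₁ P₀`, `P₀ = [v i]`, `ζ = (2c)⁻¹`: `ζ f (P₀ u) (P₀ v) = u ⬝ᵥ v`;
`F₁ ≥ ⊥` of prime index (CORE-FFb `exists_prime_index_subfield`, `⊥ ≠ ⊤` as `q` is not prime); OF-C5 `inClassO_of_formRational`. -/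
theorem inClassO_of_frame_not_prime (S : OSetup Q) (H : Subgroup (GL (Fin n) F)) (hHI : H ≤ isometryGroup F Q)
    {t : ℕ} (D : Fin t → Submodule F (Fin n → F)) (hD : IsOrthogonalMDecomposition Q 1 D)
    (hH : H ≤ decompositionStabilizer D) (hq : ¬ (Fintype.card F).Prime) : InClassO n Q H :=
  Cfsg.Agent.Lib.Helper21.S5673O4b.inClassO_of_frame_not_prime_aux S H hHI D hD hH hq
    (fun F₁ r hr hc P₀ hH' a ha X₁ hX₁ hX => inClassO_of_subfield_gram S H hHI F₁ r hr hc P₀ hH' a ha X₁ hX₁ hX)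

/-- **O4d1** both Kronecker factors of a symmetric invertible Gram matrix in odd dimension are symmetric up to a common
sign that must be `+`: `G₁ᵀ ⊗ G₂ᵀ = G₁ ⊗ G₂` ⇒ `G₁ᵀ = λ G₁`, `G₂ᵀ = λ⁻¹ G₂`, `λ² = 1`; `λ = -1` makes `G₁` skew and
invertible in odd dimension `d` (`det G₁ = (-1)^d det G₁`): impossible. -/
theorem symm_of_kronecker_symm (hq : Odd (Fintype.card F)) {d s : ℕ} (hd : Odd d) (hs : 0 < s)
    (G₁ : Matrix (Fin d) (Fin d) F) (G₂ : Matrix (Fin s) (Fin s) F) (h1 : IsUnit G₁) (h2 : IsUnit G₂)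
    (h : (G₁ ⊗ₖ G₂)ᵀ = G₁ ⊗ₖ G₂) : G₁ᵀ = G₁ ∧ G₂ᵀ = G₂ :=
  Cfsg.Agent.Lib.Helper20.S5673O7a.symm_of_kronecker_symm hq hd hs G₁ G₂ h1 h2 h

/-- **O4d2** the form of a symmetric invertible Gram matrix -/
theorem isSymmetricForm_formOfGram {k : ℕ} (G : Matrix (Fin k) (Fin k) F) (hG : IsUnit G) (hsym : Gᵀ = G) :
    IsSymmetricForm (formOfGram id G) ∧ gramMatrix (formOfGram id G) = G :=
  Cfsg.Agent.Lib.Helper20.S5673O4d12.isSymmetricForm_formOfGram G hG hsym

/-- **O4d3** in odd dimension two non-degenerate symmetric forms over a finite field of odd order are similar: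
`G₂ = μ aᵀ G₁ a` (diagonalise; `⟨a, b⟩ ≅ ⟨1, ab⟩` since `a x² + b y²` represents `1`; so `G ≅ ⟨1, …, 1, det G⟩`;
scaling by `μ` multiplies the discriminant by `μ^d ≡ μ`). -/
theorem exists_similar_of_odd (hq : Odd (Fintype.card F)) {d : ℕ} (hd : Odd d)
    (G₁ G₂ : Matrix (Fin d) (Fin d) F) (h1 : IsUnit G₁) (h2 : IsUnit G₂) (hs1 : G₁ᵀ = G₁) (hs2 : G₂ᵀ = G₂) :
    ∃ (μ : F) (a : GL (Fin d) F), μ ≠ 0 ∧
      G₂ = μ • ((a : Matrix (Fin d) (Fin d) F)ᵀ * G₁ * (a : Matrix (Fin d) (Fin d) F)) :=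
  Cfsg.Agent.Lib.Helper20.S5673O4d3.exists_similar_of_odd hq hd G₁ G₂ h1 h2 hs1 hs2

/-- **O-T33** the corner `(q, k) = (3, 3)` of class 7: an orthogonal frame.  Every non-degenerate symmetric `G₁` on `F₃³` has
a basis `v₁ v₂ v₃` with `G₁ (v i) (v j) = ε δ_ij`; the vectors with `G₁ v v = ε` are the `± v i`, every similitude of `G₁`
has multiplier `1` and permutes the `± v i`.  `h ∈ H`: `reindex (P⁻¹ h P) = π · (g₁ ⊗ ⋯ ⊗ g_t)` (normal form in
`tensorWreathStandard`, cf. `Cfsg.H5.HubCor.wm`), `π` fixes `G₁^{⊗t}`, so `⊗ (g_iᵀ G₁ g_i) = ⊗ G₁` and each `g_i` is a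
similitude of `G₁`.  The `3^t` lines spanned by `P (v_{a_1} ⊗ ⋯ ⊗ v_{a_t})` form an orthogonal frame permuted by `H`:
`InClassO.of_frame` (`q = 3` is prime). -/
theorem inClassO_of_tensorWreath_33 (S : OSetup Q) (hq : Fintype.card F = 3) (H : Subgroup (GL (Fin n) F))
    (hHI : H ≤ isometryGroup F Q) (t : ℕ) (ht : 2 ≤ t) (e : Fin n ≃ (Fin t → Fin 3)) (P : GL (Fin n) F)
    (G₁ : Matrix (Fin 3) (Fin 3) F) (hG₁ : IsUnit G₁) (hsym : G₁ᵀ = G₁)
    (hH : H ≤ tensorWreathSubgroup 3 t e P) (c : F) (hc : c ≠ 0)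
    (hform : ∀ x y : (Fin t → Fin 3) → F,
      QuadraticMap.polar Q ((P : Matrix (Fin n) (Fin n) F) *ᵥ (x ∘ e)) ((P : Matrix (Fin n) (Fin n) F) *ᵥ (y ∘ e)) =
        c * ∑ a, ∑ b, x a * (∏ i, G₁ (a i) (b i)) * y b) : InClassO n Q H :=
  Cfsg.Agent.Lib.Helper20.S5673OT33.inClassO_of_tensorWreath_33 S hq H hHI t ht e P G₁ hG₁ hsym hH c hc hform

/-- the class-7 exit from a tensor-power Gram structure (the `(3,3)` corner goes to O-T33) -/
theorem inClassO_of_tensorWreath_gram (S : OSetup Q) (H : Subgroup (GL (Fin n) F)) (hHI : H ≤ isometryGroup F Q)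
    (k t : ℕ) (hk : 3 ≤ k) (ht : 2 ≤ t) (e : Fin n ≃ (Fin t → Fin k)) (P : GL (Fin n) F)
    (G₁ : Matrix (Fin k) (Fin k) F) (hG₁ : IsUnit G₁) (hsym : G₁ᵀ = G₁)
    (hH : H ≤ tensorWreathSubgroup k t e P) (c : F) (hc : c ≠ 0)
    (hform : ∀ x y : (Fin t → Fin k) → F,
      QuadraticMap.polar Q ((P : Matrix (Fin n) (Fin n) F) *ᵥ (x ∘ e)) ((P : Matrix (Fin n) (Fin n) F) *ᵥ (y ∘ e)) =
        c * ∑ a, ∑ b, x a * (∏ i, G₁ (a i) (b i)) * y b) : InClassO n Q H := by
  by_cases h33 : Fintype.card F = 3 ∧ k = 3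
  · obtain ⟨hq, rfl⟩ := h33
    exact inClassO_of_tensorWreath_33 S hq H hHI t ht e P G₁ hG₁ hsym hH c hc hform
  · obtain ⟨hf₁, hgram⟩ := isSymmetricForm_formOfGram G₁ hG₁ hsym
    refine InClassO.of_tensorWreath H hHI k t e P (formOfGram id G₁) hk ht h33 hf₁ ⟨c, hc, fun x y => ?_⟩ hH
    rw [hgram]
    simpa using hform x y

/-! ### Gram-matrix calculus for the tensor exit (REAL) -/

theorem formOfGram_swap {d s : ℕ} (G₁ : Matrix (Fin d) (Fin d) F) (G₂ : Matrix (Fin s) (Fin s) F)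
    (x y : Fin s × Fin d → F) :
    formOfGram id (G₁ ⊗ₖ G₂) (x ∘ Equiv.prodComm (Fin d) (Fin s)) (y ∘ Equiv.prodComm (Fin d) (Fin s)) =
      formOfGram id (G₂ ⊗ₖ G₁) x y := by
  unfold formOfGram
  refine Fintype.sum_equiv (Equiv.prodComm (Fin d) (Fin s)) _ _ (fun a => ?_)
  refine Fintype.sum_equiv (Equiv.prodComm (Fin d) (Fin s)) _ _ (fun b => ?_)
  obtain ⟨i, j⟩ := a
  obtain ⟨i', j'⟩ := b
  simp [Matrix.kroneckerMap_apply, mul_comm]

theorem formOfGram_kron_conj {d : ℕ} (G₁ a : Matrix (Fin d) (Fin d) F) (μ : F) (x y : Fin d × Fin d → F) :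
    formOfGram id (G₁ ⊗ₖ (μ • (aᵀ * G₁ * a))) x y =
      μ * formOfGram id (G₁ ⊗ₖ G₁) (((1 : Matrix (Fin d) (Fin d) F) ⊗ₖ a) *ᵥ x)
        (((1 : Matrix (Fin d) (Fin d) F) ⊗ₖ a) *ᵥ y) := by
  have h : ((1 : Matrix (Fin d) (Fin d) F) ⊗ₖ a)ᵀ * (G₁ ⊗ₖ G₁) * ((1 : Matrix (Fin d) (Fin d) F) ⊗ₖ a) =
      G₁ ⊗ₖ (aᵀ * G₁ * a) := by
    rw [← Matrix.kroneckerMap_transpose, Matrix.transpose_one, ← Matrix.mul_kronecker_mul,
      ← Matrix.mul_kronecker_mul, Matrix.one_mul, Matrix.mul_one]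
  rw [Matrix.kronecker_smul, formOfGram_smul, ← h, formOfGram_conj]

theorem glReindex_symm_mulVec {κ : Type} [Fintype κ] [DecidableEq κ] (e : Fin n ≃ κ) (B : GL κ F) (x : κ → F) :
    ((glReindex (F := F) e.symm B : GL (Fin n) F) : Matrix (Fin n) (Fin n) F) *ᵥ (x ∘ e) =
      ((B : Matrix κ κ F) *ᵥ x) ∘ e := by
  funext i
  simp only [Matrix.mulVec, dotProduct, Function.comp_apply]
  rw [← Equiv.sum_comp e]
  rfl

theorem tensorProductSubgroup_mul_kron {d s : ℕ} (e : Fin n ≃ Fin d × Fin s) (P : GL (Fin n) F)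
    (B : GL (Fin d × Fin s) F) (hB : B ∈ kroneckerSubgroup d s F) :
    tensorProductSubgroup d s e (P * glReindex (F := F) e.symm B) = tensorProductSubgroup d s e P := by
  unfold tensorProductSubgroup
  have hb : glReindex (F := F) e.symm B ∈
      (kroneckerSubgroup d s F).map (glReindex (F := F) e.symm).toMonoidHom := ⟨B, hB, rfl⟩
  generalize (kroneckerSubgroup d s F).map (glReindex (F := F) e.symm).toMonoidHom = K at hb ⊢
  generalize glReindex (F := F) e.symm B = b at hb ⊢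
  ext x
  rw [Subgroup.mem_map_equiv, Subgroup.mem_map_equiv]
  simp only [MulAut.conj_symm_apply]
  have h : (P * b)⁻¹ * x * (P * b) = b⁻¹ * (P⁻¹ * x * P) * b := by group
  rw [h]
  constructor
  · intro h'
    have := K.mul_mem (K.mul_mem hb h') (K.inv_mem hb)
    convert this using 1
    group
  · intro h'
    exact K.mul_mem (K.mul_mem (K.inv_mem hb) h') hb

/-- TENS3b (helper8) with the explicit bijection -/
theorem tensorProductSubgroup_le_tensorWreath' {m : ℕ} (e : Fin n ≃ Fin m × Fin m) (P : GL (Fin n) F) :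
    tensorProductSubgroup m m e P ≤ tensorWreathSubgroup m 2 (e.trans (finTwoArrowEquiv (Fin m)).symm) P := by
  unfold tensorProductSubgroup tensorWreathSubgroup
  apply Subgroup.map_mono
  rintro _ ⟨g, ⟨A, B, hg⟩, rfl⟩
  refine ⟨glReindex (F := F) (finTwoArrowEquiv (Fin m)).symm g, ?_, ?_⟩
  · apply Subgroup.subset_closure
    left
    refine ⟨![A, B], ?_⟩
    intro x y
    rw [Cfsg.Agent.Lib.Helper8.S5630I4TENS3.glReindex_val_apply, hg, Fin.prod_univ_two]
    simp [Matrix.kroneckerMap_apply, finTwoArrowEquiv]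
  · exact Cfsg.Agent.Lib.Helper8.S5630I4TENS3.glReindex_trans_apply e (finTwoArrowEquiv (Fin m)).symm g

/-- **O4d4** the tensor exit of O4 (REAL assembly from O4d1, O4d2, O4d3 and the class-7 exit): `H ≤ tensorProductSubgroup d s e P`,
Gram matrix `G₁ ⊗ G₂` in the tensor basis.  `d s = n` odd, so `d, s ≥ 3` odd; O4d1: `G₁, G₂` symmetric; O4d2: `f₁, f₂`.
`d < s`: `of_tensor`.  `d > s`: swap the factors (helper8's TENS3a).  `d = s`: O4d3 `G₂ = μ aᵀ G₁ a`; replace `P` by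
`P (1 ⊗ a)⁻¹` (same `tensorProductSubgroup`), Gram matrix `μ G₁ ⊗ G₁`; TENS3b (`t = 2`) and `inClassO_of_tensorWreath_gram`. -/
theorem inClassO_of_tensor_gram (S : OSetup Q) (H : Subgroup (GL (Fin n) F)) (hHI : H ≤ isometryGroup F Q)
    (d s : ℕ) (e : Fin n ≃ Fin d × Fin s) (P : GL (Fin n) F) (G₁ : Matrix (Fin d) (Fin d) F)
    (G₂ : Matrix (Fin s) (Fin s) F) (hd : 2 ≤ d) (hs : 2 ≤ s) (h1 : IsUnit G₁) (h2 : IsUnit G₂)
    (hH : H ≤ tensorProductSubgroup d s e P)
    (hform : ∀ x y : Fin d × Fin s → F,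
      QuadraticMap.polar Q ((P : Matrix (Fin n) (Fin n) F) *ᵥ (x ∘ e)) ((P : Matrix (Fin n) (Fin n) F) *ᵥ (y ∘ e)) =
        formOfGram id (G₁ ⊗ₖ G₂) x y) : InClassO n Q H := by
  have hnodd : Odd n := by simpa using S.odd_dim
  have hcard : n = d * s := by
    have h := Fintype.card_congr e
    simpa using h
  rw [hcard] at hnodd
  obtain ⟨hdodd, hsodd⟩ := Nat.odd_mul.1 hnodd
  have hd3 : 3 ≤ d := by
    obtain ⟨j, hj⟩ := hdodd
    omega
  have hs3 : 3 ≤ s := by
    obtain ⟨j, hj⟩ := hsodd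
    omega
  have hpsym := (isSymmetricForm_polar S).symm
  have hsymK : (G₁ ⊗ₖ G₂)ᵀ = G₁ ⊗ₖ G₂ := by
    ext a b
    rw [Matrix.transpose_apply, ← formOfGram_single (G₁ ⊗ₖ G₂) b a, ← formOfGram_single (G₁ ⊗ₖ G₂) a b,
      ← hform, ← hform, hpsym]
  obtain ⟨hsym1, hsym2⟩ := symm_of_kronecker_symm S.odd_card hdodd (by omega) G₁ G₂ h1 h2 hsymK
  obtain ⟨hf₁, hg₁⟩ := isSymmetricForm_formOfGram G₁ h1 hsym1
  obtain ⟨hf₂, hg₂⟩ := isSymmetricForm_formOfGram G₂ h2 hsym2
  rcases lt_trichotomy d s with hlt | heq | hgt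
  · refine InClassO.of_tensor H hHI d s e P _ _ hd3 hlt hf₁ hf₂ ⟨1, one_ne_zero, fun x y => ?_⟩ hH
    rw [hg₁, hg₂, one_mul]
    exact hform x y
  · subst heq
    obtain ⟨μ, a, hμ, hG₂⟩ := exists_similar_of_odd S.odd_card hdodd G₁ G₂ h1 h2 hsym1 hsym2
    let A : GL (Fin d × Fin d) F :=
      ⟨(1 : Matrix (Fin d) (Fin d) F) ⊗ₖ (a : Matrix (Fin d) (Fin d) F),
        (1 : Matrix (Fin d) (Fin d) F) ⊗ₖ ((a⁻¹ : GL (Fin d) F) : Matrix (Fin d) (Fin d) F),
        by rw [← Matrix.mul_kronecker_mul, ← Units.val_mul, mul_inv_cancel, Units.val_one, one_mul,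
          Matrix.one_kronecker_one],
        by rw [← Matrix.mul_kronecker_mul, ← Units.val_mul, inv_mul_cancel, Units.val_one, one_mul,
          Matrix.one_kronecker_one]⟩
    have hAval : (A : Matrix (Fin d × Fin d) (Fin d × Fin d) F) =
        (1 : Matrix (Fin d) (Fin d) F) ⊗ₖ (a : Matrix (Fin d) (Fin d) F) := rfl
    have hA : A ∈ kroneckerSubgroup d d F := ⟨1, a, by rw [hAval, Units.val_one]⟩
    have hT := tensorProductSubgroup_mul_kron e P A⁻¹ ((kroneckerSubgroup d d F).inv_mem hA)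
    set P' : GL (Fin n) F := P * glReindex (F := F) e.symm A⁻¹ with hP'
    have hform' : ∀ x y : Fin d × Fin d → F,
        QuadraticMap.polar Q ((P' : Matrix (Fin n) (Fin n) F) *ᵥ (x ∘ e))
          ((P' : Matrix (Fin n) (Fin n) F) *ᵥ (y ∘ e)) = μ * formOfGram id (G₁ ⊗ₖ G₁) x y := by
      intro x y
      have hAA : ∀ z : Fin d × Fin d → F,
          ((1 : Matrix (Fin d) (Fin d) F) ⊗ₖ (a : Matrix (Fin d) (Fin d) F)) *ᵥ
            (((A⁻¹ : GL (Fin d × Fin d) F) : Matrix (Fin d × Fin d) (Fin d × Fin d) F) *ᵥ z) = z := by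
        intro z
        rw [← hAval, Matrix.mulVec_mulVec, ← Units.val_mul, mul_inv_cancel, Units.val_one, Matrix.one_mulVec]
      rw [hP', Units.val_mul, ← Matrix.mulVec_mulVec, ← Matrix.mulVec_mulVec, glReindex_symm_mulVec,
        glReindex_symm_mulVec, hform, hG₂, formOfGram_kron_conj, hAA, hAA]
    have hHW : H ≤ tensorWreathSubgroup d 2 (e.trans (finTwoArrowEquiv (Fin d)).symm) P' := by
      refine le_trans ?_ (tensorProductSubgroup_le_tensorWreath' e P')
      rw [hT]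
      exact hH
    refine inClassO_of_tensorWreath_gram S H hHI d 2 hd3 le_rfl (e.trans (finTwoArrowEquiv (Fin d)).symm) P' G₁ h1
      hsym1 hHW μ hμ (fun x y => ?_)
    have key := hform' (x ∘ (finTwoArrowEquiv (Fin d)).symm) (y ∘ (finTwoArrowEquiv (Fin d)).symm)
    refine key.trans ?_
    congr 1
    unfold formOfGram
    refine Fintype.sum_equiv (finTwoArrowEquiv (Fin d)).symm _ _ (fun p => ?_)
    refine Fintype.sum_equiv (finTwoArrowEquiv (Fin d)).symm _ _ (fun q => ?_)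
    obtain ⟨p1, p2⟩ := p
    obtain ⟨q1, q2⟩ := q
    simp [Matrix.kroneckerMap_apply, Fin.prod_univ_two, finTwoArrowEquiv]
  · have hH' : H ≤ tensorProductSubgroup s d (e.trans (Equiv.prodComm (Fin d) (Fin s))) P := by
      rw [← Cfsg.Agent.Lib.Helper8.S5630I4TENS3.tensorProductSubgroup_swap e P]
      exact hH
    refine InClassO.of_tensor H hHI s d _ P _ _ hs3 hgt hf₂ hf₁ ⟨1, one_ne_zero, fun x y => ?_⟩ hH'
    rw [hg₁, hg₂, one_mul]
    have key := hform (x ∘ Equiv.prodComm (Fin d) (Fin s)) (y ∘ Equiv.prodComm (Fin d) (Fin s))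
    rw [formOfGram_swap] at key
    exact key

/-- **O4** Clifford trichotomy with the form (REAL assembly) -/
theorem cliffordO (S : OSetup Q) (hn : 3 ≤ n) (H N : Subgroup (GL (Fin n) F)) (hH : AbsIrr H)
    (hHI : H ≤ isometryGroup F Q) (hNH : N ≤ H) (hnorm : NormBy H N) :
    InClassO n Q H ∨ N ≤ scalars (Fin n) F ∨ AbsIrr N := by
  have hnodd : Odd n := by simpa using S.odd_dim
  rcases formClifford hn _ (isSymmetricForm_polar S) H N hH (fixesForm_of_le_isometryGroup H hHI) hNH hnorm with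
    ⟨t, k, D, hD, hHD⟩ | ⟨k, D, hD, -, -⟩ | ⟨r, K, hr, hK, hac, hNK, hHK⟩ |
    ⟨d, s, e, P, G₁, G₂, hd, hs, h1, h2, hHT, hform⟩ | h | h
  · -- non-degenerate decomposition
    left
    have hOD := isOrthogonalMDecomposition_of_irr S H hHI hH.1 k D hD hHD
    by_cases hk : 1 < k
    · exact InClassO.of_decomposition H hHI k D hk hOD hHD
    · have hk1 : k = 1 := by
        have := hD.decomp.pos
        omega
      subst hk1
      by_cases hq : (Fintype.card F).Prime
      · exact InClassO.of_frame H hHI D hq hOD hHD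
      · exact inClassO_of_frame_not_prime S H hHI D hOD hHD hq
  · -- two totally singular halves: the dimension would be even
    exfalso
    have h2k := Cfsg.Agent.Lib.Helper9.HubCor.mul_eq_of_isMDecomposition D hD
    rw [← h2k] at hnodd
    exact (Nat.not_even_iff_odd.2 hnodd) (even_two.mul_right k)
  · -- field
    by_cases hNs : N ≤ scalars (Fin n) F
    · exact Or.inr (Or.inl hNs)
    · exact Or.inl (inClassO_of_field S hn H N hHI (hNH.trans hHI) hNs r K hr hK hac hNK hHK)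
  · exact Or.inl (inClassO_of_tensor_gram S H hHI d s e P G₁ G₂ hd hs h1 h2 hHT hform)
  · exact Or.inr (Or.inl h)
  · exact Or.inr (Or.inr h)

/-- pure tensors and scalars -/
theorem pt_smul' {k t : ℕ} (μ : Fin t → F) (A : Fin t → Matrix (Fin k) (Fin k) F) :
    Cfsg.Agent.Lib.Helper22.AschC7.pt (fun i => μ i • A i) = (∏ i, μ i) • Cfsg.Agent.Lib.Helper22.AschC7.pt A := by
  ext x y
  simp only [Cfsg.Agent.Lib.Helper22.AschC7.pt_apply, Matrix.smul_apply, smul_eq_mul, Finset.prod_mul_distrib]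

/-- the class-7 exit from a Gram matrix `c • (A_1 ⊗ ⋯ ⊗ A_t)` with symmetric invertible factors of odd size (REAL: O4d3 makes all
factors similar to the first one; the similarities are moved into `P`) -/
theorem inClassO_of_tensorWreath_gram_gen (S : OSetup Q) (H : Subgroup (GL (Fin n) F)) (hHI : H ≤ isometryGroup F Q)
    (k t : ℕ) (hk : 3 ≤ k) (ht : 2 ≤ t) (e : Fin n ≃ (Fin t → Fin k)) (P : GL (Fin n) F)
    (A : Fin t → Matrix (Fin k) (Fin k) F) (hA : ∀ i, IsUnit (A i)) (hsym : ∀ i, (A i)ᵀ = A i)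
    (hH : H ≤ tensorWreathSubgroup k t e P) (c : F) (hc : c ≠ 0)
    (hform : ∀ x y : (Fin t → Fin k) → F,
      QuadraticMap.polar Q ((P : Matrix (Fin n) (Fin n) F) *ᵥ (x ∘ e)) ((P : Matrix (Fin n) (Fin n) F) *ᵥ (y ∘ e)) =
        c * ∑ a, ∑ b, x a * (∏ i, A i (a i) (b i)) * y b) : InClassO n Q H := by
  have hnodd : Odd n := by simpa using S.odd_dim
  have hcard : n = k ^ t := by
    have h := Fintype.card_congr e
    simpa using h
  have hkodd : Odd k := by
    rw [hcard] at hnodd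
    by_contra hk'
    rw [Nat.not_odd_iff_even] at hk'
    have : Even (k ^ t) := hk'.pow_of_ne_zero (by omega)
    exact (Nat.not_odd_iff_even.2 this) hnodd
  set A₀ := A ⟨0, by omega⟩ with hA₀
  have hex : ∀ i, ∃ (μ : F) (a : GL (Fin k) F), μ ≠ 0 ∧
      A i = μ • ((a : Matrix (Fin k) (Fin k) F)ᵀ * A₀ * (a : Matrix (Fin k) (Fin k) F)) :=
    fun i => exists_similar_of_odd S.odd_card hkodd A₀ (A i) (hA _) (hA i) (hsym _) (hsym i)
  choose μ a hμ hAi using hex
  -- the pure tensor of the `a i`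
  let g : GL (Fin t → Fin k) F :=
    ⟨Cfsg.Agent.Lib.Helper22.AschC7.pt (fun i => ((a i : GL (Fin k) F) : Matrix (Fin k) (Fin k) F)),
      Cfsg.Agent.Lib.Helper22.AschC7.pt (fun i => (((a i)⁻¹ : GL (Fin k) F) : Matrix (Fin k) (Fin k) F)),
      by
        rw [Cfsg.Agent.Lib.Helper22.S5630I7A.pt_mul]
        simp only [← Units.val_mul, mul_inv_cancel, Units.val_one]
        exact Cfsg.Agent.Lib.Helper22.S5630I7A.pt_one,
      by
        rw [Cfsg.Agent.Lib.Helper22.S5630I7A.pt_mul]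
        simp only [← Units.val_mul, inv_mul_cancel, Units.val_one]
        exact Cfsg.Agent.Lib.Helper22.S5630I7A.pt_one⟩
  have hgval : (g : Matrix (Fin t → Fin k) (Fin t → Fin k) F) =
      Cfsg.Agent.Lib.Helper22.AschC7.pt (fun i => ((a i : GL (Fin k) F) : Matrix (Fin k) (Fin k) F)) := rfl
  have hg : g ∈ tensorWreathStandard k t F :=
    Subgroup.subset_closure (Or.inl ((Cfsg.Agent.Lib.Helper22.AschC7.isPureTensor_iff g).2 ⟨a, rfl⟩))
  have hHW : H ≤ tensorWreathSubgroup k t e (P * glReindex (F := F) e.symm g⁻¹) := by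
    unfold tensorWreathSubgroup
    have hmem : glReindex (F := F) e.symm g⁻¹ ∈
        (tensorWreathStandard k t F).map (glReindex (F := F) e.symm).toMonoidHom :=
      ⟨g⁻¹, (tensorWreathStandard k t F).inv_mem hg, rfl⟩
    rw [map_conj_mul_of_mem _ P (glReindex (F := F) e.symm g⁻¹) hmem]
    exact hH
  have hptA : Cfsg.Agent.Lib.Helper22.AschC7.pt A = (∏ i, μ i) •
      ((g : Matrix (Fin t → Fin k) (Fin t → Fin k) F)ᵀ * Cfsg.Agent.Lib.Helper22.AschC7.pt (fun _ => A₀) *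
        (g : Matrix (Fin t → Fin k) (Fin t → Fin k) F)) := by
    rw [hgval, Cfsg.Agent.Lib.Helper22.S5630I7A.pt_transpose, Cfsg.Agent.Lib.Helper22.S5630I7A.pt_mul,
      Cfsg.Agent.Lib.Helper22.S5630I7A.pt_mul, ← pt_smul']
    congr 1
    funext i
    exact hAi i
  have hformG : ∀ (B : Fin t → Matrix (Fin k) (Fin k) F) (x y : (Fin t → Fin k) → F),
      (∑ a, ∑ b, x a * (∏ i, B i (a i) (b i)) * y b) =
        formOfGram id (Cfsg.Agent.Lib.Helper22.AschC7.pt B) x y := by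
    intro B x y
    rfl
  refine inClassO_of_tensorWreath_gram S H hHI k t hk ht e (P * glReindex (F := F) e.symm g⁻¹) A₀ (hA _) (hsym _)
    hHW (c * ∏ i, μ i) (mul_ne_zero hc (Finset.prod_ne_zero_iff.2 (fun i _ => hμ i))) (fun x y => ?_)
  have hgg : ∀ z : (Fin t → Fin k) → F,
      (g : Matrix (Fin t → Fin k) (Fin t → Fin k) F) *ᵥ
        (((g⁻¹ : GL (Fin t → Fin k) F) : Matrix (Fin t → Fin k) (Fin t → Fin k) F) *ᵥ z) = z := by
    intro z
    rw [Matrix.mulVec_mulVec, ← Units.val_mul, mul_inv_cancel, Units.val_one, Matrix.one_mulVec]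
  rw [Units.val_mul, ← Matrix.mulVec_mulVec, ← Matrix.mulVec_mulVec, glReindex_symm_mulVec, glReindex_symm_mulVec,
    hform, hformG A, hformG (fun _ => A₀), hptA, formOfGram_smul, formOfGram_conj, hgg, hgg]
  ring

/-! ## O6 : the symplectic-type case does not occur -/

/-- **O6**.  `N` is absolutely irreducible, so not commutative (CORE-AB, `n ≥ 2`): `x y ≠ y x`, `⁅x, y⁆ = c • 1`, `c ≠ 1`;
`⁅x, y⁆ ∈ N ≤ I` is an isometry: `c² Q v = Q v`, `Q ≠ 0`, so `c = -1`; determinants: `1 = det ⁅x, y⁆ = c^n = -1` (`n` odd,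
`2 ≠ 0`): contradiction. -/
theorem c6_impossible (S : OSetup Q) (hn : 3 ≤ n) (N : Subgroup (GL (Fin n) F)) (hNI : N ≤ isometryGroup F Q)
    (hNabs : AbsIrr N) (hcomm : ∀ x ∈ N, ∀ y ∈ N, ⁅x, y⁆ ∈ scalars (Fin n) F) : False :=
  Cfsg.Agent.Lib.Helper14.S5673O6.c6_impossible S hn N hNI hNabs hcomm

/-! ## O7 : the tensor-induced case -/

/-- **C7-F** (helper16's `SpAC7Skel.exists_inv_form`; REAL: helper12) -/
theorem exists_inv_form {m t : ℕ} (hm : 1 ≤ m) (ht : 1 ≤ t) (Y : Subgroup (GL (Fin m) F)) (hY : AbsIrr Y)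
    (hspan : Submodule.span F (matrixSet Y) = ⊤) (G : Matrix (Fin t → Fin m) (Fin t → Fin m) F) (hG : IsUnit G.det)
    (hinv : ∀ i : Fin t, ∀ a ∈ Y,
      (Cfsg.Agent.Lib.Helper22.AschC7.pos i (a : Matrix (Fin m) (Fin m) F))ᵀ * G *
        Cfsg.Agent.Lib.Helper22.AschC7.pos i (a : Matrix (Fin m) (Fin m) F) = G) :
    ∃ (B : Matrix (Fin m) (Fin m) F) (c : F), c ≠ 0 ∧ IsUnit B.det ∧
      (∀ a ∈ Y, (a : Matrix (Fin m) (Fin m) F)ᵀ * B * (a : Matrix (Fin m) (Fin m) F) = B) ∧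
      G = c • Cfsg.Agent.Lib.Helper22.AschC7.pt (fun _ : Fin t => B) :=
  Cfsg.Agent.Lib.Helper12.S5662C7F.exists_inv_form hm ht Y hY hspan G hG hinv

/-- **FORM-C7** the tensor-induced case with a symmetric form (REAL assembly from helper16's SpI7 pieces: C7-DATA [mine / helper7 /
helper22], C7-G, C7-I, C7-E [helper12], C7-F): the SAME group `Y` acts in every tensor position through elements of `H`, so the
Gram matrix in the tensor basis is `c • (B ⊗ ⋯ ⊗ B)` for ONE `Y`-invariant `B`, and `Bᵀ = ± B`. -/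
theorem formC7 (hn : 3 ≤ n) (f : (Fin n → F) → (Fin n → F) → F) (hf : IsSymmetricForm f)
    (H L : Subgroup (GL (Fin n) F)) (hH : AbsIrr H) (hfix : FixesForm (matrixSet H) f) (hQP : QP H)
    (hLH : L ≤ H) (hLs : ¬ L ≤ scalars (Fin n) F) (hperf : ⁅L, L⁆ = L) (hqs : SimpleModScal L)
    (hconj : ∀ h ∈ H, (∀ x ∈ L, h * x * h⁻¹ ∈ L) ∨
      (∀ x ∈ L, ∀ y ∈ L, (h * x * h⁻¹) * y = y * (h * x * h⁻¹)))
    (hnn : ¬ NormBy H L) :
    ∃ (k t : ℕ) (e : Fin n ≃ (Fin t → Fin k)) (P : GL (Fin n) F) (G₁ : Matrix (Fin k) (Fin k) F),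
      2 ≤ k ∧ 2 ≤ t ∧ IsUnit G₁ ∧ (G₁ᵀ = G₁ ∨ G₁ᵀ = -G₁) ∧ H ≤ tensorWreathSubgroup k t e P ∧
      ∃ c : F, c ≠ 0 ∧ ∀ x y : (Fin t → Fin k) → F,
        f ((P : Matrix (Fin n) (Fin n) F) *ᵥ (x ∘ e)) ((P : Matrix (Fin n) (Fin n) F) *ᵥ (y ∘ e)) =
          c * ∑ a, ∑ b, x a * (∏ i, G₁ (a i) (b i)) * y b := by
  obtain ⟨m, t, e, P, Y, hm, ht, hle, hYabs, hspan, hYperf, hYns, hpos⟩ :=
    Cfsg.Agent.Lib.Helper17.S5662C7DATA.c7_data hn H L hH hQP hLH hLs hperf hqs hconj hnn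
  obtain ⟨G, hGu, hT⟩ := Cfsg.Agent.Lib.Helper12.S5662C7A.exists_tfp hf.bilinear hf.nondegenerate e P
  have hinv : ∀ i : Fin t, ∀ a ∈ Y,
      (Cfsg.Agent.Lib.Helper22.AschC7.pos i (a : Matrix (Fin m) (Fin m) F))ᵀ * G *
        Cfsg.Agent.Lib.Helper22.AschC7.pos i (a : Matrix (Fin m) (Fin m) F) = G := by
    intro i a ha
    obtain ⟨g, hgH, hg⟩ := hpos i a ha
    exact Cfsg.Agent.Lib.Helper12.S5662C7A.pos_inv e P G hT _ g (fun u v => hfix _ ⟨g, hgH, rfl⟩ u v) hg
  obtain ⟨B, c, hc, hBu, hBinv, hGB⟩ := exists_inv_form (by omega) (by omega) Y hYabs hspan G hGu hinv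
  have hBsym := Cfsg.Agent.Lib.Helper12.S5662C7A.transpose_eq_or_neg Y hYabs B hBu hBinv
  refine ⟨m, t, e, P, B, hm, ht, (Matrix.isUnit_iff_isUnit_det B).2 hBu, hBsym, hle, c, hc, fun x y => ?_⟩
  rw [hT x y, hGB, formOfGram_smul]
  rfl

/-- **O7a** an invertible skew matrix has even size (`2 ≠ 0`) -/
theorem even_of_skew (hq : Odd (Fintype.card F)) {k : ℕ} (G : Matrix (Fin k) (Fin k) F) (hG : IsUnit G)
    (hskew : Gᵀ = -G) : Even k :=
  Cfsg.Agent.Lib.Helper20.S5673O7a.even_of_skew hq G hG hskew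

/-- **O7** the tensor-induced case (REAL assembly) -/
theorem c7_caseO (S : OSetup Q) (hn : 3 ≤ n) (H L : Subgroup (GL (Fin n) F)) (hH : AbsIrr H)
    (hHI : H ≤ isometryGroup F Q) (hQP : QP H)
    (hLH : L ≤ H) (hLs : ¬ L ≤ scalars (Fin n) F) (hperf : ⁅L, L⁆ = L) (hqs : SimpleModScal L)
    (hconj : ∀ h ∈ H, (∀ x ∈ L, h * x * h⁻¹ ∈ L) ∨
      (∀ x ∈ L, ∀ y ∈ L, (h * x * h⁻¹) * y = y * (h * x * h⁻¹)))
    (hnn : ¬ NormBy H L) : InClassO n Q H := by
  obtain ⟨k, t, e, P, G₁, hk, ht, hG₁, hsymm, hHT, c, hc, hform⟩ :=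
    formC7 hn _ (isSymmetricForm_polar S) H L hH (fixesForm_of_le_isometryGroup H hHI) hQP hLH hLs hperf hqs hconj hnn
  have hnodd : Odd n := by simpa using S.odd_dim
  -- `n = k ^ t`, so `k` is odd
  have hcard : n = k ^ t := by
    have h := Fintype.card_congr e
    simpa using h
  have hkodd : Odd k := by
    rw [hcard] at hnodd
    by_contra hk
    rw [Nat.not_odd_iff_even] at hk
    have : Even (k ^ t) := hk.pow_of_ne_zero (by omega)
    exact (Nat.not_odd_iff_even.2 this) hnodd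
  have hk3 : 3 ≤ k := by
    rcases hkodd with ⟨j, hj⟩
    omega
  have hsym : G₁ᵀ = G₁ := by
    rcases hsymm with h | h
    · exact h
    · exact absurd (even_of_skew S.odd_card G₁ hG₁ h) (Nat.not_even_iff_odd.2 hkodd)
  exact inClassO_of_tensorWreath_gram S H hHI k t hk3 ht e P G₁ hG₁ hsym hHT c hc hform

/-! ## O8 : the almost simple case -/

/-- **O8a** (form descent; REAL: helper12's `S5662SF.exists_subfield_data` + the funnel OF-C5) `L` absolutely irreducible,
realisable over a proper subfield, normalised by `H ≤ I`: class 5. -/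
theorem inClassO_of_realisable (S : OSetup Q) (hn : 3 ≤ n) (L H : Subgroup (GL (Fin n) F)) (hLabs : AbsIrr L)
    (hLH : L ≤ H) (hnorm : NormBy H L) (hHI : H ≤ isometryGroup F Q) (F₀ : Subfield F) (h0 : F₀ ≠ ⊤)
    (hreal : RealisableOver F₀ (matrixSet L)) : InClassO n Q H := by
  obtain ⟨F₁, r, P, ζ, hr, hcard, hζ, hrat, hle⟩ :=
    Cfsg.Agent.Lib.Helper12.S5662SF.exists_subfield_data S.quad.polar_bilinear S.quad.nondegenerate H L hLabs hnorm
      F₀ h0 hreal
      (fun g hg => ⟨1, F₀.one_mem, fun u v => by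
        rw [one_mul]
        exact fixesForm_of_le_isometryGroup L (hLH.trans hHI) _ ⟨g, hg, rfl⟩ u v⟩)
  exact inClassO_of_formRational S H hHI F₁ r hr hcard P hle ζ hζ hrat

/-- **O8b / BU-DESCENT** (REAL: helper12's `AschDescent`) an absolutely irreducible group fixing a non-degenerate bilinear form AND a
unitary form is realisable over the fixed field of `σ`.  Gram matrices `xᵀ B x = B`, `xᵀ U σ(x) = U`:
`σ(x) = C x C⁻¹`, `C = U⁻¹ B`; `σ(C) C = λ` scalar, `λ ∈ F₀ := Fix σ`; norm surjective: `μ σ(μ) = λ⁻¹`, `M := μ C`,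
`σ(M) M = 1`.  `τ v := M⁻¹ σ(v)` is a `σ`-semilinear involution of `F^n`; `T := {v | τ v = v}` is an `F₀`-subspace with
`F T = F^n` (`v = (v + τ v)/2 + ω⁻¹ (ω (v - τ v))/2`, `σ ω = -ω`); an `F`-basis `D` of `F^n` inside `T`: `σ(D) = M D`, and
`D⁻¹ x D` is `σ`-fixed for `x ∈ L`. -/
theorem realisable_of_bilinear_unitary (hq : Odd (Fintype.card F)) (hn : 1 ≤ n) (L : Subgroup (GL (Fin n) F))
    (hL : AbsIrr L) (b : (Fin n → F) → (Fin n → F) → F) (hb : IsBilinearForm b) (hbnd : IsNondegenerateForm b)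
    (hbfix : FixesForm (matrixSet L) b) (σ : F ≃+* F) (u : (Fin n → F) → (Fin n → F) → F)
    (hu : IsUnitaryForm σ u) (hufix : FixesForm (matrixSet L) u) :
    ∃ F₀ : Subfield F, F₀ ≠ ⊤ ∧ RealisableOver F₀ (matrixSet L) :=
  ⟨Cfsg.Agent.Lib.Helper12.AschDescent.fixedField σ,
    Cfsg.Agent.Lib.Helper12.AschDescent.fixedField_ne_top σ hu.ne_refl,
    Cfsg.Agent.Lib.Helper12.AschDescent.realisable_of_bilinear_unitary (by omega) L hL b hb hbnd hbfix σ u hu hufix⟩

/-- **O8** the almost simple case (REAL assembly) -/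
theorem s_caseO (S : OSetup Q) (hn : 3 ≤ n) (H L : Subgroup (GL (Fin n) F)) (hH : AbsIrr H)
    (hHI : H ≤ isometryGroup F Q) (hQP : QP H)
    (hLH : L ≤ H) (hLs : ¬ L ≤ scalars (Fin n) F) (hperf : ⁅L, L⁆ = L) (hqs : SimpleModScal L)
    (hnorm : NormBy H L) : InClassO n Q H ∨ InOrthogonalResidualClass H := by
  have hLabs : AbsIrr L := (hQP L hLH hnorm).resolve_left hLs
  by_cases hex : ∃ F₀ : Subfield F, F₀ ≠ ⊤ ∧ RealisableOver F₀ (matrixSet L)
  · obtain ⟨F₀, h0, hreal⟩ := hex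
    exact Or.inl (inClassO_of_realisable S hn L H hLabs hLH hnorm hHI F₀ h0 hreal)
  right
  refine ⟨L, ⟨hLH, hnorm, hperf, Cfsg.Agent.Lib.Helper12.S5630I8.isSimpleGroup_quotient L hLs hqs,
    Cfsg.Agent.Lib.Helper12.S5630I8.not_comm_quotient L hLs hperf, ?_, hLabs, ?_⟩, ?_⟩
  · intro h _ hh
    exact Cfsg.Agent.Lib.Helper12.S5630I8.mem_scalars_of_comm (by omega) L hLabs h
      (Cfsg.Agent.Lib.Helper12.S5630I8.comm_of_perfect L hperf h hh)
  · intro F₀ h0 hreal
    exact hex ⟨F₀, h0, hreal⟩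
  · rintro ⟨σ, u, hu, hufix⟩
    have hsym := isSymmetricForm_polar S
    exact hex (realisable_of_bilinear_unitary S.odd_card (by omega) L hLabs _ hsym.bilinear hsym.nondegenerate
      (fixesForm_of_le_isometryGroup L (hLH.trans hHI)) σ u hu hufix)

/-! ## the main theorem on `Fin n` -/

/-- **Aschbacher's theorem for the isometry group of a non-degenerate quadratic form in odd dimension, `q` odd** -/
theorem mainO (S : OSetup Q) (hn : 3 ≤ n) (H : Subgroup (GL (Fin n) F)) (hHI : H ≤ isometryGroup F Q) :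
    InClassO n Q H ∨ InOrthogonalResidualClass H := by
  by_cases h1 : Irr H
  swap
  · exact Or.inl (inClassO_of_not_irr S H hHI h1)
  by_cases h2 : AbsIrr H
  swap
  · exact Or.inl (inClassO_of_not_absIrr S hn H hHI h1 h2)
  by_cases h4 : QP H
  swap
  · unfold QP at h4
    push Not at h4
    obtain ⟨N, hNH, hnorm, hns, hna⟩ := h4
    rcases cliffordO S hn H N h2 hHI hNH hnorm with h | h | h
    · exact Or.inl h
    · exact absurd h hns
    · exact absurd h hna
  have hHs : ¬ H ≤ scalars (Fin n) F := Cfsg.Agent.Lib.Helper8.S5630I1.not_scalar_of_irr (by omega) H h1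
  rcases Cfsg.Agent.Lib.Helper23.S5630I5.group_dichotomy H hHs with
    ⟨N, r, hNH, hnorm, hNs, hmin, hr, hpow, hcomm⟩ | ⟨L, hLH, hLs, hperf, hqs, hconj⟩
  · exact absurd (c6_impossible S hn N (hNH.trans hHI) ((h4 N hNH hnorm).resolve_left hNs) hcomm) id
  · by_cases hnL : NormBy H L
    · exact s_caseO S hn H L h2 hHI h4 hLH hLs hperf hqs hnL
    · exact Or.inl (c7_caseO S hn H L h2 hHI h4 hLH hLs hperf hqs hconj hnL)

/-! ## transport between index types and the frozen statement -/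

section transport

variable {ι κ : Type} [Fintype ι] [DecidableEq ι] [Fintype κ] [DecidableEq κ]

/-- **TR-ISO** -/
theorem map_le_isometryGroup (e : ι ≃ κ) (Q : (ι → F) → F) (H : Subgroup (GL ι F))
    (hHI : H ≤ isometryGroup F Q) :
    H.map (glReindex e).toMonoidHom ≤ isometryGroup F (reQ e Q) :=
  Cfsg.Agent.Lib.Helper14.S5673TR.map_le_isometryGroup e Q H hHI

/-- **TR-SETUP** -/
theorem OSetup.map (e : ι ≃ κ) {Q : (ι → F) → F} (S : OSetup Q) : OSetup (reQ e Q) :=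
  Cfsg.Agent.Lib.Helper14.S5673TR.OSetup.map e S

/-- **TR-CLASS** (split by disjunct: TR1 … TR8) the class predicate is natural in the index type -/
theorem InClassO.map (e : ι ≃ κ) (N : ℕ) {Q : (ι → F) → F} {H : Subgroup (GL ι F)} (h : InClassO N Q H) :
    InClassO N (reQ e Q) (H.map (glReindex e).toMonoidHom) :=
  Cfsg.Agent.Lib.Helper14.S5673TR.InClassO.map e N h

/-- **TR-RES** the residual class is natural in the index type -/
theorem residual_map (e : ι ≃ κ) {H : Subgroup (GL ι F)} (h : InOrthogonalResidualClass H) :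
    InOrthogonalResidualClass (H.map (glReindex e).toMonoidHom) :=
  Cfsg.Agent.Lib.Helper14.S5673TR.residual_map e h

end transport

/-- **TR-STD** the standard form satisfies the standing hypotheses -/
theorem oSetup_quadFormOdd (hodd : Odd (Fintype.card F)) (m : ℕ) : OSetup (quadFormOdd m F) :=
  Cfsg.Agent.Lib.Helper14.S5673TRSTD.oSetup_quadFormOdd hodd m

/-- `Ω ≤ I` -/
theorem omegaGL_le {ι : Type} [Fintype ι] [DecidableEq ι] (Q : (ι → F) → F) : omegaGL Q ≤ isometryGroup F Q := by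
  rintro _ ⟨x, -, rfl⟩
  exact x.2

theorem reQ_reQ {ι κ : Type} (e : ι ≃ κ) (Q : (ι → F) → F) : reQ e.symm (reQ e Q) = Q := by
  funext v
  unfold reQ
  congr 1
  funext i
  simp

theorem map_map_glReindex {ι κ : Type} [Fintype ι] [DecidableEq ι] [Fintype κ] [DecidableEq κ] (e : ι ≃ κ)
    (H : Subgroup (GL ι F)) :
    (H.map (glReindex e).toMonoidHom).map (glReindex e.symm).toMonoidHom = H := by
  rw [Subgroup.map_map]
  have : (glReindex (F := F) e.symm).toMonoidHom.comp (glReindex (F := F) e).toMonoidHom = MonoidHom.id _ := by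
    ext g i j
    simp [glReindex]
  rw [this, Subgroup.map_id]

/-- **S5673** (the frozen statement; `hm` and `hproper` are not needed beyond `2m+1 ≥ 3`) -/
theorem final (hodd : Odd (Fintype.card F)) (m : ℕ) (hm : 3 ≤ m)
    (H : Subgroup (GL (Unit ⊕ (Fin m ⊕ Fin m)) F)) (hH : H ≤ omegaGL (quadFormOdd m F)) :
    (∃ M : Subgroup (GL (Unit ⊕ (Fin m ⊕ Fin m)) F), InOrthogonalOddClass m F M ∧ H ≤ M) ∨
      InOrthogonalResidualClass H := by
  have hcard : Fintype.card (Unit ⊕ (Fin m ⊕ Fin m)) = 2 * m + 1 := by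
    simp
    ring
  let e : (Unit ⊕ (Fin m ⊕ Fin m)) ≃ Fin (2 * m + 1) := Fintype.equivFinOfCardEq hcard
  have S := oSetup_quadFormOdd (F := F) hodd m
  have hHI : H ≤ isometryGroup F (quadFormOdd m F) := hH.trans (omegaGL_le _)
  have S' := OSetup.map e S
  have hHI' := map_le_isometryGroup e _ H hHI
  rcases mainO S' (by omega) _ hHI' with h | h
  · left
    have h' := InClassO.map e.symm (2 * m + 1) h
    rw [reQ_reQ, map_map_glReindex] at h'
    exact h'
  · right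
    have h' := residual_map e.symm h
    rwa [map_map_glReindex] at h'

end Cfsg.Agent.Lib.Helper17.AschO
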