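import Mathlib
import Cfsg.Prelude.Def_GeometricClasses
import Cfsg.Agent.Lib.Helper7.AschDefs
import Cfsg.Agent.Lib.Helper1.OEDefs
import Cfsg.Agent.Lib.Helper17.AschOTop
import Cfsg.Agent.Lib.Helper19.S5662C7STD
import Cfsg.Agent.Lib.Helper21.S5673O4a
import Cfsg.Agent.Lib.Helper21.S5673O4b

/-!
# Even-orthogonal hub (architect helper19), block OE4 for `q` ODD: the Clifford exits  (helper17)

Everything is stated for a non-degenerate quadratic function `Q : (Fin n → F) → F`, `|F|` odd, ANY `n ≥ 3` (no parity of `n` is used),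
against helper1's class predicate `Cfsg.Agent.Lib.Helper1.OE.InClassOE`.

* `inClassOE_of_subfield_gram` : the class-5 funnel in Gram shape (no square-class step: the rows carry `ζ`);
* `inClassOE_of_frame_not_prime` : orthogonal frame over a non-prime field: class 5 (fork of helper21's O4b);
* `inClassOE_of_decomposition` : invariant non-degenerate decomposition of an irreducible group: class 2a (isometric parts by transitivity);
* `symm_or_skew_of_kronecker_symm`, `inClassOE_of_tensor_gram` : the tensor exit (both factors symmetric: 4o; both skew: 4s, `Q = 0` on pure tensors);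
* `cliffordOE_odd` : the assembly on `AschO.formClifford` (= helper11's generic Clifford-with-forms).
-/

set_option autoImplicit false
set_option linter.unusedVariables false
set_option linter.unusedSectionVars false

namespace Cfsg.Agent.Lib.Helper17.AschOE

open Matrix Cfsg Cfsg.Geo Cfsg.Agent.Lib.Helper7.Asch Cfsg.Agent.Lib.Helper1.OE
open scoped Kronecker

variable {F : Type*} [Field F] [Fintype F] {n : ℕ} {Q : (Fin n → F) → F}

/-! ## the polar form (`q` odd) -/

theorem two_ne_zero_of_odd (hq : Odd (Fintype.card F)) : (2 : F) ≠ 0 :=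
  Cfsg.Agent.Lib.Helper17.AschO.two_ne_zero_of_odd hq

theorem isSymmetricForm_polar (hQ : IsNondegenerateQuadraticForm Q) : IsSymmetricForm (QuadraticMap.polar Q) :=
  ⟨hQ.polar_bilinear, fun u v => QuadraticMap.polar_comm Q u v, hQ.nondegenerate⟩

theorem polar_self (hQ : IsNondegenerateQuadraticForm Q) (v : Fin n → F) : QuadraticMap.polar Q v v = 2 * Q v :=
  Cfsg.Agent.Lib.Helper21.S5673O4b.polar_self_eq hQ v

theorem quad_eq_zero_of_polar (hQ : IsNondegenerateQuadraticForm Q) (hq : Odd (Fintype.card F)) (v : Fin n → F)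
    (h : QuadraticMap.polar Q v v = 0) : Q v = 0 := by
  rw [polar_self hQ] at h
  rcases mul_eq_zero.mp h with h0 | h0
  · exact absurd h0 (two_ne_zero_of_odd hq)
  · exact h0

theorem isTotallySingularQuad_of_for (hQ : IsNondegenerateQuadraticForm Q) (hq : Odd (Fintype.card F))
    (W : Submodule F (Fin n → F)) (h : IsTotallySingularFor (QuadraticMap.polar Q) W) : IsTotallySingularQuad Q W :=
  fun w hw => quad_eq_zero_of_polar hQ hq w (h w hw w hw)

theorem fixesForm_of_le_isometryGroup (H : Subgroup (GL (Fin n) F)) (hHI : H ≤ isometryGroup F Q) :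
    FixesForm (matrixSet H) (QuadraticMap.polar Q) :=
  Cfsg.Agent.Lib.Helper17.AschO.fixesForm_of_le_isometryGroup H hHI

/-- the polar form is the form of its Gram matrix -/
theorem polar_eq_formOfGram (hQ : IsNondegenerateQuadraticForm Q) (u v : Fin n → F) :
    QuadraticMap.polar Q u v = formOfGram id (gramMatrix (QuadraticMap.polar Q)) u v := by
  rw [Cfsg.Agent.Lib.Helper17.AschO.formOfGram_id_eq]
  have h := Cfsg.Agent.Lib.Helper23.S5630CoreF.sesq_repr (RingEquiv.refl F) _
    (Cfsg.Agent.Lib.Helper23.S5630CoreF.isSesq_of_isBilinearForm _ hQ.polar_bilinear) u v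
  simpa using h

/-! ## the class-5 funnel (no square classes: the class carries `ζ`) -/

theorem inClassOE_of_subfield_gram (hQ : IsNondegenerateQuadraticForm Q) (hq : Odd (Fintype.card F))
    (H : Subgroup (GL (Fin n) F)) (hHI : H ≤ isometryGroup F Q)
    (F₁ : Subfield F) (r : ℕ) (hr : r.Prime) (hc : Fintype.card F = Nat.card F₁ ^ r) (P₀ : GL (Fin n) F)
    (hH : H ≤ subfieldSubgroup F₁ P₀) (a : F) (ha : a ≠ 0) (X₁ : Matrix (Fin n) (Fin n) F)
    (hX₁ : ∀ i j, X₁ i j ∈ F₁)
    (hX : (P₀ : Matrix (Fin n) (Fin n) F)ᵀ * gramMatrix (QuadraticMap.polar Q) * (P₀ : Matrix (Fin n) (Fin n) F) =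
      a • X₁) : InClassOE Q H := by
  have h2 := two_ne_zero_of_odd hq
  refine InClassOE.of_subfield H hHI F₁ r P₀ (2 * a⁻¹) hr hc (mul_ne_zero h2 (inv_ne_zero ha)) ?_ hH
  intro u hu
  have h1 := polar_self hQ ((P₀ : Matrix (Fin n) (Fin n) F) *ᵥ u)
  rw [polar_eq_formOfGram hQ, ← Cfsg.Agent.Lib.Helper17.AschO.formOfGram_conj, hX,
    Cfsg.Agent.Lib.Helper17.AschO.formOfGram_smul] at h1
  have h3 : 2 * a⁻¹ * Q ((P₀ : Matrix (Fin n) (Fin n) F) *ᵥ u) = formOfGram id X₁ u u := by
    have h4 : Q ((P₀ : Matrix (Fin n) (Fin n) F) *ᵥ u) = 2⁻¹ * (a * formOfGram id X₁ u u) := by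
      rw [h1]
      field_simp
    rw [h4]
    field_simp
  show 2 * a⁻¹ * Q ((P₀ : Matrix (Fin n) (Fin n) F) *ᵥ u) ∈ F₁
  rw [h3]
  unfold formOfGram
  simp only [id]
  exact F₁.sum_mem (fun i _ => F₁.sum_mem (fun j _ => F₁.mul_mem (F₁.mul_mem (hu i) (hX₁ i j)) (hu j)))

/-! ## the decomposition exit -/

section frame

open Cfsg.Agent.Lib.Helper21.S5673O4b

/-- **O4b** an orthogonal frame over a NON-prime field: class 5 (through OF-C5, given as the hypothesis `ofc5`). -/
theorem frame_not_prime_aux {C : Prop} (hq2 : Odd (Fintype.card F)) (hQ : IsNondegenerateQuadraticForm Q) (H : Subgroup (GL (Fin n) F)) (hHI : H ≤ isometryGroup F Q)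
    {t : ℕ} (D : Fin t → Submodule F (Fin n → F)) (hD : IsOrthogonalMDecomposition Q 1 D)
    (hH : H ≤ decompositionStabilizer D) (hq : ¬ (Fintype.card F).Prime)
    (ofc5 : ∀ (F₁ : Subfield F) (r : ℕ), r.Prime → Fintype.card F = Nat.card F₁ ^ r →
      ∀ P₀ : GL (Fin n) F, H ≤ subfieldSubgroup F₁ P₀ → ∀ a : F, a ≠ 0 →
      ∀ X₁ : Matrix (Fin n) (Fin n) F, (∀ i j, X₁ i j ∈ F₁) →
      (P₀ : Matrix (Fin n) (Fin n) F)ᵀ * gramMatrix (QuadraticMap.polar Q) * (P₀ : Matrix (Fin n) (Fin n) F) =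
        a • X₁ → C) : C := by
  classical
  have hdec := hD.decomp.decomp
  have h2 : (2 : F) ≠ 0 := two_ne_zero_of_odd hq2
  have hb := hQ.polar_bilinear
  -- dimension count: t = n
  have hint : DirectSum.IsInternal D :=
    DirectSum.isInternal_submodule_of_iSupIndep_of_iSup_eq_top hdec.indep hdec.iSup_eq_top
  obtain ⟨bb, -⟩ : ∃ bb : ∀ i, Module.Basis (Fin 1) F (D i),
      bb = fun i => Module.finBasisOfFinrankEq F (D i) (hdec.finrank_eq i) := ⟨_, rfl⟩
  have hcard : Fintype.card (Fin n) = t * 1 := by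
    rw [← Module.finrank_fintype_fun_eq_card (R := F),
      Module.finrank_eq_card_basis (hint.collectedBasis bb)]
    simp only [Fintype.card_sigma, Fintype.card_fin, Finset.sum_const, Finset.card_univ,
      smul_eq_mul]
  have htn : t = n := by
    rw [Fintype.card_fin] at hcard
    omega
  subst htn
  -- the generators
  have ht2 := hdec.two_le
  obtain ⟨i₀⟩ : Nonempty (Fin t) := ⟨⟨0, by omega⟩⟩
  obtain ⟨w₀, hw₀⟩ : ∃ w₀ : D i₀, w₀ ≠ 0 := by
    have h1 := hdec.finrank_eq i₀
    have : Nontrivial (D i₀) := Module.nontrivial_of_finrank_pos (R := F) (by omega)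
    exact exists_ne 0
  choose ee hee using fun i => hD.isometric i₀ i
  obtain ⟨v, hv⟩ : ∃ v : Fin t → (Fin t → F), v = fun i => ((ee i w₀ : D i) : Fin t → F) := ⟨_, rfl⟩
  have hvD : ∀ i, v i ∈ D i := fun i => by rw [hv]; exact (ee i w₀).2
  have hv0 : ∀ i, v i ≠ 0 := by
    intro i h0
    apply hw₀
    have h1 : ee i w₀ = 0 := by
      apply Subtype.ext
      rw [hv] at h0
      exact h0
    exact (ee i).map_eq_zero_iff.mp h1
  obtain ⟨c, hc⟩ : ∃ c : F, c = Q (w₀ : Fin t → F) := ⟨_, rfl⟩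
  have hQv : ∀ i, Q (v i) = c := fun i => by rw [hv, hc]; exact hee i w₀
  have hgen : ∀ i, ∀ w ∈ D i, ∃ l : F, l • v i = w := by
    intro i w hw
    have h1 := (finrank_eq_one_iff_of_nonzero' (⟨v i, hvD i⟩ : D i)
      (fun h => hv0 i (congrArg Subtype.val h))).mp (hdec.finrank_eq i) ⟨w, hw⟩
    obtain ⟨l, hl⟩ := h1
    exact ⟨l, congrArg Subtype.val hl⟩
  have hc0 : c ≠ 0 := by
    intro h0
    obtain ⟨⟨x, hxD, hx⟩, -⟩ := hD.decomp.nondegenerate i₀ (v i₀) (hvD i₀) (hv0 i₀)
    obtain ⟨l, rfl⟩ := hgen i₀ x hxD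
    apply hx
    rw [hb.smul_left, polar_self_eq hQ, hQv, h0, mul_zero, mul_zero]
  have hpol : ∀ i j, QuadraticMap.polar Q (v i) (v j) = if i = j then 2 * c else 0 := by
    intro i j
    by_cases hij : i = j
    · rw [if_pos hij, hij, polar_self_eq hQ, hQv]
    · rw [if_neg hij]
      exact hD.decomp.orthogonal i j hij (v i) (hvD i) (v j) (hvD j)
  have hli : LinearIndependent F v := by
    rw [linearIndependent_iff']
    intro s g hg j hj
    have h1 := congrArg (fun x => QuadraticMap.polar Q x (v j)) hg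
    beta_reduce at h1
    rw [form_zero_left hb, form_sum_left hb] at h1
    have h3 : ∑ i ∈ s, QuadraticMap.polar Q (g i • v i) (v j) = g j * (2 * c) := by
      rw [Finset.sum_eq_single j]
      · rw [hb.smul_left, hpol, if_pos rfl]
      · intro i _ hij
        rw [hb.smul_left, hpol, if_neg hij, mul_zero]
      · intro h
        exact absurd hj h
    rw [h3] at h1
    rcases mul_eq_zero.mp h1 with h4 | h4
    · exact h4
    · exact absurd h4 (mul_ne_zero h2 hc0)
  -- the matrix of the frame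
  obtain ⟨A, hA⟩ : ∃ A : Matrix (Fin t) (Fin t) F, A = Matrix.of fun i j => v j i := ⟨_, rfl⟩
  have hAcol : ∀ j, A *ᵥ Pi.single j 1 = v j := by
    intro j
    rw [Matrix.mulVec_single_one, hA]
    rfl
  have hAunit : IsUnit A := by
    apply Matrix.linearIndependent_cols_iff_isUnit.mp
    have : A.col = v := by
      rw [hA]
      rfl
    rw [this]
    exact hli
  obtain ⟨P₀, hP₀⟩ : ∃ P₀ : GL (Fin t) F, (P₀ : Matrix (Fin t) (Fin t) F) = A := ⟨hAunit.unit, rfl⟩
  have hPinv1 : A * ((P₀⁻¹ : GL (Fin t) F) : Matrix (Fin t) (Fin t) F) = 1 := by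
    rw [← hP₀, ← Units.val_mul, mul_inv_cancel, Units.val_one]
  have hAdet : A.det ≠ 0 := by
    have := (Matrix.isUnit_iff_isUnit_det A).mp hAunit
    exact this.ne_zero
  -- the subfield
  obtain ⟨F₁, r, -, hr, hcard1⟩ :=
    Cfsg.Agent.Lib.Helper12.AschG3.exists_prime_index_subfield (⊥ : Subfield F) (bot_ne_top_of_not_prime hq)
  refine ofc5 F₁ r hr hcard1 P₀ ?_ (2 * c) (mul_ne_zero h2 hc0) 1 ?_ ?_
  · -- H ≤ subfieldSubgroup
    intro h hh
    obtain ⟨σ, hσ⟩ := hH hh
    have hmem : ∀ l, (h : Matrix (Fin t) (Fin t) F) *ᵥ v l ∈ D (σ l) := by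
      intro l
      rw [← hσ l, ← Matrix.toLin'_apply]
      exact Submodule.mem_map_of_mem (hvD l)
    choose lam hlam using fun l => hgen (σ l) _ (hmem l)
    have hlam2 : ∀ l, lam l = 1 ∨ lam l = -1 := by
      intro l
      have h1 : Q ((h : Matrix (Fin t) (Fin t) F) *ᵥ v l) = Q (v l) := hHI hh (v l) (v l)
      rw [← hlam l, hQ.smul, hQv, hQv] at h1
      have h3 : (lam l - 1) * (lam l + 1) = 0 := by
        have h4 : (lam l ^ 2 - 1) * c = 0 := by linear_combination h1
        rcases mul_eq_zero.mp h4 with h5 | h5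
        · linear_combination h5
        · exact absurd h5 hc0
      rcases mul_eq_zero.mp h3 with h5 | h5
      · left; linear_combination h5
      · right; linear_combination h5
    obtain ⟨M', hM'⟩ : ∃ M' : Matrix (Fin t) (Fin t) F,
        M' = Matrix.of fun i j => (lam j • (Pi.single (σ j) (1 : F) : Fin t → F)) i := ⟨_, rfl⟩
    have hM'col : ∀ j, M' *ᵥ Pi.single j 1 = lam j • (Pi.single (σ j) (1 : F) : Fin t → F) := by
      intro j
      rw [Matrix.mulVec_single_one, hM']
      rfl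
    have hE1 : (h : Matrix (Fin t) (Fin t) F) * A = A * M' := by
      apply Matrix.ext_of_mulVec_single
      intro j
      rw [← Matrix.mulVec_mulVec, ← Matrix.mulVec_mulVec, hAcol, hM'col, Matrix.mulVec_smul, hAcol, hlam]
    have hM'mem : ∀ i j, M' i j ∈ F₁ := by
      intro i j
      rw [hM']
      simp only [Matrix.of_apply, Pi.smul_apply, smul_eq_mul, Pi.single_apply]
      apply F₁.mul_mem
      · rcases hlam2 j with h1 | h1
        · rw [h1]; exact F₁.one_mem
        · rw [h1]; exact F₁.neg_mem F₁.one_mem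
      · split_ifs
        · exact F₁.one_mem
        · exact F₁.zero_mem
    obtain ⟨M0, hM0⟩ : ∃ M0 : Matrix (Fin t) (Fin t) F₁, M0 = fun i j => ⟨M' i j, hM'mem i j⟩ := ⟨_, rfl⟩
    have hM0map : M0.map (F₁.subtype : F₁ →+* F) = M' := by
      ext i j
      rw [hM0]
      rfl
    have hdetM' : M'.det ≠ 0 := by
      have h1 := congrArg Matrix.det hE1
      rw [Matrix.det_mul, Matrix.det_mul] at h1
      intro h0
      rw [h0, mul_zero] at h1
      rcases mul_eq_zero.mp h1 with h3 | h3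
      · have : IsUnit (h : Matrix (Fin t) (Fin t) F).det := (Matrix.isUnit_iff_isUnit_det _).mp h.isUnit
        exact this.ne_zero h3
      · exact hAdet h3
    have hdet0 : M0.det ≠ 0 := by
      intro h0
      apply hdetM'
      rw [← hM0map, ← RingHom.mapMatrix_apply, ← RingHom.map_det, h0, map_zero]
    obtain ⟨g0, hg0⟩ : ∃ g0 : GL (Fin t) F₁, g0 = Matrix.GeneralLinearGroup.mkOfDetNeZero M0 hdet0 := ⟨_, rfl⟩
    have hg0val : ((Matrix.GeneralLinearGroup.map (F₁.subtype : F₁ →+* F) g0 : GL (Fin t) F) :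
        Matrix (Fin t) (Fin t) F) = M' := by
      rw [← hM0map, hg0]
      rfl
    unfold subfieldSubgroup
    rw [Subgroup.mem_map]
    refine ⟨Matrix.GeneralLinearGroup.map (F₁.subtype : F₁ →+* F) g0, Subgroup.mem_sup_left ⟨g0, rfl⟩, ?_⟩
    show P₀ * Matrix.GeneralLinearGroup.map (F₁.subtype : F₁ →+* F) g0 * P₀⁻¹ = h
    apply Units.ext
    rw [Units.val_mul, Units.val_mul, hg0val, hP₀, ← hE1, Matrix.mul_assoc, hPinv1, Matrix.mul_one]
  · intro i j
    rw [Matrix.one_apply]
    split_ifs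
    · exact F₁.one_mem
    · exact F₁.zero_mem
  · rw [hP₀]
    ext i j
    rw [Matrix.mul_apply]
    simp only [Matrix.mul_apply, Matrix.transpose_apply, Matrix.smul_apply, Matrix.one_apply, smul_eq_mul]
    have h1 := bilin_expand hb (v i) (v j)
    rw [hpol] at h1
    have h3 : ∑ x, (∑ x_1, A x_1 i * gramMatrix (QuadraticMap.polar Q) x_1 x) * A x j =
        ∑ a, ∑ b, v i a * gramMatrix (QuadraticMap.polar Q) a b * v j b := by
      rw [Finset.sum_comm]
      apply Finset.sum_congr rfl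
      intro a _
      rw [Finset.sum_mul]
      apply Finset.sum_congr rfl
      intro b _
      rw [hA]
      rfl
    rw [h3, ← h1]
    split_ifs <;> simp


end frame

/-- orthogonal frame over a non-prime field: class 5 -/
theorem inClassOE_of_frame_not_prime (hQ : IsNondegenerateQuadraticForm Q) (hq : Odd (Fintype.card F))
    (H : Subgroup (GL (Fin n) F)) (hHI : H ≤ isometryGroup F Q)
    {t : ℕ} (D : Fin t → Submodule F (Fin n → F)) (hD : IsOrthogonalMDecomposition Q 1 D)
    (hH : H ≤ decompositionStabilizer D) (hp : ¬ (Fintype.card F).Prime) : InClassOE Q H :=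
  frame_not_prime_aux hq hQ H hHI D hD hH hp
    (fun F₁ r hr hc P₀ hH' a ha X₁ hX₁ hX => inClassOE_of_subfield_gram hQ hq H hHI F₁ r hr hc P₀ hH' a ha X₁ hX₁ hX)

/-- an irreducible group of isometries permutes the members of an invariant non-degenerate decomposition transitively, so the
members are pairwise isometric (helper21's O4a without the parity hypothesis) -/
theorem isOrthogonalMDecomposition_of_irr (H : Subgroup (GL (Fin n) F))
    (hHI : H ≤ isometryGroup F Q) (hirr : Irr H) {t : ℕ} (k : ℕ) (D : Fin t → Submodule F (Fin n → F))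
    (hD : IsNondegenerateMDecomposition (QuadraticMap.polar Q) k D) (hH : H ≤ decompositionStabilizer D) :
    IsOrthogonalMDecomposition Q k D := by
  refine ⟨hD, ?_⟩
  intro i j
  obtain ⟨h, hh, hmap⟩ := Cfsg.Agent.Lib.Helper21.S5673O4a.exists_map_eq H hirr k D hD.decomp hH i j
  have hinj : Function.Injective (Matrix.toLin' (h : Matrix (Fin n) (Fin n) F)) := by
    intro x y hxy
    have h1 := congrArg (fun v => ((h⁻¹ : GL (Fin n) F) : Matrix (Fin n) (Fin n) F) *ᵥ v) hxy
    simp only [Matrix.toLin'_apply, Matrix.mulVec_mulVec] at h1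
    rw [← Units.val_mul, inv_mul_cancel, Units.val_one, Matrix.one_mulVec, Matrix.one_mulVec] at h1
    exact h1
  refine ⟨(Submodule.equivMapOfInjective _ hinj (D i)).trans (LinearEquiv.ofEq _ _ hmap), ?_⟩
  intro w
  have h1 : (((Submodule.equivMapOfInjective _ hinj (D i)).trans (LinearEquiv.ofEq _ _ hmap)) w : Fin n → F) =
      (h : Matrix (Fin n) (Fin n) F) *ᵥ (w : Fin n → F) := by
    rw [LinearEquiv.trans_apply, LinearEquiv.coe_ofEq_apply, Submodule.coe_equivMapOfInjective_apply,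
      Matrix.toLin'_apply]
  rw [h1]
  exact hHI hh (w : Fin n → F) (w : Fin n → F)

/-- **the decomposition exit** -/
theorem inClassOE_of_decomposition (hQ : IsNondegenerateQuadraticForm Q) (hq : Odd (Fintype.card F))
    (H : Subgroup (GL (Fin n) F)) (hHI : H ≤ isometryGroup F Q) (hirr : Irr H) {t : ℕ} (k : ℕ)
    (D : Fin t → Submodule F (Fin n → F))
    (hD : IsNondegenerateMDecomposition (QuadraticMap.polar Q) k D) (hHD : H ≤ decompositionStabilizer D) :
    InClassOE Q H := by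
  have hOD := isOrthogonalMDecomposition_of_irr H hHI hirr k D hD hHD
  by_cases hk : k = 1 ∧ ¬ (Fintype.card F).Prime
  · obtain ⟨rfl, hp⟩ := hk
    exact inClassOE_of_frame_not_prime hQ hq H hHI D hOD hHD hp
  · refine InClassOE.of_decomposition H hHI k D hOD (fun h1 => ?_) hHD
    by_contra hp
    exact hk ⟨h1, hp⟩

/-! ## the tensor exit -/

/-- a symmetric Kronecker product of two invertible matrices: both factors symmetric or both skew (any field) -/
theorem symm_or_skew_of_kronecker_symm {d s : ℕ} (hd : 0 < d) (hs : 0 < s)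
    (G₁ : Matrix (Fin d) (Fin d) F) (G₂ : Matrix (Fin s) (Fin s) F) (h1 : IsUnit G₁) (h2 : IsUnit G₂)
    (h : (G₁ ⊗ₖ G₂)ᵀ = G₁ ⊗ₖ G₂) : (G₁ᵀ = G₁ ∧ G₂ᵀ = G₂) ∨ (G₁ᵀ = -G₁ ∧ G₂ᵀ = -G₂) := by
  have hent : ∀ i j k l, G₁ j i * G₂ l k = G₁ i j * G₂ k l := by
    intro i j k l
    have := congrFun (congrFun h (i, k)) (j, l)
    simpa [Matrix.transpose_apply, Matrix.kroneckerMap_apply] using this
  have hne : ∀ {m : ℕ} (G : Matrix (Fin m) (Fin m) F), IsUnit G → 0 < m → ∃ i j, G i j ≠ 0 := by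
    intro m G hG hm
    by_contra hcon
    push Not at hcon
    have hG0 : G = 0 := by ext i j; exact hcon i j
    have hdet := (Matrix.isUnit_iff_isUnit_det G).mp hG
    rw [hG0] at hdet
    have : Nonempty (Fin m) := ⟨⟨0, hm⟩⟩
    rw [Matrix.det_zero] at hdet
    exact not_isUnit_zero hdet
  obtain ⟨i₀, j₀, h10⟩ := hne G₁ h1 hd
  obtain ⟨k₀, l₀, h20⟩ := hne G₂ h2 hs
  have h20' : G₂ l₀ k₀ ≠ 0 := by
    intro h0
    have : G₁ i₀ j₀ * G₂ k₀ l₀ = 0 := by rw [← hent i₀ j₀ k₀ l₀, h0, mul_zero]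
    exact (mul_ne_zero h10 h20) this
  set c : F := G₂ k₀ l₀ / G₂ l₀ k₀ with hc
  have hT : ∀ i j, G₁ j i = c * G₁ i j := by
    intro i j
    have := hent i j k₀ l₀
    rw [hc]
    field_simp
    linear_combination this
  have hc2 : c * c = 1 := by
    have h3 := hT i₀ j₀
    have h4 := hT j₀ i₀
    rw [h3] at h4
    have h5 : G₁ i₀ j₀ * (c * c - 1) = 0 := by linear_combination -h4
    rcases mul_eq_zero.mp h5 with h | h
    · exact absurd h h10
    · linear_combination h
  have h3 : (c - 1) * (c + 1) = 0 := by linear_combination hc2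
  rcases mul_eq_zero.mp h3 with h | h
  · left
    have hc1 : c = 1 := by linear_combination h
    have hG1 : G₁ᵀ = G₁ := by
      ext i j
      rw [Matrix.transpose_apply, hT j i, hc1, one_mul]
    refine ⟨hG1, ?_⟩
    ext k l
    rw [Matrix.transpose_apply]
    have h3 := hent i₀ j₀ k l
    have h4 : G₁ j₀ i₀ = G₁ i₀ j₀ := by
      have := congrFun (congrFun hG1 i₀) j₀
      rw [Matrix.transpose_apply] at this
      exact this
    rw [h4] at h3
    exact mul_left_cancel₀ h10 h3
  · right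
    have hcm : c = -1 := by linear_combination h
    have hG1 : G₁ᵀ = -G₁ := by
      ext i j
      rw [Matrix.transpose_apply, Matrix.neg_apply, hT j i, hcm]
      ring
    refine ⟨hG1, ?_⟩
    ext k l
    rw [Matrix.transpose_apply, Matrix.neg_apply]
    have h3 := hent i₀ j₀ k l
    have h4 : G₁ j₀ i₀ = -G₁ i₀ j₀ := by
      have := congrFun (congrFun hG1 i₀) j₀
      rw [Matrix.transpose_apply, Matrix.neg_apply] at this
      exact this
    rw [h4] at h3
    have h5 : G₁ i₀ j₀ * (G₂ l k + G₂ k l) = 0 := by linear_combination -h3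
    rcases mul_eq_zero.mp h5 with h6 | h6
    · exact absurd h6 h10
    · linear_combination h6

/-- the Kronecker form on pure tensors -/
theorem formOfGram_kron_pure2 {d s : ℕ} (G₁ : Matrix (Fin d) (Fin d) F) (G₂ : Matrix (Fin s) (Fin s) F)
    (x₁ y₁ : Fin d → F) (x₂ y₂ : Fin s → F) :
    formOfGram id (G₁ ⊗ₖ G₂) (pure2 x₁ x₂) (pure2 y₁ y₂) = formOfGram id G₁ x₁ y₁ * formOfGram id G₂ x₂ y₂ := by
  unfold formOfGram pure2
  simp only [id, Fintype.sum_prod_type, Matrix.kroneckerMap_apply]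
  rw [Finset.sum_mul_sum]
  refine Finset.sum_congr rfl (fun a1 _ => ?_)
  refine Finset.sum_congr rfl (fun a2 _ => ?_)
  rw [Finset.sum_mul_sum]
  refine Finset.sum_congr rfl (fun b1 _ => ?_)
  refine Finset.sum_congr rfl (fun b2 _ => ?_)
  ring

/-- **the tensor exit** `H ≤ tensorProductSubgroup d s e P`, Gram matrix `G₁ ⊗ G₂` in the tensor basis: both factors symmetric (4o)
or both skew (4s; `Q` vanishes on the pure tensors since `2 ≠ 0`) -/
theorem inClassOE_of_tensor_gram (hQ : IsNondegenerateQuadraticForm Q) (hq : Odd (Fintype.card F))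
    (H : Subgroup (GL (Fin n) F)) (hHI : H ≤ isometryGroup F Q)
    (d s : ℕ) (e : Fin n ≃ Fin d × Fin s) (P : GL (Fin n) F) (G₁ : Matrix (Fin d) (Fin d) F)
    (G₂ : Matrix (Fin s) (Fin s) F) (hd : 2 ≤ d) (hs : 2 ≤ s) (h1 : IsUnit G₁) (h2 : IsUnit G₂)
    (hH : H ≤ tensorProductSubgroup d s e P)
    (hform : ∀ x y : Fin d × Fin s → F,
      QuadraticMap.polar Q ((P : Matrix (Fin n) (Fin n) F) *ᵥ (x ∘ e)) ((P : Matrix (Fin n) (Fin n) F) *ᵥ (y ∘ e)) =
        formOfGram id (G₁ ⊗ₖ G₂) x y) : InClassOE Q H := by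
  have hpsym := (isSymmetricForm_polar hQ).symm
  have hsymK : (G₁ ⊗ₖ G₂)ᵀ = G₁ ⊗ₖ G₂ := by
    ext a b
    rw [Matrix.transpose_apply, ← Cfsg.Agent.Lib.Helper17.AschO.formOfGram_single (G₁ ⊗ₖ G₂) b a,
      ← Cfsg.Agent.Lib.Helper17.AschO.formOfGram_single (G₁ ⊗ₖ G₂) a b, ← hform, ← hform, hpsym]
  rcases symm_or_skew_of_kronecker_symm (by omega) (by omega) G₁ G₂ h1 h2 hsymK with ⟨hs1, hs2⟩ | ⟨hk1, hk2⟩
  · obtain ⟨hf₁, hg₁⟩ := Cfsg.Agent.Lib.Helper17.AschO.isSymmetricForm_formOfGram G₁ h1 hs1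
    obtain ⟨hf₂, hg₂⟩ := Cfsg.Agent.Lib.Helper17.AschO.isSymmetricForm_formOfGram G₂ h2 hs2
    refine InClassOE.of_tensorSymm H hHI d s e P _ _ hq hd hs hf₁ hf₂ ⟨1, one_ne_zero, fun x y => ?_⟩ hH
    rw [hg₁, hg₂, one_mul]
    exact hform x y
  · have h2F := two_ne_zero_of_odd hq
    have hf₁ := Cfsg.Agent.Lib.Helper19.S5662C7STD.isSymplecticForm_formOfGram h2F G₁
      ((Matrix.isUnit_iff_isUnit_det G₁).1 h1) hk1
    have hf₂ := Cfsg.Agent.Lib.Helper19.S5662C7STD.isSymplecticForm_formOfGram h2F G₂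
      ((Matrix.isUnit_iff_isUnit_det G₂).1 h2) hk2
    have hg₁ := Cfsg.Agent.Lib.Helper19.S5662C7STD.gramMatrix_formOfGram_id G₁
    have hg₂ := Cfsg.Agent.Lib.Helper19.S5662C7STD.gramMatrix_formOfGram_id G₂
    refine InClassOE.of_tensorSymp H hHI d s e P _ _ hd hs hf₁ hf₂ ⟨1, one_ne_zero, fun x y => ?_⟩ ?_ hH
    · rw [hg₁, hg₂, one_mul]
      exact hform x y
    · intro x₁ x₂
      apply quad_eq_zero_of_polar hQ hq
      rw [hform, formOfGram_kron_pure2, hf₁.alternating, zero_mul]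

/-! ## the assembly -/

/-- **OE4 (`q` odd)** Clifford trichotomy with the form; the field outcome is delegated to `hfield` (helper18's block OE2) -/
theorem cliffordOE_odd_of (hQ : IsNondegenerateQuadraticForm Q) (hq : Odd (Fintype.card F)) (hn : 3 ≤ n)
    (H N : Subgroup (GL (Fin n) F)) (hH : AbsIrr H)
    (hHI : H ≤ isometryGroup F Q) (hNH : N ≤ H) (hnorm : NormBy H N)
    (hfield : ∀ (r : ℕ) (K : Subalgebra F (Matrix (Fin n) (Fin n) F)), r.Prime → IsFieldSubalgebra r K →
      IsAdjointClosedFor (QuadraticMap.polar Q) K → H ≤ subalgebraNormalizer K → InClassOE Q H) :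
    InClassOE Q H ∨ N ≤ scalars (Fin n) F ∨ AbsIrr N := by
  rcases Cfsg.Agent.Lib.Helper17.AschO.formClifford hn _ (isSymmetricForm_polar hQ) H N hH
      (fixesForm_of_le_isometryGroup H hHI) hNH hnorm with
    ⟨t, k, D, hD, hHD⟩ | ⟨k, D, hD, hts, hHD⟩ | ⟨r, K, hr, hK, hac, hNK, hHK⟩ |
    ⟨d, s, e, P, G₁, G₂, hd, hs, h1, h2, hHT, hform⟩ | h | h
  · exact Or.inl (inClassOE_of_decomposition hQ hq H hHI hH.1 k D hD hHD)
  · exact Or.inl (InClassOE.of_singularPair H hHI k D hD
      (fun i => isTotallySingularQuad_of_for hQ hq (D i) (hts i)) hHD)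
  · exact Or.inl (hfield r K hr hK hac hHK)
  · exact Or.inl (inClassOE_of_tensor_gram hQ hq H hHI d s e P G₁ G₂ hd hs h1 h2 hHT hform)
  · exact Or.inr (Or.inl h)
  · exact Or.inr (Or.inr h)

end Cfsg.Agent.Lib.Helper17.AschOE
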