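import Mathlib
import Cfsg.Prelude.Def_GeometricClasses
import Cfsg.Agent.Lib.Helper7.AschDefs
import Cfsg.Agent.Lib.Helper1.OEDefs
import Cfsg.Agent.Lib.Helper17.AschOE4
import Cfsg.Agent.Lib.Helper16.OECliffEvenMain

/-!
# Even-orthogonal hub (architect helper19): block OE4 complete, ALL `q`  (helper17 + helper16)

`cliffordOE_odd` = `AschOE4.cliffordOE_odd_of` with the field outcome discharged by helper16's `oe_field` (on helper18's `FormFieldQ.field_exit`);
`cliffordOE` = the Clifford trichotomy with the quadratic form for every `q` (`q` odd: mine; `q` even: helper16's `cliffordOE_even`).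
-/

set_option autoImplicit false

namespace Cfsg.Agent.Lib.Helper17.AschOE

open Matrix Cfsg Cfsg.Geo Cfsg.Agent.Lib.Helper7.Asch Cfsg.Agent.Lib.Helper1.OE

variable {F : Type*} [Field F] [Fintype F] {n : ℕ} {Q : (Fin n → F) → F}

/-- **OE4, `q` odd** -/
theorem cliffordOE_odd (hQ : IsNondegenerateQuadraticForm Q) (hq : Odd (Fintype.card F)) (hn : 3 ≤ n)
    (H N : Subgroup (GL (Fin n) F)) (hH : AbsIrr H)
    (hHI : H ≤ isometryGroup F Q) (hNH : N ≤ H) (hnorm : NormBy H N) :
    InClassOE Q H ∨ N ≤ scalars (Fin n) F ∨ AbsIrr N :=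
  cliffordOE_odd_of hQ hq hn H N hH hHI hNH hnorm
    (fun r K hr hK hac hHK => Cfsg.Agent.Lib.Helper16.OECliffEven.oe_field hQ hn H hHI hH.1 r K hr hK hac hHK)

/-- **OE4** Clifford trichotomy with the quadratic form, every `q` -/
theorem cliffordOE (hQ : IsNondegenerateQuadraticForm Q) (hn : 3 ≤ n)
    (H N : Subgroup (GL (Fin n) F)) (hH : AbsIrr H)
    (hHI : H ≤ isometryGroup F Q) (hNH : N ≤ H) (hnorm : NormBy H N) :
    InClassOE Q H ∨ N ≤ scalars (Fin n) F ∨ AbsIrr N := by
  by_cases hq : Odd (Fintype.card F)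
  · exact cliffordOE_odd hQ hq hn H N hH hHI hNH hnorm
  · exact Cfsg.Agent.Lib.Helper16.OECliffEven.cliffordOE_even hQ hq hn H N hH hHI hNH hnorm

end Cfsg.Agent.Lib.Helper17.AschOE
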