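import Mathlib

/-!
# S2101-[B] (helper16's G₂(3) front): fast `7 × 7` matrices over `ZMod 3`

Matrices as structures of rows with natural entries (read modulo `3`); the product reduces modulo `3`.
No lists and no type class arithmetic, so that the kernel evaluates products quickly.
-/

set_option autoImplicit false

namespace Cfsg.Agent.Lib.Helper16.G23M.Helper17

/-- vectors of length `7` with natural entries (read modulo `3`) -/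
structure V7 where
  a0 : ℕ
  a1 : ℕ
  a2 : ℕ
  a3 : ℕ
  a4 : ℕ
  a5 : ℕ
  a6 : ℕ
  deriving DecidableEq

/-- `7 × 7` matrices: the seven rows -/
structure M7 where
  r0 : V7
  r1 : V7
  r2 : V7
  r3 : V7
  r4 : V7
  r5 : V7
  r6 : V7
  deriving DecidableEq

/-- the entries of a vector -/
def V7.get (v : V7) : Fin 7 → ℕ := ![v.a0, v.a1, v.a2, v.a3, v.a4, v.a5, v.a6]

/-- the rows of a matrix -/
def M7.row (X : M7) : Fin 7 → V7 := ![X.r0, X.r1, X.r2, X.r3, X.r4, X.r5, X.r6]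

/-- the matrix over `ZMod 3` -/
def M7.toMat (X : M7) : Matrix (Fin 7) (Fin 7) (ZMod 3) := fun i j => (((X.row i).get j : ℕ) : ZMod 3)

/-- the entry of the product: a row times a column, modulo `3` (with the kernel-accelerated operations) -/
def dot7 (r : V7) (b0 b1 b2 b3 b4 b5 b6 : ℕ) : ℕ :=
  Nat.mod (Nat.add (Nat.add (Nat.add (Nat.add (Nat.add (Nat.add (Nat.mul r.a0 b0) (Nat.mul r.a1 b1))
    (Nat.mul r.a2 b2)) (Nat.mul r.a3 b3)) (Nat.mul r.a4 b4)) (Nat.mul r.a5 b5)) (Nat.mul r.a6 b6)) 3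

theorem dot7_eq (r : V7) (b0 b1 b2 b3 b4 b5 b6 : ℕ) : dot7 r b0 b1 b2 b3 b4 b5 b6 =
    (r.a0 * b0 + r.a1 * b1 + r.a2 * b2 + r.a3 * b3 + r.a4 * b4 + r.a5 * b5 + r.a6 * b6) % 3 := rfl

/-- the linear combination of the rows of `Y` with the coefficients `r`, modulo `3` -/
def lc (r : V7) (Y : M7) : V7 :=
  ⟨dot7 r Y.r0.a0 Y.r1.a0 Y.r2.a0 Y.r3.a0 Y.r4.a0 Y.r5.a0 Y.r6.a0,
   dot7 r Y.r0.a1 Y.r1.a1 Y.r2.a1 Y.r3.a1 Y.r4.a1 Y.r5.a1 Y.r6.a1,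
   dot7 r Y.r0.a2 Y.r1.a2 Y.r2.a2 Y.r3.a2 Y.r4.a2 Y.r5.a2 Y.r6.a2,
   dot7 r Y.r0.a3 Y.r1.a3 Y.r2.a3 Y.r3.a3 Y.r4.a3 Y.r5.a3 Y.r6.a3,
   dot7 r Y.r0.a4 Y.r1.a4 Y.r2.a4 Y.r3.a4 Y.r4.a4 Y.r5.a4 Y.r6.a4,
   dot7 r Y.r0.a5 Y.r1.a5 Y.r2.a5 Y.r3.a5 Y.r4.a5 Y.r5.a5 Y.r6.a5,
   dot7 r Y.r0.a6 Y.r1.a6 Y.r2.a6 Y.r3.a6 Y.r4.a6 Y.r5.a6 Y.r6.a6⟩

/-- the product -/
def M7.mul (X Y : M7) : M7 := ⟨lc X.r0 Y, lc X.r1 Y, lc X.r2 Y, lc X.r3 Y, lc X.r4 Y, lc X.r5 Y, lc X.r6 Y⟩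

/-- the identity -/
def M7.one : M7 :=
  ⟨⟨1, 0, 0, 0, 0, 0, 0⟩, ⟨0, 1, 0, 0, 0, 0, 0⟩, ⟨0, 0, 1, 0, 0, 0, 0⟩, ⟨0, 0, 0, 1, 0, 0, 0⟩,
    ⟨0, 0, 0, 0, 1, 0, 0⟩, ⟨0, 0, 0, 0, 0, 1, 0⟩, ⟨0, 0, 0, 0, 0, 0, 1⟩⟩

theorem row_mul (X Y : M7) (i : Fin 7) : (X.mul Y).row i = lc (X.row i) Y := by
  fin_cases i <;> rfl

theorem cast_get_lc (r : V7) (Y : M7) (j : Fin 7) :
    (((lc r Y).get j : ℕ) : ZMod 3) =
      ∑ k : Fin 7, ((r.get k : ℕ) : ZMod 3) * (((Y.row k).get j : ℕ) : ZMod 3) := by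
  rw [Fin.sum_univ_seven]
  fin_cases j
  all_goals
    show ((dot7 r _ _ _ _ _ _ _ : ℕ) : ZMod 3) = _
    rw [dot7_eq, ZMod.natCast_mod]
    push_cast
    rfl

theorem toMat_mul (X Y : M7) : (X.mul Y).toMat = X.toMat * Y.toMat := by
  ext i j
  show ((((X.mul Y).row i).get j : ℕ) : ZMod 3) = _
  rw [row_mul, cast_get_lc, Matrix.mul_apply]
  rfl

theorem toMat_one : M7.one.toMat = 1 := by decide +kernel

/-- the product of the matrices of the letters of a word -/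
def evP (L : ℕ → M7) : List ℕ → M7
  | [] => M7.one
  | l :: w => (L l).mul (evP L w)

theorem toMat_evP (L : ℕ → M7) (w : List ℕ) :
    (evP L w).toMat = (w.map fun l => (L l).toMat).prod := by
  induction w with
  | nil => exact toMat_one
  | cons l w ih => rw [evP, toMat_mul, ih, List.map_cons, List.prod_cons]

end Cfsg.Agent.Lib.Helper16.G23M.Helper17
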