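import Cfsg.Agent.H5.TCkSound
import Cfsg.Agent.Lib.Helper16.G23MData
import Cfsg.Agent.Lib.Helper17.G23MBMat

/-!
# S2101-[B] (helper16's G₂(3) front): the matrices of the eight letters and the kernel checks

The `7 × 7` matrices over `ZMod 3` of `x, x⁻¹, x', x'⁻¹, y, y⁻¹, y', y'⁻¹` (the restrictions of the elements of
`G₂(3)` to the ideal of short root vectors, in helper27's numbering), the relators and the root words.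
-/

set_option autoImplicit false
set_option maxRecDepth 1000000

namespace Cfsg.Agent.Lib.Helper16.G23M.Helper17

open Cfsg.H5.TCk

/-- the matrices of the eight letters -/
def LM : ℕ → M7
  | 0 => ⟨⟨1, 0, 0, 0, 0, 0, 0⟩, ⟨0, 1, 0, 0, 1, 1, 0⟩, ⟨0, 0, 0, 1, 0, 0, 2⟩, ⟨0, 0, 2, 1, 0, 0, 0⟩, ⟨0, 1, 0, 0, 1, 0, 0⟩, ⟨0, 0, 0, 0, 1, 1, 0⟩, ⟨0, 0, 1, 2, 0, 0, 1⟩⟩
  | 1 => ⟨⟨1, 0, 0, 0, 0, 0, 0⟩, ⟨0, 1, 0, 0, 0, 2, 0⟩, ⟨0, 0, 1, 0, 0, 0, 1⟩, ⟨0, 0, 1, 1, 0, 0, 1⟩, ⟨0, 2, 0, 0, 1, 1, 0⟩, ⟨0, 1, 0, 0, 2, 0, 0⟩, ⟨0, 0, 0, 1, 0, 0, 1⟩⟩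
  | 2 => ⟨⟨1, 0, 0, 0, 0, 0, 0⟩, ⟨0, 1, 0, 0, 1, 1, 0⟩, ⟨0, 0, 1, 2, 0, 0, 0⟩, ⟨0, 0, 1, 0, 0, 0, 2⟩, ⟨0, 0, 0, 0, 1, 1, 0⟩, ⟨0, 1, 0, 0, 0, 1, 0⟩, ⟨0, 0, 2, 1, 0, 0, 1⟩⟩
  | 3 => ⟨⟨1, 0, 0, 0, 0, 0, 0⟩, ⟨0, 1, 0, 0, 2, 0, 0⟩, ⟨0, 0, 1, 1, 0, 0, 1⟩, ⟨0, 0, 0, 1, 0, 0, 1⟩, ⟨0, 1, 0, 0, 0, 2, 0⟩, ⟨0, 2, 0, 0, 1, 1, 0⟩, ⟨0, 0, 1, 0, 0, 0, 1⟩⟩
  | 4 => ⟨⟨0, 2, 1, 2, 2, 1, 1⟩, ⟨2, 0, 1, 0, 1, 2, 2⟩, ⟨1, 2, 1, 2, 1, 0, 0⟩, ⟨2, 0, 1, 0, 0, 2, 0⟩, ⟨1, 0, 0, 2, 1, 0, 0⟩, ⟨1, 1, 2, 1, 0, 1, 0⟩, ⟨2, 0, 0, 1, 2, 1, 1⟩⟩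
  | 5 => ⟨⟨0, 1, 2, 2, 1, 2, 1⟩, ⟨2, 1, 0, 0, 0, 0, 2⟩, ⟨2, 1, 1, 0, 2, 0, 2⟩, ⟨1, 2, 0, 1, 0, 1, 1⟩, ⟨1, 1, 1, 2, 0, 2, 0⟩, ⟨2, 0, 2, 0, 1, 1, 1⟩, ⟨1, 0, 1, 0, 0, 2, 0⟩⟩
  | 6 => ⟨⟨0, 2, 1, 1, 1, 2, 2⟩, ⟨2, 1, 2, 1, 2, 0, 0⟩, ⟨1, 1, 0, 1, 0, 2, 2⟩, ⟨2, 0, 0, 1, 2, 0, 0⟩, ⟨1, 1, 0, 0, 0, 0, 2⟩, ⟨1, 0, 0, 2, 1, 1, 1⟩, ⟨2, 2, 1, 0, 1, 0, 1⟩⟩
  | 7 => ⟨⟨0, 1, 2, 2, 1, 2, 1⟩, ⟨1, 1, 1, 2, 0, 2, 0⟩, ⟨1, 0, 1, 0, 0, 2, 0⟩, ⟨2, 1, 1, 0, 2, 0, 2⟩, ⟨2, 0, 2, 0, 1, 1, 1⟩, ⟨2, 1, 0, 0, 0, 0, 2⟩, ⟨1, 2, 0, 1, 0, 1, 1⟩⟩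
  | _ => M7.one

theorem inv_chk : ∀ i : Fin 4, (LM (2 * i.val + 1)).mul (LM (2 * i.val)) = M7.one ∧
    (LM (2 * i.val)).mul (LM (2 * i.val + 1)) = M7.one := by decide +kernel

theorem rels_chk : ((relsL ++ relsU ++ relsG).all fun r => decide (evP LM r = M7.one)) = true := by
  decide +kernel

/-- words for the root elements `x_r(1)` -/
def rootWord : ℕ → List ℕ
  | 0 => [1, 1, 1, 1, 1, 2]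
  | 1 => [3, 3, 3, 3, 3, 0]
  | 2 => [5, 5, 5, 5, 5, 6]
  | 3 => [7, 7, 7, 7, 7, 4]
  | 4 => [5, 6, 5, 7, 7, 7]
  | 5 => [1, 2, 1, 3, 3, 3]
  | 6 => [1, 2, 1, 1, 1, 1]
  | 7 => [5, 6, 5, 5, 5, 5]
  | 8 => [7, 5, 5, 5, 7, 4]
  | 9 => [5, 7, 7, 7, 5, 6]
  | 10 => [3, 1, 1, 1, 3, 0]
  | 11 => [1, 3, 3, 3, 1, 2]
  | _ => []

/-- words for the root elements `x_r(t)`, `t = 0, 1, 2` -/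
def rootW (r t : ℕ) : List ℕ :=
  if t = 0 then [] else if t = 1 then rootWord r else winv (rootWord r)

/-- the four generators as products of three root elements -/
theorem gen_chk :
    ((evP LM (rootW 0 1)).mul (evP LM (rootW 10 1))).mul (evP LM (rootW 6 1)) = LM 0 ∧
    ((evP LM (rootW 1 1)).mul (evP LM (rootW 11 1))).mul (evP LM (rootW 5 1)) = LM 2 ∧
    ((evP LM (rootW 2 1)).mul (evP LM (rootW 8 1))).mul (evP LM (rootW 7 1)) = LM 4 ∧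
    ((evP LM (rootW 3 1)).mul (evP LM (rootW 9 1))).mul (evP LM (rootW 4 1)) = LM 6 := by
  decide +kernel

/-- the Schreier identity of the coset `c` and the letter `l`, on matrices -/
def schOK (c l : ℕ) : Bool :=
  decide (evP LM (l :: wrdF c) = evP LM (wrdF (nxtF c l) ++ swF c l))

/-- the Schreier identities of the cosets `lo, …, lo + n - 1` -/
def schAll (lo n : ℕ) : Bool :=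
  (List.range' lo n).all fun c => (List.range 8).all fun l => schOK c l

theorem schOK_of_all {lo n : ℕ} (h : schAll lo n = true) {c l : ℕ} (hc1 : lo ≤ c) (hc2 : c < lo + n)
    (hl : l < 8) : evP LM (l :: wrdF c) = evP LM (wrdF (nxtF c l) ++ swF c l) := by
  unfold schAll at h
  rw [List.all_eq_true] at h
  have h1 := h c (by rw [List.mem_range']; exact ⟨c - lo, by omega, by omega⟩)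
  rw [List.all_eq_true] at h1
  exact of_decide_eq_true (h1 l (List.mem_range.mpr hl))

end Cfsg.Agent.Lib.Helper16.G23M.Helper17
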