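import Cfsg.Agent.Lib.Helper17.G23MBChk

/-!
# S2101-[B]: the Schreier identities of the cosets `189, …, 377` (kernel check)
-/

set_option autoImplicit false
set_option maxRecDepth 1000000

namespace Cfsg.Agent.Lib.Helper16.G23M.Helper17

theorem sch_chk1 : schAll 189 189 = true := by decide +kernel

end Cfsg.Agent.Lib.Helper16.G23M.Helper17
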