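import Cfsg.Agent.Lib.Helper27.G23Main
import Cfsg.Agent.Lib.Helper17.G23MBChk
import Cfsg.Agent.Lib.Helper17.G23MBChk0
import Cfsg.Agent.Lib.Helper17.G23MBChk1
import Cfsg.Agent.Lib.Helper17.G23MBChk2
import Cfsg.Agent.Lib.Helper17.G23MBChk3

/-!
# S2101-[B] (helper16's G₂(3) front): THE BRIDGE - the four generators in `G₂(3)`

`x, x', y, y'` as products of three root elements of `chevG2.group (ZMod 3)`; all identities are matrix
identities through helper27's faithful restriction `resHom` to the `7`-dimensional ideal.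
-/

set_option autoImplicit false
set_option maxRecDepth 1000000

namespace Cfsg.Agent.Lib.Helper16.G23M

open Cfsg Cfsg.H5.TCk Cfsg.Lie Matrix

namespace Helper17

open Cfsg.Agent.Lib.Helper27.G23Main Cfsg.Agent.Lib.Helper27.G23Res
  Cfsg.Agent.Lib.Helper27.G23Comp

/-- the root elements `x_r(t)` restricted to the ideal, as products of letter matrices -/
theorem root_chk : ∀ r : Fin chevG2.nroots, ∀ t : F3,
    res (chevG2.xMat F3 r t) = (evP LM (rootW r.val t.val)).toMat := by decide +kernel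

/-- the four generators -/
def gT : ℕ → ↥G
  | 0 => xG ⟨0, by decide⟩ 1 * xG ⟨10, by decide⟩ 1 * xG ⟨6, by decide⟩ 1
  | 1 => xG ⟨1, by decide⟩ 1 * xG ⟨11, by decide⟩ 1 * xG ⟨5, by decide⟩ 1
  | 2 => xG ⟨2, by decide⟩ 1 * xG ⟨8, by decide⟩ 1 * xG ⟨7, by decide⟩ 1
  | 3 => xG ⟨3, by decide⟩ 1 * xG ⟨9, by decide⟩ 1 * xG ⟨4, by decide⟩ 1
  | _ => 1

theorem res_xG (r : Fin chevG2.nroots) (t : F3) :
    resHom (xG r t) = (evP LM (rootW r.val t.val)).toMat := by
  rw [resHom_xG, root_chk]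

theorem res_gT : ∀ i, resHom (gT i) = (LM (2 * i)).toMat
  | 0 => by
    show resHom (xG _ 1 * xG _ 1 * xG _ 1) = _
    rw [map_mul, map_mul, res_xG, res_xG, res_xG, ← toMat_mul, ← toMat_mul]
    exact congrArg M7.toMat gen_chk.1
  | 1 => by
    show resHom (xG _ 1 * xG _ 1 * xG _ 1) = _
    rw [map_mul, map_mul, res_xG, res_xG, res_xG, ← toMat_mul, ← toMat_mul]
    exact congrArg M7.toMat gen_chk.2.1
  | 2 => by
    show resHom (xG _ 1 * xG _ 1 * xG _ 1) = _
    rw [map_mul, map_mul, res_xG, res_xG, res_xG, ← toMat_mul, ← toMat_mul]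
    exact congrArg M7.toMat gen_chk.2.2.1
  | 3 => by
    show resHom (xG _ 1 * xG _ 1 * xG _ 1) = _
    rw [map_mul, map_mul, res_xG, res_xG, res_xG, ← toMat_mul, ← toMat_mul]
    exact congrArg M7.toMat gen_chk.2.2.2
  | (n + 4) => by
    show resHom 1 = (M7.one).toMat
    rw [map_one, toMat_one]

theorem res_gT_inv (i : ℕ) : resHom (gT i)⁻¹ = (LM (2 * i + 1)).toMat := by
  have h1 : resHom (gT i)⁻¹ * resHom (gT i) = 1 := by rw [← map_mul, inv_mul_cancel, map_one]
  have h2 : (LM (2 * i)).toMat * (LM (2 * i + 1)).toMat = 1 := by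
    by_cases hi : i < 4
    · rw [← toMat_mul, (inv_chk ⟨i, hi⟩).2, toMat_one]
    · obtain ⟨n, rfl⟩ : ∃ n, i = n + 4 := ⟨i - 4, by omega⟩
      show (M7.one).toMat * (M7.one).toMat = 1
      rw [toMat_one, mul_one]
  rw [res_gT] at h1
  exact left_inv_eq_right_inv h1 h2

theorem res_gl (l : ℕ) : resHom (gl gT l) = (LM l).toMat := by
  unfold gl
  by_cases h : l % 2 = 0
  · rw [if_pos h, res_gT]
    congr 2
    omega
  · rw [if_neg h, res_gT_inv]
    congr 2
    omega

theorem res_ev (w : List ℕ) : resHom (ev gT w) = (evP LM w).toMat := by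
  induction w with
  | nil => exact (map_one resHom).trans toMat_one.symm
  | cons l w ih => rw [ev, map_mul, res_gl, ih, evP, toMat_mul]

theorem eq_of_res {a b : ↥G} (h : resHom a = resHom b) : a = b := by
  have h1 : resHom (a * b⁻¹) = 1 := by
    rw [map_mul, h, ← map_mul, mul_inv_cancel, map_one]
  have h2 := eq_one_of_res h1
  exact mul_inv_eq_one.mp h2

theorem ev_eq_one_of_mem {r : List ℕ} (hr : r ∈ relsL ++ relsU ++ relsG) : ev gT r = 1 := by
  have h := List.all_eq_true.mp rels_chk r hr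
  apply eq_one_of_res
  rw [res_ev, of_decide_eq_true h, toMat_one]

theorem ev_append' (u v : List ℕ) : ev gT (u ++ v) = ev gT u * ev gT v := by
  induction u with
  | nil => simp [ev]
  | cons l u ih => simp only [List.cons_append, ev, ih, mul_assoc]

theorem schreier (c : ℕ) (hc : c < 756) (l : ℕ) (hl : l < 8) :
    gl gT l * ev gT (wrdF c) = ev gT (wrdF (nxtF c l)) * ev gT (swF c l) := by
  have key : evP LM (l :: wrdF c) = evP LM (wrdF (nxtF c l) ++ swF c l) := by
    rcases Nat.lt_or_ge c 189 with h0 | h0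
    · exact schOK_of_all sch_chk0 (Nat.zero_le _) (by omega) hl
    rcases Nat.lt_or_ge c 378 with h1 | h1
    · exact schOK_of_all sch_chk1 h0 (by omega) hl
    rcases Nat.lt_or_ge c 567 with h2 | h2
    · exact schOK_of_all sch_chk2 h1 (by omega) hl
    · exact schOK_of_all sch_chk3 h2 (by omega) hl
  rw [← ev_append']
  apply eq_of_res
  show resHom (ev gT (l :: wrdF c)) = _
  rw [res_ev, res_ev, key]

theorem gT_mem (K : Subgroup ↥G) (hK : ∀ i < 4, gT i ∈ K) (i : ℕ) : gT i ∈ K := by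
  by_cases hi : i < 4
  · exact hK i hi
  · obtain ⟨n, rfl⟩ : ∃ n, i = n + 4 := ⟨i - 4, by omega⟩
    exact K.one_mem

theorem ev_mem' (K : Subgroup ↥G) (hK : ∀ i < 4, gT i ∈ K) (w : List ℕ) : ev gT w ∈ K := by
  induction w with
  | nil => exact K.one_mem
  | cons l w ih =>
    refine K.mul_mem ?_ ih
    unfold gl
    split_ifs
    · exact gT_mem K hK _
    · exact K.inv_mem (gT_mem K hK _)

theorem closure_gT : Subgroup.closure (Set.range fun i : Fin 4 => gT i.val) = ⊤ := by
  set K := Subgroup.closure (Set.range fun i : Fin 4 => gT i.val) with hK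
  have hmem : ∀ i < 4, gT i ∈ K := fun i hi => Subgroup.subset_closure ⟨⟨i, hi⟩, rfl⟩
  have hx : ∀ (r : Fin chevG2.nroots) (t : F3), xG r t ∈ K := by
    intro r t
    have : xG r t = ev gT (rootW r.val t.val) := by
      apply eq_of_res
      rw [res_xG, res_ev]
    rw [this]
    exact ev_mem' K hmem _
  rw [eq_top_iff]
  rintro ⟨y, hy⟩ -
  have hy' : y ∈ Subgroup.closure
      {g : GL Idx F3 | ∃ (r : Fin chevG2.nroots) (t : F3),
        (g : Matrix Idx Idx F3) = chevG2.xMat F3 r t} := hy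
  induction hy' using Subgroup.closure_induction with
  | mem x hx' =>
    obtain ⟨r, t, hrt⟩ := hx'
    have : (⟨x, hy⟩ : ↥G) = xG r t := Subtype.ext (Units.ext hrt)
    rw [this]
    exact hx r t
  | one => exact K.one_mem
  | mul x y hx' hy'' ihx ihy =>
    have hxG : x ∈ G := hx'
    have hyG : y ∈ G := hy''
    have : (⟨x * y, hy⟩ : ↥G) = ⟨x, hxG⟩ * ⟨y, hyG⟩ := rfl
    rw [this]
    exact K.mul_mem (ihx hxG) (ihy hyG)
  | inv x hx' ihx =>
    have hxG : x ∈ G := hx'
    have : (⟨x⁻¹, hy⟩ : ↥G) = (⟨x, hxG⟩ : ↥G)⁻¹ := rfl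
    rw [this]
    exact K.inv_mem (ihx hxG)

end Helper17

open Helper17 in
/-- **[B]** the bridge: the four generators in `G₂(3)` -/
theorem exists_tuple : ∃ g : ℕ → ↥(Cfsg.Lie.chevG2.group (ZMod 3)), IsG23Tuple g := by
  refine ⟨gT, Cfsg.Agent.Lib.Helper27.G23Main.card_G, closure_gT, ?_, ?_, ?_, ?_⟩
  · intro r hr
    exact ev_eq_one_of_mem (List.mem_append_left _ (List.mem_append_left _ hr))
  · intro r hr
    exact ev_eq_one_of_mem (List.mem_append_left _ (List.mem_append_right _ hr))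
  · intro r hr
    exact ev_eq_one_of_mem (List.mem_append_right _ hr)
  · intro c hc l hl
    exact schreier c hc l hl

end Cfsg.Agent.Lib.Helper16.G23M
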