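import Mathlib
import Cfsg.Prelude.Def_KGroupFacts

/-!
# S2095 piece [UT]: transport of the Schur multiplier along an isomorphism (across universes)

A finite group in one universe is isomorphic to a group structure on `ULift (Fin n)` in any other
universe; stem extensions and their kernels are transported along isomorphisms of both groups.
-/

set_option autoImplicit false

namespace Cfsg.Agent.Lib.Helper2.O73Mult

open Cfsg

universe u v w

namespace Helper17

theorem map_commutator_le' {A B : Type*} [Group A] [Group B] (f : A →* B) :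
    (commutator A).map f ≤ commutator B := by
  rw [commutator_def, commutator_def, Subgroup.map_commutator]
  exact Subgroup.commutator_mono le_top le_top

/-- stem extensions and their kernels are transported along isomorphisms of both groups -/
theorem stem_transport {Γ : Type*} {Γ₀ : Type*} {H : Type*} {G : Type*} [Group Γ] [Group Γ₀]
    [Group H] [Group G] (σ₀ : Γ₀ →* H) (hσ₀ : IsStemExtension σ₀) (a : Γ ≃* Γ₀) (b : H ≃* G) :
    IsStemExtension ((b : H →* G).comp (σ₀.comp (a : Γ →* Γ₀))) ∧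
      Nonempty (((b : H →* G).comp (σ₀.comp (a : Γ →* Γ₀))).ker ≃* σ₀.ker) := by
  obtain ⟨hsurj, hcen, hcomm⟩ := hσ₀
  have hker : ∀ x : Γ, x ∈ ((b : H →* G).comp (σ₀.comp (a : Γ →* Γ₀))).ker ↔ a x ∈ σ₀.ker := by
    intro x
    rw [MonoidHom.mem_ker, MonoidHom.mem_ker]
    show b (σ₀ (a x)) = 1 ↔ σ₀ (a x) = 1
    exact EmbeddingLike.map_eq_one_iff
  refine ⟨⟨?_, ?_, ?_⟩, ?_⟩
  · exact b.surjective.comp (hsurj.comp a.surjective)
  · intro x hx
    have h1 : a x ∈ Subgroup.center Γ₀ := hcen ((hker x).mp hx)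
    rw [Subgroup.mem_center_iff]
    intro y
    apply a.injective
    rw [map_mul, map_mul]
    exact Subgroup.mem_center_iff.mp h1 (a y)
  · intro x hx
    have h1 : a x ∈ commutator Γ₀ := hcomm ((hker x).mp hx)
    have h2 : a.symm (a x) ∈ (commutator Γ₀).map (a.symm : Γ₀ →* Γ) := ⟨a x, h1, rfl⟩
    rw [a.symm_apply_apply] at h2
    exact map_commutator_le' _ h2
  · have h : (((b : H →* G).comp (σ₀.comp (a : Γ →* Γ₀))).ker).map (a : Γ →* Γ₀) = σ₀.ker := by
      ext y
      constructor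
      · rintro ⟨x, hx, rfl⟩
        exact (hker x).mp hx
      · intro hy
        refine ⟨a.symm y, (hker _).mpr ?_, a.apply_symm_apply y⟩
        rw [a.apply_symm_apply]
        exact hy
    exact ⟨(a.subgroupMap _).trans (MulEquiv.subgroupCongr h)⟩

/-- a finite group is isomorphic to a group in any other universe -/
theorem exists_mulEquiv_universe (Γ : Type u) [Group Γ] [Finite Γ] :
    ∃ (Γ' : Type v) (_ : Group Γ') (_ : Finite Γ'), Nonempty (Γ' ≃* Γ) := by
  classical
  let ε : ULift.{v} (Fin (Nat.card Γ)) ≃ Γ := Equiv.ulift.trans (Finite.equivFin Γ).symm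
  refine ⟨ULift.{v} (Fin (Nat.card Γ)), ε.group, inferInstance, ⟨?_⟩⟩
  exact @MulEquiv.mk _ _ (ε.group).toMul _ ε (fun x y => ε.apply_symm_apply _)

end Helper17

open Helper17

theorem hasSchurMultiplier_of_mulEquiv {G : Type u} {H : Type v} [Group G] [Group H] [Finite H]
    (e : G ≃* H) {A : Type w} [CommGroup A] (h : Cfsg.HasSchurMultiplier H A) :
    Cfsg.HasSchurMultiplier G A := by
  obtain ⟨⟨Γ₀, iG, iF, σ₀, hσ₀, ⟨κ⟩⟩, huniv⟩ := h
  refine ⟨?_, ?_⟩
  · obtain ⟨Γ, jG, jF, ⟨a⟩⟩ := exists_mulEquiv_universe.{v, u} Γ₀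
    obtain ⟨hst, ⟨κ'⟩⟩ := stem_transport σ₀ hσ₀ a e.symm
    exact ⟨Γ, jG, jF, _, hst, ⟨κ'.trans κ⟩⟩
  · intro Γ _ _ σ hσ
    obtain ⟨Γ', jG, jF, ⟨a⟩⟩ := exists_mulEquiv_universe.{u, v} Γ
    obtain ⟨hst, ⟨κ'⟩⟩ := stem_transport σ hσ a e
    obtain ⟨π', hπ'⟩ := huniv Γ' _ hst
    exact ⟨(κ' : _ →* σ.ker).comp π', κ'.surjective.comp hπ'⟩

end Cfsg.Agent.Lib.Helper2.O73Mult
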