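import Cfsg.Agent.Lib.Helper18.HoloDefs

/-!
# S2046 piece [W1]: holonomy

`K` central, `L ∩ K = 1`; a coset table `nxt` with representatives `ev γ (wrd c)` such that
`γ_l · rep c ∈ rep (nxt c l) · (L K)`.  The `K`-components `κ c l` of `(rep (nxt c l))⁻¹ γ_l (rep c)`
satisfy the cycle equations, and `|Γ| ≤ n · |L| · |K0|` whenever they all lie in `K0 ≤ K`.
-/

set_option autoImplicit false

namespace Cfsg.Agent.Lib.Helper18.HSMult

open Cfsg Cfsg.H5.TCk Cfsg.Agent.Lib.Helper18.Holo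

namespace Helper17

variable {Γ : Type*} [Group Γ]

/-- the `K`-component of an element of `L K` (and `1` outside of `L K`) -/
noncomputable def pk (L K : Subgroup Γ) (x : Γ) : Γ := by
  classical
  exact if h : ∃ k, k ∈ K ∧ x * k⁻¹ ∈ L then h.choose else 1

theorem pk_mem (L K : Subgroup Γ) (x : Γ) : pk L K x ∈ K := by
  classical
  unfold pk
  by_cases h : ∃ k, k ∈ K ∧ x * k⁻¹ ∈ L
  · rw [dif_pos h]; exact h.choose_spec.1
  · rw [dif_neg h]; exact K.one_mem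

theorem pk_spec (L K : Subgroup Γ) {x : Γ} (h : ∃ k, k ∈ K ∧ x * k⁻¹ ∈ L) :
    x * (pk L K x)⁻¹ ∈ L := by
  classical
  unfold pk
  rw [dif_pos h]
  exact h.choose_spec.2

theorem pk_unique (L K : Subgroup Γ) (hLK : L ⊓ K = ⊥) {x k : Γ} (hk : k ∈ K)
    (h : x * k⁻¹ ∈ L) : pk L K x = k := by
  have hex : ∃ k, k ∈ K ∧ x * k⁻¹ ∈ L := ⟨k, hk, h⟩
  have h1 := pk_spec L K hex
  have h2 := pk_mem L K x
  have h3 : k * (pk L K x)⁻¹ ∈ L := by
    have := L.mul_mem (L.inv_mem h) h1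
    have e : (x * k⁻¹)⁻¹ * (x * (pk L K x)⁻¹) = k * (pk L K x)⁻¹ := by group
    rwa [e] at this
  have h4 : k * (pk L K x)⁻¹ ∈ K := K.mul_mem hk (K.inv_mem h2)
  have h5 : k * (pk L K x)⁻¹ ∈ L ⊓ K := ⟨h3, h4⟩
  rw [hLK, Subgroup.mem_bot] at h5
  exact (mul_inv_eq_one.mp h5).symm

theorem exists_of_mem_sup (L K : Subgroup Γ) (hK : K ≤ Subgroup.center Γ) {x : Γ}
    (hx : x ∈ L ⊔ K) : ∃ k, k ∈ K ∧ x * k⁻¹ ∈ L := by
  haveI : K.Normal := ⟨fun k hk g => by
    have := Subgroup.mem_center_iff.mp (hK hk) g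
    rw [this, mul_assoc, mul_inv_cancel, mul_one]; exact hk⟩
  have h1 : x ∈ ((L ⊔ K : Subgroup Γ) : Set Γ) := hx
  rw [Subgroup.mul_normal] at h1
  obtain ⟨a, ha, b, hb, rfl⟩ := Set.mem_mul.mp h1
  exact ⟨b, hb, by simpa using ha⟩

end Helper17

open Helper17

/-- [W1] HOLONOMY.  `K` central, `L ∩ K = 1`; coset table `nxt` (letters `l < 2 * t`, cosets `c < n`) with
representatives `ev γ (wrd c)`, such that `γ_l · rep c ∈ rep (nxt c l) · (L K)`.  Then the `K`-components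
`κ c l` of `(rep (nxt c l))⁻¹ γ_l (rep c)` satisfy the cycle equations and generate enough. -/
theorem holonomy {Γ : Type*} [Group Γ] (L K : Subgroup Γ) (hK : K ≤ Subgroup.center Γ)
    (hLK : L ⊓ K = ⊥) (γ : ℕ → Γ) (n t : ℕ) (nxt : ℕ → ℕ → ℕ) (wrd : ℕ → List ℕ)
    (hnxt : ∀ c < n, ∀ l < 2 * t, nxt c l < n)
    (hmem : ∀ c < n, ∀ l < 2 * t, (ev γ (wrd (nxt c l)))⁻¹ * gl γ l * ev γ (wrd c) ∈ L ⊔ K) :
    ∃ κ : ℕ → ℕ → Γ,
      (∀ c l, κ c l ∈ K) ∧
      (∀ c < n, ∀ l < 2 * t,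
        (ev γ (wrd (nxt c l)))⁻¹ * gl γ l * ev γ (wrd c) ∈ L → κ c l = 1) ∧
      (∀ c < n, ∀ w : List ℕ, (∀ l ∈ w, l < 2 * t) → traceL nxt c w = c → ev γ w ∈ K →
        hol κ nxt c w = ev γ w) ∧
      (∀ K0 : Subgroup Γ, K0 ≤ K → (∀ c < n, ∀ l < 2 * t, κ c l ∈ K0) → 0 < n → wrd 0 = [] →
        Subgroup.closure (Set.range fun i : Fin t => γ i.val) = ⊤ → Finite Γ →
        Nat.card Γ ≤ n * (Nat.card L * Nat.card K0)) := by
  classical
  -- the `L`-part of the transition elements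
  have hB : ∀ c < n, ∀ l < 2 * t,
      (ev γ (wrd (nxt c l)))⁻¹ * gl γ l * ev γ (wrd c) *
        (pk L K ((ev γ (wrd (nxt c l)))⁻¹ * gl γ l * ev γ (wrd c)))⁻¹ ∈ L :=
    fun c hc l hl => pk_spec L K (exists_of_mem_sup L K hK (hmem c hc l hl))
  have hcen : ∀ k ∈ K, ∀ g : Γ, g * k = k * g := fun k hk g => Subgroup.mem_center_iff.mp (hK hk) g
  refine ⟨fun c l => pk L K ((ev γ (wrd (nxt c l)))⁻¹ * gl γ l * ev γ (wrd c)),
    fun c l => pk_mem L K _, ?_, ?_, ?_⟩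
  · intro c _ l _ h
    exact pk_unique L K hLK K.one_mem (by simpa using h)
  · -- the cycle equations
    have key : ∀ c < n, ∀ w : List ℕ, (∀ l ∈ w, l < 2 * t) →
        traceL nxt c w < n ∧
        hol (fun c l => pk L K ((ev γ (wrd (nxt c l)))⁻¹ * gl γ l * ev γ (wrd c))) nxt c w ∈ K ∧
        (ev γ (wrd (traceL nxt c w)))⁻¹ * ev γ w * ev γ (wrd c) *
          (hol (fun c l => pk L K ((ev γ (wrd (nxt c l)))⁻¹ * gl γ l * ev γ (wrd c)))
            nxt c w)⁻¹ ∈ L := by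
      intro c hc w
      induction w with
      | nil =>
        intro _
        refine ⟨hc, K.one_mem, ?_⟩
        show (ev γ (wrd c))⁻¹ * 1 * ev γ (wrd c) * (1 : Γ)⁻¹ ∈ L
        simp
      | cons l w ih =>
        intro hw
        have hl : l < 2 * t := hw l List.mem_cons_self
        obtain ⟨i1, i2, i3⟩ := ih (fun l' hl' => hw l' (List.mem_cons_of_mem _ hl'))
        have hb := hB _ i1 l hl
        have hkK := pk_mem L K
          ((ev γ (wrd (nxt (traceL nxt c w) l)))⁻¹ * gl γ l * ev γ (wrd (traceL nxt c w)))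
        refine ⟨hnxt _ i1 l hl, K.mul_mem hkK i2, ?_⟩
        have hk := hcen _ (K.inv_mem hkK)
        show (ev γ (wrd (nxt (traceL nxt c w) l)))⁻¹ * (gl γ l * ev γ w) * ev γ (wrd c) *
          (pk L K ((ev γ (wrd (nxt (traceL nxt c w) l)))⁻¹ * gl γ l *
              ev γ (wrd (traceL nxt c w))) *
            hol (fun c l => pk L K ((ev γ (wrd (nxt c l)))⁻¹ * gl γ l * ev γ (wrd c)))
              nxt c w)⁻¹ ∈ L
        generalize hol (fun c l => pk L K ((ev γ (wrd (nxt c l)))⁻¹ * gl γ l * ev γ (wrd c)))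
          nxt c w = h' at i2 i3 ⊢
        generalize pk L K
          ((ev γ (wrd (nxt (traceL nxt c w) l)))⁻¹ * gl γ l * ev γ (wrd (traceL nxt c w))) = k
          at hb hk hkK ⊢
        have h1 := hk ((ev γ (wrd (traceL nxt c w)))⁻¹ * ev γ w * ev γ (wrd c) * h'⁻¹)
        have e : (ev γ (wrd (nxt (traceL nxt c w) l)))⁻¹ * (gl γ l * ev γ w) * ev γ (wrd c) *
            (k * h')⁻¹ =
            ((ev γ (wrd (nxt (traceL nxt c w) l)))⁻¹ * gl γ l * ev γ (wrd (traceL nxt c w)) * k⁻¹) *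
            ((ev γ (wrd (traceL nxt c w)))⁻¹ * ev γ w * ev γ (wrd c) * h'⁻¹) := by
          calc (ev γ (wrd (nxt (traceL nxt c w) l)))⁻¹ * (gl γ l * ev γ w) * ev γ (wrd c) *
                (k * h')⁻¹
              = (ev γ (wrd (nxt (traceL nxt c w) l)))⁻¹ * gl γ l * ev γ (wrd (traceL nxt c w)) *
                (((ev γ (wrd (traceL nxt c w)))⁻¹ * ev γ w * ev γ (wrd c) * h'⁻¹) * k⁻¹) := by
                group
            _ = (ev γ (wrd (nxt (traceL nxt c w) l)))⁻¹ * gl γ l * ev γ (wrd (traceL nxt c w)) *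
                (k⁻¹ * ((ev γ (wrd (traceL nxt c w)))⁻¹ * ev γ w * ev γ (wrd c) * h'⁻¹)) := by
                rw [h1]
            _ = _ := by group
        rw [e]
        exact L.mul_mem hb i3
    intro c hc w hw htr hwK
    obtain ⟨_, i2, i3⟩ := key c hc w hw
    rw [htr] at i3
    generalize hol (fun c l => pk L K ((ev γ (wrd (nxt c l)))⁻¹ * gl γ l * ev γ (wrd c)))
      nxt c w = h' at i2 i3 ⊢
    have h1 := hcen _ hwK (ev γ (wrd c))⁻¹
    have e : (ev γ (wrd c))⁻¹ * ev γ w * ev γ (wrd c) * h'⁻¹ = ev γ w * h'⁻¹ := by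
      rw [h1]; group
    rw [e] at i3
    have h5 : ev γ w * h'⁻¹ ∈ L ⊓ K := ⟨i3, K.mul_mem hwK (K.inv_mem i2)⟩
    rw [hLK, Subgroup.mem_bot] at h5
    exact (mul_inv_eq_one.mp h5).symm
  · -- the bound
    intro K0 hK0 hκ0 hn0 hw0 hgen hfin
    haveI : Finite Γ := hfin
    have hrep0 : ev γ (wrd 0) = 1 := by rw [hw0]; rfl
    have step : ∀ l < 2 * t, ∀ c < n, ∀ a ∈ L, ∀ k ∈ K0,
        ∃ c' < n, ∃ a' ∈ L, ∃ k' ∈ K0, gl γ l * (ev γ (wrd c) * a * k) = ev γ (wrd c') * a' * k' := by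
      intro l hl c hc a ha k hk
      have hb := hB c hc l hl
      have hκ : pk L K ((ev γ (wrd (nxt c l)))⁻¹ * gl γ l * ev γ (wrd c)) ∈ K0 := hκ0 c hc l hl
      have hκK := pk_mem L K ((ev γ (wrd (nxt c l)))⁻¹ * gl γ l * ev γ (wrd c))
      have hcom := hcen _ hκK a
      generalize pk L K ((ev γ (wrd (nxt c l)))⁻¹ * gl γ l * ev γ (wrd c)) = κ at hb hκ hκK hcom
      refine ⟨nxt c l, hnxt c hc l hl,
        ((ev γ (wrd (nxt c l)))⁻¹ * gl γ l * ev γ (wrd c) * κ⁻¹) * a, L.mul_mem hb ha,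
        κ * k, K0.mul_mem hκ hk, ?_⟩
      calc gl γ l * (ev γ (wrd c) * a * k)
          = ev γ (wrd (nxt c l)) * ((ev γ (wrd (nxt c l)))⁻¹ * gl γ l * ev γ (wrd c) * κ⁻¹) *
            (κ * a) * k := by group
        _ = ev γ (wrd (nxt c l)) * ((ev γ (wrd (nxt c l)))⁻¹ * gl γ l * ev γ (wrd c) * κ⁻¹) *
            (a * κ) * k := by rw [hcom]
        _ = _ := by group
    have hS : ∀ g : Γ, ∃ c < n, ∃ a ∈ L, ∃ k ∈ K0, g = ev γ (wrd c) * a * k := by
      intro g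
      have hg : g ∈ Subgroup.closure (Set.range fun i : Fin t => γ i.val) := by
        rw [hgen]; trivial
      induction hg using Subgroup.closure_induction_left with
      | one => exact ⟨0, hn0, 1, L.one_mem, 1, K0.one_mem, by rw [hrep0]; simp⟩
      | mul_left x hx y _ ih =>
        obtain ⟨i, rfl⟩ := hx
        obtain ⟨c, hc, a, ha, k, hk, rfl⟩ := ih
        have := step (2 * i.val) (by omega) c hc a ha k hk
        rw [Cfsg.H5.TCk.gl_even] at this
        exact this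
      | inv_mul_cancel x hx y _ ih =>
        obtain ⟨i, rfl⟩ := hx
        obtain ⟨c, hc, a, ha, k, hk, rfl⟩ := ih
        have := step (2 * i.val + 1) (by omega) c hc a ha k hk
        rw [Cfsg.H5.TCk.gl_odd] at this
        exact this
    let f : Fin n × L × K0 → Γ := fun q => ev γ (wrd q.1.val) * q.2.1.1 * q.2.2.1
    have hf : Function.Surjective f := by
      intro g
      obtain ⟨c, hc, a, ha, k, hk, rfl⟩ := hS g
      exact ⟨(⟨c, hc⟩, ⟨a, ha⟩, ⟨k, hk⟩), rfl⟩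
    calc Nat.card Γ ≤ Nat.card (Fin n × L × K0) := Nat.card_le_card_of_surjective f hf
      _ = n * (Nat.card L * Nat.card K0) := by
        rw [Nat.card_prod, Nat.card_prod, Nat.card_fin]

end Cfsg.Agent.Lib.Helper18.HSMult
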