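import Cfsg.Agent.Lib.Helper16.HoloCheckG
import Cfsg.Agent.Lib.Helper11.HoloGSound
import Cfsg.Agent.Lib.Helper18.HSMultCore
import Cfsg.Agent.Lib.Helper1.Sp62L

/-!
# S2101-[CU] (helper16's G₂(3) front): the kernel from a holonomy certificate

Port of helper18's `HSMult.card_ker_le_two_of_check` to helper16's generalised certificates
(`HoloG.Cert` with `nl = 8`, `M = 18`, `N = 3`): four generators of order `13`, prime to the order of the
kernel, so the lifts of order `13` satisfy all relators of the visible shapes exactly.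
-/

set_option autoImplicit false
set_option linter.unusedVariables false

namespace Cfsg.Agent.Lib.Helper16.G23M

open Cfsg Cfsg.H5.TCk Cfsg.Agent.Lib.Helper16.HoloG
open Cfsg.Agent.Lib.Helper18.Holo (traceL hol)
open Cfsg.Agent.Lib.Helper5.Sp62 (cr crOf)
open Cfsg.Agent.Lib.Helper18.HSMult (trivRel)

/-- the visible shapes of exact relators: `l l⁻¹`, a 13-th power of a generator, a conjugation relator -/
def RelForm (r : List ℕ) : Prop :=
  trivRel r = true ∨ (∃ i < 4, r = List.replicate 13 (2 * i)) ∨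
    ∃ (u : List ℕ) (i c m : ℕ), i < 4 ∧ c < 8 ∧ r = cr u i c m

/-- a trivial variable is trivial for a visible reason: any relator variable (all relators are exact), a tree
edge, or a loop at the base coset with a letter of `⟨x, x'⟩` -/
def baseOK (C : Cert) (wrd : ℕ → List ℕ) (v : ℕ) : Bool :=
  if v % 9 = 8 then decide (v / 9 < C.nr)
  else
    decide (v / 9 < C.n) &&
      ((wrd (C.nxt (v / 9) (v % 9)) == (v % 9) :: wrd (v / 9)) ||
        ((v / 9 == 0) && decide (v % 9 < 4) && (C.nxt 0 (v % 9) == 0)))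

namespace Helper17

open Cfsg.H5.StemLift Cfsg.H5.StemTC

/-- `13` is prime to the order of a finite group of exponent dividing `18` -/
theorem coprime_13 {K : Type*} [Group K] [Finite K] (h : ∀ k : K, k ^ 18 = 1) :
    Nat.Coprime 13 (Nat.card K) := by
  rw [Nat.Prime.coprime_iff_not_dvd (by norm_num)]
  intro hd
  haveI : Fact (Nat.Prime 13) := ⟨by norm_num⟩
  obtain ⟨k, hk⟩ := exists_prime_orderOf_dvd_card' 13 hd
  have := orderOf_dvd_of_pow_eq_one (h k)
  rw [hk] at this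
  omega

/-- relators of the visible shapes hold exactly for lifts of order `13` -/
theorem ev_eq_one_of_relForm {Γ G : Type} [Group Γ] [Group G] [Finite Γ] (σ : Γ →* G)
    (hc : σ.ker ≤ Subgroup.center Γ) (hcop : Nat.Coprime 13 (Nat.card σ.ker)) (γ : ℕ → G)
    (γh : ℕ → Γ) (hγh : ∀ i, σ (γh i) = γ i) (hpowh : ∀ i < 4, γh i ^ 13 = 1) (r : List ℕ)
    (hr : RelForm r) (h1 : ev γ r = 1) : ev γh r = 1 := by
  rcases hr with hr | ⟨i, hi, rfl⟩ | ⟨u, i, c, m, hi, hc8, rfl⟩
  · exact Cfsg.Agent.Lib.Helper18.HSMult.ev_trivRel γh r hr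
  · rw [Cfsg.Agent.Lib.Helper5.Sp62.Helper1.ev_replicate,
      Cfsg.Agent.Lib.Helper5.Sp62.Helper1.gl_even]
    exact hpowh i hi
  · apply Cfsg.Agent.Lib.Helper5.Sp62.ev_cr_eq_one σ hc hcop γh u i c m (hpowh i hi)
      (hpowh (c / 2) (by omega))
    have : (fun k => σ (γh k)) = γ := funext hγh
    rw [this]
    exact h1

end Helper17

open Helper17 Cfsg.H5.StemLift Cfsg.H5.StemTC in
/-- **[CU]** port of `Cfsg.Agent.Lib.Helper18.HSMult.card_ker_le_two_of_check` -/
theorem card_ker_dvd_three_of_check {Γ G : Type} [Group Γ] [Group G] [Finite Γ] (σ : Γ →* G)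
    (hσ : IsStemExtension σ) (hker18 : ∀ k ∈ σ.ker, k ^ 18 = 1)
    (γ : ℕ → G) (hgen : Subgroup.closure (Set.range fun i : Fin 4 => γ i.val) = ⊤)
    (hpow : ∀ i < 4, γ i ^ 13 = 1)
    (RL : List (List ℕ)) (hRLform : ∀ r ∈ RL, RelForm r) (hRL : ∀ r ∈ RL, ev γ r = 1)
    (hTL : ∀ (Λ : Type) [Group Λ] (a : ℕ → Λ), (∀ r ∈ RL, ev a r = 1) →
      Finite ↥(Subgroup.closure (Set.range fun i : Fin 2 => a i.val)) ∧
        Nat.card ↥(Subgroup.closure (Set.range fun i : Fin 2 => a i.val)) ≤ 5616)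
    (C : Cert) (hnl : C.nl = 8) (hM : C.M = 18) (hN : C.N = 3)
    (wrd : ℕ → List ℕ) (hw0 : wrd 0 = []) (hn : 0 < C.n)
    (hnxt : ∀ c < C.n, ∀ l < 2 * 4, C.nxt c l < C.n)
    (hmemU : ∀ c < C.n, ∀ l < 2 * 4,
      (ev γ (wrd (C.nxt c l)))⁻¹ * gl γ l * ev γ (wrd c) ∈
        Subgroup.closure (Set.range fun i : Fin 2 => γ i.val))
    (hrel : ∀ j < C.nr, ev γ (C.rel j) = 1)
    (hlet : ∀ j < C.nr, ∀ l ∈ C.rel j, l < 2 * 4)
    (hform : ∀ j < C.nr, RelForm (C.rel j))
    (hbase : ∀ v, C.isBase v = true → baseOK C wrd v = true)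
    (steps : List HoloG.Step) (chk : List (ℕ × ℕ)) (Ys : List (List ℕ)) (as : List ℕ)
    (hchk : check C steps chk Ys as = true)
    (hcard : Nat.card G = C.n * 5616) : Nat.card σ.ker ∣ 3 := by
  classical
  obtain ⟨hsurj, hcen', hcom⟩ := hσ
  have hσ' : IsStemExtension σ := ⟨hsurj, hcen', hcom⟩
  haveI : Finite G := Finite.of_surjective σ hsurj
  have hcop : Nat.Coprime 13 (Nat.card σ.ker) :=
    coprime_13 fun k => Subtype.ext (by simpa using hker18 k.1 k.2)
  -- the lifts of order `13`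
  have hex : ∀ i : ℕ, ∃ x : Γ, σ x = γ i ∧ (i < 4 → x ^ 13 = 1) := by
    intro i
    by_cases hi : i < 4
    · obtain ⟨x, hx, hx13⟩ :=
        Cfsg.Agent.Lib.Helper5.Sp62.exists_lift_pow_eq_one σ hsurj hcen' hcop (γ i) (hpow i hi)
      exact ⟨x, hx, fun _ => hx13⟩
    · obtain ⟨x, hx⟩ := hsurj (γ i)
      exact ⟨x, hx, fun h => absurd h hi⟩
  choose γh hγh hγh13 using hex
  have hσh : ∀ w, σ (ev γh w) = ev γ w := by
    intro w
    rw [map_ev]
    congr 1
    funext i
    exact hγh i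
  have hσgl : ∀ l, σ (gl γh l) = gl γ l := by
    intro l
    rw [map_gl]
    congr 1
    funext i
    exact hγh i
  have hexact : ∀ r, RelForm r → ev γ r = 1 → ev γh r = 1 :=
    fun r hr h1 => ev_eq_one_of_relForm σ hcen' hcop γ γh hγh hγh13 r hr h1
  -- the subgroups `L` and `U`
  set L : Subgroup Γ := Subgroup.closure (Set.range fun i : Fin 2 => γh i.val) with hL
  set U : Subgroup G := Subgroup.closure (Set.range fun i : Fin 2 => γ i.val) with hU
  obtain ⟨hLfin, hLcard⟩ := hTL Γ γh fun r hr => hexact r (hRLform r hr) (hRL r hr)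
  rw [← hL] at hLfin hLcard
  have hγhL : ∀ i < 2, γh i ∈ L := fun i hi => Subgroup.subset_closure ⟨⟨i, hi⟩, rfl⟩
  have hLU : L.map σ = U := by
    rw [hL, MonoidHom.map_closure, hU]
    congr 1
    ext x
    constructor
    · rintro ⟨_, ⟨i, rfl⟩, rfl⟩
      exact ⟨i, (hγh i.val).symm⟩
    · rintro ⟨i, rfl⟩
      exact ⟨γh i.val, ⟨i, rfl⟩, hγh i.val⟩
  -- `|U| ≥ 5616` by the holonomy theorem for `G` itself
  have hUcard : 5616 ≤ Nat.card U := by
    have hmemG : ∀ c < C.n, ∀ l < 2 * 4,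
        (ev γ (wrd (C.nxt c l)))⁻¹ * gl γ l * ev γ (wrd c) ∈ U ⊔ (⊥ : Subgroup G) := by
      intro c hc l hl
      rw [sup_bot_eq]
      exact hmemU c hc l hl
    obtain ⟨κG, hκGK, -, -, hκGcard⟩ :=
      Cfsg.Agent.Lib.Helper18.HSMult.holonomy U (⊥ : Subgroup G) bot_le (inf_bot_eq U) γ C.n 4 C.nxt wrd
        hnxt hmemG
    have hb := hκGcard ⊥ le_rfl (fun c _ l _ => hκGK c l) hn hw0 hgen inferInstance
    rw [Subgroup.card_bot, mul_one, hcard] at hb
    exact Nat.le_of_mul_le_mul_left hb hn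
  -- `σ` maps `L` bijectively onto `U`
  have hLK : L ⊓ σ.ker = ⊥ := by
    let f : L → U := fun x => ⟨σ x.1, by rw [← hLU]; exact Subgroup.mem_map_of_mem σ x.2⟩
    have hfs : Function.Surjective f := by
      rintro ⟨y, hy⟩
      rw [← hLU] at hy
      obtain ⟨x, hx, rfl⟩ := hy
      exact ⟨⟨x, hx⟩, rfl⟩
    have hfb := hfs.bijective_of_nat_card_le (le_trans hLcard hUcard)
    rw [eq_bot_iff]
    intro x hx
    rw [Subgroup.mem_inf] at hx
    rw [Subgroup.mem_bot]
    have h1 : f ⟨x, hx.1⟩ = f ⟨1, L.one_mem⟩ := by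
      apply Subtype.ext
      show σ x = σ 1
      rw [MonoidHom.mem_ker.mp hx.2, map_one]
    exact congrArg Subtype.val (hfb.1 h1)
  have hgenΓ : Subgroup.closure (Set.range fun i : Fin 4 => γh i.val) = ⊤ := by
    apply eq_top_of_map_eq_top σ hσ'
    rw [MonoidHom.map_closure, ← hgen]
    congr 1
    ext x
    constructor
    · rintro ⟨_, ⟨i, rfl⟩, rfl⟩
      exact ⟨i, (hγh i.val).symm⟩
    · rintro ⟨i, rfl⟩
      exact ⟨γh i.val, ⟨i, rfl⟩, hγh i.val⟩
  -- the holonomy
  have hmem : ∀ c < C.n, ∀ l < 2 * 4,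
      (ev γh (wrd (C.nxt c l)))⁻¹ * gl γh l * ev γh (wrd c) ∈ L ⊔ σ.ker := by
    intro c hc l hl
    set E := (ev γh (wrd (C.nxt c l)))⁻¹ * gl γh l * ev γh (wrd c) with hE
    have hσE : σ E ∈ U := by
      rw [hE, map_mul, map_mul, map_inv, hσh, hσh, hσgl]
      exact hmemU c hc l hl
    rw [← hLU] at hσE
    obtain ⟨y, hy, hyE⟩ := hσE
    have : E = y * (y⁻¹ * E) := by group
    rw [this]
    refine Subgroup.mul_mem_sup hy ?_
    rw [MonoidHom.mem_ker, map_mul, map_inv, hyE, inv_mul_cancel]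
  obtain ⟨κ, hκK, hκ1, hκcyc, hκcard⟩ :=
    Cfsg.Agent.Lib.Helper18.HSMult.holonomy L σ.ker hcen' hLK γh C.n 4 C.nxt wrd hnxt hmem
  -- the abelian group `ker σ`
  letI : CommGroup σ.ker :=
    { (inferInstance : Group σ.ker) with
      mul_comm := fun a b => Subtype.ext (Subgroup.mem_center_iff.mp (hcen' b.2) a.1) }
  have hrel1 : ∀ j < C.nr, ev γh (C.rel j) = 1 :=
    fun j hj => hexact _ (hform j hj) (hrel j hj)
  let κ' : ℕ → ℕ → σ.ker := fun c l => ⟨κ c l, hκK c l⟩
  let ρ' : ℕ → σ.ker := fun _ => 1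
  have h18 : ∀ a : σ.ker, a ^ C.M = 1 := fun a => by
    rw [hM]
    exact Subtype.ext (by simpa using hker18 a.1 a.2)
  have hcyc' : ∀ j < C.nr, ∀ c < C.n, traceL C.nxt c (C.rel j) = c →
      hol κ' C.nxt c (C.rel j) = ρ' j := by
    intro j hj c hc htr
    apply Subtype.ext
    rw [Cfsg.Agent.Lib.Helper18.HSMult.coe_hol]
    have h1 := hκcyc c hc (C.rel j) (hlet j hj) htr (by rw [hrel1 j hj]; exact σ.ker.one_mem)
    rw [hrel1 j hj] at h1
    exact h1
  have hbase' : ∀ v, C.isBase v = true →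
      (if v % (C.nl + 1) = C.nl then ρ' (v / (C.nl + 1))
        else κ' (v / (C.nl + 1)) (v % (C.nl + 1))) = 1 := by
    intro v hv
    rw [hnl]
    have hb := hbase v hv
    unfold baseOK at hb
    by_cases h8 : v % 9 = 8
    · rw [if_pos h8]
    · rw [if_neg h8] at hb ⊢
      rw [Bool.and_eq_true, decide_eq_true_eq] at hb
      obtain ⟨hc, hb⟩ := hb
      have hl : v % 9 < 2 * 4 := by omega
      apply Subtype.ext
      show κ (v / 9) (v % 9) = 1
      apply hκ1 _ hc _ hl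
      rw [Bool.or_eq_true] at hb
      rcases hb with hb | hb
      · rw [beq_iff_eq] at hb
        rw [hb]
        simp only [ev]
        have : (gl γh (v % 9) * ev γh (wrd (v / 9)))⁻¹ * gl γh (v % 9) * ev γh (wrd (v / 9)) = 1 := by
          group
        rw [this]
        exact L.one_mem
      · rw [Bool.and_eq_true, Bool.and_eq_true, beq_iff_eq, decide_eq_true_eq, beq_iff_eq] at hb
        obtain ⟨⟨h0, h4'⟩, hn0⟩ := hb
        rw [h0, hn0, hw0]
        simp only [ev, inv_one, one_mul, mul_one]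
        exact gl_mem γh L 2 hγhL _ h4'
  obtain ⟨s, hs3, hsκ⟩ := check_sound C h18 (by rw [hM]; norm_num) κ' ρ' hcyc' hbase' steps chk Ys as hchk
  rw [hN] at hs3
  rw [hnl] at hsκ
  -- the subgroup generated by `s`
  set K0 : Subgroup Γ := Subgroup.zpowers (s : Γ) with hK0
  have hK0le : K0 ≤ σ.ker := by
    rw [hK0, Subgroup.zpowers_le]
    exact s.2
  have hκK0 : ∀ c < C.n, ∀ l < 2 * 4, κ c l ∈ K0 := by
    intro c hc l hl
    obtain ⟨k, hk⟩ := hsκ c hc l (by omega)
    have : κ c l = (s : Γ) ^ k := by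
      have := congrArg Subtype.val hk
      simpa [κ'] using this
    rw [this]
    exact Subgroup.pow_mem _ (Subgroup.mem_zpowers _) k
  have hcardK0 : Nat.card K0 ∣ 3 := by
    rw [hK0, Nat.card_zpowers]
    apply orderOf_dvd_of_pow_eq_one
    have := congrArg Subtype.val hs3
    simpa using this
  have hbound := hκcard K0 hK0le hκK0 hn hw0 hgenΓ inferInstance
  -- counting
  have hΓ : Nat.card Γ = Nat.card σ.ker * Nat.card G := by
    have h1 := Subgroup.card_eq_card_quotient_mul_card_subgroup σ.ker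
    have h2 : Nat.card (Γ ⧸ σ.ker) = Nat.card G :=
      Nat.card_congr (QuotientGroup.quotientKerEquivOfSurjective σ hsurj).toEquiv
    rw [h1, h2, mul_comm]
  have hGpos : 0 < Nat.card G := Nat.card_pos
  have h5 : Nat.card σ.ker * Nat.card G ≤ Nat.card K0 * Nat.card G := by
    calc Nat.card σ.ker * Nat.card G = Nat.card Γ := hΓ.symm
      _ ≤ C.n * (Nat.card L * Nat.card K0) := hbound
      _ ≤ C.n * (5616 * Nat.card K0) :=
          Nat.mul_le_mul_left _ (Nat.mul_le_mul_right _ hLcard)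
      _ = Nat.card K0 * Nat.card G := by rw [hcard]; ring
  have h6 : Nat.card σ.ker ≤ Nat.card K0 := Nat.le_of_mul_le_mul_right h5 hGpos
  have h7 : Nat.card K0 ∣ Nat.card σ.ker := Subgroup.card_dvd_of_le hK0le
  have h8 : Nat.card σ.ker = Nat.card K0 :=
    le_antisymm h6 (Nat.le_of_dvd Nat.card_pos h7)
  rw [h8]
  exact hcardK0

end Cfsg.Agent.Lib.Helper16.G23M
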