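import Mathlib
import Cfsg.Agent.Lib.Helper17.Conj

set_option autoImplicit false

namespace Cfsg.Agent.Lib.Helper17

open Subgroup MulAction

open Classical in
/-- the sign-like homomorphism attached to a subgroup of relative index two -/
noncomputable def signHom2 {G : Type*} [Group G] (H Q : Subgroup G) (hQi : Q.relIndex H = 2) :
    H →* ℤˣ where
  toFun h := if (h : G) ∈ Q then 1 else -1
  map_one' := by simp [Q.one_mem]
  map_mul' := by
    intro a b
    have key : (a * b : H) ∈ Q.subgroupOf H ↔ (a ∈ Q.subgroupOf H ↔ b ∈ Q.subgroupOf H) :=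
      Subgroup.mul_mem_iff_of_index_two hQi
    simp only [mem_subgroupOf, coe_mul] at key
    by_cases ha : (a : G) ∈ Q <;> by_cases hb : (b : G) ∈ Q <;> simp [ha, hb, key]

open Classical in
lemma signHom2_apply {G : Type*} [Group G] (H Q : Subgroup G) (hQi : Q.relIndex H = 2) (h : H) :
    signHom2 H Q hQi h = if (h : G) ∈ Q then 1 else -1 := rfl

/-- Membership in a subgroup of relative index two is invariant under conjugation inside `H`. -/
theorem conj_mem_iff_of_relIndex_two {G : Type*} [Group G] (H Q : Subgroup G)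
    (hQi : Q.relIndex H = 2) {y h : G} (hy : y ∈ H) (hh : h ∈ H) :
    h⁻¹ * y * h ∈ Q ↔ y ∈ Q := by
  classical
  have hmem : h⁻¹ * y * h ∈ H := H.mul_mem (H.mul_mem (H.inv_mem hh) hy) hh
  have h1 : signHom2 H Q hQi ⟨h⁻¹ * y * h, hmem⟩ = signHom2 H Q hQi ⟨y, hy⟩ := by
    have e : (⟨h⁻¹ * y * h, hmem⟩ : H) = (⟨h, hh⟩ : H)⁻¹ * ⟨y, hy⟩ * ⟨h, hh⟩ := rfl
    rw [e, map_mul, map_mul, map_inv, mul_comm, ← mul_assoc, mul_inv_cancel, one_mul]
  rw [signHom2_apply, signHom2_apply] at h1
  have hne : (1 : ℤˣ) ≠ -1 := by decide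
  by_cases ha : h⁻¹ * y * h ∈ Q <;> by_cases hb : y ∈ Q
  · exact ⟨fun _ => hb, fun _ => ha⟩
  · simp only [ha, hb, if_true, if_false] at h1
    exact absurd h1 hne
  · simp only [ha, hb, if_true, if_false] at h1
    exact absurd h1.symm hne
  · exact ⟨fun h => absurd h ha, fun h => absurd h hb⟩

/-- **Transfer for a central involution of a Sylow 2-subgroup**: if `z ∈ Z(P)` is an involution,
`Q` has index two in `P`, and no `N_G(P)`-conjugate of `z` lies in `Q`, then `G` has a normal
subgroup of index two not containing `z`. -/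
theorem exists_index_two_of_central_involution {G : Type*} [Group G] [Finite G] (P : Sylow 2 G)
    (Q : Subgroup G) (hQP : Q ≤ (P : Subgroup G)) (hQi : Q.relIndex (P : Subgroup G) = 2)
    (z : G) (hzP : z ∈ (P : Subgroup G)) (hz2 : z ^ 2 = 1)
    (hzc : ∀ s ∈ (P : Subgroup G), s * z = z * s)
    (hN : ∀ x ∈ Subgroup.normalizer ((P : Subgroup G) : Set G), x⁻¹ * z * x ∉ Q) :
    ∃ M : Subgroup G, M.Normal ∧ M.index = 2 ∧ z ∉ M := by
  classical
  have : Fact (Nat.Prime 2) := ⟨Nat.prime_two⟩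
  set H : Subgroup G := (P : Subgroup G) with hH
  let ϕ : H →* ℤˣ := signHom2 H Q hQi
  let V : G →* ℤˣ := MonoidHom.transfer ϕ
  let Bad : G ⧸ H → Prop := fun f =>
    ∃ x : G, (x : G ⧸ H) = f ∧ x⁻¹ * z * x ∈ H ∧ x⁻¹ * z * x ∉ Q
  -- well-definedness
  have hBad_all : ∀ f, Bad f → ∀ x : G, (x : G ⧸ H) = f → x⁻¹ * z * x ∈ H ∧ x⁻¹ * z * x ∉ Q := by
    rintro f ⟨x, hx, hxH, hxQ⟩ x' hx'
    have hh : x⁻¹ * x' ∈ H := by
      rw [← QuotientGroup.eq, hx, hx']
    have e : x'⁻¹ * z * x' = (x⁻¹ * x')⁻¹ * (x⁻¹ * z * x) * (x⁻¹ * x') := by group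
    rw [e]
    refine ⟨H.mul_mem (H.mul_mem (H.inv_mem hh) hxH) hh, ?_⟩
    rw [conj_mem_iff_of_relIndex_two H Q hQi hxH hh]
    exact hxQ
  -- invariance under H
  have hBad_smul : ∀ (s : H) (f : G ⧸ H), Bad f → Bad (s • f) := by
    rintro s f ⟨x, hx, hxH, hxQ⟩
    refine ⟨(s : G) * x, ?_, ?_, ?_⟩
    · rw [← hx]; rfl
    · have e : ((s : G) * x)⁻¹ * z * ((s : G) * x) = x⁻¹ * z * x := by
        have := hzc s s.2
        calc ((s : G) * x)⁻¹ * z * ((s : G) * x) = x⁻¹ * (s : G)⁻¹ * (z * s) * x := by group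
          _ = x⁻¹ * (s : G)⁻¹ * (s * z) * x := by rw [this]
          _ = x⁻¹ * z * x := by group
      rw [e]; exact hxH
    · have e : ((s : G) * x)⁻¹ * z * ((s : G) * x) = x⁻¹ * z * x := by
        have := hzc s s.2
        calc ((s : G) * x)⁻¹ * z * ((s : G) * x) = x⁻¹ * (s : G)⁻¹ * (z * s) * x := by group
          _ = x⁻¹ * (s : G)⁻¹ * (s * z) * x := by rw [this]
          _ = x⁻¹ * z * x := by group
      rw [e]; exact hxQ
  -- the complement of Bad as a sub-action
  let Fc : SubMulAction H (G ⧸ H) :=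
    { carrier := {f | ¬ Bad f}
      smul_mem' := by
        intro s f hf hb
        apply hf
        have := hBad_smul s⁻¹ _ hb
        rwa [inv_smul_smul] at this }
  have hFc_empty : IsEmpty (fixedPoints H Fc) := by
    constructor
    rintro ⟨⟨f, hf⟩, hfix⟩
    apply hf
    obtain ⟨x, rfl⟩ := QuotientGroup.mk_surjective f
    have hxN : x⁻¹ ∈ Subgroup.normalizer (H : Set G) := by
      apply mem_normalizer_of_map_conj_le
      intro y hy
      rw [mem_map_conj] at hy
      have h1 := hfix ⟨x⁻¹⁻¹ * y * x⁻¹, hy⟩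
      have h2 : ((⟨x⁻¹⁻¹ * y * x⁻¹, hy⟩ : H) • (⟨(x : G ⧸ H), hf⟩ : Fc) : Fc).1 = (x : G ⧸ H) := by
        rw [h1]
      have h3 : ((x⁻¹⁻¹ * y * x⁻¹ * x : G) : G ⧸ H) = (x : G ⧸ H) := h2
      rw [QuotientGroup.eq] at h3
      have e : (x⁻¹⁻¹ * y * x⁻¹ * x)⁻¹ * x = y⁻¹ := by group
      rw [e] at h3
      simpa using H.inv_mem h3
    have hxN' : x ∈ Subgroup.normalizer (H : Set G) := by simpa using Subgroup.inv_mem _ hxN
    refine ⟨x, rfl, ?_, hN x hxN'⟩
    have := (Subgroup.mem_normalizer_iff.mp hxN z).mp hzP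
    simpa using this
  have hFc_even : Nat.card Fc ≡ 0 [MOD 2] := by
    have h1 := (P.2 : IsPGroup 2 H).card_modEq_card_fixedPoints Fc
    have h2 : Nat.card (fixedPoints H Fc) = 0 := by
      have := hFc_empty
      exact Nat.card_of_isEmpty
    rwa [h2] at h1
  have hodd_index : ¬ 2 ∣ H.index := P.not_dvd_index
  have hBad_odd : Odd (Nat.card {f : G ⧸ H // Bad f}) := by
    have h1 : Nat.card {f : G ⧸ H // Bad f} + Nat.card {f : G ⧸ H // ¬ Bad f} = H.index := by
      rw [Subgroup.index_eq_card, ← Nat.card_sum]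
      exact Nat.card_congr (Equiv.sumCompl Bad)
    have h2 : Nat.card {f : G ⧸ H // ¬ Bad f} = Nat.card Fc := rfl
    have h3 : Nat.card Fc % 2 = 0 := hFc_even
    rw [Nat.odd_iff]
    omega
  have : Fintype (Quotient (orbitRel (zpowers z) (G ⧸ H))) := Fintype.ofFinite _
  -- evaluate the transfer
  have hV0 : V z = ∏ q : Quotient (orbitRel (zpowers z) (G ⧸ H)),
      (if (Function.minimalPeriod (z • · : G ⧸ H → G ⧸ H) q.out = 1 ∧
        q.out.out⁻¹ * z * q.out.out ∉ Q) then (-1 : ℤˣ) else 1) := by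
    change MonoidHom.transfer ϕ z = _
    rw [MonoidHom.transfer_eq_prod_quotient_orbitRel_zpowers_quot]
    apply Finset.prod_congr rfl
    intro q _
    have hper : Function.minimalPeriod (z • · : G ⧸ H → G ⧸ H) q.out ∣ 2 := by
      apply Function.IsPeriodicPt.minimalPeriod_dvd
      change (z • · : G ⧸ H → G ⧸ H)^[2] q.out = q.out
      rw [smul_iterate, hz2]; simp only [one_smul]
    have hpos : 0 < Function.minimalPeriod (z • · : G ⧸ H → G ⧸ H) q.out := by
      apply Function.IsPeriodicPt.minimalPeriod_pos (n := 2) (by norm_num)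
      change (z • · : G ⧸ H → G ⧸ H)^[2] q.out = q.out
      rw [smul_iterate, hz2]; simp only [one_smul]
    have hle : Function.minimalPeriod (z • · : G ⧸ H → G ⧸ H) q.out ≤ 2 :=
      Nat.le_of_dvd (by norm_num) hper
    rw [signHom2_apply]
    have hcases : Function.minimalPeriod (z • · : G ⧸ H → G ⧸ H) q.out = 1 ∨
        Function.minimalPeriod (z • · : G ⧸ H → G ⧸ H) q.out = 2 := by omega
    rcases hcases with hm | hm
    · by_cases hq : q.out.out⁻¹ * z * q.out.out ∈ Q
      · have h1 : q.out.out⁻¹ * z ^ Function.minimalPeriod (z • · : G ⧸ H → G ⧸ H) q.out *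
            q.out.out ∈ Q := by rw [hm, pow_one]; exact hq
        rw [if_pos h1, if_neg (fun h => h.2 hq)]
      · have h1 : q.out.out⁻¹ * z ^ Function.minimalPeriod (z • · : G ⧸ H → G ⧸ H) q.out *
            q.out.out ∉ Q := by rw [hm, pow_one]; exact hq
        rw [if_neg h1, if_pos ⟨hm, hq⟩]
    · have h1 : q.out.out⁻¹ * z ^ Function.minimalPeriod (z • · : G ⧸ H → G ⧸ H) q.out *
          q.out.out ∈ Q := by rw [hm, hz2]; simp [Q.one_mem]
      rw [if_pos h1, if_neg (fun h => by omega)]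
  -- count
  have hcount : (Finset.univ.filter (fun q : Quotient (orbitRel (zpowers z) (G ⧸ H)) =>
      Function.minimalPeriod (z • · : G ⧸ H → G ⧸ H) q.out = 1 ∧
        q.out.out⁻¹ * z * q.out.out ∉ Q)).card = Nat.card {f : G ⧸ H // Bad f} := by
    rw [← Fintype.card_subtype, ← Nat.card_eq_fintype_card]
    have hfixed_of : ∀ q : Quotient (orbitRel (zpowers z) (G ⧸ H)),
        Function.minimalPeriod (z • · : G ⧸ H → G ⧸ H) q.out = 1 → z • q.out = q.out := by
      intro q hq
      have := Function.minimalPeriod_eq_one_iff_isFixedPt.mp hq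
      exact this
    have hmemH : ∀ x : G, z • (x : G ⧸ H) = (x : G ⧸ H) → x⁻¹ * z * x ∈ H := by
      intro x hx
      have h3 : ((z * x : G) : G ⧸ H) = (x : G ⧸ H) := hx
      rw [QuotientGroup.eq] at h3
      have e : (z * x)⁻¹ * x = (x⁻¹ * z * x)⁻¹ := by group
      rw [e] at h3
      simpa using H.inv_mem h3
    let e : {q : Quotient (orbitRel (zpowers z) (G ⧸ H)) //
        Function.minimalPeriod (z • · : G ⧸ H → G ⧸ H) q.out = 1 ∧
          q.out.out⁻¹ * z * q.out.out ∉ Q} → {f : G ⧸ H // Bad f} :=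
      fun q => ⟨q.1.out, q.1.out.out, Quotient.out_eq' _, by
        apply hmemH
        rw [QuotientGroup.out_eq']
        exact hfixed_of q.1 q.2.1, q.2.2⟩
    apply Nat.card_eq_of_bijective e
    constructor
    · intro q q' h
      have h1 : q.1.out = q'.1.out := congrArg Subtype.val h
      exact Subtype.ext (Quotient.out_injective h1)
    · rintro ⟨f, hf⟩
      have hzf : z • f = f := by
        obtain ⟨x, hx, hxH, _⟩ := hf
        rw [← hx]
        change ((z * x : G) : G ⧸ H) = (x : G ⧸ H)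
        rw [QuotientGroup.eq]
        have e : (z * x)⁻¹ * x = (x⁻¹ * z * x)⁻¹ := by group
        rw [e]
        exact H.inv_mem hxH
      have hout : (Quotient.mk'' f : Quotient (orbitRel (zpowers z) (G ⧸ H))).out = f := by
        have h1 : (Quotient.mk'' f : Quotient (orbitRel (zpowers z) (G ⧸ H))).out ∈
            orbit (zpowers z) f := by
          rw [← orbitRel_apply]
          exact Quotient.exact' (Quotient.out_eq' _)
        obtain ⟨⟨g, hg⟩, hgf⟩ := h1
        obtain ⟨k, rfl⟩ := Subgroup.mem_zpowers_iff.mp hg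
        rw [← hgf]
        change (z ^ k) • f = f
        have : ∀ n : ℕ, z ^ n • f = f := by
          intro n
          induction n with
          | zero => simp
          | succ n ih => rw [pow_succ, mul_smul, hzf, ih]
        rcases Int.eq_nat_or_neg k with ⟨n, rfl | rfl⟩
        · rw [zpow_natCast]; exact this n
        · rw [zpow_neg, zpow_natCast, inv_smul_eq_iff]; exact (this n).symm
      refine ⟨⟨Quotient.mk'' f, ?_, ?_⟩, ?_⟩
      · rw [hout]
        exact Function.minimalPeriod_eq_one_iff_isFixedPt.mpr hzf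
      · rw [hout]
        exact (hBad_all f hf f.out (Quotient.out_eq' f)).2
      · exact Subtype.ext hout
  have hV' : V z = -1 := by
    rw [hV0, Finset.prod_ite, Finset.prod_const_one, mul_one, Finset.prod_const, hcount]
    exact hBad_odd.neg_one_pow
  refine ⟨V.ker, inferInstance, ?_, ?_⟩
  · rw [index_ker]
    have hr : V.range = ⊤ := by
      rw [eq_top_iff]
      intro x _
      rcases Int.units_eq_one_or x with h | h
      · rw [h]; exact one_mem _
      · rw [h, ← hV']; exact ⟨z, rfl⟩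
    rw [hr, card_top]
    simp
  · rw [MonoidHom.mem_ker, hV']
    decide

end Cfsg.Agent.Lib.Helper17
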