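import Mathlib

/-!
# Affine groups `A ⋊ K` for a ring `A` and a subgroup `K` of its units

`Aff A K` is the semidirect product of the additive group of `A` by a subgroup `K ≤ Aˣ`
acting by left multiplication.  We compute powers, and element orders when `K` acts
fixed-point-freely (`k - 1` right-invertible for `k ≠ 1`).
-/

set_option autoImplicit false

namespace Cfsg.Agent.Lib.Helper17.AffineSpec

open Multiplicative

variable (A : Type*) [Ring A]

/-- Left multiplication by a unit, as an automorphism of `Multiplicative A`. -/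
def lmulAut (u : Aˣ) : MulAut (Multiplicative A) where
  toFun x := ofAdd ((u : A) * toAdd x)
  invFun x := ofAdd ((↑u⁻¹ : A) * toAdd x)
  left_inv x := by
    show ofAdd ((↑u⁻¹ : A) * toAdd (ofAdd ((u : A) * toAdd x))) = x
    rw [toAdd_ofAdd, ← mul_assoc, Units.inv_mul, one_mul, ofAdd_toAdd]
  right_inv x := by
    show ofAdd ((u : A) * toAdd (ofAdd ((↑u⁻¹ : A) * toAdd x))) = x
    rw [toAdd_ofAdd, ← mul_assoc, Units.mul_inv, one_mul, ofAdd_toAdd]
  map_mul' x y := by
    show ofAdd ((u : A) * toAdd (x * y)) = ofAdd ((u : A) * toAdd x) * ofAdd ((u : A) * toAdd y)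
    rw [toAdd_mul, mul_add, ofAdd_add]

theorem lmulAut_apply (u : Aˣ) (x : Multiplicative A) :
    lmulAut A u x = ofAdd ((u : A) * toAdd x) := rfl

/-- The action of `Aˣ` on `Multiplicative A` by left multiplication. -/
def lmulHom : Aˣ →* MulAut (Multiplicative A) where
  toFun := lmulAut A
  map_one' := by
    apply MulEquiv.ext
    intro x
    show ofAdd (((1 : Aˣ) : A) * toAdd x) = x
    rw [Units.val_one, one_mul, ofAdd_toAdd]
  map_mul' u v := by
    apply MulEquiv.ext
    intro x
    show ofAdd (((u * v : Aˣ) : A) * toAdd x)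
      = ofAdd ((u : A) * toAdd (ofAdd ((v : A) * toAdd x)))
    rw [toAdd_ofAdd, Units.val_mul, mul_assoc]

theorem lmulHom_apply (u : Aˣ) (x : Multiplicative A) :
    lmulHom A u x = ofAdd ((u : A) * toAdd x) := rfl

/-- The affine group `A ⋊ K`. -/
abbrev Aff (K : Subgroup Aˣ) : Type _ :=
  Multiplicative A ⋊[(lmulHom A).comp K.subtype] K

variable {A}
variable {K : Subgroup Aˣ}

theorem pow_right (h : Aff A K) (n : ℕ) : (h ^ n).right = h.right ^ n := by
  induction n with
  | zero => simp
  | succ n ih => rw [pow_succ, SemidirectProduct.mul_right, ih, pow_succ]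

theorem pow_left (h : Aff A K) (n : ℕ) :
    toAdd (h ^ n).left
      = (∑ i ∈ Finset.range n, (((h.right : Aˣ) : A)) ^ i) * toAdd h.left := by
  induction n with
  | zero => simp
  | succ n ih =>
    rw [pow_succ, SemidirectProduct.mul_left, toAdd_mul, ih, Finset.sum_range_succ, add_mul,
      pow_right]
    congr 1

theorem pow_eq_one_iff (h : Aff A K) (w : A) (hw : ((((h.right : Aˣ) : A)) - 1) * w = 1) (n : ℕ) :
    h ^ n = 1 ↔ h.right ^ n = 1 := by
  constructor
  · intro hn
    rw [← pow_right, hn, SemidirectProduct.one_right]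
  · intro hn
    have hk : (((h.right : Aˣ) : A)) ^ n = 1 := by
      have h1 : (((h.right ^ n : K) : Aˣ) : A) = 1 := by rw [hn]; simp
      rwa [Subgroup.coe_pow, Units.val_pow_eq_pow_val] at h1
    have hs : (∑ i ∈ Finset.range n, (((h.right : Aˣ) : A)) ^ i) = 0 := by
      have h1 := geom_sum_mul (((h.right : Aˣ) : A)) n
      rw [hk, sub_self] at h1
      calc (∑ i ∈ Finset.range n, (((h.right : Aˣ) : A)) ^ i)
          = (∑ i ∈ Finset.range n, (((h.right : Aˣ) : A)) ^ i)
              * (((((h.right : Aˣ) : A)) - 1) * w) := by rw [hw, mul_one]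
        _ = ((∑ i ∈ Finset.range n, (((h.right : Aˣ) : A)) ^ i)
              * ((((h.right : Aˣ) : A)) - 1)) * w := by rw [mul_assoc]
        _ = 0 := by rw [h1, zero_mul]
    apply SemidirectProduct.ext
    · rw [SemidirectProduct.one_left]
      have h2 := pow_left h n
      rw [hs, zero_mul] at h2
      exact toAdd_eq_zero.mp h2
    · rw [SemidirectProduct.one_right, pow_right, hn]

theorem orderOf_eq_of_fpf (h : Aff A K) (w : A) (hw : ((((h.right : Aˣ) : A)) - 1) * w = 1) :
    orderOf h = orderOf h.right :=
  orderOf_eq_orderOf_iff.mpr (pow_eq_one_iff h w hw)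

theorem pow_eq_one_of_right_eq_one (h : Aff A K) (hr : h.right = 1) (n : ℕ) (hn : (n : A) = 0) :
    h ^ n = 1 := by
  apply SemidirectProduct.ext
  · rw [SemidirectProduct.one_left]
    have h2 := pow_left h n
    rw [hr] at h2
    simp only [OneMemClass.coe_one, Units.val_one, one_pow, Finset.sum_const, Finset.card_range,
      nsmul_eq_mul, mul_one, hn, zero_mul] at h2
    exact toAdd_eq_zero.mp h2
  · rw [SemidirectProduct.one_right, pow_right, hr, one_pow]

theorem orderOf_inr (k : K) : orderOf (SemidirectProduct.inr k : Aff A K) = orderOf ((k : Aˣ) : A) := by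
  rw [orderOf_injective (SemidirectProduct.inr : K →* Aff A K) SemidirectProduct.inr_injective k,
    orderOf_units, Subgroup.orderOf_coe]

theorem isSolvable [Group.IsSolvable K] : Group.IsSolvable (Aff A K) :=
  Group.isSolvable_of_ker_le_range (SemidirectProduct.inl : Multiplicative A →* Aff A K)
    (SemidirectProduct.rightHom : Aff A K →* K)
    (le_of_eq SemidirectProduct.range_inl_eq_ker_rightHom.symm)

theorem finite [Finite A] : Finite (Aff A K) :=
  Finite.of_equiv _ (SemidirectProduct.equivProd (φ := (lmulHom A).comp K.subtype)).symm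

end Cfsg.Agent.Lib.Helper17.AffineSpec
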