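import Cfsg.Agent.Lib.Helper17.Conj
import Mathlib.GroupTheory.Subgroup.Centralizer

set_option autoImplicit false

namespace Cfsg.Agent.Lib.Helper17

open scoped commutatorElement

section Comm

variable {G : Type*} [Group G]

/-- `⁅V, L⁆ ≤ V` when `L` normalizes `V`. -/
theorem commutator_le_left_of_le_normalizer {V L : Subgroup G}
    (h : L ≤ Subgroup.normalizer (V : Set G)) : ⁅V, L⁆ ≤ V := by
  rw [Subgroup.commutator_le]
  intro v hv l hl
  have h1 : l * v⁻¹ * l⁻¹ ∈ V := (Subgroup.mem_normalizer_iff.mp (h hl) v⁻¹).mp (V.inv_mem hv)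
  have : ⁅v, l⁆ = v * (l * v⁻¹ * l⁻¹) := by rw [commutatorElement_def]; group
  rw [this]
  exact V.mul_mem hv h1

/-- `⁅L, V⁆ ≤ V` when `L` normalizes `V`. -/
theorem commutator_le_right_of_le_normalizer {V L : Subgroup G}
    (h : L ≤ Subgroup.normalizer (V : Set G)) : ⁅L, V⁆ ≤ V := by
  rw [Subgroup.commutator_comm]; exact commutator_le_left_of_le_normalizer h

/-- If every `A i` normalizes `D` and `⁅A i, C⁆ ≤ D`, then `⁅⨆ i, A i, C⁆ ≤ D`. -/
theorem commutator_iSup_le {ι : Sort*} (A : ι → Subgroup G) (C D : Subgroup G)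
    (hN : ∀ i, A i ≤ Subgroup.normalizer (D : Set G)) (h : ∀ i, ⁅A i, C⁆ ≤ D) :
    ⁅⨆ i, A i, C⁆ ≤ D := by
  have key : ∀ a ∈ ⨆ i, A i, a ∈ Subgroup.normalizer (D : Set G) ∧ ∀ c ∈ C, ⁅a, c⁆ ∈ D := by
    intro a ha
    refine Subgroup.iSup_induction A (C := fun a => a ∈ Subgroup.normalizer (D : Set G) ∧
      ∀ c ∈ C, ⁅a, c⁆ ∈ D) ha ?_ ?_ ?_
    · intro i a ha
      exact ⟨hN i ha, fun c hc => h i (Subgroup.commutator_mem_commutator ha hc)⟩
    · refine ⟨Subgroup.one_mem _, fun c _ => ?_⟩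
      rw [commutatorElement_one_left]; exact D.one_mem
    · intro a₁ a₂ ih₁ ih₂
      refine ⟨Subgroup.mul_mem _ ih₁.1 ih₂.1, fun c hc => ?_⟩
      have e : ⁅a₁ * a₂, c⁆ = (a₁ * ⁅a₂, c⁆ * a₁⁻¹) * ⁅a₁, c⁆ := by
        simp only [commutatorElement_def]; group
      rw [e]
      exact D.mul_mem ((Subgroup.mem_normalizer_iff.mp ih₁.1 _).mp (ih₂.2 c hc)) (ih₁.2 c hc)
  rw [Subgroup.commutator_le]
  intro a ha c hc
  exact (key a ha).2 c hc

theorem centralizer_le_normalizer_zpowers' (x : G) :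
    Subgroup.centralizer ({x} : Set G) ≤
      Subgroup.normalizer ((Subgroup.zpowers x : Subgroup G) : Set G) := by
  intro c hc
  apply mem_normalizer_of_map_conj_eq
  rw [MonoidHom.map_zpowers]
  rw [Subgroup.mem_centralizer_singleton_iff] at hc
  congr 1
  simp only [MulEquiv.coe_toMonoidHom, MulAut.conj_apply]
  rw [hc]; group

/-- Conjugating centralizers. -/
theorem centralizer_map_conj (Q : Subgroup G) (g : G) :
    Subgroup.centralizer ((Q.map (MulAut.conj g).toMonoidHom : Subgroup G) : Set G) =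
      (Subgroup.centralizer (Q : Set G)).map (MulAut.conj g).toMonoidHom := by
  ext c
  rw [mem_map_conj, Subgroup.mem_centralizer_iff, Subgroup.mem_centralizer_iff]
  constructor
  · intro h q hq
    have h1 := h (g * q * g⁻¹) (conj_mem_map_conj hq)
    have e1 : q * (g⁻¹ * c * g) = g⁻¹ * ((g * q * g⁻¹) * c) * g := by group
    have e2 : g⁻¹ * c * g * q = g⁻¹ * (c * (g * q * g⁻¹)) * g := by group
    rw [e1, e2, h1]
  · rintro h _ ⟨q, hq, rfl⟩
    simp only [MulEquiv.coe_toMonoidHom, MulAut.conj_apply]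
    have h1 := h q hq
    have e1 : g * q * g⁻¹ * c = g * (q * (g⁻¹ * c * g)) * g⁻¹ := by group
    have e2 : c * (g * q * g⁻¹) = g * ((g⁻¹ * c * g) * q) * g⁻¹ := by group
    rw [e1, e2, h1]

end Comm

end Cfsg.Agent.Lib.Helper17
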