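import Mathlib
import Cfsg.Prelude.Def_LocalStructure
import Cfsg.Agent.Lib.Helper17.Conj
import Cfsg.Agent.Lib.Helper17.Commutator
import Cfsg.Agent.Lib.Helper17.PResidual
import Cfsg.Agent.Lib.Helper17.Basic

set_option autoImplicit false

namespace Cfsg.Agent.Lib.Helper17.AmalgV

open Cfsg
open scoped commutatorElement

section General

variable {X : Type*} [Group X] {p : ℕ}

/-! ### Conjugation helpers -/

theorem map_conj_map_conj_inv (W : Subgroup X) (g : X) :
    (W.map (MulAut.conj g⁻¹).toMonoidHom).map (MulAut.conj g).toMonoidHom = W := by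
  ext x
  rw [mem_map_conj, mem_map_conj]
  have : g⁻¹⁻¹ * (g⁻¹ * x * g) * g⁻¹ = x := by group
  rw [this]

theorem map_conj_le_iff (W W' : Subgroup X) (g : X) :
    W.map (MulAut.conj g).toMonoidHom ≤ W' ↔ W ≤ W'.map (MulAut.conj g⁻¹).toMonoidHom := by
  constructor
  · intro h w hw
    rw [mem_map_conj]
    have := h (conj_mem_map_conj (g := g) hw)
    simpa using this
  · intro h x hx
    rw [mem_map_conj] at hx
    have := h hx
    rw [mem_map_conj] at this
    have e : g⁻¹⁻¹ * (g⁻¹ * x * g) * g⁻¹ = x := by group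
    rwa [e] at this

theorem le_normalizer_of_forall_conj_le {W K : Subgroup X}
    (h : ∀ a ∈ K, W.map (MulAut.conj a).toMonoidHom ≤ W) :
    K ≤ Subgroup.normalizer (W : Set X) := by
  intro a ha
  rw [Subgroup.mem_normalizer_iff]
  intro x
  constructor
  · intro hx
    exact h a ha (conj_mem_map_conj hx)
  · intro hx
    have := h a⁻¹ (K.inv_mem ha) (conj_mem_map_conj (g := a⁻¹) hx)
    have e : a⁻¹ * (a * x * a⁻¹) * a⁻¹⁻¹ = x := by group
    rwa [e] at this

theorem le_normalizer_of_commutator_le {U R : Subgroup X} (h : ⁅U, R⁆ ≤ U) :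
    R ≤ Subgroup.normalizer (U : Set X) := by
  apply le_normalizer_of_forall_conj_le
  rintro r hr _ ⟨u, hu, rfl⟩
  have h1 : ⁅u, r⁆ ∈ U := h (Subgroup.commutator_mem_commutator hu hr)
  have e : (MulAut.conj r).toMonoidHom u = ⁅u, r⁆⁻¹ * u := by
    simp only [MulEquiv.coe_toMonoidHom, MulAut.conj_apply, commutatorElement_def]
    group
  rw [e]
  exact U.mul_mem (U.inv_mem h1) hu

theorem commutator_sup_le {A₁ A₂ C D : Subgroup X}
    (hN₁ : A₁ ≤ Subgroup.normalizer (D : Set X)) (hN₂ : A₂ ≤ Subgroup.normalizer (D : Set X))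
    (h₁ : ⁅A₁, C⁆ ≤ D) (h₂ : ⁅A₂, C⁆ ≤ D) : ⁅A₁ ⊔ A₂, C⁆ ≤ D := by
  have := commutator_iSup_le (fun b : Bool => cond b A₁ A₂) C D
    (by intro b; cases b <;> simpa) (by intro b; cases b <;> simpa)
  rwa [iSup_bool_eq] at this

/-! ### Internal Sylow subgroups -/

/-- `S` is a maximal `p`-subgroup of `K`. -/
def IsMaxP (p : ℕ) (S K : Subgroup X) : Prop :=
  S ≤ K ∧ IsPGroup p S ∧ ∀ T : Subgroup X, T ≤ K → IsPGroup p T → S ≤ T → T = S

theorem IsMaxP.of_sylow (K : Subgroup X) (P : Sylow p K) :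
    IsMaxP p ((P : Subgroup K).map K.subtype) K := by
  refine ⟨Subgroup.map_subtype_le _, P.isPGroup'.map _, fun T hT hpT hle => ?_⟩
  have h1 : T.subgroupOf K = (P : Subgroup K) := by
    apply P.is_maximal' (hpT.comap_subtype)
    intro x hx
    show (x : X) ∈ T
    exact hle ⟨x, hx, rfl⟩
  rw [← h1, Subgroup.map_subgroupOf_eq_of_le hT]

theorem IsMaxP.exists_sylow {S K : Subgroup X} (h : IsMaxP p S K) :
    ∃ P : Sylow p K, (P : Subgroup K).map K.subtype = S := by
  refine ⟨{ toSubgroup := S.subgroupOf K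
            isPGroup' := h.2.1.comap_subtype
            is_maximal' := ?_ }, Subgroup.map_subgroupOf_eq_of_le h.1⟩
  intro Q hQ hle
  have h1 : Q.map K.subtype = S := by
    apply h.2.2 _ (Subgroup.map_subtype_le _) (hQ.map _)
    intro s hs
    exact ⟨⟨s, h.1 hs⟩, hle (by rw [Subgroup.mem_subgroupOf]; exact hs), rfl⟩
  rw [← h1]
  exact (Subgroup.comap_map_eq_self_of_injective (Subgroup.subtype_injective K) Q).symm

theorem IsMaxP.mono {S L K : Subgroup X} (h : IsMaxP p S K) (hSL : S ≤ L) (hLK : L ≤ K) :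
    IsMaxP p S L :=
  ⟨hSL, h.2.1, fun T hT hp hST => h.2.2 T (hT.trans hLK) hp hST⟩

theorem IsMaxP.map_conj {S K : Subgroup X} (h : IsMaxP p S K) (g : X) :
    IsMaxP p (S.map (MulAut.conj g).toMonoidHom) (K.map (MulAut.conj g).toMonoidHom) := by
  refine ⟨Subgroup.map_mono h.1, h.2.1.map _, fun T hT hpT hST => ?_⟩
  have h1 : T.map (MulAut.conj g⁻¹).toMonoidHom = S := by
    apply h.2.2
    · rw [map_conj_le_iff, inv_inv]; exact hT
    · exact hpT.map _
    · rw [← map_conj_le_iff]; exact hST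
  rw [← h1, map_conj_map_conj_inv]

theorem IsMaxP.exists_conj [Fact p.Prime] {S A : Subgroup X} [Finite A] (h : IsMaxP p S A)
    (T : Sylow p A) :
    ∃ a ∈ A, (T : Subgroup A).map A.subtype = S.map (MulAut.conj a).toMonoidHom := by
  obtain ⟨P, hP⟩ := h.exists_sylow
  obtain ⟨a, ha⟩ := MulAction.exists_smul_eq A P T
  refine ⟨a, a.2, ?_⟩
  have hT := IsMaxP.of_sylow A T
  symm
  apply hT.2.2
  · rintro _ ⟨s, hs, rfl⟩
    simp only [MulEquiv.coe_toMonoidHom, MulAut.conj_apply]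
    exact A.mul_mem (A.mul_mem a.2 (h.1 hs)) (A.inv_mem a.2)
  · exact h.2.1.map _
  · rintro _ ⟨x, hx, rfl⟩
    rw [mem_map_conj, ← hP]
    have hx' : x ∈ ((a • P : Sylow p A) : Subgroup A) := by rw [ha]; exact hx
    rw [Sylow.coe_subgroup_smul, Subgroup.mem_pointwise_smul_iff_inv_smul_mem] at hx'
    refine ⟨_, hx', ?_⟩
    simp [MulAut.smul_def]

theorem IsMaxP.exists_conj' [Fact p.Prime] {S T A : Subgroup X} [Finite A] (h : IsMaxP p S A)
    (hT : IsMaxP p T A) : ∃ a ∈ A, T = S.map (MulAut.conj a).toMonoidHom := by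
  obtain ⟨P, hP⟩ := hT.exists_sylow
  obtain ⟨a, ha, h1⟩ := h.exists_conj P
  exact ⟨a, ha, by rw [← hP, h1]⟩

/-- Frattini argument for a finite subgroup `N` of a possibly infinite group. -/
theorem frattini_internal' [Fact p.Prime] {N : Subgroup X} [Finite N] (P : Sylow p N) (g : X)
    (hg : g ∈ Subgroup.normalizer (N : Set X)) :
    ∃ n ∈ N, n⁻¹ * g ∈
      Subgroup.normalizer (((P : Subgroup N).map N.subtype : Subgroup X) : Set X) := by
  let g' : Subgroup.normalizer (N : Set X) := ⟨g, hg⟩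
  obtain ⟨n, hn⟩ := MulAction.exists_smul_eq N P (g' • P)
  refine ⟨n, n.2, ?_⟩
  have : Finite (((P : Subgroup N).map N.subtype : Subgroup X) : Set X) :=
    Set.finite_coe_iff.mpr ((Set.toFinite (N : Set X)).subset (Subgroup.map_subtype_le _))
  apply Subgroup.mem_normalizer_fintype
  rintro _ ⟨z, hz, rfl⟩
  have h1 : g' • z ∈ ((g' • P : Sylow p N) : Subgroup N) := by
    rw [Sylow.pointwise_smul_def]
    exact Subgroup.smul_mem_pointwise_smul z g' _ hz
  rw [← hn] at h1
  rw [Sylow.coe_subgroup_smul, Subgroup.mem_pointwise_smul_iff_inv_smul_mem] at h1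
  refine ⟨(MulAut.conj n)⁻¹ • (g' • z), h1, ?_⟩
  simp only [MulAut.smul_def, MulAut.inv_apply, MulAut.conj_symm_apply, Subgroup.subtype_apply,
    Subgroup.coe_mul, Subgroup.coe_inv]
  change (n : X)⁻¹ * (g * z * g⁻¹) * n = _
  group

/-! ### `pCoreOf`, `sylowCenterClosure` -/

theorem le_normalizer_pCoreOf (A : Subgroup X) :
    A ≤ Subgroup.normalizer ((pCoreOf p A : Subgroup X) : Set X) := by
  intro a ha
  unfold pCoreOf
  rw [Subgroup.mem_normalizer_iff]
  intro x
  constructor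
  · rintro ⟨y, hy, rfl⟩
    exact ⟨⟨a, ha⟩ * y * ⟨a, ha⟩⁻¹, (pCore_normal (p := p) (G := A)).conj_mem y hy ⟨a, ha⟩, rfl⟩
  · rintro ⟨y, hy, hyx⟩
    refine ⟨⟨a, ha⟩⁻¹ * y * ⟨a, ha⟩, ?_, ?_⟩
    · have := (pCore_normal (p := p) (G := A)).conj_mem y hy ⟨a, ha⟩⁻¹
      simpa using this
    · simp only [Subgroup.subtype_apply, Subgroup.coe_mul, Subgroup.coe_inv] at hyx ⊢
      rw [hyx]; group

theorem pCoreOf_le (A : Subgroup X) : pCoreOf p A ≤ A := Subgroup.map_subtype_le _

theorem pCoreOf_le_of_isMaxP [Fact p.Prime] {S A : Subgroup X} [Finite A] (h : IsMaxP p S A) :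
    pCoreOf p A ≤ S := by
  obtain ⟨P, hP⟩ := h.exists_sylow
  rw [← hP]
  exact Subgroup.map_mono (pCore_le_sylow P)

theorem pCoreOf_isPGroup [Fact p.Prime] (A : Subgroup X) [Finite A] : IsPGroup p (pCoreOf p A) :=
  (pCore_isPGroup (p := p) (G := A)).map _

theorem omega_le_sylowCenterClosure {T H : Subgroup X} (h : IsMaxP p T H) :
    omegaOne p (T ⊓ Subgroup.centralizer (T : Set X)) ≤ sylowCenterClosure p H := by
  obtain ⟨P, hP⟩ := h.exists_sylow
  rw [← hP]
  unfold sylowCenterClosure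
  exact le_iSup (fun S : Sylow p H => omegaOne p (((S : Subgroup H).map H.subtype) ⊓
      Subgroup.centralizer (((S : Subgroup H).map H.subtype : Subgroup X) : Set X))) P

theorem sylowCenterClosure_le {H W : Subgroup X}
    (h : ∀ T, IsMaxP p T H → omegaOne p (T ⊓ Subgroup.centralizer (T : Set X)) ≤ W) :
    sylowCenterClosure p H ≤ W := by
  unfold sylowCenterClosure
  exact iSup_le fun P => h _ (IsMaxP.of_sylow H P)

theorem omegaOne_center_map_conj_le (T : Subgroup X) (g : X) :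
    (omegaOne p (T ⊓ Subgroup.centralizer (T : Set X))).map (MulAut.conj g).toMonoidHom ≤
      omegaOne p (T.map (MulAut.conj g).toMonoidHom ⊓
        Subgroup.centralizer ((T.map (MulAut.conj g).toMonoidHom : Subgroup X) : Set X)) := by
  unfold omegaOne
  rw [Subgroup.map_le_iff_le_comap, Subgroup.closure_le]
  rintro x ⟨hx, hxp⟩
  rw [Subgroup.mem_inf] at hx
  show (MulAut.conj g).toMonoidHom x ∈ Subgroup.closure _
  apply Subgroup.subset_closure
  refine ⟨Subgroup.mem_inf.mpr ⟨Subgroup.mem_map_of_mem _ hx.1, ?_⟩, ?_⟩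
  · rw [centralizer_map_conj]; exact Subgroup.mem_map_of_mem _ hx.2
  · rw [← map_pow, hxp, map_one]

theorem sylowCenterClosure_ne_bot [Fact p.Prime] {H : Subgroup X} [Finite H]
    (hd : p ∣ Nat.card H) : sylowCenterClosure p H ≠ ⊥ := by
  obtain ⟨P⟩ : Nonempty (Sylow p H) := inferInstance
  have hPne : (P : Subgroup H) ≠ ⊥ := P.ne_bot_of_dvd_card hd
  have : Nontrivial (P : Subgroup H) := (Subgroup.nontrivial_iff_ne_bot _).mpr hPne
  have hc : Nontrivial (Subgroup.center (P : Subgroup H)) := P.isPGroup'.center_nontrivial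
  have hpc : IsPGroup p (Subgroup.center (P : Subgroup H)) := P.isPGroup'.to_subgroup _
  have hdvd : p ∣ Nat.card (Subgroup.center (P : Subgroup H)) := by
    rcases hpc.card_eq_or_dvd with h1 | h1
    · exact absurd h1 (Finite.one_lt_card).ne'
    · exact h1
  obtain ⟨z, hz⟩ := exists_prime_orderOf_dvd_card' p hdvd
  intro hbot
  have hzmem : (((z : (P : Subgroup H)) : H) : X) ∈ sylowCenterClosure p H := by
    unfold sylowCenterClosure
    refine Subgroup.mem_iSup_of_mem P ?_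
    unfold omegaOne
    apply Subgroup.subset_closure
    refine ⟨Subgroup.mem_inf.mpr ⟨⟨((z : (P : Subgroup H)) : H), (z : (P : Subgroup H)).2, rfl⟩, ?_⟩, ?_⟩
    · rw [Subgroup.mem_centralizer_iff]
      rintro _ ⟨y, hy, rfl⟩
      have := Subgroup.mem_center_iff.mp z.2 ⟨y, hy⟩
      have h2 := congrArg (fun w : (P : Subgroup H) => ((w : H) : X)) this
      simpa using h2
    · have : z ^ p = 1 := by
        have h3 := pow_orderOf_eq_one z
        rwa [hz] at h3
      have h2 := congrArg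
        (fun w : Subgroup.center (P : Subgroup H) => (((w : (P : Subgroup H)) : H) : X)) this
      simpa using h2
  rw [hbot, Subgroup.mem_bot] at hzmem
  have hz1 : z = 1 := by
    apply Subtype.ext; apply Subtype.ext; apply Subtype.ext
    simpa using hzmem
  rw [hz1, orderOf_one] at hz
  exact (Fact.out : p.Prime).one_lt.ne hz

/-! ### The Frattini decomposition `A ≤ O^p(L) (A ⊓ B)` -/

theorem pElementClosure_le (A : Subgroup X) : pElementClosure p A ≤ A := by
  unfold pElementClosure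
  rw [Subgroup.closure_le]
  intro x hx
  exact hx.1

theorem le_normalizer_pElementClosure (A : Subgroup X) :
    A ≤ Subgroup.normalizer ((pElementClosure p A : Subgroup X) : Set X) := by
  apply le_normalizer_of_forall_conj_le
  intro a ha
  unfold pElementClosure
  rw [MonoidHom.map_closure, Subgroup.closure_le]
  rintro _ ⟨x, ⟨hxA, k, hk⟩, rfl⟩
  apply Subgroup.subset_closure
  refine ⟨?_, k, ?_⟩
  · simp only [MulEquiv.coe_toMonoidHom, MulAut.conj_apply]
    exact A.mul_mem (A.mul_mem ha hxA) (A.inv_mem ha)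
  · rw [← hk]; exact (MulAut.conj a).orderOf_eq x

theorem le_pElementClosure [Fact p.Prime] {S A : Subgroup X} (hSA : S ≤ A) (hS : IsPGroup p S) :
    S ≤ pElementClosure p A := by
  intro s hs
  apply Subgroup.subset_closure
  obtain ⟨k, hk⟩ := (IsPGroup.iff_orderOf.mp hS) ⟨s, hs⟩
  exact ⟨hSA hs, k, by rw [← hk, ← Subgroup.orderOf_coe]⟩

/-- The image in `X` of `O^p(O^{p'}(A))`. -/
def resid (p : ℕ) (A : Subgroup X) : Subgroup X :=
  (pResidual p ↥(pElementClosure p A)).map (pElementClosure p A).subtype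

theorem resid_le (A : Subgroup X) : resid p A ≤ A :=
  (Subgroup.map_subtype_le _).trans (pElementClosure_le A)

theorem le_resid_sup [Fact p.Prime] {S A B : Subgroup X} [Finite A] (hS : IsMaxP p S A)
    (hSB : S ≤ B) (hN : A ⊓ Subgroup.normalizer (S : Set X) ≤ B) :
    A ≤ resid p A ⊔ (A ⊓ B) := by
  have hLA : pElementClosure p A ≤ A := pElementClosure_le A
  have hSL : S ≤ pElementClosure p A := le_pElementClosure hS.1 hS.2.1
  have : Finite (pElementClosure p A) :=
    Finite.of_injective (Subgroup.inclusion hLA) (Subgroup.inclusion_injective hLA)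
  obtain ⟨P, hP⟩ := (hS.mono hSL hLA).exists_sylow
  have hsup : S ⊔ resid p A = pElementClosure p A := by
    have h1 := congrArg (Subgroup.map (pElementClosure p A).subtype) (sylow_sup_pResidual P)
    rw [Subgroup.map_sup, hP, ← MonoidHom.range_eq_map, Subgroup.range_subtype] at h1
    exact h1
  intro a ha
  obtain ⟨l, hl, hla⟩ := frattini_internal' P a (le_normalizer_pElementClosure A ha)
  rw [hP] at hla
  have h2 : l ∈ resid p A ⊔ (A ⊓ B) := by
    have : l ∈ S ⊔ resid p A := by rw [hsup]; exact hl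
    exact (sup_le ((le_inf hS.1 hSB).trans le_sup_right) le_sup_left) this
  have h3 : l⁻¹ * a ∈ resid p A ⊔ (A ⊓ B) := by
    apply (le_sup_right : A ⊓ B ≤ resid p A ⊔ (A ⊓ B))
    have hA : l⁻¹ * a ∈ A := A.mul_mem (A.inv_mem (hLA hl)) ha
    exact ⟨hA, hN ⟨hA, hla⟩⟩
  have : a = l * (l⁻¹ * a) := by group
  rw [this]
  exact Subgroup.mul_mem _ h2 h3

end General

/-! ### The coset graph -/

section Graph

variable {X : Type*} [Group X] {p : ℕ} (M₁ M₂ : Subgroup X)

theorem adj_smul {a b : CosetVertex M₁ M₂} (g : X) (h : (cosetGraph M₁ M₂).Adj a b) :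
    (cosetGraph M₁ M₂).Adj (g • a) (g • b) := by
  unfold cosetGraph at h ⊢
  rw [SimpleGraph.fromRel_adj] at h ⊢
  obtain ⟨hne, hr⟩ := h
  refine ⟨fun h' => hne (MulAction.injective g h'), ?_⟩
  rcases hr with ⟨x, rfl, rfl⟩ | ⟨x, rfl, rfl⟩
  · exact Or.inl ⟨g * x, rfl, rfl⟩
  · exact Or.inr ⟨g * x, rfl, rfl⟩

/-- Left multiplication by `g` as a graph homomorphism. -/
def smulHom (g : X) : cosetGraph M₁ M₂ →g cosetGraph M₁ M₂ where
  toFun a := g • a
  map_rel' h := adj_smul M₁ M₂ g h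

theorem reachable_smul {a b : CosetVertex M₁ M₂} (g : X)
    (h : (cosetGraph M₁ M₂).Reachable a b) : (cosetGraph M₁ M₂).Reachable (g • a) (g • b) :=
  h.map (smulHom M₁ M₂ g)

theorem dist_smul_le {a b : CosetVertex M₁ M₂} (g : X) (h : (cosetGraph M₁ M₂).Reachable a b) :
    (cosetGraph M₁ M₂).dist (g • a) (g • b) ≤ (cosetGraph M₁ M₂).dist a b := by
  obtain ⟨w, hw⟩ := h.exists_walk_length_eq_dist
  have := SimpleGraph.dist_le (w.map (smulHom M₁ M₂ g))
  rw [SimpleGraph.Walk.length_map, hw] at this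
  exact this

theorem dist_smul (g : X) (a b : CosetVertex M₁ M₂) :
    (cosetGraph M₁ M₂).dist (g • a) (g • b) = (cosetGraph M₁ M₂).dist a b := by
  by_cases h : (cosetGraph M₁ M₂).Reachable a b
  · apply le_antisymm (dist_smul_le M₁ M₂ g h)
    have := dist_smul_le M₁ M₂ g⁻¹ (reachable_smul M₁ M₂ g h)
    simpa only [inv_smul_smul] using this
  · have h' : ¬ (cosetGraph M₁ M₂).Reachable (g • a) (g • b) := by
      intro h'
      apply h
      have := reachable_smul M₁ M₂ g⁻¹ h'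
      simpa only [inv_smul_smul] using this
    rw [SimpleGraph.dist_eq_zero_of_not_reachable h, SimpleGraph.dist_eq_zero_of_not_reachable h']

theorem dist_le_succ_of_adj {a b : CosetVertex M₁ M₂} (hab : (cosetGraph M₁ M₂).Adj a b)
    (c : CosetVertex M₁ M₂) :
    (cosetGraph M₁ M₂).dist b c ≤ (cosetGraph M₁ M₂).dist a c + 1 := by
  by_cases h : (cosetGraph M₁ M₂).Reachable a c
  · obtain ⟨w, hw⟩ := h.exists_walk_length_eq_dist
    have := SimpleGraph.dist_le (SimpleGraph.Walk.cons hab.symm w)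
    rw [SimpleGraph.Walk.length_cons, hw] at this
    exact this
  · have h' : ¬ (cosetGraph M₁ M₂).Reachable b c := fun hbc => h (hab.reachable.trans hbc)
    rw [SimpleGraph.dist_eq_zero_of_not_reachable h']
    exact Nat.zero_le _

theorem exists_adj_dist_le {a c : CosetVertex M₁ M₂} {k : ℕ}
    (h : (cosetGraph M₁ M₂).dist a c ≤ k + 1) (hne : a ≠ c)
    (hr : (cosetGraph M₁ M₂).Reachable a c) :
    ∃ b, (cosetGraph M₁ M₂).Adj a b ∧ (cosetGraph M₁ M₂).dist b c ≤ k := by
  obtain ⟨w, hw⟩ := hr.exists_walk_length_eq_dist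
  cases w with
  | nil => exact absurd rfl hne
  | cons hadj w' =>
    refine ⟨_, hadj, (SimpleGraph.dist_le w').trans ?_⟩
    rw [SimpleGraph.Walk.length_cons] at hw
    omega

theorem stabilizer_inl (x : X) :
    MulAction.stabilizer X (Sum.inl (x : X ⧸ M₁) : CosetVertex M₁ M₂) =
      M₁.map (MulAut.conj x).toMonoidHom := by
  ext g
  rw [MulAction.mem_stabilizer_iff, mem_map_conj]
  constructor
  · intro h
    have h' : ((g * x : X) : X ⧸ M₁) = (x : X ⧸ M₁) := Sum.inl.inj h
    rw [QuotientGroup.eq] at h'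
    have := M₁.inv_mem h'
    have e : ((g * x)⁻¹ * x)⁻¹ = x⁻¹ * g * x := by group
    rwa [e] at this
  · intro h
    show (Sum.inl ((g * x : X) : X ⧸ M₁) : CosetVertex M₁ M₂) = Sum.inl (x : X ⧸ M₁)
    congr 1
    rw [QuotientGroup.eq]
    have := M₁.inv_mem h
    have e : (x⁻¹ * g * x)⁻¹ = (g * x)⁻¹ * x := by group
    rwa [e] at this

theorem stabilizer_inr (x : X) :
    MulAction.stabilizer X (Sum.inr (x : X ⧸ M₂) : CosetVertex M₁ M₂) =
      M₂.map (MulAut.conj x).toMonoidHom := by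
  ext g
  rw [MulAction.mem_stabilizer_iff, mem_map_conj]
  constructor
  · intro h
    have h' : ((g * x : X) : X ⧸ M₂) = (x : X ⧸ M₂) := Sum.inr.inj h
    rw [QuotientGroup.eq] at h'
    have := M₂.inv_mem h'
    have e : ((g * x)⁻¹ * x)⁻¹ = x⁻¹ * g * x := by group
    rwa [e] at this
  · intro h
    show (Sum.inr ((g * x : X) : X ⧸ M₂) : CosetVertex M₁ M₂) = Sum.inr (x : X ⧸ M₂)
    congr 1
    rw [QuotientGroup.eq]
    have := M₂.inv_mem h
    have e : (x⁻¹ * g * x)⁻¹ = (g * x)⁻¹ * x := by group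
    rwa [e] at this

/-! ### Equivariance of `Z` and `V` -/

theorem vertexZ_map_conj_le (δ : CosetVertex M₁ M₂) (g : X) :
    (vertexZ p δ).map (MulAut.conj g).toMonoidHom ≤ vertexZ p (g • δ) := by
  rw [Subgroup.map_le_iff_le_comap]
  apply sylowCenterClosure_le
  intro T hT
  rw [← Subgroup.map_le_iff_le_comap]
  refine (omegaOne_center_map_conj_le T g).trans ?_
  apply omega_le_sylowCenterClosure
  have := hT.map_conj g
  rwa [← MulAction.stabilizer_smul_eq_stabilizer_map_conj] at this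

theorem vertexZ_le_vertexVIter (k : ℕ) (δ ν : CosetVertex M₁ M₂)
    (h : (cosetGraph M₁ M₂).dist δ ν ≤ k) : vertexZ p ν ≤ vertexVIter p M₁ M₂ k δ := by
  unfold vertexVIter
  exact le_iSup (fun μ : {μ : CosetVertex M₁ M₂ // (cosetGraph M₁ M₂).dist δ μ ≤ k} =>
    vertexZ p (μ : CosetVertex M₁ M₂)) ⟨ν, h⟩

theorem vertexVIter_le (k : ℕ) (δ : CosetVertex M₁ M₂) (W : Subgroup X)
    (h : ∀ ν, (cosetGraph M₁ M₂).dist δ ν ≤ k → vertexZ p ν ≤ W) :
    vertexVIter p M₁ M₂ k δ ≤ W := by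
  unfold vertexVIter
  exact iSup_le (fun μ => h μ.1 μ.2)

theorem vertexVIter_map_conj_le (k : ℕ) (δ : CosetVertex M₁ M₂) (g : X) :
    (vertexVIter p M₁ M₂ k δ).map (MulAut.conj g).toMonoidHom ≤
      vertexVIter p M₁ M₂ k (g • δ) := by
  rw [Subgroup.map_le_iff_le_comap]
  apply vertexVIter_le
  intro ν hν
  rw [← Subgroup.map_le_iff_le_comap]
  refine (vertexZ_map_conj_le M₁ M₂ ν g).trans ?_
  apply vertexZ_le_vertexVIter
  rw [dist_smul]; exact hν

theorem vertexVIter_map_conj (k : ℕ) (δ : CosetVertex M₁ M₂) (g : X) :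
    (vertexVIter p M₁ M₂ k δ).map (MulAut.conj g).toMonoidHom =
      vertexVIter p M₁ M₂ k (g • δ) := by
  apply le_antisymm (vertexVIter_map_conj_le M₁ M₂ k δ g)
  have := vertexVIter_map_conj_le (p := p) M₁ M₂ k (g • δ) g⁻¹
  rw [inv_smul_smul, map_conj_le_iff, inv_inv] at this
  exact this

theorem stabilizer_le_normalizer_vertexVIter (k : ℕ) (δ : CosetVertex M₁ M₂) :
    MulAction.stabilizer X δ ≤
      Subgroup.normalizer ((vertexVIter p M₁ M₂ k δ : Subgroup X) : Set X) := by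
  apply le_normalizer_of_forall_conj_le
  intro a ha
  have := vertexVIter_map_conj_le (p := p) M₁ M₂ k δ a
  rwa [MulAction.mem_stabilizer_iff.mp ha] at this

theorem vertexVIter_le_of_adj {lam mu : CosetVertex M₁ M₂}
    (hadj : (cosetGraph M₁ M₂).Adj lam mu) (k : ℕ) :
    vertexVIter p M₁ M₂ k lam ≤ vertexVIter p M₁ M₂ (k + 1) mu := by
  apply vertexVIter_le
  intro ν hν
  apply vertexZ_le_vertexVIter
  have := dist_le_succ_of_adj M₁ M₂ hadj ν
  omega

end Graph

end Cfsg.Agent.Lib.Helper17.AmalgV
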