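import Mathlib
import Cfsg.Agent.Lib.Helper17.AmalgV

set_option autoImplicit false

namespace Cfsg.Agent.Lib.Helper17.AmalgV

open Cfsg
open scoped commutatorElement

section Edge

variable {X : Type*} [Group X] {p : ℕ}

/-- The group-theoretic data attached to an edge of the coset graph. -/
structure EdgeBase (p : ℕ) (A B : Subgroup X) : Prop where
  sup_eq : A ⊔ B = ⊤
  core : ∀ N : Subgroup X, N ≤ A ⊓ B → N.Normal → N = ⊥
  finA : Finite A
  finB : Finite B
  dvdA : p ∣ Nat.card A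
  dvdB : p ∣ Nat.card B
  syl : ∃ S : Subgroup X, IsMaxP p S A ∧ IsMaxP p S B ∧
    A ⊓ Subgroup.normalizer (S : Set X) ≤ B ∧ B ⊓ Subgroup.normalizer (S : Set X) ≤ A

theorem EdgeBase.symm {A B : Subgroup X} (h : EdgeBase p A B) : EdgeBase p B A where
  sup_eq := by rw [sup_comm]; exact h.sup_eq
  core N hN := h.core N (by rwa [inf_comm])
  finA := h.finB
  finB := h.finA
  dvdA := h.dvdB
  dvdB := h.dvdA
  syl := by
    obtain ⟨S, h1, h2, h3, h4⟩ := h.syl
    exact ⟨S, h2, h1, h4, h3⟩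

theorem EdgeBase.conj {A B : Subgroup X} (h : EdgeBase p A B) (g : X) :
    EdgeBase p (A.map (MulAut.conj g).toMonoidHom) (B.map (MulAut.conj g).toMonoidHom) where
  sup_eq := by
    rw [← Subgroup.map_sup, h.sup_eq]
    exact Subgroup.map_top_of_surjective _ (MulAut.conj g).surjective
  core N hN hNn := by
    apply h.core N _ hNn
    intro n hn
    have h1 : g * n * g⁻¹ ∈ N := hNn.conj_mem n hn g
    have h2 := hN h1
    rw [Subgroup.mem_inf, mem_map_conj, mem_map_conj] at h2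
    have e : g⁻¹ * (g * n * g⁻¹) * g = n := by group
    rw [e] at h2
    exact Subgroup.mem_inf.mpr h2
  finA := by
    haveI := h.finA
    exact Finite.of_equiv _ (A.equivMapOfInjective _ (MulAut.conj g).injective).toEquiv
  finB := by
    haveI := h.finB
    exact Finite.of_equiv _ (B.equivMapOfInjective _ (MulAut.conj g).injective).toEquiv
  dvdA := by rw [card_map_conj]; exact h.dvdA
  dvdB := by rw [card_map_conj]; exact h.dvdB
  syl := by
    obtain ⟨S, h1, h2, h3, h4⟩ := h.syl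
    refine ⟨S.map (MulAut.conj g).toMonoidHom, h1.map_conj g, h2.map_conj g, ?_, ?_⟩
    · rw [← Subgroup.map_equiv_normalizer_eq S (MulAut.conj g),
        ← Subgroup.map_inf _ _ _ (MulAut.conj g).injective]
      exact Subgroup.map_mono h3
    · rw [← Subgroup.map_equiv_normalizer_eq S (MulAut.conj g),
        ← Subgroup.map_inf _ _ _ (MulAut.conj g).injective]
      exact Subgroup.map_mono h4

theorem edgeBase_of_isSpe [Fact p.Prime] {M₁ M₂ : Subgroup X} (h : IsSpeAmalgamPair p M₁ M₂) :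
    EdgeBase p M₁ M₂ := by
  obtain ⟨⟨⟨hsup, -, -, hcore⟩, hf1, hf2, hd1, hd2, hsyl, -, -⟩, hnorm, -, -⟩ := h
  haveI := hf1
  haveI := hf2
  obtain ⟨S₀⟩ : Nonempty (Sylow p ↥(M₁ ⊓ M₂)) := inferInstance
  obtain ⟨P₁₀⟩ : Nonempty (Sylow p M₁) := inferInstance
  obtain ⟨P₂₀⟩ : Nonempty (Sylow p M₂) := inferInstance
  have key : ∀ (M : Subgroup X) [Finite M], M₁ ⊓ M₂ ≤ M →
      (∀ P : Sylow p M, Nat.card S₀ = Nat.card P) →
      IsMaxP p ((S₀ : Subgroup ↥(M₁ ⊓ M₂)).map (M₁ ⊓ M₂).subtype) M := by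
    intro M _ hle hc
    refine ⟨(Subgroup.map_subtype_le _).trans hle, S₀.isPGroup'.map _, fun T hT hpT hST => ?_⟩
    obtain ⟨P, hP⟩ := (hpT.comap_subtype (K := M)).exists_le_sylow
    haveI : Finite T :=
      Finite.of_injective (Subgroup.inclusion hT) (Subgroup.inclusion_injective hT)
    symm
    apply Subgroup.eq_of_le_of_card_ge hST
    calc Nat.card T = Nat.card (T.subgroupOf M) :=
          (Nat.card_congr (Subgroup.subgroupOfEquivOfLe hT).toEquiv).symm
      _ ≤ Nat.card (P : Subgroup M) := Subgroup.card_le_of_le hP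
      _ = Nat.card S₀ := (hc P).symm
      _ = Nat.card ((S₀ : Subgroup ↥(M₁ ⊓ M₂)).map (M₁ ⊓ M₂).subtype) :=
          (Subgroup.card_map_of_injective (Subgroup.subtype_injective _)).symm
  exact
    { sup_eq := hsup
      core := hcore
      finA := hf1
      finB := hf2
      dvdA := hd1
      dvdB := hd2
      syl := ⟨_, key M₁ inf_le_left (fun P => (hsyl S₀ P P₂₀).1),
        key M₂ inf_le_right (fun P => (hsyl S₀ P₁₀ P).2),
        (hnorm S₀).2.trans inf_le_right,
        by rw [← (hnorm S₀).1]; exact (hnorm S₀).2.trans inf_le_left⟩ }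

/-! ### Iterated commutators -/

/-- `[V, Q; k]`. -/
def iterComm (V Q : Subgroup X) : ℕ → Subgroup X
  | 0 => V
  | k + 1 => ⁅iterComm V Q k, Q⁆

theorem iterComm_le_lcs {V Q : Subgroup X} (hVQ : V ≤ Q) (k : ℕ) :
    iterComm V Q k ≤ Q.lowerCentralSeries k := by
  induction k with
  | zero => exact hVQ
  | succ k ih => exact Subgroup.commutator_mono ih le_rfl

theorem iterComm_le {V Q : Subgroup X} (hQV : Q ≤ Subgroup.normalizer (V : Set X)) (k : ℕ) :
    iterComm V Q k ≤ V := by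
  induction k with
  | zero => exact le_rfl
  | succ k ih =>
    exact (Subgroup.commutator_mono ih le_rfl).trans (commutator_le_left_of_le_normalizer hQV)

theorem le_normalizer_iterComm {V Q K : Subgroup X} (hV : K ≤ Subgroup.normalizer (V : Set X))
    (hQ : K ≤ Subgroup.normalizer (Q : Set X)) (k : ℕ) :
    K ≤ Subgroup.normalizer ((iterComm V Q k : Subgroup X) : Set X) := by
  induction k with
  | zero => exact hV
  | succ k ih => exact fun a ha => mem_normalizer_commutator (ih ha) (hQ ha)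

end Edge

section Main

variable {X : Type*} [Group X] {p : ℕ} [Fact p.Prime] (M₁ M₂ : Subgroup X)

theorem vertexVIter_succ_le {lam mu : CosetVertex M₁ M₂}
    (hadj : (cosetGraph M₁ M₂).Adj lam mu)
    [Finite (MulAction.stabilizer X lam)] {S : Subgroup X}
    (hSA : IsMaxP p S (MulAction.stabilizer X lam)) (hSB : IsMaxP p S (MulAction.stabilizer X mu))
    (hnb : ∀ ν, (cosetGraph M₁ M₂).Adj lam ν → ∃ a ∈ MulAction.stabilizer X lam, a • mu = ν)
    (k : ℕ) (W : Subgroup X)
    (hW : ∀ a ∈ MulAction.stabilizer X lam, vertexVIter p M₁ M₂ k (a • mu) ≤ W) :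
    vertexVIter p M₁ M₂ (k + 1) lam ≤ W := by
  apply vertexVIter_le
  intro ν hν
  by_cases hr : (cosetGraph M₁ M₂).Reachable lam ν
  · by_cases hne : lam = ν
    · subst hne
      apply sylowCenterClosure_le
      intro T hT
      obtain ⟨a, ha, rfl⟩ := hSA.exists_conj' hT
      have h1 : IsMaxP p (S.map (MulAut.conj a).toMonoidHom)
          (MulAction.stabilizer X (a • mu)) := by
        rw [MulAction.stabilizer_smul_eq_stabilizer_map_conj]; exact hSB.map_conj a
      refine (omega_le_sylowCenterClosure h1).trans ?_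
      exact (vertexZ_le_vertexVIter M₁ M₂ k (a • mu) (a • mu)
        (by rw [SimpleGraph.dist_self]; exact Nat.zero_le _)).trans (hW a ha)
    · obtain ⟨b, hb, hbd⟩ := exists_adj_dist_le M₁ M₂ hν hne hr
      obtain ⟨a, ha, rfl⟩ := hnb b hb
      exact (vertexZ_le_vertexVIter M₁ M₂ k _ ν hbd).trans (hW a ha)
  · have hr' : ¬ (cosetGraph M₁ M₂).Reachable mu ν := fun h => hr (hadj.reachable.trans h)
    have hd : (cosetGraph M₁ M₂).dist mu ν = 0 := SimpleGraph.dist_eq_zero_of_not_reachable hr'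
    have := hW 1 (Subgroup.one_mem _)
    rw [one_smul] at this
    exact (vertexZ_le_vertexVIter M₁ M₂ k mu ν (by omega)).trans this

theorem main2857 {lam mu : CosetVertex M₁ M₂} (hadj : (cosetGraph M₁ M₂).Adj lam mu)
    (hE : EdgeBase p (MulAction.stabilizer X lam) (MulAction.stabilizer X mu)) (m : ℕ)
    (hVQ : vertexVIter p M₁ M₂ (m + 2) lam ≤ vertexQ p lam) :
    ¬ ⁅vertexVIter p M₁ M₂ (m + 2) lam, resid p (MulAction.stabilizer X lam)⁆ ≤
      vertexVIter p M₁ M₂ m lam := by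
  intro hcon
  obtain ⟨S, hSA, hSB, hNA, -⟩ := hE.syl
  haveI := hE.finA
  haveI := hE.finB
  have hUV : vertexVIter p M₁ M₂ (m + 1) mu ≤ vertexVIter p M₁ M₂ (m + 2) lam :=
    vertexVIter_le_of_adj M₁ M₂ hadj.symm (m + 1)
  have hV0U : vertexVIter p M₁ M₂ m lam ≤ vertexVIter p M₁ M₂ (m + 1) mu :=
    vertexVIter_le_of_adj M₁ M₂ hadj m
  have hRU : resid p (MulAction.stabilizer X lam) ≤
      Subgroup.normalizer ((vertexVIter p M₁ M₂ (m + 1) mu : Subgroup X) : Set X) := by
    apply le_normalizer_of_commutator_le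
    exact (Subgroup.commutator_mono hUV le_rfl).trans (hcon.trans hV0U)
  have hBU := stabilizer_le_normalizer_vertexVIter (p := p) M₁ M₂ (m + 1) mu
  have hAU : MulAction.stabilizer X lam ≤
      Subgroup.normalizer ((vertexVIter p M₁ M₂ (m + 1) mu : Subgroup X) : Set X) :=
    (le_resid_sup hSA hSB.1 hNA).trans (sup_le hRU (inf_le_right.trans hBU))
  have hUn : (vertexVIter p M₁ M₂ (m + 1) mu).Normal :=
    normal_of_le_normalizer_of_sup_eq_top hAU hBU hE.sup_eq
  have hQS : vertexQ p lam ≤ S := pCoreOf_le_of_isMaxP hSA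
  have hUAB : vertexVIter p M₁ M₂ (m + 1) mu ≤
      MulAction.stabilizer X lam ⊓ MulAction.stabilizer X mu :=
    (hUV.trans (hVQ.trans hQS)).trans (le_inf hSA.1 hSB.1)
  have hUbot : vertexVIter p M₁ M₂ (m + 1) mu = ⊥ := hE.core _ hUAB hUn
  have hZ : vertexZ p mu ≤ vertexVIter p M₁ M₂ (m + 1) mu :=
    vertexZ_le_vertexVIter M₁ M₂ (m + 1) mu mu (by rw [SimpleGraph.dist_self]; exact Nat.zero_le _)
  have hZne : vertexZ p mu ≠ ⊥ := sylowCenterClosure_ne_bot hE.dvdB
  rw [hUbot, le_bot_iff] at hZ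
  exact hZne hZ

theorem main2856 {lam mu : CosetVertex M₁ M₂} (hadj : (cosetGraph M₁ M₂).Adj lam mu)
    (hE : EdgeBase p (MulAction.stabilizer X lam) (MulAction.stabilizer X mu))
    (hnb : ∀ ν, (cosetGraph M₁ M₂).Adj lam ν → ∃ a ∈ MulAction.stabilizer X lam, a • mu = ν)
    (m : ℕ) (hVQ : vertexVIter p M₁ M₂ (m + 1) lam ≤ vertexQ p lam) :
    ¬ ⁅vertexVIter p M₁ M₂ (m + 1) lam, resid p (MulAction.stabilizer X lam)⁆ ≤
      ⁅vertexVIter p M₁ M₂ (m + 1) lam, vertexQ p lam⁆ := by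
  intro hcon
  obtain ⟨S, hSA, hSB, hNA, -⟩ := hE.syl
  haveI := hE.finA
  haveI := hE.finB
  have hUV : vertexVIter p M₁ M₂ m mu ≤ vertexVIter p M₁ M₂ (m + 1) lam :=
    vertexVIter_le_of_adj M₁ M₂ hadj.symm m
  have hAV := stabilizer_le_normalizer_vertexVIter (p := p) M₁ M₂ (m + 1) lam
  have hBU := stabilizer_le_normalizer_vertexVIter (p := p) M₁ M₂ m mu
  have hAQ := le_normalizer_pCoreOf (p := p) (MulAction.stabilizer X lam)
  have hQA : vertexQ p lam ≤ MulAction.stabilizer X lam := pCoreOf_le _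
  have hQS : vertexQ p lam ≤ S := pCoreOf_le_of_isMaxP hSA
  have hQAB : vertexQ p lam ≤ MulAction.stabilizer X lam ⊓ MulAction.stabilizer X mu :=
    hQS.trans (le_inf hSA.1 hSB.1)
  have hVAB : vertexVIter p M₁ M₂ (m + 1) lam ≤
      MulAction.stabilizer X lam ⊓ MulAction.stabilizer X mu := hVQ.trans hQAB
  have hfrat := le_resid_sup hSA hSB.1 hNA
  have hAD : MulAction.stabilizer X lam ≤ Subgroup.normalizer
      ((⁅vertexVIter p M₁ M₂ (m + 1) lam, vertexQ p lam⁆ : Subgroup X) : Set X) :=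
    fun a ha => mem_normalizer_commutator (hAV ha) (hAQ ha)
  have hABW : MulAction.stabilizer X lam ⊓ MulAction.stabilizer X mu ≤ Subgroup.normalizer
      ((vertexVIter p M₁ M₂ m mu ⊔ ⁅vertexVIter p M₁ M₂ (m + 1) lam, vertexQ p lam⁆ :
        Subgroup X) : Set X) :=
    fun a ha => mem_normalizer_sup (hBU ha.2) (hAD ha.1)
  have hRW : resid p (MulAction.stabilizer X lam) ≤ Subgroup.normalizer
      ((vertexVIter p M₁ M₂ m mu ⊔ ⁅vertexVIter p M₁ M₂ (m + 1) lam, vertexQ p lam⁆ :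
        Subgroup X) : Set X) := by
    apply le_normalizer_of_forall_conj_le
    intro r hr
    rw [Subgroup.map_sup]
    apply sup_le
    · rintro _ ⟨u, hu, rfl⟩
      have h1 : ⁅u, r⁆ ∈ ⁅vertexVIter p M₁ M₂ (m + 1) lam, vertexQ p lam⁆ :=
        hcon (Subgroup.commutator_mem_commutator (hUV hu) hr)
      have e : (MulAut.conj r).toMonoidHom u = ⁅u, r⁆⁻¹ * u := by
        simp only [MulEquiv.coe_toMonoidHom, MulAut.conj_apply, commutatorElement_def]
        group
      rw [e]
      exact Subgroup.mul_mem _ (Subgroup.inv_mem _ (Subgroup.mem_sup_right h1))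
        (Subgroup.mem_sup_left hu)
    · rw [map_conj_eq_of_mem_normalizer (hAD (resid_le _ hr))]; exact le_sup_right
  have hAW := hfrat.trans (sup_le hRW hABW)
  have hVW : vertexVIter p M₁ M₂ (m + 1) lam ≤
      vertexVIter p M₁ M₂ m mu ⊔ ⁅vertexVIter p M₁ M₂ (m + 1) lam, vertexQ p lam⁆ := by
    apply vertexVIter_succ_le M₁ M₂ hadj hSA hSB hnb m
    intro a ha
    rw [← vertexVIter_map_conj]
    calc (vertexVIter p M₁ M₂ m mu).map (MulAut.conj a).toMonoidHom
        ≤ (vertexVIter p M₁ M₂ m mu ⊔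
            ⁅vertexVIter p M₁ M₂ (m + 1) lam, vertexQ p lam⁆).map (MulAut.conj a).toMonoidHom :=
          Subgroup.map_mono le_sup_left
      _ = _ := map_conj_eq_of_mem_normalizer (hAW ha)
  have hiter : ∀ k, vertexVIter p M₁ M₂ (m + 1) lam ≤ vertexVIter p M₁ M₂ m mu ⊔
      iterComm (vertexVIter p M₁ M₂ (m + 1) lam) (vertexQ p lam) k := by
    intro k
    induction k with
    | zero => exact le_sup_right
    | succ k ih =>
      have hD : ⁅vertexVIter p M₁ M₂ (m + 1) lam, vertexQ p lam⁆ ≤ vertexVIter p M₁ M₂ m mu ⊔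
          iterComm (vertexVIter p M₁ M₂ (m + 1) lam) (vertexQ p lam) (k + 1) := by
        refine (Subgroup.commutator_mono ih le_rfl).trans ?_
        have hN : MulAction.stabilizer X lam ⊓ MulAction.stabilizer X mu ≤ Subgroup.normalizer
            ((vertexVIter p M₁ M₂ m mu ⊔
              iterComm (vertexVIter p M₁ M₂ (m + 1) lam) (vertexQ p lam) (k + 1) :
              Subgroup X) : Set X) :=
          fun a ha => mem_normalizer_sup (hBU ha.2) (le_normalizer_iterComm hAV hAQ (k + 1) ha.1)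
        apply commutator_sup_le
        · exact (hUV.trans hVAB).trans hN
        · exact ((iterComm_le (hQA.trans hAV) k).trans hVAB).trans hN
        · exact (commutator_le_left_of_le_normalizer
            ((hQAB.trans inf_le_right).trans hBU)).trans le_sup_left
        · exact le_sup_right
      exact hVW.trans (sup_le le_sup_left hD)
  haveI : Finite (vertexQ p lam) :=
    Finite.of_injective (Subgroup.inclusion hQA) (Subgroup.inclusion_injective hQA)
  have hnil : Group.IsNilpotent (vertexQ p lam) :=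
    (pCoreOf_isPGroup (p := p) (MulAction.stabilizer X lam)).isNilpotent
  obtain ⟨c, hc⟩ := (Subgroup.isNilpotent_iff_lowerCentralSeries _).mp hnil
  have hVU : vertexVIter p M₁ M₂ (m + 1) lam ≤ vertexVIter p M₁ M₂ m mu := by
    have h1 := hiter c
    have h0 : iterComm (vertexVIter p M₁ M₂ (m + 1) lam) (vertexQ p lam) c = ⊥ :=
      le_bot_iff.mp ((iterComm_le_lcs hVQ c).trans hc.le)
    rwa [h0, sup_bot_eq] at h1
  have hVeq : vertexVIter p M₁ M₂ (m + 1) lam = vertexVIter p M₁ M₂ m mu :=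
    le_antisymm hVU hUV
  have hVn : (vertexVIter p M₁ M₂ (m + 1) lam).Normal :=
    normal_of_le_normalizer_of_sup_eq_top hAV (by rw [hVeq]; exact hBU) hE.sup_eq
  have hVbot : vertexVIter p M₁ M₂ (m + 1) lam = ⊥ := hE.core _ hVAB hVn
  have hZ : vertexZ p lam ≤ vertexVIter p M₁ M₂ (m + 1) lam :=
    vertexZ_le_vertexVIter M₁ M₂ (m + 1) lam lam
      (by rw [SimpleGraph.dist_self]; exact Nat.zero_le _)
  have hZne : vertexZ p lam ≠ ⊥ := sylowCenterClosure_ne_bot hE.dvdA
  rw [hVbot, le_bot_iff] at hZ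
  exact hZne hZ

theorem exists_edge (h : IsSpeAmalgamPair p M₁ M₂) (lam : CosetVertex M₁ M₂) :
    ∃ mu, (cosetGraph M₁ M₂).Adj lam mu ∧
      EdgeBase p (MulAction.stabilizer X lam) (MulAction.stabilizer X mu) ∧
      ∀ ν, (cosetGraph M₁ M₂).Adj lam ν → ∃ a ∈ MulAction.stabilizer X lam, a • mu = ν := by
  have hB := edgeBase_of_isSpe h
  rcases lam with q | q
  · refine QuotientGroup.induction_on q ?_
    intro x
    refine ⟨Sum.inr (x : X ⧸ M₂), ?_, ?_, ?_⟩
    · unfold cosetGraph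
      rw [SimpleGraph.fromRel_adj]
      exact ⟨Sum.inl_ne_inr, Or.inl ⟨x, rfl, rfl⟩⟩
    · rw [stabilizer_inl, stabilizer_inr]; exact hB.conj x
    · intro ν hν
      unfold cosetGraph at hν
      rw [SimpleGraph.fromRel_adj] at hν
      obtain ⟨-, ⟨y, hxy, rfl⟩ | ⟨y, -, hxy⟩⟩ := hν
      · refine ⟨y * x⁻¹, ?_, ?_⟩
        · rw [MulAction.mem_stabilizer_iff]
          show (Sum.inl ((y * x⁻¹ * x : X) : X ⧸ M₁) : CosetVertex M₁ M₂) =
            Sum.inl (x : X ⧸ M₁)
          rw [inv_mul_cancel_right]; exact hxy.symm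
        · show (Sum.inr ((y * x⁻¹ * x : X) : X ⧸ M₂) : CosetVertex M₁ M₂) =
            Sum.inr (y : X ⧸ M₂)
          rw [inv_mul_cancel_right]
      · exact absurd hxy Sum.inl_ne_inr
  · refine QuotientGroup.induction_on q ?_
    intro x
    refine ⟨Sum.inl (x : X ⧸ M₁), ?_, ?_, ?_⟩
    · unfold cosetGraph
      rw [SimpleGraph.fromRel_adj]
      exact ⟨Sum.inr_ne_inl, Or.inr ⟨x, rfl, rfl⟩⟩
    · rw [stabilizer_inl, stabilizer_inr]; exact hB.symm.conj x
    · intro ν hν
      unfold cosetGraph at hν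
      rw [SimpleGraph.fromRel_adj] at hν
      obtain ⟨-, ⟨y, hxy, -⟩ | ⟨y, rfl, hxy⟩⟩ := hν
      · exact absurd hxy Sum.inr_ne_inl
      · refine ⟨y * x⁻¹, ?_, ?_⟩
        · rw [MulAction.mem_stabilizer_iff]
          show (Sum.inr ((y * x⁻¹ * x : X) : X ⧸ M₂) : CosetVertex M₁ M₂) =
            Sum.inr (x : X ⧸ M₂)
          rw [inv_mul_cancel_right]; exact hxy.symm
        · show (Sum.inl ((y * x⁻¹ * x : X) : X ⧸ M₁) : CosetVertex M₁ M₂) =
            Sum.inl (y : X ⧸ M₁)
          rw [inv_mul_cancel_right]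

end Main

end Cfsg.Agent.Lib.Helper17.AmalgV
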