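import Cfsg.Agent.Lib.Helper9.Conj
import Cfsg.Agent.Lib.Helper17.StrongPEmb2
import Cfsg.Prelude.Def_LocalStructure

set_option autoImplicit false

namespace Cfsg.Agent.Lib.Helper17

open Cfsg
open Cfsg.Agent.Lib.Helper9
open scoped commutatorElement

section WC

variable {G : Type*} [Group G] {p : ℕ}

/-- Conjugation of normalizers. -/
theorem normalizer_map_conj' (Q : Subgroup G) (g : G) :
    Subgroup.normalizer ((Q.map (MulAut.conj g).toMonoidHom : Subgroup G) : Set G) =
      (Subgroup.normalizer (Q : Set G)).map (MulAut.conj g).toMonoidHom := by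
  ext n
  rw [mem_conjMap, mem_normalizer_iff_map_conj_eq, mem_normalizer_iff_map_conj_eq]
  constructor
  · intro h
    have h1 := congrArg (Subgroup.map (MulAut.conj g⁻¹).toMonoidHom) h
    rw [← conjMap_mul, ← conjMap_mul, conjMap_inv_conjMap] at h1
    exact h1
  · intro h
    have h1 := congrArg (Subgroup.map (MulAut.conj g).toMonoidHom) h
    rw [← conjMap_mul] at h1
    have e : g * (g⁻¹ * n * g) = n * g := by group
    rw [e, conjMap_mul] at h1
    exact h1

theorem le_map_conj_iff {W V : Subgroup G} {g : G} :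
    W ≤ V.map (MulAut.conj g).toMonoidHom ↔ W.map (MulAut.conj g⁻¹).toMonoidHom ≤ V := by
  rw [conjMap_le_iff, inv_inv]

/-- Mutually normalizing subgroups have commutator in their intersection. -/
theorem commutator_le_inf_of_le_normalizer {A B : Subgroup G}
    (hAB : A ≤ Subgroup.normalizer (B : Set G)) (hBA : B ≤ Subgroup.normalizer (A : Set G)) :
    ⁅A, B⁆ ≤ A ⊓ B := by
  rw [Subgroup.commutator_le]
  intro a ha b hb
  refine Subgroup.mem_inf.mpr ⟨?_, ?_⟩
  · have h1 : b * a⁻¹ * b⁻¹ ∈ A := (Subgroup.mem_normalizer_iff.mp (hBA hb) a⁻¹).mp (A.inv_mem ha)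
    have : ⁅a, b⁆ = a * (b * a⁻¹ * b⁻¹) := by rw [commutatorElement_def]; group
    rw [this]; exact A.mul_mem ha h1
  · have h1 : a * b * a⁻¹ ∈ B := (Subgroup.mem_normalizer_iff.mp (hAB ha) b).mp hb
    have : ⁅a, b⁆ = (a * b * a⁻¹) * b⁻¹ := by rw [commutatorElement_def]
    rw [this]; exact B.mul_mem h1 (B.inv_mem hb)

theorem le_normalizer_of_commutator_le [Finite G] {A B : Subgroup G} (h : ⁅A, B⁆ ≤ A) :
    B ≤ Subgroup.normalizer (A : Set G) := by
  intro b hb
  apply mem_normalizer_of_map_conj_le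
  rintro _ ⟨a, ha, rfl⟩
  simp only [MulEquiv.coe_toMonoidHom, MulAut.conj_apply]
  have h1 : ⁅a, b⁆ ∈ A := h (Subgroup.commutator_mem_commutator ha hb)
  have : b * a * b⁻¹ = ⁅a, b⁆⁻¹ * a := by rw [commutatorElement_def]; group
  rw [this]
  exact A.mul_mem (A.inv_mem h1) ha

variable [Finite G] [Fact p.Prime]

/-- A subgroup weakly closed in one Sylow subgroup is weakly closed in every Sylow subgroup
containing it. -/
theorem IsWeaklyClosed.of_sylow_ge {Q : Subgroup G} {T : Sylow p G}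
    (hW : IsWeaklyClosed Q (T : Subgroup G)) (T' : Sylow p G) (hQT' : Q ≤ (T' : Subgroup G)) :
    IsWeaklyClosed Q (T' : Subgroup G) := by
  refine ⟨hQT', ?_⟩
  obtain ⟨h, rfl⟩ := MulAction.exists_smul_eq G T T'
  rw [sylow_smul_eq_map_conj] at hQT' ⊢
  -- Q^{h⁻¹} ≤ T
  have h1 : Q.map (MulAut.conj h⁻¹).toMonoidHom ≤ (T : Subgroup G) := by
    have := conjMap_mono hQT' h⁻¹
    rwa [conjMap_inv_conjMap] at this
  have e1 := hW.2 _ h1
  intro g hg
  have h2 : Q.map (MulAut.conj (h⁻¹ * g)).toMonoidHom ≤ (T : Subgroup G) := by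
    rw [conjMap_mul]
    have := conjMap_mono hg h⁻¹
    rwa [conjMap_inv_conjMap] at this
  have e2 := hW.2 _ h2
  have e3 : Q.map (MulAut.conj g).toMonoidHom
      = (Q.map (MulAut.conj (h⁻¹ * g)).toMonoidHom).map (MulAut.conj h).toMonoidHom := by
    rw [← conjMap_mul]; congr 3; group
  rw [e3, e2, ← e1, conjMap_conjMap_inv, e1]

/-- A weakly closed subgroup `Q` is normal in `N_G(R)` for every `p`-subgroup `R ⊇ Q`. -/
theorem IsWeaklyClosed.normalizer_le {Q : Subgroup G} {T : Sylow p G}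
    (hW : IsWeaklyClosed Q (T : Subgroup G)) {R : Subgroup G} (hR : IsPGroup p R) (hQR : Q ≤ R) :
    Subgroup.normalizer (R : Set G) ≤ Subgroup.normalizer (Q : Set G) := by
  obtain ⟨T', hT'⟩ := hR.exists_le_sylow
  have hW' := IsWeaklyClosed.of_sylow_ge hW T' (hQR.trans hT')
  intro n hn
  apply mem_normalizer_of_map_conj_eq
  apply hW'.2
  refine le_trans ?_ hT'
  rw [← map_conj_eq_of_mem_normalizer hn]
  exact conjMap_mono hQR n

theorem IsWeaklyClosed.sylow_le_normalizer {Q : Subgroup G} {T : Sylow p G}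
    (hW : IsWeaklyClosed Q (T : Subgroup G)) :
    (T : Subgroup G) ≤ Subgroup.normalizer (Q : Set G) :=
  Subgroup.le_normalizer.trans (IsWeaklyClosed.normalizer_le hW T.2 hW.1)

/-- Converse: if `Q` is normal in `N_G(R)` for all `p`-subgroups `R ⊇ Q`, then `Q` is weakly closed
in every Sylow subgroup containing it. -/
theorem isWeaklyClosed_of_normalizer_le {Q : Subgroup G}
    (hB : ∀ R : Subgroup G, IsPGroup p R → Q ≤ R →
      Subgroup.normalizer (R : Set G) ≤ Subgroup.normalizer (Q : Set G))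
    (T : Sylow p G) (hQT : Q ≤ (T : Subgroup G)) : IsWeaklyClosed Q (T : Subgroup G) := by
  refine ⟨hQT, ?_⟩
  intro g hg
  have hTQ : (T : Subgroup G) ≤ Subgroup.normalizer (Q : Set G) :=
    Subgroup.le_normalizer.trans (hB T T.2 hQT)
  -- g⁻¹ • T ≤ N(Q)
  have h1 : (((g⁻¹ • T : Sylow p G)) : Subgroup G) ≤ Subgroup.normalizer (Q : Set G) := by
    have hQ' : Q ≤ (((g⁻¹ • T : Sylow p G)) : Subgroup G) := by
      rw [sylow_smul_eq_map_conj, ← conjMap_le_iff]; exact hg
    exact Subgroup.le_normalizer.trans (hB _ (g⁻¹ • T).2 hQ')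
  obtain ⟨n, hn, hnT⟩ := exists_smul_eq_of_le T (g⁻¹ • T) hTQ h1
  -- (g n) • T = T
  have h2 : (g * n) • T = T := by
    rw [mul_smul, hnT, smul_inv_smul]
  have h3 : g * n ∈ Subgroup.normalizer ((T : Subgroup G) : Set G) :=
    Sylow.smul_eq_iff_mem_normalizer.mp h2
  have h4 : g * n ∈ Subgroup.normalizer (Q : Set G) := hB T T.2 hQT h3
  have h5 : g ∈ Subgroup.normalizer (Q : Set G) := by
    have : g = (g * n) * n⁻¹ := by group
    rw [this]
    exact Subgroup.mul_mem _ h4 (Subgroup.inv_mem _ hn)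
  exact map_conj_eq_of_mem_normalizer h5

/-- If `Q = P` for every conjugate `P` of `Q` with `[Q, P] ≤ Q ∩ P`, then every Sylow subgroup
containing `Q` normalizes it. -/
theorem sylow_le_normalizer_of_comm_cond {Q : Subgroup G}
    (hA : ∀ g : G, ⁅Q, Q.map (MulAut.conj g).toMonoidHom⁆ ≤ Q ⊓ Q.map (MulAut.conj g).toMonoidHom →
      Q.map (MulAut.conj g).toMonoidHom = Q)
    (T : Sylow p G) (hQT : Q ≤ (T : Subgroup G)) :
    (T : Subgroup G) ≤ Subgroup.normalizer (Q : Set G) := by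
  by_contra hne
  have hlt : (T : Subgroup G) ⊓ Subgroup.normalizer (Q : Set G) < (T : Subgroup G) :=
    lt_of_le_of_ne inf_le_left (fun h => hne (h ▸ inf_le_right))
  obtain ⟨t, htT, htN, htD⟩ := pgroup_normalizer_gt T.2 hlt
  have hQD : Q ≤ (T : Subgroup G) ⊓ Subgroup.normalizer (Q : Set G) := le_inf hQT Subgroup.le_normalizer
  have hD := map_conj_eq_of_mem_normalizer htN
  have hD' := map_conj_eq_of_mem_normalizer (Subgroup.inv_mem _ htN)
  have h1 : Q.map (MulAut.conj t).toMonoidHom ≤ Subgroup.normalizer (Q : Set G) := by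
    have := conjMap_mono hQD t
    rw [hD] at this
    exact this.trans inf_le_right
  have h2 : Q ≤ Subgroup.normalizer ((Q.map (MulAut.conj t).toMonoidHom : Subgroup G) : Set G) := by
    rw [normalizer_map_conj', le_map_conj_iff]
    have := conjMap_mono hQD t⁻¹
    rw [hD'] at this
    exact this.trans inf_le_right
  have h3 := hA t (commutator_le_inf_of_le_normalizer h2 h1)
  exact htD ⟨htT, mem_normalizer_of_map_conj_eq h3⟩

theorem isWeaklyClosed_of_comm_cond {Q : Subgroup G}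
    (hA : ∀ g : G, ⁅Q, Q.map (MulAut.conj g).toMonoidHom⁆ ≤ Q ⊓ Q.map (MulAut.conj g).toMonoidHom →
      Q.map (MulAut.conj g).toMonoidHom = Q)
    (T : Sylow p G) (hQT : Q ≤ (T : Subgroup G)) : IsWeaklyClosed Q (T : Subgroup G) := by
  refine ⟨hQT, ?_⟩
  intro g hg
  apply hA
  have hTQ := sylow_le_normalizer_of_comm_cond hA T hQT
  -- T ≤ N(Q^g)
  have hTQg : (T : Subgroup G) ≤
      Subgroup.normalizer ((Q.map (MulAut.conj g).toMonoidHom : Subgroup G) : Set G) := by
    have hQ' : Q ≤ (((g⁻¹ • T : Sylow p G)) : Subgroup G) := by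
      rw [sylow_smul_eq_map_conj, ← conjMap_le_iff]; exact hg
    have h1 := sylow_le_normalizer_of_comm_cond hA (g⁻¹ • T) hQ'
    rw [sylow_smul_eq_map_conj, conjMap_le_iff, inv_inv, ← normalizer_map_conj'] at h1
    exact h1
  exact commutator_le_inf_of_le_normalizer (hQT.trans hTQg) (hg.trans hTQ)

theorem IsWeaklyClosed.comm_cond {Q : Subgroup G} {T : Sylow p G}
    (hW : IsWeaklyClosed Q (T : Subgroup G)) (g : G)
    (h : ⁅Q, Q.map (MulAut.conj g).toMonoidHom⁆ ≤ Q ⊓ Q.map (MulAut.conj g).toMonoidHom) :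
    Q.map (MulAut.conj g).toMonoidHom = Q := by
  have hQp : IsPGroup p Q := T.2.to_le hW.1
  have hQgp : IsPGroup p (Q.map (MulAut.conj g).toMonoidHom) := hQp.map _
  have hN : Q.map (MulAut.conj g).toMonoidHom ≤ Subgroup.normalizer (Q : Set G) :=
    le_normalizer_of_commutator_le (h.trans inf_le_left)
  have hR : IsPGroup p (Q.map (MulAut.conj g).toMonoidHom ⊔ Q : Subgroup G) :=
    IsPGroup.to_sup_of_normal_right' hQgp hQp hN
  obtain ⟨T', hT'⟩ := hR.exists_le_sylow
  have hW' := IsWeaklyClosed.of_sylow_ge hW T' (le_sup_right.trans hT')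
  exact hW'.2 g (le_sup_left.trans hT')

end WC

end Cfsg.Agent.Lib.Helper17
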