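import Cfsg.Agent.Lib.Helper17.Conj
import Cfsg.Agent.Lib.Helper17.Coprime

set_option autoImplicit false

namespace Cfsg.Agent.Lib.Helper17

open scoped commutatorElement

section ChainStab

variable {G : Type*} [Group G]

/-- The elements normalizing `P` and `P₂` and acting trivially on `P / P₂` (in commutator form). -/
def chainStab (P P₂ : Subgroup G) : Subgroup G where
  carrier := {g | g ∈ Subgroup.normalizer (P : Set G) ∧ g ∈ Subgroup.normalizer (P₂ : Set G) ∧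
    ∀ u ∈ P, ⁅u, g⁆ ∈ P₂}
  one_mem' := ⟨Subgroup.one_mem _, Subgroup.one_mem _, fun u _ => by
    rw [commutatorElement_one_right]; exact P₂.one_mem⟩
  mul_mem' := by
    rintro g h ⟨hg1, hg2, hg3⟩ ⟨hh1, hh2, hh3⟩
    refine ⟨Subgroup.mul_mem _ hg1 hh1, Subgroup.mul_mem _ hg2 hh2, fun u hu => ?_⟩
    have e : ⁅u, g * h⁆ = ⁅u, g⁆ * (g * ⁅u, h⁆ * g⁻¹) := by
      simp only [commutatorElement_def]; group
    rw [e]
    exact P₂.mul_mem (hg3 u hu) ((Subgroup.mem_normalizer_iff.mp hg2 _).mp (hh3 u hu))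
  inv_mem' := by
    rintro g ⟨hg1, hg2, hg3⟩
    refine ⟨Subgroup.inv_mem _ hg1, Subgroup.inv_mem _ hg2, fun u hu => ?_⟩
    have e : ⁅u, g⁻¹⁆ = g⁻¹ * (⁅u, g⁆)⁻¹ * g⁻¹⁻¹ := by
      simp only [commutatorElement_def]; group
    rw [e]
    exact (Subgroup.mem_normalizer_iff.mp (Subgroup.inv_mem _ hg2) _).mp (P₂.inv_mem (hg3 u hu))

theorem mem_chainStab_iff {P P₂ : Subgroup G} {g : G} :
    g ∈ chainStab P P₂ ↔ g ∈ Subgroup.normalizer (P : Set G) ∧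
      g ∈ Subgroup.normalizer (P₂ : Set G) ∧ ∀ u ∈ P, ⁅u, g⁆ ∈ P₂ := Iff.rfl

theorem conj_mem_chainStab {P P₂ : Subgroup G} {g h : G}
    (hh1 : h ∈ Subgroup.normalizer (P : Set G)) (hh2 : h ∈ Subgroup.normalizer (P₂ : Set G))
    (hg : g ∈ chainStab P P₂) : h * g * h⁻¹ ∈ chainStab P P₂ := by
  obtain ⟨hg1, hg2, hg3⟩ := hg
  refine ⟨Subgroup.mul_mem _ (Subgroup.mul_mem _ hh1 hg1) (Subgroup.inv_mem _ hh1),
    Subgroup.mul_mem _ (Subgroup.mul_mem _ hh2 hg2) (Subgroup.inv_mem _ hh2), fun u hu => ?_⟩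
  have hu' : h⁻¹ * u * h⁻¹⁻¹ ∈ P :=
    (Subgroup.mem_normalizer_iff.mp (Subgroup.inv_mem _ hh1) u).mp hu
  have e : ⁅u, h * g * h⁻¹⁆ = h * ⁅h⁻¹ * u * h⁻¹⁻¹, g⁆ * h⁻¹ := by
    simp only [commutatorElement_def]; group
  rw [e]
  exact (Subgroup.mem_normalizer_iff.mp hh2 _).mp (hg3 _ hu')

/-- A `p'`-element of the chain stabilizer of `P ≥ P₂` centralizing `P₂` centralizes the
`p`-group `P`. -/
theorem chainStab_centralizes {p : ℕ} [Fact p.Prime] {P P₂ : Subgroup G} (hP : IsPGroup p P)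
    (hle : P₂ ≤ P) {g : G} (hg : g ∈ chainStab P P₂) (hcop : (orderOf g).Coprime p)
    (hc : ∀ y ∈ P₂, g * y = y * g) : ∀ x ∈ P, g * x = x * g :=
  stability_centralizes hP hcop hle hg.2.2 hc

end ChainStab

end Cfsg.Agent.Lib.Helper17
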