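import Cfsg.Agent.Lib.Helper17.Large
import Cfsg.Agent.Lib.Helper17.Commutator

set_option autoImplicit false

namespace Cfsg.Agent.Lib.Helper17

open Cfsg
open Cfsg.Agent.Lib.Helper9

section Large2

variable {G : Type*} [Group G] {p : ℕ}

/-- Conjugates of large subgroups are large. -/
theorem IsLarge.map_conj {Q : Subgroup G} (hL : IsLarge Q) (g : G) :
    IsLarge (Q.map (MulAut.conj g).toMonoidHom) := by
  refine ⟨?_, ?_⟩
  · rw [centralizer_map_conj]
    exact conjMap_mono hL.1 g
  · intro U hU hU1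
    rw [centralizer_map_conj, le_map_conj_iff] at hU
    have hU1' : U.map (MulAut.conj g⁻¹).toMonoidHom ≠ ⊥ := by
      intro h
      exact hU1 ((Subgroup.map_eq_bot_iff_of_injective U (MulAut.conj g⁻¹).injective).mp h)
    have h1 := hL.2 _ hU hU1'
    rw [normalizer_map_conj'] at h1
    rw [normalizer_map_conj', le_map_conj_iff]
    exact h1

/-- Key fact on large subgroups: if the large `p`-subgroup `Q` normalizes the nontrivial
`p`-subgroup `Y`, then `C_G(Y)` and `Y` normalize `Q`. -/
theorem IsLarge.centralizer_le_normalizer [Finite G] [hp : Fact p.Prime] {Q : Subgroup G}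
    (hL : IsLarge Q) (hQp : IsPGroup p Q) {Y : Subgroup G} (hYp : IsPGroup p Y) (hY1 : Y ≠ ⊥)
    (hQY : Q ≤ Subgroup.normalizer (Y : Set G)) :
    Subgroup.centralizer (Y : Set G) ≤ Subgroup.normalizer (Q : Set G) ∧
      Y ≤ Subgroup.normalizer (Q : Set G) := by
  have hR₁ : IsPGroup p (Y ⊔ Q : Subgroup G) := IsPGroup.to_sup_of_normal_left' hYp hQp hQY
  have hn : Y ⊔ Q ≤ Subgroup.normalizer (Y : Set G) := sup_le Subgroup.le_normalizer hQY
  obtain ⟨x, hxY, hxp, hxc⟩ := exists_central_order_p hR₁ le_sup_left hn hY1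
  have hU : Subgroup.zpowers x ≤ Subgroup.centralizer (Q : Set G) := by
    rw [Subgroup.zpowers_le, Subgroup.mem_centralizer_iff]
    intro q hq
    exact hxc q (Subgroup.mem_sup_right hq)
  have hU1 : Subgroup.zpowers x ≠ ⊥ := by
    intro h
    rw [Subgroup.zpowers_eq_bot] at h
    rw [h, orderOf_one] at hxp
    exact hp.out.one_lt.ne hxp
  have hN := hL.2 _ hU hU1
  refine ⟨?_, ?_⟩
  · refine le_trans ?_ ((centralizer_le_normalizer_zpowers' x).trans hN)
    exact Subgroup.centralizer_le (Set.singleton_subset_iff.mpr hxY)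
  · refine le_trans ?_ ((centralizer_le_normalizer_zpowers' x).trans hN)
    intro y hy
    rw [Subgroup.mem_centralizer_singleton_iff]
    exact hxc y (Subgroup.mem_sup_left hy)

end Large2

end Cfsg.Agent.Lib.Helper17
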