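import Cfsg.Agent.Lib.Helper17.FrakM2
import Cfsg.Agent.Lib.Helper1.Frattini

set_option autoImplicit false

namespace Cfsg.Agent.Lib.Helper17

open Cfsg Cfsg.Agent.Lib.Helper16 Cfsg.Agent.Lib.Helper9

section FrakM3

variable {H : Type*} [Group H] {p : ℕ}

theorem mem_charPSubgroups_iff {X : Subgroup H} :
    X ∈ charPSubgroups p H ↔
      pCoreOf p X ≠ ⊥ ∧ Subgroup.centralizer (pCoreOf p X : Set H) ≤ pCoreOf p X := by
  unfold charPSubgroups pCoreOf
  simp only [Set.mem_setOf_eq, ne_eq]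
  rw [Subgroup.map_eq_bot_iff_of_injective _ X.subtype_injective]

theorem isCharPSub_of_mem {X : Subgroup H} (hX : X ∈ charPSubgroups p H) : IsCharPSub p X :=
  inf_le_right.trans (mem_charPSubgroups_iff.mp hX).2

theorem pCoreOf_ne_bot_of_le {X W : Subgroup H} (hWX : W ≤ X)
    (hXW : X ≤ Subgroup.normalizer (W : Set H)) (hW : IsPGroup p W) (hne : W ≠ ⊥) :
    pCoreOf p X ≠ ⊥ := by
  intro h
  apply hne
  rw [eq_bot_iff, ← h]
  exact le_pCoreOf hWX hXW hW

/-- Elementwise form of `A ⊔ B` when `B` normalizes `A`, with the `B`-factor first. -/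
theorem mem_sup_of_le_normalizer' {A B : Subgroup H} (h : B ≤ Subgroup.normalizer (A : Set H))
    {x : H} (hx : x ∈ B ⊔ A) : ∃ b ∈ B, ∃ a ∈ A, x = b * a := by
  rw [sup_comm] at hx
  obtain ⟨a, ha, b, hb, rfl⟩ := (mem_sup_of_le_normalizer h).mp hx
  exact ⟨b, hb, b⁻¹ * a * b, conj_inv_mem_of_mem_normalizer' (h hb) ha, by group⟩

/-- The Frattini condition in the basic property, from minimality. -/
theorem frattini_condition_of_minimal [Finite H] [Fact p.Prime] (S : Sylow p H) {M C₀ T₀ : Subgroup H}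
    (hSM : (S : Subgroup H) ≤ M) (hC₀M : C₀ ≤ M)
    (hMC₀ : M ≤ Subgroup.normalizer (C₀ : Set H))
    (hT₀ : T₀ = pCoreOf p M) (hT₀C₀ : T₀ ≤ C₀) (hidx : ¬ p ∣ T₀.relIndex C₀)
    (hmin : ∀ X : Subgroup H, (S : Subgroup H) ≤ X → X ≤ M →
      (∀ m ∈ M, ∃ x ∈ X, ∃ c ∈ C₀, m = x * c) → X = M) :
    (C₀.subgroupOf M).map (QuotientGroup.mk' (pCore p ↥M)) ≤ frattini (↥M ⧸ pCore p ↥M) := by
  rw [Cfsg.Agent.Lib.Helper1.le_frattini_iff]
  intro K hK
  by_contra hnot
  haveI hN'n : (C₀.subgroupOf M).Normal :=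
    (Subgroup.normal_subgroupOf_iff_le_normalizer hC₀M).mpr hMC₀
  set π := QuotientGroup.mk' (pCore p ↥M) with hπ
  have hπs : Function.Surjective π := QuotientGroup.mk'_surjective _
  haveI hmapn : ((C₀.subgroupOf M).map π).Normal := Subgroup.Normal.map hN'n π hπs
  have hsup : K ⊔ (C₀.subgroupOf M).map π = ⊤ := by
    have h1 : K < K ⊔ (C₀.subgroupOf M).map π := by
      apply lt_of_le_of_ne le_sup_left
      intro h
      apply hnot
      rw [h]
      exact le_sup_right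
    exact hK.2 _ h1
  set X' := K.comap π with hX'
  set X := X'.map M.subtype with hX
  have hXM : X ≤ M := Subgroup.map_subtype_le _
  have hfac : ∀ m ∈ M, ∃ x ∈ X, ∃ c ∈ C₀, m = x * c := by
    intro m hm
    have h1 : π ⟨m, hm⟩ ∈ K ⊔ (C₀.subgroupOf M).map π := by rw [hsup]; exact Subgroup.mem_top _
    have h2 : (π ⟨m, hm⟩) ∈ ((K ⊔ (C₀.subgroupOf M).map π : Subgroup _) : Set _) := h1
    rw [Subgroup.mul_normal] at h2
    obtain ⟨k, hk, n', ⟨n, hn, rfl⟩, hkn⟩ := Set.mem_mul.mp h2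
    have h3 : π (⟨m, hm⟩ * n⁻¹) = k := by
      rw [map_mul, map_inv, ← hkn]; group
    have h4 : (⟨m, hm⟩ * n⁻¹ : ↥M) ∈ X' := by
      rw [hX', Subgroup.mem_comap, h3]; exact hk
    refine ⟨((⟨m, hm⟩ * n⁻¹ : ↥M) : H), ⟨_, h4, rfl⟩, (n : H), Subgroup.mem_subgroupOf.mp hn, ?_⟩
    simp
  have hT₀X : T₀ ≤ X := by
    rw [hT₀]
    unfold pCoreOf
    apply Subgroup.map_mono
    intro x hx
    rw [hX', Subgroup.mem_comap]
    have : π x = 1 := by
      rw [hπ, QuotientGroup.mk'_apply, QuotientGroup.eq_one_iff]; exact hx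
    rw [this]; exact K.one_mem
  have hXC₀ : X ≤ Subgroup.normalizer (C₀ : Set H) := hXM.trans hMC₀
  have hXsup : X ⊔ C₀ = M := by
    apply le_antisymm (sup_le hXM hC₀M)
    intro m hm
    obtain ⟨x, hx, c, hc, rfl⟩ := hfac m hm
    exact Subgroup.mul_mem _ (Subgroup.mem_sup_left hx) (Subgroup.mem_sup_right hc)
  have hXidx : ¬ p ∣ X.relIndex M := by
    have h1 := relIndex_eq_relIndex_sup_of_le_normalizer X C₀ hXC₀
    rw [hXsup] at h1
    rw [← h1]
    intro hd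
    exact hidx (dvd_trans hd (Subgroup.relIndex_dvd_of_le_left C₀ hT₀X))
  obtain ⟨g, hg⟩ := Cfsg.Agent.Lib.Helper1.exists_conj_mem_of_isPGroup_of_not_dvd_index
    ((S : Subgroup H).subgroupOf M) (X.subgroupOf M) S.2.comap_subtype hXidx
  set X₂ := X.map (MulAut.conj (g : H)).toMonoidHom with hX₂
  have hSX₂ : (S : Subgroup H) ≤ X₂ := by
    intro s hs
    rw [hX₂, mem_map_conj]
    have := hg ⟨s, hSM hs⟩ (Subgroup.mem_subgroupOf.mpr hs)
    rw [Subgroup.mem_subgroupOf] at this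
    simpa using this
  have hX₂M : X₂ ≤ M := by
    rintro _ ⟨x, hx, rfl⟩
    simp only [MulEquiv.coe_toMonoidHom, MulAut.conj_apply]
    exact M.mul_mem (M.mul_mem g.2 (hXM hx)) (M.inv_mem g.2)
  have hX₂fac : ∀ m ∈ M, ∃ x ∈ X₂, ∃ c ∈ C₀, m = x * c := by
    intro m hm
    have hm' : (g : H)⁻¹ * m * g ∈ M := M.mul_mem (M.mul_mem (M.inv_mem g.2) hm) g.2
    obtain ⟨x, hx, c, hc, hxc⟩ := hfac _ hm'
    refine ⟨(g : H) * x * (g : H)⁻¹, conj_mem_map_conj hx, (g : H) * c * (g : H)⁻¹,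
      conj_mem_of_mem_normalizer' (hMC₀ g.2) hc, ?_⟩
    have : m = (g : H) * ((g : H)⁻¹ * m * g) * (g : H)⁻¹ := by group
    rw [this, hxc]; group
  have hX₂eq : X₂ = M := hmin X₂ hSX₂ hX₂M hX₂fac
  have hXeq : X = M := by
    apply Subgroup.eq_of_le_of_card_ge hXM
    rw [← hX₂eq, hX₂, card_map_conj]
  have hX'top : X' = ⊤ := by
    rw [eq_top_iff]
    intro x _
    have hx : (x : H) ∈ X := by rw [hXeq]; exact x.2
    obtain ⟨y, hy, hyx⟩ := hx
    have : y = x := Subtype.ext hyx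
    rwa [← this]
  have hKtop : K = ⊤ := by
    rw [eq_top_iff]
    intro k _
    obtain ⟨x, rfl⟩ := hπs k
    have : x ∈ X' := by rw [hX'top]; exact Subgroup.mem_top _
    exact this
  exact hK.1 hKtop

/-- MSS: existence of `M ∈ 𝔐_H(S)` and `L* ≤ M` attached to `L ∈ 𝓛_H(S)`, under the hypothesis
that every parabolic subgroup with nontrivial `O_p` lies in `𝓛_H`. -/
theorem exists_frakM [Finite H] [Fact p.Prime] (S : Sylow p H)
    (hP : ∀ X : Subgroup H, (S : Subgroup H) ≤ X → pCoreOf p X ≠ ⊥ → X ∈ charPSubgroups p H)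
    (L : Subgroup H) (hSL : (S : Subgroup H) ≤ L) (hL : L ∈ charPSubgroups p H) :
    ∃ M Ls : Subgroup H, (S : Subgroup H) ≤ M ∧ IsInFrakM p M ∧ (S : Subgroup H) ≤ Ls ∧ Ls ≤ M ∧
      Ls ∈ charPSubgroups p H ∧ largestPReducedOf p L = largestPReducedOf p Ls ∧
      largestPReducedOf p L ≤ largestPReducedOf p M ∧
      L ⊔ Subgroup.centralizer (largestPReducedOf p L : Set H) =
        Ls ⊔ Subgroup.centralizer (largestPReducedOf p L : Set H) := by
  classical
  set YL := largestPReducedOf p L with hYLdef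
  set C := Subgroup.centralizer (YL : Set H) with hCdef
  have hLc : IsCharPSub p L := isCharPSub_of_mem hL
  have hYLrel : RelPReduced p L YL := relPReduced_largestPReducedOf L
  have hYLne : YL ≠ ⊥ := largestPReducedOf_ne_bot S hSL hLc (mem_charPSubgroups_iff.mp hL).1
  have hYLp : IsPGroup p YL := isPGroup_of_exponent hYLrel.2.2.2.1
  -- the family 𝒰
  let U : Set (Subgroup H) := {X | (S : Subgroup H) ≤ X ∧ X ∈ charPSubgroups p H ∧
    YL ≤ largestPReducedOf p X ∧ ∀ l ∈ L, ∃ x ∈ X, ∃ c ∈ C, l = x * c}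
  have hLU : L ∈ U := ⟨hSL, hL, le_rfl, fun l hl => ⟨l, hl, 1, C.one_mem, by simp⟩⟩
  let μ : Subgroup H → ℕ := fun X =>
    Nat.card (largestPReducedOf p X) * (Nat.card H + 1) + Nat.card X
  obtain ⟨M₁, hM₁U, hM₁max⟩ := Set.exists_max_image U μ (Set.toFinite U) ⟨L, hLU⟩
  obtain ⟨hSM₁, hM₁c, hYLM₁, hLM₁⟩ := hM₁U
  set Y := largestPReducedOf p M₁ with hYdef
  have hm1 : ∀ X ∈ U, Nat.card (largestPReducedOf p X) ≤ Nat.card Y := by
    intro X hX
    by_contra hlt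
    push Not at hlt
    have h1 : Nat.card (largestPReducedOf p X) * (Nat.card H + 1) + Nat.card X ≤
        Nat.card Y * (Nat.card H + 1) + Nat.card M₁ := hM₁max X hX
    have h2 : Nat.card M₁ ≤ Nat.card H := Subgroup.card_le_card_group M₁
    have h3 : (Nat.card Y + 1) * (Nat.card H + 1) ≤
        Nat.card (largestPReducedOf p X) * (Nat.card H + 1) := Nat.mul_le_mul_right _ hlt
    nlinarith
  have hm2 : ∀ X ∈ U, M₁ ≤ X → Y ≤ largestPReducedOf p X → X = M₁ := by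
    intro X hX hM₁X hYX
    have h1 : Nat.card (largestPReducedOf p X) * (Nat.card H + 1) + Nat.card X ≤
        Nat.card Y * (Nat.card H + 1) + Nat.card M₁ := hM₁max X hX
    have h2 := hm1 X hX
    have h3 : Nat.card Y ≤ Nat.card (largestPReducedOf p X) := Subgroup.card_le_of_le hYX
    have h4 : Nat.card (largestPReducedOf p X) = Nat.card Y := le_antisymm h2 h3
    rw [h4] at h1
    have h5 : Nat.card X ≤ Nat.card M₁ := by omega
    exact (Subgroup.eq_of_le_of_card_ge hM₁X h5).symm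
  have hM₁cp : IsCharPSub p M₁ := isCharPSub_of_mem hM₁c
  have hYrel : RelPReduced p M₁ Y := relPReduced_largestPReducedOf M₁
  have hM₁Y : M₁ ≤ Subgroup.normalizer (Y : Set H) := hYrel.2.1
  have hYS : Y ≤ S := (RelPReduced.le_pCoreOf' hYrel).trans (pCoreOf_le_sylow S hSM₁)
  have hYne : Y ≠ ⊥ := by
    intro h
    apply hYLne
    rw [eq_bot_iff, ← h]; exact hYLM₁
  have hYp : IsPGroup p Y := isPGroup_of_exponent hYrel.2.2.2.1
  set CY := Subgroup.centralizer (Y : Set H) with hCYdef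
  have hCYC : CY ≤ C := Subgroup.centralizer_le (by exact_mod_cast hYLM₁)
  set CM := M₁ ⊓ CY with hCMdef
  -- the family 𝒱 and the minimal M
  let Vs : Set (Subgroup H) := {X | (S : Subgroup H) ≤ X ∧ X ≤ M₁ ∧
    ∀ m ∈ M₁, ∃ x ∈ X, ∃ c ∈ CM, m = x * c}
  have hM₁V : M₁ ∈ Vs := ⟨hSM₁, le_rfl, fun m hm => ⟨m, hm, 1, CM.one_mem, by simp⟩⟩
  obtain ⟨M, hMV, hMmin⟩ := Set.exists_min_image Vs (fun X => Nat.card X) (Set.toFinite Vs)
    ⟨M₁, hM₁V⟩
  obtain ⟨hSM, hMM₁, hMfac⟩ := hMV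
  have hmin : ∀ X ∈ Vs, X ≤ M → X = M := fun X hX hXM =>
    Subgroup.eq_of_le_of_card_ge hXM (hMmin X hX)
  have hMY : M ≤ Subgroup.normalizer (Y : Set H) := hMM₁.trans hM₁Y
  have hYM' : Y ≤ M := hYS.trans hSM
  -- (C1) Y_M = Y
  have hrelMY : RelPReduced p M Y := by
    apply RelPReduced.transfer hYrel hYM' hMY
    · intro k hk
      obtain ⟨x, hx, c, hc, hkc⟩ := hMfac k hk
      exact ⟨x, hx, c, (Subgroup.mem_inf.mp hc).2, hkc⟩
    · intro x hx
      exact ⟨x, hMM₁ hx, 1, Subgroup.one_mem _, by simp⟩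
  have hYM : largestPReducedOf p M = Y :=
    le_antisymm (largestPReducedOf_mono_of_charP S hSM hMM₁ hM₁cp)
      (le_largestPReducedOf_of_rel hrelMY)
  -- (C3)
  have hMc : M ∈ charPSubgroups p H := hP M hSM (pCoreOf_ne_bot_of_le hYM' hMY hYp hYne)
  -- (C2) M ⊔ C(Y) = M₁
  set X₀ := M ⊔ CY with hX₀def
  have hM₁X₀ : M₁ ≤ X₀ := by
    intro m hm
    obtain ⟨x, hx, c, hc, rfl⟩ := hMfac m hm
    exact Subgroup.mul_mem _ (Subgroup.mem_sup_left hx)
      (Subgroup.mem_sup_right (Subgroup.mem_inf.mp hc).2)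
  have hX₀N : X₀ ≤ Subgroup.normalizer (Y : Set H) :=
    sup_le hMY (Subgroup.centralizer_le_normalizer _)
  have hX₀c : X₀ ∈ charPSubgroups p H :=
    hP X₀ (hSM.trans le_sup_left) (pCoreOf_ne_bot_of_le (hYM'.trans le_sup_left) hX₀N hYp hYne)
  have hX₀U : X₀ ∈ U := by
    refine ⟨hSM.trans le_sup_left, hX₀c,
      hYLM₁.trans (largestPReducedOf_mono_of_charP S hSM₁ hM₁X₀ (isCharPSub_of_mem hX₀c)), ?_⟩
    intro l hl
    obtain ⟨x, hx, c, hc, hlc⟩ := hLM₁ l hl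
    exact ⟨x, hM₁X₀ hx, c, hc, hlc⟩
  have hX₀M₁ : X₀ = M₁ :=
    hm2 X₀ hX₀U hM₁X₀ (largestPReducedOf_mono_of_charP S hSM₁ hM₁X₀ (isCharPSub_of_mem hX₀c))
  -- membership of overgroups of `M` in 𝒰
  have hover : ∀ X : Subgroup H, X ∈ charPSubgroups p H → M ≤ X → X ∈ U := by
    intro X hXc hMX
    refine ⟨hSM.trans hMX, hXc, ?_, ?_⟩
    · have := largestPReducedOf_mono_of_charP S hSM hMX (isCharPSub_of_mem hXc)
      rw [hYM] at this
      exact hYLM₁.trans this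
    · intro l hl
      obtain ⟨x, hx, c, hc, hlc⟩ := hLM₁ l hl
      obtain ⟨m, hm, c', hc', hxc'⟩ := hMfac x hx
      refine ⟨m, hMX hm, c' * c, C.mul_mem (hCYC (Subgroup.mem_inf.mp hc').2) hc, ?_⟩
      rw [hlc, hxc', mul_assoc]
  -- (C4)
  have hM₁max' : M₁ ∈ maxCharPSubgroups p H := by
    refine ⟨hM₁c, ?_⟩
    intro X hXc hM₁X
    have hXU := hover X hXc (hMM₁.trans hM₁X)
    exact hm2 X hXU hM₁X (largestPReducedOf_mono_of_charP S hSM₁ hM₁X (isCharPSub_of_mem hXc))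
  -- (C5)
  have huniq : ∀ X ∈ maxCharPSubgroups p H, M ≤ X → X = M₁ := by
    intro X hX hMX
    obtain ⟨hXc, hXmax⟩ := hX
    have hXU := hover X hXc hMX
    have hYX : Y ≤ largestPReducedOf p X := by
      have := largestPReducedOf_mono_of_charP S hSM hMX (isCharPSub_of_mem hXc)
      rwa [hYM] at this
    have hYXeq : largestPReducedOf p X = Y :=
      (Subgroup.eq_of_le_of_card_ge hYX (hm1 X hXU)).symm
    have hXrel : RelPReduced p X (largestPReducedOf p X) := relPReduced_largestPReducedOf X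
    rw [hYXeq] at hXrel
    set Xd := X ⊔ CY with hXd
    have hXdN : Xd ≤ Subgroup.normalizer (Y : Set H) :=
      sup_le hXrel.2.1 (Subgroup.centralizer_le_normalizer _)
    have hXdc : Xd ∈ charPSubgroups p H :=
      hP Xd ((hSM.trans hMX).trans le_sup_left)
        (pCoreOf_ne_bot_of_le (hXrel.1.trans le_sup_left) hXdN hYp hYne)
    have hXdX : Xd = X := hXmax Xd hXdc le_sup_left
    have hM₁X : M₁ ≤ X := by
      rw [← hX₀M₁, ← hXdX]
      exact sup_le (hMX.trans le_sup_left) le_sup_right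
    exact hM₁max'.2 X hXc hM₁X
  -- (C7)
  set C₀ := M ⊓ CY with hC₀def
  set T₀ := (S : Subgroup H) ⊓ CY with hT₀def
  have hMCY : M ≤ Subgroup.normalizer (CY : Set H) :=
    hMY.trans (normalizer_le_normalizer_centralizer' Y)
  have hMC₀ : M ≤ Subgroup.normalizer (C₀ : Set H) := fun m hm =>
    mem_normalizer_inf (Subgroup.le_normalizer hm) (hMCY hm)
  have hST₀ : (S : Subgroup H) ≤ Subgroup.normalizer (T₀ : Set H) := fun s hs =>
    mem_normalizer_inf (Subgroup.le_normalizer hs) (hMCY (hSM hs))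
  have hfrM := frattini_sylow_inf S hSM hMCY
  have hM'V : M ⊓ Subgroup.normalizer (T₀ : Set H) ∈ Vs := by
    refine ⟨le_inf hSM hST₀, inf_le_left.trans hMM₁, ?_⟩
    intro m hm
    obtain ⟨x, hx, c', hc', hxc'⟩ := hMfac m hm
    obtain ⟨y, hy, c, hc, hyc⟩ := hfrM x hx
    refine ⟨y, hy, c * c', CM.mul_mem ?_ hc', ?_⟩
    · exact Subgroup.mem_inf.mpr ⟨hMM₁ (Subgroup.mem_inf.mp hc).1, (Subgroup.mem_inf.mp hc).2⟩
    · rw [hxc', hyc, mul_assoc]
  have hMT₀ : M ≤ Subgroup.normalizer (T₀ : Set H) := by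
    have := hmin _ hM'V inf_le_left
    exact inf_eq_left.mp this
  have hT₀p : IsPGroup p T₀ := S.2.to_le inf_le_left
  have hT₀eq : T₀ = pCoreOf p M := by
    apply le_antisymm
    · exact le_pCoreOf (inf_le_left.trans hSM) hMT₀ hT₀p
    · exact le_inf (pCoreOf_le_sylow S hSM) (RelPReduced.pCoreOf_le_centralizer hrelMY)
  have hT₀C₀ : T₀ ≤ C₀ := le_inf (inf_le_left.trans hSM) inf_le_right
  have hT₀idx : ¬ p ∣ T₀.relIndex C₀ := by
    have e : T₀ = (S : Subgroup H) ⊓ C₀ := by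
      rw [hT₀def, hC₀def, ← inf_assoc, inf_eq_left.mpr hSM]
    rw [e, Subgroup.inf_relIndex_right]
    intro hd
    exact S.not_dvd_index (dvd_trans hd
      (relIndex_dvd_index_of_le_normalizer (S : Subgroup H) C₀ (hSM.trans hMC₀)))
  have hpclosed : IsPClosed p ↥C₀ :=
    isPClosed_of_normal_sylow hT₀C₀ (inf_le_left.trans hMT₀) hT₀p hT₀idx
  -- (C8)
  have hfratt : (C₀.subgroupOf M).map (QuotientGroup.mk' (pCore p ↥M)) ≤
      frattini (↥M ⧸ pCore p ↥M) := by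
    apply frattini_condition_of_minimal S hSM inf_le_left hMC₀ hT₀eq hT₀C₀ hT₀idx
    intro X hSX hXM hXfac
    apply hmin X _ hXM
    refine ⟨hSX, hXM.trans hMM₁, ?_⟩
    intro m hm
    obtain ⟨x, hx, c', hc', hxc'⟩ := hMfac m hm
    obtain ⟨y, hy, c, hc, hyc⟩ := hXfac x hx
    refine ⟨y, hy, c * c', CM.mul_mem ?_ hc', ?_⟩
    · exact Subgroup.mem_inf.mpr ⟨hMM₁ (Subgroup.mem_inf.mp hc).1, (Subgroup.mem_inf.mp hc).2⟩
    · rw [hxc', hyc, mul_assoc]
  have hFrakM : IsInFrakM p M := by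
    unfold IsInFrakM
    rw [hYM, ← hCYdef, ← hX₀def, hX₀M₁, ← hC₀def]
    exact ⟨hMc, hM₁max', huniq, rfl, hpclosed, hfratt⟩
  -- the subgroup L*
  have hLC : L ≤ Subgroup.normalizer (C : Set H) :=
    hYLrel.2.1.trans (normalizer_le_normalizer_centralizer' YL)
  have hLCN : L ⊔ C ≤ Subgroup.normalizer (YL : Set H) :=
    sup_le hYLrel.2.1 (Subgroup.centralizer_le_normalizer _)
  have hLCNC : L ⊔ C ≤ Subgroup.normalizer (C : Set H) :=
    hLCN.trans (normalizer_le_normalizer_centralizer' YL)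
  set K := M ⊓ (L ⊔ C) with hKdef
  set TL := (S : Subgroup H) ⊓ C with hTLdef
  set Ls := K ⊓ Subgroup.normalizer (TL : Set H) with hLsdef
  have hSK : (S : Subgroup H) ≤ K := le_inf hSM (hSL.trans le_sup_left)
  have hKC : K ≤ Subgroup.normalizer (C : Set H) := inf_le_right.trans hLCNC
  have hSTL : (S : Subgroup H) ≤ Subgroup.normalizer (TL : Set H) := fun s hs =>
    mem_normalizer_inf (Subgroup.le_normalizer hs) (hLC (hSL hs))
  have hSLs : (S : Subgroup H) ≤ Ls := le_inf hSK hSTL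
  have hLsM : Ls ≤ M := inf_le_left.trans inf_le_left
  have hLsLC : Ls ≤ L ⊔ C := inf_le_left.trans inf_le_right
  have hLsN : Ls ≤ Subgroup.normalizer (YL : Set H) := hLsLC.trans hLCN
  have hYLS : YL ≤ S := (RelPReduced.le_pCoreOf' hYLrel).trans (pCoreOf_le_sylow S hSL)
  have hYLLs : YL ≤ Ls := hYLS.trans hSLs
  have hLsc : Ls ∈ charPSubgroups p H :=
    hP Ls hSLs (pCoreOf_ne_bot_of_le hYLLs hLsN hYLp hYLne)
  have hfrK := frattini_sylow_inf S hSK hKC
  have hLfac : ∀ l ∈ L, ∃ x ∈ Ls, ∃ c ∈ C, l = x * c := by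
    intro l hl
    obtain ⟨x, hx, c, hc, hlc⟩ := hLM₁ l hl
    obtain ⟨m, hm, c', hc', hxc'⟩ := hMfac x hx
    have hc'C : c' ∈ C := hCYC (Subgroup.mem_inf.mp hc').2
    have hmK : m ∈ K := by
      refine Subgroup.mem_inf.mpr ⟨hm, ?_⟩
      have : m = l * (c' * c)⁻¹ := by rw [hlc, hxc']; group
      rw [this]
      exact Subgroup.mul_mem _ (Subgroup.mem_sup_left hl)
        (Subgroup.mem_sup_right (C.inv_mem (C.mul_mem hc'C hc)))
    obtain ⟨y, hy, c'', hc'', hyc⟩ := hfrK m hmK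
    refine ⟨y, hy, c'' * (c' * c), C.mul_mem (Subgroup.mem_inf.mp hc'').2 (C.mul_mem hc'C hc), ?_⟩
    rw [hlc, hxc', hyc]; group
  have hsupeq : L ⊔ C = Ls ⊔ C := by
    apply le_antisymm
    · apply sup_le _ le_sup_right
      intro l hl
      obtain ⟨x, hx, c, hc, rfl⟩ := hLfac l hl
      exact Subgroup.mul_mem _ (Subgroup.mem_sup_left hx) (Subgroup.mem_sup_right hc)
    · exact sup_le hLsLC le_sup_right
  have hrelLs : RelPReduced p Ls YL := by
    apply RelPReduced.transfer hYLrel hYLLs hLsN hLfac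
    intro x hx
    exact mem_sup_of_le_normalizer' hLC (hLsLC hx)
  have hLscp : IsCharPSub p Ls := isCharPSub_of_mem hLsc
  have hYLs : largestPReducedOf p Ls = YL := by
    apply le_antisymm _ (le_largestPReducedOf_of_rel hrelLs)
    have hrel' : RelPReduced p Ls (largestPReducedOf p Ls) := relPReduced_largestPReducedOf Ls
    have hTLp : IsPGroup p TL := S.2.to_le inf_le_left
    have hTLO : TL ≤ pCoreOf p Ls := le_pCoreOf (inf_le_left.trans hSLs) inf_le_right hTLp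
    have hOC : pCoreOf p Ls ≤ C := RelPReduced.pCoreOf_le_centralizer hrelLs
    have hOS : pCoreOf p Ls ≤ S := pCoreOf_le_sylow S hSLs
    refine le_trans ?_ (omegaZ_le_largestPReducedOf S hSL hLc)
    intro w hw
    refine ⟨Subgroup.mem_inf.mpr ⟨hOS (RelPReduced.le_pCoreOf' hrel' hw),
      hOC (RelPReduced.le_pCoreOf' hrel' hw)⟩, ?_, hrel'.2.2.2.1 w hw⟩
    have h1 : TL ≤ Subgroup.centralizer ((largestPReducedOf p Ls : Subgroup H) : Set H) :=
      hTLO.trans (RelPReduced.pCoreOf_le_centralizer hrel')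
    exact Subgroup.le_centralizer_iff.mp h1 hw
  refine ⟨M, Ls, hSM, hFrakM, hSLs, hLsM, hLsc, hYLs.symm, ?_, hsupeq⟩
  rw [hYM]
  exact hYLM₁

end FrakM3

end Cfsg.Agent.Lib.Helper17
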