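import Cfsg.Agent.S2848
import Cfsg.Agent.S2864
import Cfsg.Agent.Lib.Helper17.WeaklyClosed
import Cfsg.Agent.Lib.Helper17.SylowLemmas

set_option autoImplicit false
set_option linter.unusedSectionVars false

namespace Cfsg.Agent.Lib.Helper17

open Cfsg
open Cfsg.Agent.Lib.Helper9
open scoped commutatorElement

section Asym

variable {G : Type*} [Group G] [Finite G] {p : ℕ} [Fact p.Prime]

/-- Under the standing hypotheses (large subgroup `Q`, `M ∈ 𝔐_G(S)`), every subgroup `X ≥ M`
with `O_p(X) ≠ 1` lies in `M† = M·C_G(Y_M)`. -/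
theorem le_dagger_of_pCoreOf_ne_bot (S : Sylow p G) (Q : Subgroup G) (hQp : IsPGroup p ↥Q)
    (hQ1 : Q ≠ ⊥) (hQ : Cfsg.IsLarge Q) (M : Subgroup G) (hSM : (S : Subgroup G) ≤ M)
    (hM : Cfsg.IsInFrakM p M) (X : Subgroup G) (hMX : M ≤ X) (hXne : pCoreOf p X ≠ ⊥) :
    X ≤ M ⊔ Subgroup.centralizer ((largestPReducedOf p M : Subgroup G) : Set G) := by
  obtain ⟨-, -, hpar⟩ := Cfsg.Agent.S2845.result Q hQp hQ1 hQ
  have hXc := Cfsg.Agent.S2847.mem_charPSubgroups_of_parabolic hpar S X (hSM.trans hMX) hXne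
  obtain ⟨X', hX', hXX'⟩ := Cfsg.Agent.S2864.exists_maxCharP_ge X hXc
  have := hM.2.2.1 X' hX' (hMX.trans hXX')
  exact hXX'.trans this.le

/-- The word lemma: abstract form.  If `Y ≤ P ≤ T`, `T` and `N_G(P)` normalize `Y`,
`C_T(Y) ≤ P` and `Y` is asymmetric, then every conjugate of `Y` under a product of elements
of `N_G(T) ∪ N_G(P)` lies in `P`. -/
theorem map_conj_prod_le_of_asym {Y P T : Subgroup G} (hasym : ¬ IsSymmetricIn Y) (hYP : Y ≤ P)
    (hPT : P ≤ T) (hTY : T ≤ Subgroup.normalizer (Y : Set G))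
    (hNP : Subgroup.normalizer (P : Set G) ≤ Subgroup.normalizer (Y : Set G))
    (hTC : T ⊓ Subgroup.centralizer (Y : Set G) ≤ P) :
    ∀ (n : ℕ) (l : List G), l.length ≤ n →
      (∀ x ∈ l, x ∈ Subgroup.normalizer (T : Set G) ∨ x ∈ Subgroup.normalizer (P : Set G)) →
      Y.map (MulAut.conj l.prod).toMonoidHom ≤ P := by
  intro n
  induction n with
  | zero =>
    intro l hl _
    have : l = [] := List.length_eq_zero_iff.mp (Nat.le_zero.mp hl)
    subst this
    rw [List.prod_nil, conjMap_one]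
    exact hYP
  | succ n ih =>
    intro l hl hmem
    rcases Nat.lt_or_ge l.length (n + 1) with hlt | hge
    · exact ih l (Nat.lt_succ_iff.mp hlt) hmem
    have hlen : l.length = n + 1 := le_antisymm hl hge
    obtain ⟨x₁, l', rfl⟩ : ∃ x₁ l', l = x₁ :: l' := by
      cases l with
      | nil => simp at hlen
      | cons a t => exact ⟨a, t, rfl⟩
    have hl' : l'.length ≤ n := by
      simp only [List.length_cons] at hlen
      omega
    have hv : Y.map (MulAut.conj l'.prod).toMonoidHom ≤ P :=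
      ih l' hl' (fun x hx => hmem x (List.mem_cons_of_mem _ hx))
    have hx₁ := hmem x₁ List.mem_cons_self
    obtain ⟨l'', xr, hl''⟩ : ∃ l'' xr, x₁ :: l' = l'' ++ [xr] := by
      rcases List.eq_nil_or_concat (x₁ :: l') with h | ⟨l'', b, h⟩
      · exact absurd h (List.cons_ne_nil _ _)
      · exact ⟨l'', b, by rw [h, List.concat_eq_append]⟩
    have hl''len : l''.length ≤ n := by
      have := congrArg List.length hl''
      simp only [List.length_cons, List.length_append, List.length_nil] at this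
      omega
    have hmem'' : ∀ x ∈ l'', x ∈ Subgroup.normalizer (T : Set G) ∨
        x ∈ Subgroup.normalizer (P : Set G) := fun x hx =>
      hmem x (by rw [hl'']; exact List.mem_append_left _ hx)
    have hxr : xr ∈ Subgroup.normalizer (T : Set G) ∨ xr ∈ Subgroup.normalizer (P : Set G) :=
      hmem xr (by rw [hl'']; simp)
    have hu : Y.map (MulAut.conj (l''.prod)⁻¹).toMonoidHom ≤ P := by
      rw [List.prod_inv_reverse]
      apply ih
      · rw [List.length_reverse, List.length_map]; exact hl''len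
      · intro x hx
        rw [List.mem_reverse, List.mem_map] at hx
        obtain ⟨a, ha, rfl⟩ := hx
        rcases hmem'' a ha with h | h
        · exact Or.inl (Subgroup.inv_mem _ h)
        · exact Or.inr (Subgroup.inv_mem _ h)
    have hw1 : (x₁ :: l').prod = x₁ * l'.prod := List.prod_cons
    have hw2 : (x₁ :: l').prod = l''.prod * xr := by
      rw [hl'', List.prod_append, List.prod_singleton]
    generalize (x₁ :: l').prod = w at hw1 hw2 ⊢
    rcases hx₁ with hx₁ | hx₁
    · -- `x₁ ∈ N_G(T)`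
      have hwT : Y.map (MulAut.conj w).toMonoidHom ≤ T := by
        rw [hw1, conjMap_mul]
        calc (Y.map (MulAut.conj l'.prod).toMonoidHom).map (MulAut.conj x₁).toMonoidHom
            ≤ P.map (MulAut.conj x₁).toMonoidHom := conjMap_mono hv x₁
          _ ≤ T.map (MulAut.conj x₁).toMonoidHom := conjMap_mono hPT x₁
          _ = T := map_conj_eq_of_mem_normalizer hx₁
      have h2 : Y.map (MulAut.conj w).toMonoidHom ≤ Subgroup.normalizer (Y : Set G) :=
        hwT.trans hTY
      have hF : P ≤ (Subgroup.normalizer (Y : Set G)).map (MulAut.conj xr).toMonoidHom := by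
        rcases hxr with h | h
        · calc P ≤ T := hPT
            _ = T.map (MulAut.conj xr).toMonoidHom := (map_conj_eq_of_mem_normalizer h).symm
            _ ≤ _ := conjMap_mono hTY xr
        · rw [map_conj_eq_of_mem_normalizer (Subgroup.le_normalizer (hNP h))]
          exact hPT.trans hTY
      have h1 : Y ≤ Subgroup.normalizer
          ((Y.map (MulAut.conj w).toMonoidHom : Subgroup G) : Set G) := by
        rw [normalizer_map_conj', hw2, conjMap_mul]
        have h3 : Y ≤ P.map (MulAut.conj l''.prod).toMonoidHom := by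
          have := conjMap_le_iff.mp hu
          rwa [inv_inv] at this
        exact h3.trans (conjMap_mono hF _)
      have h3 := commutator_le_inf_of_le_normalizer h1 h2
      have h4 : ⁅Y, Y.map (MulAut.conj w).toMonoidHom⁆ = ⊥ := by
        by_contra hne
        exact hasym ⟨w, hne, h3⟩
      have h5 : Y.map (MulAut.conj w).toMonoidHom ≤ Subgroup.centralizer (Y : Set G) := by
        rw [Subgroup.commutator_comm] at h4
        exact Subgroup.commutator_eq_bot_iff_le_centralizer.mp h4
      exact (le_inf hwT h5).trans hTC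
    · -- `x₁ ∈ N_G(P)`
      rw [hw1, conjMap_mul]
      calc (Y.map (MulAut.conj l'.prod).toMonoidHom).map (MulAut.conj x₁).toMonoidHom
          ≤ P.map (MulAut.conj x₁).toMonoidHom := conjMap_mono hv x₁
        _ = P := map_conj_eq_of_mem_normalizer hx₁

/-- The word lemma on the join `N_G(T) ⊔ N_G(P)`. -/
theorem map_conj_le_of_mem_sup_of_asym {Y P T : Subgroup G} (hasym : ¬ IsSymmetricIn Y)
    (hYP : Y ≤ P) (hPT : P ≤ T) (hTY : T ≤ Subgroup.normalizer (Y : Set G))
    (hNP : Subgroup.normalizer (P : Set G) ≤ Subgroup.normalizer (Y : Set G))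
    (hTC : T ⊓ Subgroup.centralizer (Y : Set G) ≤ P) :
    ∀ w ∈ Subgroup.normalizer (T : Set G) ⊔ Subgroup.normalizer (P : Set G),
      Y.map (MulAut.conj w).toMonoidHom ≤ P := by
  intro w hw
  rw [Subgroup.sup_eq_closure] at hw
  have hw' : w ∈ (Subgroup.closure (((Subgroup.normalizer (T : Set G) : Subgroup G) : Set G) ∪
      ((Subgroup.normalizer (P : Set G) : Subgroup G) : Set G))).toSubmonoid := hw
  rw [Subgroup.closure_toSubmonoid] at hw'
  obtain ⟨l, hl, rfl⟩ := Submonoid.exists_list_of_mem_closure hw'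
  apply map_conj_prod_le_of_asym hasym hYP hPT hTY hNP hTC l.length l le_rfl
  intro x hx
  rcases hl x hx with (h | h) | h
  · exact Or.inl h
  · exact Or.inr h
  · rw [Set.mem_inv] at h
    rcases h with h | h
    · exact Or.inl (inv_mem_iff.mp h)
    · exact Or.inr (inv_mem_iff.mp h)

/-- The asymmetric setting: `S ≤ M ∈ 𝔐_G(S)`, `Y_M` asymmetric, and every `X ≥ M` with
`O_p(X) ≠ 1` lies in `M†`. -/
structure AsymSetup (S : Sylow p G) (M : Subgroup G) : Prop where
  hSM : (S : Subgroup G) ≤ M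
  hM : Cfsg.IsInFrakM p M
  hasym : ¬ Cfsg.IsSymmetricIn (Cfsg.largestPReducedOf p M)
  hdag : ∀ X : Subgroup G, M ≤ X → pCoreOf p X ≠ ⊥ →
    X ≤ M ⊔ Subgroup.centralizer ((largestPReducedOf p M : Subgroup G) : Set G)

theorem asymSetup_of (S : Sylow p G) (Q : Subgroup G) (hQp : IsPGroup p ↥Q)
    (hQ1 : Q ≠ ⊥) (hQ : Cfsg.IsLarge Q) (M : Subgroup G) (hSM : (S : Subgroup G) ≤ M)
    (hM : Cfsg.IsInFrakM p M) (hasym : ¬ Cfsg.IsSymmetricIn (Cfsg.largestPReducedOf p M)) :
    AsymSetup S M :=
  ⟨hSM, hM, hasym, fun X hMX hX => le_dagger_of_pCoreOf_ne_bot S Q hQp hQ1 hQ M hSM hM X hMX hX⟩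

namespace AsymSetup

variable {S : Sylow p G} {M : Subgroup G}

theorem largest_le_pCoreOf (_h : AsymSetup S M) : largestPReducedOf p M ≤ pCoreOf p M :=
  (largestPReducedOf_props M).1

theorem pCoreOf_le_sylow (h : AsymSetup S M) : pCoreOf p M ≤ (S : Subgroup G) :=
  Cfsg.Agent.Lib.Helper17.pCoreOf_le_sylow S h.hSM

theorem pCoreOf_eq (h : AsymSetup S M) : pCoreOf p M = (S : Subgroup G) ⊓
    Subgroup.centralizer ((largestPReducedOf p M : Subgroup G) : Set G) :=
  Cfsg.Agent.S2848.pCoreOf_eq_of_isInFrakM S M h.hSM h.hM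

theorem pCoreOf_le_centralizer (h : AsymSetup S M) : pCoreOf p M ≤
    Subgroup.centralizer ((largestPReducedOf p M : Subgroup G) : Set G) := by
  rw [h.pCoreOf_eq]; exact inf_le_right

theorem le_normalizer_largest (_h : AsymSetup S M) :
    M ≤ Subgroup.normalizer ((largestPReducedOf p M : Subgroup G) : Set G) :=
  le_normalizer_largestPReducedOf M

theorem dagger_le_normalizer_largest (h : AsymSetup S M) :
    M ⊔ Subgroup.centralizer ((largestPReducedOf p M : Subgroup G) : Set G) ≤
      Subgroup.normalizer ((largestPReducedOf p M : Subgroup G) : Set G) :=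
  sup_le h.le_normalizer_largest (Subgroup.centralizer_le_normalizer _)

theorem le_normalizer_centralizer (h : AsymSetup S M) :
    M ≤ Subgroup.normalizer ((Subgroup.centralizer
      ((largestPReducedOf p M : Subgroup G) : Set G) : Subgroup G) : Set G) :=
  h.le_normalizer_largest.trans (normalizer_le_normalizer_centralizer' _)

theorem dagger_le_normalizer_centralizer (h : AsymSetup S M) :
    M ⊔ Subgroup.centralizer ((largestPReducedOf p M : Subgroup G) : Set G) ≤
      Subgroup.normalizer ((Subgroup.centralizer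
        ((largestPReducedOf p M : Subgroup G) : Set G) : Subgroup G) : Set G) :=
  sup_le h.le_normalizer_centralizer Subgroup.le_normalizer

theorem le_normalizer_pCoreOf' (_h : AsymSetup S M) :
    M ≤ Subgroup.normalizer ((pCoreOf p M : Subgroup G) : Set G) :=
  le_normalizer_pCoreOf M

theorem pCoreOf_ne_bot (h : AsymSetup S M) : pCoreOf p M ≠ ⊥ :=
  (mem_charPSubgroups_iff.mp h.hM.1).1

/-- `N_G(O_p(M)) ≤ M†`. -/
theorem normalizer_pCoreOf_le_dagger (h : AsymSetup S M) :
    Subgroup.normalizer ((pCoreOf p M : Subgroup G) : Set G) ≤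
      M ⊔ Subgroup.centralizer ((largestPReducedOf p M : Subgroup G) : Set G) :=
  h.hdag _ h.le_normalizer_pCoreOf'
    (pCoreOf_ne_bot_of_le Subgroup.le_normalizer le_rfl (pCoreOf_isPGroup M) h.pCoreOf_ne_bot)

/-- For `O_p(M) ≤ T ≤ S`: `N_G(T) ≤ M†`. -/
theorem normalizer_le_dagger (h : AsymSetup S M) {T : Subgroup G}
    (hPT : pCoreOf p M ≤ T) (hTS : T ≤ (S : Subgroup G)) :
    Subgroup.normalizer (T : Set G) ≤
      M ⊔ Subgroup.centralizer ((largestPReducedOf p M : Subgroup G) : Set G) := by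
  by_cases hY1 : largestPReducedOf p M = ⊥
  · have : Subgroup.centralizer ((largestPReducedOf p M : Subgroup G) : Set G) = ⊤ := by
      rw [hY1, eq_top_iff]
      intro x _
      rw [Subgroup.mem_centralizer_iff]
      intro y hy
      have : y = 1 := by simpa using hy
      rw [this, one_mul, mul_one]
    rw [this, sup_top_eq]
    exact le_top
  have hNMd := h.normalizer_pCoreOf_le_dagger
  have hword := map_conj_le_of_mem_sup_of_asym h.hasym h.largest_le_pCoreOf hPT
    (hTS.trans (h.hSM.trans h.le_normalizer_largest))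
    (hNMd.trans h.dagger_le_normalizer_largest)
    (by rw [h.pCoreOf_eq]; exact inf_le_inf_right _ hTS)
  obtain ⟨R, hR⟩ : ∃ R : Subgroup G, R = Subgroup.normalizer (T : Set G) ⊔
      Subgroup.normalizer ((pCoreOf p M : Subgroup G) : Set G) := ⟨_, rfl⟩
  rw [← hR] at hword
  obtain ⟨B, hB⟩ : ∃ B : Subgroup G, B = ⨆ w : R,
      (largestPReducedOf p M).map (MulAut.conj (w : G)).toMonoidHom := ⟨_, rfl⟩
  have hle : ∀ w : R, (largestPReducedOf p M).map (MulAut.conj (w : G)).toMonoidHom ≤ B := by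
    intro w
    rw [hB]
    exact le_iSup (fun w : R => (largestPReducedOf p M).map (MulAut.conj (w : G)).toMonoidHom) w
  have hBP : B ≤ pCoreOf p M := by
    rw [hB]
    exact iSup_le (fun w => hword w w.2)
  have hYB : largestPReducedOf p M ≤ B := by
    have := hle ⟨1, R.one_mem⟩
    rwa [conjMap_one] at this
  have hB1 : B ≠ ⊥ := fun hB0 => hY1 (eq_bot_iff.mpr (hB0 ▸ hYB))
  have hBp : IsPGroup p B := (pCoreOf_isPGroup M).to_le hBP
  have hRB : R ≤ Subgroup.normalizer (B : Set G) := by
    intro r hr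
    apply mem_normalizer_of_map_conj_le
    rw [hB, Subgroup.map_iSup]
    apply iSup_le
    intro w
    rw [← conjMap_mul, ← hB]
    exact hle ⟨r * w, R.mul_mem hr w.2⟩
  have hMR : M ≤ R := by
    rw [hR]
    exact h.le_normalizer_pCoreOf'.trans le_sup_right
  have hBR : B ≤ R := hBP.trans ((pCoreOf_le M).trans hMR)
  have hRne : pCoreOf p R ≠ ⊥ := pCoreOf_ne_bot_of_le hBR hRB hBp hB1
  have hKR : Subgroup.normalizer (T : Set G) ≤ R := by
    rw [hR]; exact le_sup_left
  exact hKR.trans (h.hdag R hMR hRne)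

/-- For `O_p(M) ≤ T ≤ S`: `N_G(T) ≤ N_G(O_p(M))`. -/
theorem normalizer_le_normalizer_pCoreOf_of_le_sylow (h : AsymSetup S M) {T : Subgroup G}
    (hPT : pCoreOf p M ≤ T) (hTS : T ≤ (S : Subgroup G)) :
    Subgroup.normalizer (T : Set G) ≤ Subgroup.normalizer ((pCoreOf p M : Subgroup G) : Set G) := by
  intro k hk
  have hkMd := h.normalizer_le_dagger hPT hTS hk
  apply mem_normalizer_of_map_conj_le
  have h1 : (pCoreOf p M).map (MulAut.conj k).toMonoidHom ≤ (S : Subgroup G) := by
    calc (pCoreOf p M).map (MulAut.conj k).toMonoidHom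
        ≤ T.map (MulAut.conj k).toMonoidHom := conjMap_mono hPT k
      _ = T := map_conj_eq_of_mem_normalizer hk
      _ ≤ S := hTS
  have h2 : (pCoreOf p M).map (MulAut.conj k).toMonoidHom ≤
      Subgroup.centralizer ((largestPReducedOf p M : Subgroup G) : Set G) := by
    calc (pCoreOf p M).map (MulAut.conj k).toMonoidHom
        ≤ (Subgroup.centralizer ((largestPReducedOf p M : Subgroup G) : Set G)).map
            (MulAut.conj k).toMonoidHom := conjMap_mono h.pCoreOf_le_centralizer k
      _ = _ := map_conj_eq_of_mem_normalizer (h.dagger_le_normalizer_centralizer hkMd)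
  have h3 := le_inf h1 h2
  rw [← h.pCoreOf_eq] at h3
  exact h3

/-- For a `p`-subgroup `T` with `O_p(M) ≤ T ≤ N_G(O_p(M))`: `N_G(T) ≤ N_G(O_p(M))`. -/
theorem normalizer_le_normalizer_pCoreOf_of_le_normalizer (h : AsymSetup S M) {T : Subgroup G}
    (hT : IsPGroup p T) (hPT : pCoreOf p M ≤ T)
    (hTN : T ≤ Subgroup.normalizer ((pCoreOf p M : Subgroup G) : Set G)) :
    Subgroup.normalizer (T : Set G) ≤ Subgroup.normalizer ((pCoreOf p M : Subgroup G) : Set G) := by
  have hSN : (S : Subgroup G) ≤ Subgroup.normalizer ((pCoreOf p M : Subgroup G) : Set G) :=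
    h.hSM.trans h.le_normalizer_pCoreOf'
  obtain ⟨U, hTU, hUN⟩ := exists_sylow_between hT hTN S hSN
  obtain ⟨n, hn, hnS⟩ := exists_smul_eq_of_le S U hSN hUN
  have hT'S : T.map (MulAut.conj n⁻¹).toMonoidHom ≤ (S : Subgroup G) := by
    rw [conjMap_le_iff, inv_inv, ← sylow_smul_eq_map_conj, hnS]
    exact hTU
  have hPT' : pCoreOf p M ≤ T.map (MulAut.conj n⁻¹).toMonoidHom := by
    calc pCoreOf p M = (pCoreOf p M).map (MulAut.conj n⁻¹).toMonoidHom :=
          (map_conj_eq_of_mem_normalizer (Subgroup.inv_mem _ hn)).symm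
      _ ≤ _ := conjMap_mono hPT _
  have h3 := h.normalizer_le_normalizer_pCoreOf_of_le_sylow hPT' hT'S
  rw [normalizer_map_conj'] at h3
  have h4 := conjMap_le_iff.mp h3
  rw [inv_inv, map_conj_eq_of_mem_normalizer (Subgroup.le_normalizer hn)] at h4
  exact h4

/-- Every `p`-subgroup containing `O_p(M)` normalizes it. -/
theorem le_normalizer_pCoreOf_of_isPGroup (h : AsymSetup S M) {L : Subgroup G}
    (hL : IsPGroup p L) (hPL : pCoreOf p M ≤ L) :
    L ≤ Subgroup.normalizer ((pCoreOf p M : Subgroup G) : Set G) := by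
  by_contra hne
  have hlt : L ⊓ Subgroup.normalizer ((pCoreOf p M : Subgroup G) : Set G) < L :=
    lt_of_le_of_ne inf_le_left (fun e => hne (inf_eq_left.mp e))
  obtain ⟨t, htL, htN, htE⟩ := pgroup_normalizer_gt hL hlt
  have hE := h.normalizer_le_normalizer_pCoreOf_of_le_normalizer (hL.to_le inf_le_left)
    (le_inf hPL Subgroup.le_normalizer) inf_le_right
  exact htE ⟨htL, hE htN⟩

/-- `N_G(L) ≤ N_G(O_p(M))` for every `p`-subgroup `L ⊇ O_p(M)`. -/
theorem normalizer_le_normalizer_pCoreOf (h : AsymSetup S M) {L : Subgroup G}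
    (hL : IsPGroup p L) (hPL : pCoreOf p M ≤ L) :
    Subgroup.normalizer (L : Set G) ≤ Subgroup.normalizer ((pCoreOf p M : Subgroup G) : Set G) :=
  h.normalizer_le_normalizer_pCoreOf_of_le_normalizer hL hPL
    (h.le_normalizer_pCoreOf_of_isPGroup hL hPL)

/-- `O_p(M)` is weakly closed in `S` with respect to `G`. -/
theorem isWeaklyClosed_pCoreOf (h : AsymSetup S M) :
    IsWeaklyClosed (pCoreOf p M) (S : Subgroup G) :=
  isWeaklyClosed_of_normalizer_le (fun _ hR hPR => h.normalizer_le_normalizer_pCoreOf hR hPR)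
    S h.pCoreOf_le_sylow

theorem isWeaklyClosedSubgroup_pCoreOf (h : AsymSetup S M) :
    IsWeaklyClosedSubgroup p (pCoreOf p M) :=
  ⟨S, h.isWeaklyClosed_pCoreOf⟩

end AsymSetup

end Asym

end Cfsg.Agent.Lib.Helper17
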