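import Cfsg.Agent.Lib.Helper17.Asym
import Cfsg.Agent.Lib.Helper17.ChainStab
import Cfsg.Agent.Lib.Helper17.Commutator

set_option autoImplicit false
set_option linter.unusedSectionVars false

namespace Cfsg.Agent.Lib.Helper17

open Cfsg
open Cfsg.Agent.Lib.Helper9
open scoped commutatorElement

section Asym2

variable {G : Type*} [Group G] [Finite G] {p : ℕ} [Fact p.Prime]

theorem pCoreOf_map_conj_le (g : G) (K : Subgroup G) :
    (pCoreOf p K).map (MulAut.conj g).toMonoidHom ≤
      pCoreOf p (K.map (MulAut.conj g).toMonoidHom) := by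
  apply le_pCoreOf (conjMap_mono (pCoreOf_le K) g)
  · rw [normalizer_map_conj']
    exact conjMap_mono (le_normalizer_pCoreOf K) g
  · exact (pCoreOf_isPGroup K).map _

theorem pCoreOf_map_conj (g : G) (K : Subgroup G) :
    pCoreOf p (K.map (MulAut.conj g).toMonoidHom) =
      (pCoreOf p K).map (MulAut.conj g).toMonoidHom := by
  apply le_antisymm
  · have h := pCoreOf_map_conj_le (p := p) g⁻¹ (K.map (MulAut.conj g).toMonoidHom)
    rw [conjMap_inv_conjMap] at h
    have h2 := conjMap_le_iff.mp h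
    rwa [inv_inv] at h2
  · exact pCoreOf_map_conj_le g K

theorem isCharPSub_map_conj {L : Subgroup G} (hL : IsCharPSub p L) (g : G) :
    IsCharPSub p (L.map (MulAut.conj g).toMonoidHom) := by
  unfold IsCharPSub at hL ⊢
  rw [pCoreOf_map_conj, centralizer_map_conj,
    ← Subgroup.map_inf _ _ _ (MulAut.conj g).injective]
  exact Subgroup.map_mono hL

/-- `H` normalizes `chainStab D D₀` when it normalizes `D` and `D₀`. -/
theorem le_normalizer_chainStab {H D D₀ : Subgroup G}
    (hD : H ≤ Subgroup.normalizer (D : Set G)) (hD₀ : H ≤ Subgroup.normalizer (D₀ : Set G)) :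
    H ≤ Subgroup.normalizer ((chainStab D D₀ : Subgroup G) : Set G) := by
  intro h hh
  apply mem_normalizer_of_map_conj_le
  rintro _ ⟨x, hx, rfl⟩
  simp only [MulEquiv.coe_toMonoidHom, MulAut.conj_apply]
  exact conj_mem_chainStab (hD hh) (hD₀ hh) hx

/-- A criterion for characteristic `p`: `H ≤ L` with `L` of characteristic `p`, `P ≤ H` a
`p`-subgroup normalized by every `p`-subgroup containing it, and `H` has no proper `H`-invariant
subgroup containing `P`. -/
theorem isCharPSub_of_no_invariant {P L H : Subgroup G} (hL : IsCharPSub p L) (hP : IsPGroup p P)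
    (hPN : ∀ T : Subgroup G, IsPGroup p T → P ≤ T → T ≤ Subgroup.normalizer (P : Set G))
    (hHL : H ≤ L) (hPH : P ≤ H)
    (hgen : ∀ X : Subgroup G, P ≤ X → X ≤ H → H ≤ Subgroup.normalizer (X : Set G) → X = H) :
    IsCharPSub p H := by
  have hDp : IsPGroup p (pCoreOf p L) := pCoreOf_isPGroup L
  have hHD : H ≤ Subgroup.normalizer ((pCoreOf p L : Subgroup G) : Set G) :=
    hHL.trans (le_normalizer_pCoreOf L)
  have hHD₀ : H ≤ Subgroup.normalizer ((pCoreOf p L ⊓ H : Subgroup G) : Set G) := fun x hx =>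
    mem_normalizer_inf (hHD hx) (Subgroup.le_normalizer hx)
  have hD₀p : IsPGroup p (pCoreOf p L ⊓ H : Subgroup G) := hDp.to_le inf_le_left
  have hD₀R : pCoreOf p L ⊓ H ≤ pCoreOf p H := le_pCoreOf inf_le_right hHD₀ hD₀p
  have hPD : IsPGroup p (P ⊔ pCoreOf p L : Subgroup G) :=
    hP.to_sup_of_normal_right' hDp (hPH.trans hHD)
  have hDNP : pCoreOf p L ≤ Subgroup.normalizer (P : Set G) :=
    le_sup_right.trans (hPN _ hPD le_sup_left)
  have hPcs : P ≤ chainStab (pCoreOf p L) (pCoreOf p L ⊓ H) := by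
    intro x hx
    refine ⟨hHD (hPH hx), hHD₀ (hPH hx), ?_⟩
    intro u hu
    refine Subgroup.mem_inf.mpr ⟨?_, ?_⟩
    · have h1 : x * u⁻¹ * x⁻¹ ∈ pCoreOf p L :=
        (Subgroup.mem_normalizer_iff.mp (hHD (hPH hx)) u⁻¹).mp (Subgroup.inv_mem _ hu)
      have e : ⁅u, x⁆ = u * (x * u⁻¹ * x⁻¹) := by rw [commutatorElement_def]; group
      rw [e]
      exact Subgroup.mul_mem _ hu h1
    · have h1 : u * x * u⁻¹ ∈ P := (Subgroup.mem_normalizer_iff.mp (hDNP hu) x).mp hx
      have e : ⁅u, x⁆ = (u * x * u⁻¹) * x⁻¹ := by rw [commutatorElement_def]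
      rw [e]
      exact hPH (P.mul_mem h1 (P.inv_mem hx))
  have hX : H ⊓ chainStab (pCoreOf p L) (pCoreOf p L ⊓ H) = H := by
    apply hgen _ (le_inf hPH hPcs) inf_le_left
    intro x hx
    exact mem_normalizer_inf (Subgroup.le_normalizer hx) (le_normalizer_chainStab hHD hHD₀ hx)
  have hHcs : H ≤ chainStab (pCoreOf p L) (pCoreOf p L ⊓ H) := inf_eq_left.mp hX
  have hAp : IsPGroup p (H ⊓ Subgroup.centralizer ((pCoreOf p H : Subgroup G) : Set G) :
      Subgroup G) := by
    apply isPGroup_of_coprime_elements_trivial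
    intro a ha hcop
    obtain ⟨haH, haC⟩ := Subgroup.mem_inf.mp ha
    have hc : ∀ y ∈ pCoreOf p L ⊓ H, a * y = y * a := by
      intro y hy
      exact (Subgroup.mem_centralizer_iff.mp haC y (hD₀R hy)).symm
    have h1 := chainStab_centralizes hDp inf_le_left (hHcs haH) hcop hc
    have h2 : a ∈ L ⊓ Subgroup.centralizer ((pCoreOf p L : Subgroup G) : Set G) := by
      refine Subgroup.mem_inf.mpr ⟨hHL haH, ?_⟩
      rw [Subgroup.mem_centralizer_iff]
      intro y hy
      exact (h1 y hy).symm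
    exact eq_one_of_mem_pgroup_of_coprime hDp (hL h2) hcop
  have hHA : H ≤ Subgroup.normalizer ((H ⊓ Subgroup.centralizer
      ((pCoreOf p H : Subgroup G) : Set G) : Subgroup G) : Set G) := fun x hx =>
    mem_normalizer_inf (Subgroup.le_normalizer hx)
      (normalizer_le_normalizer_centralizer' _ (le_normalizer_pCoreOf H hx))
  exact le_pCoreOf inf_le_left hHA hAp

/-- Existence of members of `ℌ_G(O_p(M))` when `Y_M` is char-`p`-tall and asymmetric. -/
theorem exists_isInFrakH_of_asymSetup {S : Sylow p G} {M : Subgroup G} (h : AsymSetup S M)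
    (htall : IsCharPTall p (largestPReducedOf p M)) : ∃ H : Subgroup G, IsInFrakH p M H := by
  obtain ⟨T, L, hTL, hLchar, hYL⟩ := htall
  have hPC := h.pCoreOf_le_centralizer
  have hPp : IsPGroup p (pCoreOf p M) := pCoreOf_isPGroup M
  obtain ⟨T', hT'⟩ := (hPp.comap_subtype
    (K := Subgroup.centralizer ((largestPReducedOf p M : Subgroup G) : Set G))).exists_le_sylow
  obtain ⟨c, hc⟩ := MulAction.exists_smul_eq
    ↥(Subgroup.centralizer ((largestPReducedOf p M : Subgroup G) : Set G)) T T'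
  have hPL' : pCoreOf p M ≤ L.map (MulAut.conj (c : G)).toMonoidHom := by
    intro x hx
    rw [mem_map_conj]
    apply hTL
    have h1 : (⟨x, hPC hx⟩ : ↥(Subgroup.centralizer
        ((largestPReducedOf p M : Subgroup G) : Set G))) ∈ (T' : Subgroup _) :=
      hT' (Subgroup.mem_subgroupOf.mpr hx)
    rw [← hc, mem_smul_sylow] at h1
    exact ⟨_, h1, by simp⟩
  have hLchar' : IsCharPSub p L := (isCharPSub_iff L).mp hLchar
  have hL'char : IsCharPSub p (L.map (MulAut.conj (c : G)).toMonoidHom) :=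
    isCharPSub_map_conj hLchar' _
  have hYL' : ¬ largestPReducedOf p M ≤ pCoreOf p L := hYL
  have hYL'' : ¬ largestPReducedOf p M ≤ pCoreOf p (L.map (MulAut.conj (c : G)).toMonoidHom) := by
    intro hle
    rw [pCoreOf_map_conj] at hle
    have hcY : (c : G) ∈ Subgroup.normalizer ((largestPReducedOf p M : Subgroup G) : Set G) :=
      Subgroup.centralizer_le_normalizer _ c.2
    have h2 : (largestPReducedOf p M).map (MulAut.conj (c : G)).toMonoidHom ≤
        (pCoreOf p L).map (MulAut.conj (c : G)).toMonoidHom := by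
      rw [map_conj_eq_of_mem_normalizer hcY]
      exact hle
    exact hYL' ((Subgroup.map_le_map_iff_of_injective (MulAut.conj (c : G)).injective).mp h2)
  obtain ⟨H, hHK, hmin⟩ := Set.exists_min_image
    {X : Subgroup G | pCoreOf p M ≤ X ∧ X ≤ L.map (MulAut.conj (c : G)).toMonoidHom ∧
      ¬ largestPReducedOf p M ≤ pCoreOf p X}
    (fun X => Nat.card X) (Set.toFinite _) ⟨_, hPL', le_rfl, hYL''⟩
  obtain ⟨hPH, hHL', hYH⟩ := hHK
  have hmin' : ∀ X : Subgroup G, pCoreOf p M ≤ X → X ≤ H → X ≠ H →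
      largestPReducedOf p M ≤ pCoreOf p X := by
    intro X hPX hXH hne
    by_contra hY
    have := hmin X ⟨hPX, hXH.trans hHL', hY⟩
    exact hne (Subgroup.eq_of_le_of_card_ge hXH this)
  have hgen : ∀ X : Subgroup G, pCoreOf p M ≤ X → X ≤ H →
      H ≤ Subgroup.normalizer (X : Set G) → X = H := by
    intro X hPX hXH hHX
    by_contra hne
    have h1 := hmin' X hPX hXH hne
    have h2 : pCoreOf p X ≤ pCoreOf p H :=
      le_pCoreOf ((pCoreOf_le X).trans hXH) (hHX.trans (normalizer_le_normalizer_pCoreOf X))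
        (pCoreOf_isPGroup X)
    exact hYH (h1.trans h2)
  have hHchar : IsCharPSub p H :=
    isCharPSub_of_no_invariant hL'char hPp
      (fun T hT hPT => h.le_normalizer_pCoreOf_of_isPGroup hT hPT) hHL' hPH hgen
  refine ⟨H, ?_⟩
  unfold IsInFrakH
  refine ⟨(isCharPSub_iff H).mpr hHchar, hPH, hYH, ?_⟩
  intro P' hPP' hP'H
  exact hmin' P' hPP' hP'H.le hP'H.ne

end Asym2

end Cfsg.Agent.Lib.Helper17
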