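import Cfsg.Prelude.Def_LocalStructure
import Cfsg.Agent.Lib.Helper17.Conj

set_option autoImplicit false

namespace Cfsg.Agent.Lib.Helper17

open Cfsg

section PClosed

variable {G : Type*} [Group G] {p : ℕ}

/-- `p`-closedness transports along isomorphisms. -/
theorem isPClosed_of_mulEquiv {A B : Type*} [Group A] [Group B] (e : A ≃* B)
    (h : IsPClosed p A) : IsPClosed p B := by
  intro P
  have hr : (P : Subgroup B) ≤ e.toMonoidHom.range := by
    rw [MonoidHom.range_eq_top.mpr e.surjective]; exact le_top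
  have h1 : ((P : Subgroup B).comap e.toMonoidHom).Normal :=
    h (P.comapOfInjective e.toMonoidHom e.injective hr)
  have h2 := h1.map e.toMonoidHom e.surjective
  rwa [Subgroup.map_comap_eq_self_of_surjective e.surjective] at h2

/-- A `p`-closed subgroup `N` has a largest `p`-subgroup. -/
theorem exists_max_psub_of_isPClosed [Finite G] [Fact p.Prime] {N : Subgroup G}
    (h : IsPClosed p ↥N) : ∃ P : Subgroup G, P ≤ N ∧ IsPGroup p P ∧
      ∀ Y : Subgroup G, Y ≤ N → IsPGroup p Y → Y ≤ P := by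
  have P₀ : Sylow p ↥N := default
  refine ⟨(P₀ : Subgroup ↥N).map N.subtype, Subgroup.map_subtype_le _, P₀.2.map _, ?_⟩
  intro Y hYN hY
  obtain ⟨Q₀, hQ₀⟩ := (hY.comap_subtype (K := N)).exists_le_sylow
  haveI := Sylow.unique_of_normal P₀ (h P₀)
  have hQP : Q₀ = P₀ := Subsingleton.elim _ _
  rw [hQP] at hQ₀
  intro y hy
  exact ⟨⟨y, hYN hy⟩, hQ₀ (Subgroup.mem_subgroupOf.mpr hy), rfl⟩

/-- The largest `p`-subgroup of a `p`-closed subgroup `N` is normalized by `N_G(N)`. -/
theorem exists_max_psub_normalizer_of_isPClosed [Finite G] [Fact p.Prime] {N : Subgroup G}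
    (h : IsPClosed p ↥N) : ∃ P : Subgroup G, P ≤ N ∧ IsPGroup p P ∧
      (∀ Y : Subgroup G, Y ≤ N → IsPGroup p Y → Y ≤ P) ∧
      Subgroup.normalizer (N : Set G) ≤ Subgroup.normalizer (P : Set G) := by
  obtain ⟨P, hPN, hPp, hmax⟩ := exists_max_psub_of_isPClosed h
  refine ⟨P, hPN, hPp, hmax, ?_⟩
  intro g hg
  apply mem_normalizer_of_map_conj_le
  apply hmax _ _ (hPp.map _)
  have h1 : P.map (MulAut.conj g).toMonoidHom ≤ N.map (MulAut.conj g).toMonoidHom :=
    Subgroup.map_mono hPN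
  rwa [map_conj_eq_of_mem_normalizer hg] at h1

end PClosed

end Cfsg.Agent.Lib.Helper17
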