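import Cfsg.Prelude.Def_LocalStructure
import Cfsg.Agent.Lib.Helper17.Basic
import Cfsg.Agent.Lib.Helper17.PResidual

set_option autoImplicit false

namespace Cfsg.Agent.Lib.Helper17

open Cfsg

section PIrred

variable {H : Type*} [Group H] {p : ℕ}

theorem isPClosed_of_sylow_normal [Finite H] [Fact p.Prime] (T : Sylow p H)
    (hT : (T : Subgroup H).Normal) : IsPClosed p H := by
  intro P
  have := Sylow.unique_of_normal T hT
  have hP : P = T := Subsingleton.elim _ _
  rw [hP]; exact hT

/-- A `p`-subgroup of a `p`-closed normal subgroup `K` of `H` lies in `O_p(H)`. -/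
theorem le_pCore_of_le_isPClosed_normal [Finite H] [Fact p.Prime] {K Y : Subgroup H}
    (hK : K.Normal) (hKcl : IsPClosed p K) (hYK : Y ≤ K) (hY : IsPGroup p Y) :
    Y ≤ pCore p H := by
  have hYK' : IsPGroup p (Y.subgroupOf K) := hY.comap_subtype
  obtain ⟨Q, hQ⟩ := hYK'.exists_le_sylow
  have hQn : (Q : Subgroup K).Normal := hKcl Q
  have hQc : (Q : Subgroup K).Characteristic := Sylow.characteristic_of_normal Q hQn
  have hQH : ((Q : Subgroup K).map K.subtype).Normal := inferInstance
  have hQp : IsPGroup p ((Q : Subgroup K).map K.subtype) := Q.2.map _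
  refine le_trans ?_ (le_pCore hQH hQp)
  intro y hy
  exact ⟨⟨y, hYK hy⟩, hQ (Subgroup.mem_subgroupOf.mpr hy), rfl⟩

/-- In a `p`-irreducible group, `O^p(H)` lies in the normal closure of every `p`-subgroup not
contained in `O_p(H)`. -/
theorem pResidual_le_normalClosure [Finite H] [Fact p.Prime] (hH : IsPIrreducible p H)
    {Y : Subgroup H} (hY : IsPGroup p Y) (hYO : ¬ Y ≤ pCore p H) :
    pResidual p H ≤ Subgroup.normalClosure (Y : Set H) := by
  apply hH.2 _ Subgroup.normalClosure_normal
  intro hcl
  exact hYO (le_pCore_of_le_isPClosed_normal Subgroup.normalClosure_normal hcl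
    Subgroup.le_normalClosure hY)

theorem sylow_not_le_pCore [Finite H] [Fact p.Prime] (hH : ¬ IsPClosed p H) (T : Sylow p H) :
    ¬ (T : Subgroup H) ≤ pCore p H := by
  intro h
  apply hH
  apply isPClosed_of_sylow_normal T
  have : (T : Subgroup H) = pCore p H := le_antisymm h (pCore_le_sylow T)
  rw [this]
  exact Cfsg.Agent.Lib.Helper17.pCore_normal

theorem normalClosure_sylow_eq_top [Finite H] [Fact p.Prime] (hH : IsPIrreducible p H)
    (T : Sylow p H) : Subgroup.normalClosure ((T : Subgroup H) : Set H) = ⊤ := by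
  have h1 := pResidual_le_normalClosure hH T.2 (sylow_not_le_pCore hH.1 T)
  have h2 : (T : Subgroup H) ≤ Subgroup.normalClosure ((T : Subgroup H) : Set H) :=
    Subgroup.le_normalClosure
  rw [eq_top_iff, ← sylow_sup_pResidual T]
  exact sup_le h2 h1

end PIrred

end Cfsg.Agent.Lib.Helper17
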