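import Cfsg.Agent.Lib.Helper17.Asym2
import Cfsg.Agent.Lib.Helper17.PResidual
import Cfsg.Agent.Lib.Helper17.PClosed
import Cfsg.Agent.Lib.Helper17.PIrred
import Cfsg.Agent.Lib.Helper17.FrakM3
import Cfsg.Agent.Lib.Helper9.Misc

set_option autoImplicit false
set_option linter.unusedSectionVars false

namespace Cfsg.Agent.Lib.Helper17

open Cfsg
open Cfsg.Agent.Lib.Helper9
open scoped commutatorElement

section Asym3

variable {G : Type*} [Group G] [Finite G] {p : ℕ} [Fact p.Prime]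

/-- In `X ⊔ T` with `T` a `p`-group normalizing `X`, the `p'`-elements lie in `X`. -/
theorem mem_of_coprime_of_mem_sup_pgroup {X T : Subgroup G} (hT : IsPGroup p T)
    (hTX : T ≤ Subgroup.normalizer (X : Set G)) {a : G} (ha : a ∈ X ⊔ T)
    (hcop : (orderOf a).Coprime p) : a ∈ X := by
  obtain ⟨x, hx, t, ht, rfl⟩ := (mem_sup_of_le_normalizer hTX).mp ha
  obtain ⟨k, hk⟩ := hT ⟨t, ht⟩
  have hk' : t ^ p ^ k = 1 := by
    have := congrArg Subtype.val hk
    simpa using this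
  have hpow : ∀ n : ℕ, ∃ x' ∈ X, (x * t) ^ n = x' * t ^ n := by
    intro n
    induction n with
    | zero => exact ⟨1, X.one_mem, by simp⟩
    | succ n ih =>
      obtain ⟨x', hx', e⟩ := ih
      have htn : t ^ n ∈ Subgroup.normalizer (X : Set G) := Subgroup.pow_mem _ (hTX ht) n
      have hconj : t ^ n * x * (t ^ n)⁻¹ ∈ X := (Subgroup.mem_normalizer_iff.mp htn x).mp hx
      refine ⟨x' * (t ^ n * x * (t ^ n)⁻¹), X.mul_mem hx' hconj, ?_⟩
      rw [pow_succ, e, pow_succ]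
      group
  obtain ⟨x', hx', e⟩ := hpow (p ^ k)
  rw [hk', mul_one] at e
  have h1 : (x * t) ^ p ^ k ∈ X := by rw [e]; exact hx'
  have hcop' : (p ^ k).Coprime (orderOf (x * t)) := (Nat.Coprime.pow_right k hcop).symm
  obtain ⟨m, hm⟩ := exists_pow_eq_self_of_coprime hcop'
  rw [← hm]
  exact X.pow_mem h1 m

/-- If `X ⊔ T = H` with `T` a `p`-group normalizing `X`, then `O^p(H) ≤ X`. -/
theorem pResidual_le_of_sup_pgroup_eq {X T H : Subgroup G} (hT : IsPGroup p T)
    (hTX : T ≤ Subgroup.normalizer (X : Set G)) (h : X ⊔ T = H) :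
    (pResidual p ↥H).map H.subtype ≤ X := by
  rw [map_subtype_pResidual, Subgroup.closure_le]
  rintro a ⟨haH, hcop⟩
  rw [← h] at haH
  exact mem_of_coprime_of_mem_sup_pgroup hT hTX haH hcop

/-- Every `p`-subgroup of a `p`-closed subgroup `N` lies in `O_p(N)`. -/
theorem le_pCoreOf_of_isPClosed {N R : Subgroup G} (hcl : IsPClosed p ↥N) (hRN : R ≤ N)
    (hR : IsPGroup p R) : R ≤ pCoreOf p N := by
  obtain ⟨P, hPN, hPp, hmax, hnorm⟩ := exists_max_psub_normalizer_of_isPClosed hcl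
  exact (hmax R hRN hR).trans (le_pCoreOf hPN (Subgroup.le_normalizer.trans hnorm) hPp)

/-- A subgroup all of whose `p`-subgroups lie in its `O_p` is `p`-closed. -/
theorem isPClosed_of_forall_le_pCoreOf {X : Subgroup G}
    (h : ∀ R : Subgroup G, R ≤ X → IsPGroup p R → R ≤ pCoreOf p X) : IsPClosed p ↥X := by
  intro T
  have h1 : (T : Subgroup ↥X).map X.subtype ≤ pCoreOf p X :=
    h _ (Subgroup.map_subtype_le _) (T.2.map _)
  have h2 : (T : Subgroup ↥X) ≤ pCore p ↥X :=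
    (Subgroup.map_le_map_iff_of_injective X.subtype_injective).mp h1
  have h3 : (T : Subgroup ↥X) = pCore p ↥X := le_antisymm h2 (pCore_le_sylow T)
  rw [h3]
  exact Cfsg.Agent.Lib.Helper17.pCore_normal

/-- `H ∈ ℌ` has no proper `H`-invariant subgroup containing `O_p(M)`. -/
theorem frakH_eq_of_invariant {M H X : Subgroup G} (hH : IsInFrakH p M H)
    (hPX : pCoreOf p M ≤ X) (hXH : X ≤ H) (hHX : H ≤ Subgroup.normalizer (X : Set G)) :
    X = H := by
  obtain ⟨-, -, hYH, hmin⟩ := hH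
  by_contra hne
  have h1 := hmin X hPX (lt_of_le_of_ne hXH hne)
  have h2 : pCoreOf p X ≤ pCoreOf p H :=
    le_pCoreOf ((pCoreOf_le X).trans hXH)
      (hHX.trans (Cfsg.Agent.Lib.Helper17.normalizer_le_normalizer_pCoreOf X)) (pCoreOf_isPGroup X)
  exact hYH (h1.trans h2)

/-- For `H ∈ ℌ` and an `H`-invariant subgroup `X ≥ Y_M` of `H`: `H = X·O_p(M)`. -/
theorem frakH_sup_eq {M H X : Subgroup G} (hH : IsInFrakH p M H)
    (hYX : largestPReducedOf p M ≤ X) (hXH : X ≤ H)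
    (hHX : H ≤ Subgroup.normalizer (X : Set G)) : X ⊔ pCoreOf p M = H := by
  obtain ⟨-, hPH, hYH, hmin⟩ := hH
  by_contra hne
  have hle : X ⊔ pCoreOf p M ≤ H := sup_le hXH hPH
  have h1 := hmin _ le_sup_right (lt_of_le_of_ne hle hne)
  have h2 : pCoreOf p (X ⊔ pCoreOf p M) ⊓ X ≤ pCoreOf p X := by
    apply le_pCoreOf inf_le_right _ ((pCoreOf_isPGroup _).to_le inf_le_left)
    intro x hx
    exact mem_normalizer_inf (le_normalizer_pCoreOf (X ⊔ pCoreOf p M) (Subgroup.mem_sup_left hx))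
      (Subgroup.le_normalizer hx)
  have h3 : pCoreOf p X ≤ pCoreOf p H :=
    le_pCoreOf ((pCoreOf_le X).trans hXH)
      (hHX.trans (Cfsg.Agent.Lib.Helper17.normalizer_le_normalizer_pCoreOf X)) (pCoreOf_isPGroup X)
  exact hYH ((le_inf h1 hYX).trans (h2.trans h3))

/-- For `H ∈ ℌ` and `N ⊴ H` with `N·O_p(M) ≠ H`: `Y_M` acts trivially on `N / O_p(N)`. -/
theorem frakH_largest_le_chainStab {M H N : Subgroup G} (hH : IsInFrakH p M H) (hNH : N ≤ H)
    (hHN : H ≤ Subgroup.normalizer (N : Set G)) (hne : N ⊔ pCoreOf p M ≠ H) :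
    largestPReducedOf p M ≤ chainStab N (pCoreOf p N) := by
  obtain ⟨-, hPH, hYH, hmin⟩ := hH
  have hYP := (largestPReducedOf_props (p := p) M).1
  have hle : N ⊔ pCoreOf p M ≤ H := sup_le hNH hPH
  have hYU := hmin _ le_sup_right (lt_of_le_of_ne hle hne)
  have hHD₁ : H ≤ Subgroup.normalizer ((pCoreOf p N : Subgroup G) : Set G) :=
    hHN.trans (Cfsg.Agent.Lib.Helper17.normalizer_le_normalizer_pCoreOf N)
  have hUN : pCoreOf p (N ⊔ pCoreOf p M) ⊓ N ≤ pCoreOf p N := by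
    apply le_pCoreOf inf_le_right _ ((pCoreOf_isPGroup _).to_le inf_le_left)
    intro x hx
    exact mem_normalizer_inf (le_normalizer_pCoreOf (N ⊔ pCoreOf p M) (Subgroup.mem_sup_left hx))
      (Subgroup.le_normalizer hx)
  intro y hy
  have hyH : y ∈ H := hPH (hYP hy)
  refine ⟨hHN hyH, hHD₁ hyH, ?_⟩
  intro n hn
  apply hUN
  refine Subgroup.mem_inf.mpr ⟨?_, ?_⟩
  · have hnU : n ∈ Subgroup.normalizer
        ((pCoreOf p (N ⊔ pCoreOf p M) : Subgroup G) : Set G) :=
      le_normalizer_pCoreOf (N ⊔ pCoreOf p M) (Subgroup.mem_sup_left hn)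
    have h1 : n * y * n⁻¹ ∈ pCoreOf p (N ⊔ pCoreOf p M) :=
      (Subgroup.mem_normalizer_iff.mp hnU y).mp (hYU hy)
    have e : ⁅n, y⁆ = (n * y * n⁻¹) * y⁻¹ := by rw [commutatorElement_def]
    rw [e]
    exact Subgroup.mul_mem _ h1 (Subgroup.inv_mem _ (hYU hy))
  · have h1 : y * n⁻¹ * y⁻¹ ∈ N :=
      (Subgroup.mem_normalizer_iff.mp (hHN hyH) n⁻¹).mp (N.inv_mem hn)
    have e : ⁅n, y⁆ = n * (y * n⁻¹ * y⁻¹) := by rw [commutatorElement_def]; group
    rw [e]
    exact N.mul_mem hn h1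

/-- For `H ∈ ℌ` and `N ⊴ H` with `N·O_p(M) ≠ H`: `O^p(H)` acts trivially on `N / O_p(N)`. -/
theorem frakH_pResidual_le_chainStab {M H N : Subgroup G} (hH : IsInFrakH p M H) (hNH : N ≤ H)
    (hHN : H ≤ Subgroup.normalizer (N : Set G)) (hne : N ⊔ pCoreOf p M ≠ H) :
    (pResidual p ↥H).map H.subtype ≤ chainStab N (pCoreOf p N) := by
  have hYcs := frakH_largest_le_chainStab hH hNH hHN hne
  have hPH : pCoreOf p M ≤ H := hH.2.1
  have hYP := (largestPReducedOf_props (p := p) M).1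
  have hHD₁ : H ≤ Subgroup.normalizer ((pCoreOf p N : Subgroup G) : Set G) :=
    hHN.trans (Cfsg.Agent.Lib.Helper17.normalizer_le_normalizer_pCoreOf N)
  have hinv : H ≤ Subgroup.normalizer
      ((H ⊓ chainStab N (pCoreOf p N) : Subgroup G) : Set G) := fun x hx =>
    mem_normalizer_inf (Subgroup.le_normalizer hx) (le_normalizer_chainStab hHN hHD₁ hx)
  have hX₀ : (H ⊓ chainStab N (pCoreOf p N)) ⊔ pCoreOf p M = H :=
    frakH_sup_eq hH (le_inf (hYP.trans hPH) hYcs) inf_le_left hinv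
  exact (pResidual_le_of_sup_pgroup_eq (pCoreOf_isPGroup M) (hPH.trans hinv) hX₀).trans
    inf_le_right

/-- For `H ∈ ℌ` and `N ⊴ H` with `N·O_p(M) ≠ H`: `N` is `p`-closed. -/
theorem frakH_isPClosed_of_sup_ne {M H N : Subgroup G} (hH : IsInFrakH p M H) (hNH : N ≤ H)
    (hHN : H ≤ Subgroup.normalizer (N : Set G)) (hne : N ⊔ pCoreOf p M ≠ H) :
    IsPClosed p ↥N := by
  have hR := frakH_pResidual_le_chainStab hH hNH hHN hne
  intro T
  have hT : Subgroup.normalizer ((T : Subgroup ↥N) : Set ↥N) = ⊤ := by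
    rw [eq_top_iff, ← sylow_sup_pResidual T]
    apply sup_le Subgroup.le_normalizer
    intro r hr
    have hrG : (r : G) ∈ chainStab N (pCoreOf p N) := by
      have h1 : (r : G) ∈ (pResidual p ↥N).map N.subtype := ⟨r, hr, rfl⟩
      rw [map_subtype_pResidual] at h1
      have h2 : Subgroup.closure {x : G | x ∈ N ∧ (orderOf x).Coprime p} ≤
          Subgroup.closure {x : G | x ∈ H ∧ (orderOf x).Coprime p} :=
        Subgroup.closure_mono (fun x hx => ⟨hNH hx.1, hx.2⟩)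
      have h3 := h2 h1
      rw [← map_subtype_pResidual] at h3
      exact hR h3
    apply mem_normalizer_of_map_conj_le
    rintro _ ⟨t, ht, rfl⟩
    simp only [MulEquiv.coe_toMonoidHom, MulAut.conj_apply]
    have h4 : ⁅(t : G), (r : G)⁆ ∈ pCoreOf p N := hrG.2.2 (t : G) t.2
    obtain ⟨d, hd, hde⟩ := h4
    have hd' : d = ⁅t, r⁆ := Subtype.ext (by simpa [commutatorElement_def] using hde)
    have hdT : d ∈ (T : Subgroup ↥N) := pCore_le_sylow T hd
    have e : r * t * r⁻¹ = d⁻¹ * t := by rw [hd', commutatorElement_def]; group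
    rw [e]
    exact Subgroup.mul_mem _ (Subgroup.inv_mem _ hdT) ht
  exact Subgroup.normalizer_eq_top_iff.mp hT

/-- `H ∈ ℌ` is `p`-irreducible, in ambient form. -/
theorem frakH_pResidual_le {M H N : Subgroup G} (hH : IsInFrakH p M H) (hNH : N ≤ H)
    (hHN : H ≤ Subgroup.normalizer (N : Set G)) (hcl : ¬ IsPClosed p ↥N) :
    (pResidual p ↥H).map H.subtype ≤ N := by
  by_cases hne : N ⊔ pCoreOf p M = H
  · exact pResidual_le_of_sup_pgroup_eq (pCoreOf_isPGroup M) (hH.2.1.trans hHN) hne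
  · exact absurd (frakH_isPClosed_of_sup_ne hH hNH hHN hne) hcl

/-- For `H ∈ ℌ`, `O^p(H)` does not act trivially on `Y_M` modulo `O_p(H)`. -/
theorem frakH_not_commutator_le {M H : Subgroup G} (hH : IsInFrakH p M H)
    (hc : ∀ r ∈ (pResidual p ↥H).map H.subtype, ∀ y ∈ largestPReducedOf p M,
      ⁅r, y⁆ ∈ pCoreOf p H) : False := by
  have hPH : pCoreOf p M ≤ H := hH.2.1
  have hYH : ¬ largestPReducedOf p M ≤ pCoreOf p H := hH.2.2.1
  have hYP := (largestPReducedOf_props (p := p) M).1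
  have hPp : IsPGroup p (pCoreOf p M) := pCoreOf_isPGroup M
  obtain ⟨T₀, hT₀⟩ := (hPp.comap_subtype (K := H)).exists_le_sylow
  have hsup := sylow_sup_pResidual T₀
  have hRn : (T₀ : Subgroup ↥H).map H.subtype ≤ Subgroup.normalizer
      (((pResidual p ↥H).map H.subtype : Subgroup G) : Set G) := by
    intro t ht
    have htH : t ∈ H := Subgroup.map_subtype_le _ ht
    apply mem_normalizer_of_map_conj_le
    rintro _ ⟨_, ⟨r, hr, rfl⟩, rfl⟩
    refine ⟨⟨t, htH⟩ * r * ⟨t, htH⟩⁻¹, ?_, by simp [MulAut.conj_apply]⟩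
    exact (pResidual_normal (p := p) (G := ↥H)).conj_mem r hr _
  have hDT : pCoreOf p H ≤ (T₀ : Subgroup ↥H).map H.subtype :=
    Subgroup.map_mono (pCore_le_sylow T₀)
  have hPT : pCoreOf p M ≤ (T₀ : Subgroup ↥H).map H.subtype := by
    intro x hx
    exact ⟨⟨x, hPH hx⟩, hT₀ (Subgroup.mem_subgroupOf.mpr hx), rfl⟩
  have hconj : ∀ h ∈ H, (largestPReducedOf p M).map (MulAut.conj h).toMonoidHom ≤
      (T₀ : Subgroup ↥H).map H.subtype := by
    intro h hh
    have hh' : h ∈ (T₀ : Subgroup ↥H).map H.subtype ⊔ (pResidual p ↥H).map H.subtype := by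
      rw [← Subgroup.map_sup, hsup, ← MonoidHom.range_eq_map, Subgroup.range_subtype]
      exact hh
    obtain ⟨t, ht, r, hr, rfl⟩ := mem_sup_of_le_normalizer' hRn hh'
    rintro _ ⟨y, hy, rfl⟩
    simp only [MulEquiv.coe_toMonoidHom, MulAut.conj_apply]
    have h1 : ⁅r, y⁆ ∈ (T₀ : Subgroup ↥H).map H.subtype := hDT (hc r hr y hy)
    have h2 : y ∈ (T₀ : Subgroup ↥H).map H.subtype := hPT (hYP hy)
    have e : t * r * y * (t * r)⁻¹ = t * (⁅r, y⁆ * y) * t⁻¹ := by
      rw [commutatorElement_def]; group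
    rw [e]
    exact Subgroup.mul_mem _ (Subgroup.mul_mem _ ht (Subgroup.mul_mem _ h1 h2))
      (Subgroup.inv_mem _ ht)
  obtain ⟨B, hB⟩ : ∃ B : Subgroup G, B = ⨆ h : H,
      (largestPReducedOf p M).map (MulAut.conj (h : G)).toMonoidHom := ⟨_, rfl⟩
  have hle : ∀ h : H, (largestPReducedOf p M).map (MulAut.conj (h : G)).toMonoidHom ≤ B := by
    intro h
    rw [hB]
    exact le_iSup (fun h : H => (largestPReducedOf p M).map (MulAut.conj (h : G)).toMonoidHom) h
  have hBT : B ≤ (T₀ : Subgroup ↥H).map H.subtype := by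
    rw [hB]
    exact iSup_le (fun h => hconj h h.2)
  have hYB : largestPReducedOf p M ≤ B := by
    have := hle ⟨1, H.one_mem⟩
    rwa [conjMap_one] at this
  have hBp : IsPGroup p B := (T₀.2.map H.subtype).to_le hBT
  have hHB : H ≤ Subgroup.normalizer (B : Set G) := by
    intro r hr
    apply mem_normalizer_of_map_conj_le
    rw [hB, Subgroup.map_iSup]
    apply iSup_le
    intro w
    rw [← conjMap_mul, ← hB]
    exact hle ⟨r * w, H.mul_mem hr w.2⟩
  have hBH : B ≤ H := hBT.trans (Subgroup.map_subtype_le _)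
  exact hYH (hYB.trans (le_pCoreOf hBH hHB hBp))

end Asym3

end Cfsg.Agent.Lib.Helper17
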