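import Mathlib.GroupTheory.Subgroup.Centralizer
import Mathlib.Algebra.Group.Subgroup.Basic
import Cfsg.Prelude.Def_Transfer

set_option autoImplicit false

namespace Cfsg.Agent.Lib.Helper17

open Cfsg

section NormalClosure

variable {G : Type*} [Group G]

/-- The normal closure of `Y` in `N` (both subgroups of `G`, `Y ≤ N`), viewed in `G`, is generated
by the `N`-conjugates of the elements of `Y`. -/
theorem map_normalClosure_subgroupOf {Y N : Subgroup G} (hYN : Y ≤ N) :
    (Subgroup.normalClosure ((Y.subgroupOf N : Subgroup ↥N) : Set ↥N)).map N.subtype =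
      Subgroup.closure {x : G | ∃ n ∈ N, ∃ y ∈ Y, x = n * y * n⁻¹} := by
  unfold Subgroup.normalClosure
  rw [MonoidHom.map_closure]
  congr 1
  ext x
  constructor
  · rintro ⟨a, ha, rfl⟩
    rw [Group.mem_conjugatesOfSet_iff] at ha
    obtain ⟨b, hb, hba⟩ := ha
    obtain ⟨c, hc⟩ := isConj_iff.mp hba
    refine ⟨c, c.2, b, Subgroup.mem_subgroupOf.mp hb, ?_⟩
    rw [← hc]
    simp
  · rintro ⟨n, hn, y, hy, rfl⟩
    refine ⟨⟨n, hn⟩ * ⟨y, hYN hy⟩ * ⟨n, hn⟩⁻¹, ?_, by simp⟩
    rw [Group.mem_conjugatesOfSet_iff]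
    exact ⟨⟨y, hYN hy⟩, Subgroup.mem_subgroupOf.mpr hy, isConj_iff.mpr ⟨⟨n, hn⟩, rfl⟩⟩

/-- A subgroup generated by pairwise commuting elements of order dividing `p` is elementary
abelian. -/
theorem isElementaryAbelian_closure {p : ℕ} {k : Set G}
    (hcomm : ∀ x ∈ k, ∀ y ∈ k, x * y = y * x) (hexp : ∀ x ∈ k, x ^ p = 1) :
    IsElementaryAbelian p (Subgroup.closure k) := by
  have hc : IsMulCommutative (Subgroup.closure k) := Subgroup.isMulCommutative_closure hcomm
  refine ⟨hc, ?_⟩
  intro a ha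
  induction ha using Subgroup.closure_induction with
  | mem x hx => exact hexp x hx
  | one => exact one_pow p
  | mul x y hx hy ihx ihy =>
    have hxy : Commute x y := by
      have := hc.is_comm.comm (⟨x, hx⟩ : Subgroup.closure k) ⟨y, hy⟩
      exact congrArg Subtype.val this
    rw [hxy.mul_pow, ihx, ihy, one_mul]
  | inv x _ ihx => rw [inv_pow, ihx, inv_one]

end NormalClosure

end Cfsg.Agent.Lib.Helper17
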