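import Cfsg.Agent.Lib.Helper17.Asym3
import Cfsg.Agent.Lib.Helper17.NormalClosure

set_option autoImplicit false
set_option linter.unusedSectionVars false

namespace Cfsg.Agent.Lib.Helper17

open Cfsg
open Cfsg.Agent.Lib.Helper9
open scoped commutatorElement

section Asym4

variable {G : Type*} [Group G] [Finite G] {p : ℕ} [Fact p.Prime]

/-- If `K ≤ H` contains (the image of) a Sylow `p`-subgroup of `H`, every Sylow `p`-subgroup of
`K` is a Sylow `p`-subgroup of `H`. -/
theorem exists_sylow_map_eq {K H : Subgroup G} (hKH : K ≤ H)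
    (T₀ : Sylow p ↥H) (hT₀ : (T₀ : Subgroup ↥H).map H.subtype ≤ K) (T : Sylow p ↥K) :
    ∃ P' : Sylow p ↥H, (P' : Subgroup ↥H).map H.subtype = (T : Subgroup ↥K).map K.subtype := by
  have c0 : Nat.card (T₀ : Subgroup ↥H) = p ^ (Nat.card ↥H).factorization p :=
    T₀.card_eq_multiplicity
  have cT : Nat.card (T : Subgroup ↥K) = p ^ (Nat.card ↥K).factorization p :=
    T.card_eq_multiplicity
  have h1 : Nat.card ((T₀ : Subgroup ↥H).map H.subtype) = Nat.card (T₀ : Subgroup ↥H) :=
    (Nat.card_congr ((T₀ : Subgroup ↥H).equivMapOfInjective _ H.subtype_injective).toEquiv).symm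
  have h2 : Nat.card ((T₀ : Subgroup ↥H).map H.subtype) ∣ Nat.card ↥K :=
    Subgroup.card_dvd_of_le hT₀
  have h3 : Nat.card ↥K ∣ Nat.card ↥H := Subgroup.card_dvd_of_le hKH
  have hK0 : Nat.card ↥K ≠ 0 := Nat.card_pos.ne'
  have hH0 : Nat.card ↥H ≠ 0 := Nat.card_pos.ne'
  have h4 : (Nat.card ↥H).factorization p ≤ (Nat.card ↥K).factorization p := by
    apply ((Fact.out : p.Prime).pow_dvd_iff_le_factorization hK0).mp
    rw [← c0, ← h1]
    exact h2
  have h5 : (Nat.card ↥K).factorization p ≤ (Nat.card ↥H).factorization p :=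
    (Nat.factorization_le_iff_dvd hK0 hH0).mpr h3 p
  have h6 : Nat.card (T : Subgroup ↥K) = p ^ (Nat.card ↥H).factorization p := by
    rw [cT, le_antisymm h5 h4]
  have hT'H : (T : Subgroup ↥K).map K.subtype ≤ H := (Subgroup.map_subtype_le _).trans hKH
  have c1 : Nat.card (((T : Subgroup ↥K).map K.subtype).subgroupOf H) =
      p ^ (Nat.card ↥H).factorization p := by
    rw [Nat.card_congr (Subgroup.subgroupOfEquivOfLe hT'H).toEquiv, ← h6]
    exact (Nat.card_congr ((T : Subgroup ↥K).equivMapOfInjective _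
      K.subtype_injective).toEquiv).symm
  refine ⟨Sylow.ofCard (((T : Subgroup ↥K).map K.subtype).subgroupOf H) c1, ?_⟩
  rw [Sylow.coe_ofCard]
  exact Subgroup.map_subgroupOf_eq_of_le hT'H

/-- `H` normalizes (the image of) `O^p(H)`. -/
theorem le_normalizer_map_pResidual (H : Subgroup G) :
    H ≤ Subgroup.normalizer (((pResidual p ↥H).map H.subtype : Subgroup G) : Set G) := by
  intro t htH
  apply mem_normalizer_of_map_conj_le
  rintro _ ⟨_, ⟨r, hr, rfl⟩, rfl⟩
  refine ⟨⟨t, htH⟩ * r * ⟨t, htH⟩⁻¹, ?_, by simp [MulAut.conj_apply]⟩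
  exact (pResidual_normal (p := p) (G := ↥H)).conj_mem r hr _

/-- `N` normalizes the subgroup generated by the `N`-conjugates of the elements of `Y`. -/
theorem le_normalizer_closure_conj (Y N : Subgroup G) :
    N ≤ Subgroup.normalizer ((Subgroup.closure
      {x : G | ∃ n ∈ N, ∃ y ∈ Y, x = n * y * n⁻¹} : Subgroup G) : Set G) := by
  intro h hh
  apply mem_normalizer_of_map_conj_le
  rw [MonoidHom.map_closure, Subgroup.closure_le]
  rintro _ ⟨_, ⟨n, hn, y, hy, rfl⟩, rfl⟩
  apply Subgroup.subset_closure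
  refine ⟨h * n, N.mul_mem hh hn, y, hy, ?_⟩
  simp only [MulEquiv.coe_toMonoidHom, MulAut.conj_apply]
  group

theorem le_closure_conj {Y N : Subgroup G} :
    Y ≤ Subgroup.closure {x : G | ∃ n ∈ N, ∃ y ∈ Y, x = n * y * n⁻¹} := by
  intro y hy
  apply Subgroup.subset_closure
  exact ⟨1, N.one_mem, y, hy, by simp⟩

theorem closure_conj_le {Y N : Subgroup G} (hYN : Y ≤ N) :
    Subgroup.closure {x : G | ∃ n ∈ N, ∃ y ∈ Y, x = n * y * n⁻¹} ≤ N := by
  rw [Subgroup.closure_le]
  rintro _ ⟨n, hn, y, hy, rfl⟩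
  exact N.mul_mem (N.mul_mem hn (hYN hy)) (N.inv_mem hn)

/-- `A` normalizes `⁅A, B⁆`. -/
theorem le_normalizer_commutator_left (A B : Subgroup G) :
    A ≤ Subgroup.normalizer ((⁅A, B⁆ : Subgroup G) : Set G) := by
  intro a ha
  apply mem_normalizer_of_map_conj_le
  rw [Subgroup.commutator_def, MonoidHom.map_closure, Subgroup.closure_le]
  rintro _ ⟨_, ⟨a', ha', b, hb, rfl⟩, rfl⟩
  simp only [MulEquiv.coe_toMonoidHom, MulAut.conj_apply]
  have e : a * ⁅a', b⁆ * a⁻¹ = ⁅a * a', b⁆ * ⁅a, b⁆⁻¹ := by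
    simp only [commutatorElement_def]; group
  rw [e]
  exact Subgroup.mul_mem _ (Subgroup.subset_closure ⟨a * a', A.mul_mem ha ha', b, hb, rfl⟩)
    (Subgroup.inv_mem _ (Subgroup.subset_closure ⟨a, ha, b, hb, rfl⟩))

/-- `H = O^p(H)·O_p(M)` for `H ∈ ℌ`. -/
theorem frakH_pResidual_sup_eq {M H : Subgroup G} (hH : IsInFrakH p M H) :
    (pResidual p ↥H).map H.subtype ⊔ pCoreOf p M = H := by
  by_contra hne
  have hRH : (pResidual p ↥H).map H.subtype ≤ H := Subgroup.map_subtype_le _
  have hHR := le_normalizer_map_pResidual (p := p) H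
  have hYcs := frakH_largest_le_chainStab hH hRH hHR hne
  apply frakH_not_commutator_le hH
  intro r hr y hy
  have h1 : ⁅r, y⁆ ∈ pCoreOf p ((pResidual p ↥H).map H.subtype) := (hYcs hy).2.2 r hr
  have h2 : pCoreOf p ((pResidual p ↥H).map H.subtype) ≤ pCoreOf p H :=
    le_pCoreOf ((pCoreOf_le _).trans hRH)
      (hHR.trans (Cfsg.Agent.Lib.Helper17.normalizer_le_normalizer_pCoreOf _))
      (pCoreOf_isPGroup _)
  exact h2 h1

/-- `H` is the normal closure of `O_p(M)` in `H`, for `H ∈ ℌ`. -/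
theorem frakH_normalClosure_pCoreOf {M H : Subgroup G} (hH : IsInFrakH p M H) :
    (Subgroup.normalClosure (((pCoreOf p M).subgroupOf H : Subgroup ↥H) : Set ↥H)).map
      H.subtype = H := by
  have hPH : pCoreOf p M ≤ H := hH.2.1
  rw [map_normalClosure_subgroupOf hPH]
  exact frakH_eq_of_invariant hH le_closure_conj (closure_conj_le hPH)
    (le_normalizer_closure_conj _ _)

/-- `O^p(H)·Y_M` is the normal closure of `Y_M` in `H`, for `H ∈ ℌ`. -/
theorem frakH_normalClosure_largest {M H : Subgroup G} (hH : IsInFrakH p M H) :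
    (pResidual p ↥H).map H.subtype ⊔ largestPReducedOf p M =
      (Subgroup.normalClosure (((largestPReducedOf p M).subgroupOf H : Subgroup ↥H) :
        Set ↥H)).map H.subtype := by
  have hPH : pCoreOf p M ≤ H := hH.2.1
  have hYP := (largestPReducedOf_props (p := p) M).1
  have hYH : largestPReducedOf p M ≤ H := hYP.trans hPH
  have hPY : pCoreOf p M ≤ Subgroup.normalizer ((largestPReducedOf p M : Subgroup G) : Set G) :=
    (pCoreOf_le M).trans (le_normalizer_largestPReducedOf M)
  have hHR := le_normalizer_map_pResidual (p := p) H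
  have hsup := frakH_pResidual_sup_eq hH
  rw [map_normalClosure_subgroupOf hYH]
  apply le_antisymm
  · apply sup_le _ le_closure_conj
    have h1 := frakH_sup_eq hH (le_closure_conj (N := H)) (closure_conj_le hYH)
      (le_normalizer_closure_conj _ _)
    exact pResidual_le_of_sup_pgroup_eq (pCoreOf_isPGroup M)
      (hPH.trans (le_normalizer_closure_conj _ _)) h1
  · rw [Subgroup.closure_le]
    rintro _ ⟨n, hn, y, hy, rfl⟩
    have hn' : n ∈ (pResidual p ↥H).map H.subtype ⊔ pCoreOf p M := hsup.ge hn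
    obtain ⟨r, hr, x, hx, rfl⟩ := (mem_sup_of_le_normalizer (hPH.trans hHR)).mp hn'
    have hy' : x * y * x⁻¹ ∈ largestPReducedOf p M :=
      (Subgroup.mem_normalizer_iff.mp (hPY hx) y).mp hy
    have hy'H : x * y * x⁻¹ ∈ H := hYH hy'
    have h2 : (x * y * x⁻¹) * r⁻¹ * (x * y * x⁻¹)⁻¹ ∈ (pResidual p ↥H).map H.subtype :=
      (Subgroup.mem_normalizer_iff.mp (hHR hy'H) r⁻¹).mp (Subgroup.inv_mem _ hr)
    have e : r * x * y * (r * x)⁻¹ =
        (r * ((x * y * x⁻¹) * r⁻¹ * (x * y * x⁻¹)⁻¹)) * (x * y * x⁻¹) := by group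
    rw [e]
    exact Subgroup.mul_mem _ (Subgroup.mem_sup_left (Subgroup.mul_mem _ hr h2))
      (Subgroup.mem_sup_right hy')

/-- `O^p(H) = [O^p(H), Y_M]` for `H ∈ ℌ`. -/
theorem frakH_commutator_eq {M H : Subgroup G} (hH : IsInFrakH p M H) :
    ⁅(pResidual p ↥H).map H.subtype, largestPReducedOf p M⁆ =
      (pResidual p ↥H).map H.subtype := by
  have hPH : pCoreOf p M ≤ H := hH.2.1
  have hPp : IsPGroup p (pCoreOf p M) := pCoreOf_isPGroup M
  have hYP := (largestPReducedOf_props (p := p) M).1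
  have hYp : IsPGroup p (largestPReducedOf p M) := hPp.to_le hYP
  have hYH : largestPReducedOf p M ≤ H := hYP.trans hPH
  have hPY : pCoreOf p M ≤ Subgroup.normalizer ((largestPReducedOf p M : Subgroup G) : Set G) :=
    (pCoreOf_le M).trans (le_normalizer_largestPReducedOf M)
  have hRH : (pResidual p ↥H).map H.subtype ≤ H := Subgroup.map_subtype_le _
  have hHR := le_normalizer_map_pResidual (p := p) H
  have hsup := frakH_pResidual_sup_eq hH
  have hle : ⁅(pResidual p ↥H).map H.subtype, largestPReducedOf p M⁆ ≤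
      (pResidual p ↥H).map H.subtype :=
    commutator_le_left_of_le_normalizer (hYH.trans hHR)
  apply le_antisymm hle
  have hR₁H : ⁅(pResidual p ↥H).map H.subtype, largestPReducedOf p M⁆ ≤ H := hle.trans hRH
  have hHR₁ : H ≤ Subgroup.normalizer
      ((⁅(pResidual p ↥H).map H.subtype, largestPReducedOf p M⁆ : Subgroup G) : Set G) := by
    have h1 : (pResidual p ↥H).map H.subtype ⊔ pCoreOf p M ≤ Subgroup.normalizer
        ((⁅(pResidual p ↥H).map H.subtype, largestPReducedOf p M⁆ : Subgroup G) : Set G) :=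
      sup_le (le_normalizer_commutator_left _ _)
        (fun x hx => mem_normalizer_commutator (hHR (hPH hx)) (hPY hx))
    exact hsup.ge.trans h1
  by_cases hne : ⁅(pResidual p ↥H).map H.subtype, largestPReducedOf p M⁆ ⊔ pCoreOf p M = H
  · exact pResidual_le_of_sup_pgroup_eq hPp (hPH.trans hHR₁) hne
  · exfalso
    have hcl := frakH_isPClosed_of_sup_ne hH hR₁H hHR₁ hne
    have hYcs := frakH_largest_le_chainStab hH hR₁H hHR₁ hne
    have hD₁H : pCoreOf p ⁅(pResidual p ↥H).map H.subtype, largestPReducedOf p M⁆ ≤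
        pCoreOf p H :=
      le_pCoreOf ((pCoreOf_le _).trans hR₁H)
        (hHR₁.trans (Cfsg.Agent.Lib.Helper17.normalizer_le_normalizer_pCoreOf _))
        (pCoreOf_isPGroup _)
    have hHD₁ : H ≤ Subgroup.normalizer ((pCoreOf p
        ⁅(pResidual p ↥H).map H.subtype, largestPReducedOf p M⁆ : Subgroup G) : Set G) :=
      hHR₁.trans (Cfsg.Agent.Lib.Helper17.normalizer_le_normalizer_pCoreOf _)
    have hFp : IsPGroup p (largestPReducedOf p M ⊔
        pCoreOf p ⁅(pResidual p ↥H).map H.subtype, largestPReducedOf p M⁆ : Subgroup G) :=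
      hYp.to_sup_of_normal_right' (pCoreOf_isPGroup _) (hYH.trans hHD₁)
    have hR₁F : ⁅(pResidual p ↥H).map H.subtype, largestPReducedOf p M⁆ ≤
        Subgroup.normalizer ((largestPReducedOf p M ⊔
          pCoreOf p ⁅(pResidual p ↥H).map H.subtype, largestPReducedOf p M⁆ : Subgroup G) :
          Set G) := by
      intro c' hc'
      apply mem_normalizer_of_map_conj_le
      rw [Subgroup.map_sup]
      apply sup_le
      · rintro _ ⟨y'', hy'', rfl⟩
        simp only [MulEquiv.coe_toMonoidHom, MulAut.conj_apply]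
        have h1 : ⁅c', y''⁆ ∈ pCoreOf p
            ⁅(pResidual p ↥H).map H.subtype, largestPReducedOf p M⁆ := (hYcs hy'').2.2 c' hc'
        have e : c' * y'' * c'⁻¹ = ⁅c', y''⁆ * y'' := by rw [commutatorElement_def]; group
        rw [e]
        exact Subgroup.mul_mem _ (Subgroup.mem_sup_right h1) (Subgroup.mem_sup_left hy'')
      · rw [map_conj_eq_of_mem_normalizer (le_normalizer_pCoreOf _ hc')]
        exact le_sup_right
    apply frakH_not_commutator_le hH
    intro r hr y hy
    apply hD₁H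
    have hEF : (largestPReducedOf p M).map (MulAut.conj r).toMonoidHom ≤
        Subgroup.normalizer ((largestPReducedOf p M ⊔
          pCoreOf p ⁅(pResidual p ↥H).map H.subtype, largestPReducedOf p M⁆ : Subgroup G) :
          Set G) := by
      rintro _ ⟨y', hy', rfl⟩
      simp only [MulEquiv.coe_toMonoidHom, MulAut.conj_apply]
      have e : r * y' * r⁻¹ = ⁅r, y'⁆ * y' := by rw [commutatorElement_def]; group
      rw [e]
      exact Subgroup.mul_mem _ (hR₁F (Subgroup.commutator_mem_commutator hr hy'))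
        (Subgroup.le_normalizer (Subgroup.mem_sup_left hy'))
    have hEFp : IsPGroup p ((largestPReducedOf p M).map (MulAut.conj r).toMonoidHom ⊔
        (largestPReducedOf p M ⊔
          pCoreOf p ⁅(pResidual p ↥H).map H.subtype, largestPReducedOf p M⁆) : Subgroup G) :=
      (hYp.map _).to_sup_of_normal_right' hFp hEF
    have hc : ⁅r, y⁆ ∈ (largestPReducedOf p M).map (MulAut.conj r).toMonoidHom ⊔
        (largestPReducedOf p M ⊔
          pCoreOf p ⁅(pResidual p ↥H).map H.subtype, largestPReducedOf p M⁆) := by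
      have e : ⁅r, y⁆ = (r * y * r⁻¹) * y⁻¹ := by rw [commutatorElement_def]
      rw [e]
      exact Subgroup.mul_mem _ (Subgroup.mem_sup_left (conj_mem_map_conj hy))
        (Subgroup.mem_sup_right (Subgroup.mem_sup_left (Subgroup.inv_mem _ hy)))
    have hzp : IsPGroup p (Subgroup.zpowers ⁅r, y⁆) :=
      hEFp.to_le (by rw [Subgroup.zpowers_le]; exact hc)
    have hzle : Subgroup.zpowers ⁅r, y⁆ ≤
        ⁅(pResidual p ↥H).map H.subtype, largestPReducedOf p M⁆ := by
      rw [Subgroup.zpowers_le]; exact Subgroup.commutator_mem_commutator hr hy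
    exact le_pCoreOf_of_isPClosed hcl hzle hzp (Subgroup.mem_zpowers _)

end Asym4

end Cfsg.Agent.Lib.Helper17
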