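import Cfsg.Agent.Lib.Helper12.PiCore
import Cfsg.Agent.Lib.Helper17.PResidual

set_option autoImplicit false

namespace Cfsg.Agent.Lib.Helper17

open Cfsg
open scoped Pointwise

section Subnormal

variable {G : Type*} [Group G] {p : ℕ}

/-- A subnormal `p`-subgroup of a finite group lies in a normal `p`-subgroup. -/
theorem exists_normal_pgroup_ge_of_isSubnormal [Finite G] [hp : Fact p.Prime] {A : Subgroup G}
    (hA : A.IsSubnormal) (hAp : IsPGroup p A) :
    ∃ P : Subgroup G, P.Normal ∧ IsPGroup p P ∧ A ≤ P := by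
  refine ⟨piCore {p} G, inferInstance, ?_, ?_⟩
  · have h := Cfsg.Agent.Lib.Helper12.piCore_isPiNat (G := G) {p}
    have hne : Nat.card ↥(piCore {p} G) ≠ 0 := Nat.card_pos.ne'
    have := Nat.eq_prime_pow_of_unique_prime_dvd hne (p := p)
      (fun {d} hd hdv => h d hd hdv)
    exact IsPGroup.of_card this
  · apply Cfsg.Agent.Lib.Helper12.le_piCore_of_isSubnormal hA
    intro q hq hqd
    obtain ⟨k, hk⟩ := hAp.exists_card_eq
    rw [hk] at hqd
    exact (Nat.prime_dvd_prime_iff_eq hq hp.out).mp (hq.dvd_of_dvd_pow hqd)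

/-- If `B` is subnormal and `P` is a normal `p`-subgroup, then every `p'`-element of `PB` lies
in `B`. -/
theorem mem_of_isSubnormal_of_mem_sup [hp : Fact p.Prime] {B : Subgroup G} (hB : B.IsSubnormal)
    {P : Subgroup G} [hPn : P.Normal] (hP : IsPGroup p P) {g : G} (hg : g ∈ P ⊔ B)
    (hgo : (orderOf g).Coprime p) : g ∈ B := by
  induction hB with
  | top => exact Subgroup.mem_top g
  | step B K hBK hKsn hN ih =>
    have hgK : g ∈ K := ih (sup_le_sup_left hBK P hg)
    have hmul : ((P ⊔ B : Subgroup G) : Set G) = (P : Set G) * (B : Set G) :=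
      Subgroup.normal_mul P B
    have hg' : g ∈ ((P ⊔ B : Subgroup G) : Set G) := hg
    rw [hmul] at hg'
    obtain ⟨x, hx, b, hb, hxb⟩ := Set.mem_mul.mp hg'
    have hxK : x ∈ K := by
      have : x = g * b⁻¹ := by rw [← hxb]; group
      rw [this]
      exact K.mul_mem hgK (K.inv_mem (hBK hb))
    obtain ⟨n, hn⟩ := hP ⟨x, hx⟩
    have hxn : x ^ p ^ n = 1 := by
      have := congrArg Subtype.val hn
      simpa using this
    let q := QuotientGroup.mk' (B.subgroupOf K)
    have hq1 : q ⟨g, hgK⟩ = q ⟨x, hxK⟩ := by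
      have e : (⟨g, hgK⟩ : ↥K) = ⟨x, hxK⟩ * ⟨b, hBK hb⟩ := by
        apply Subtype.ext
        exact hxb.symm
      rw [e, map_mul]
      have : q ⟨b, hBK hb⟩ = 1 := by
        apply (QuotientGroup.eq_one_iff _).mpr
        exact Subgroup.mem_subgroupOf.mpr hb
      rw [this, mul_one]
    have h1 : (q ⟨g, hgK⟩) ^ p ^ n = 1 := by
      rw [hq1, ← map_pow]
      have : (⟨x, hxK⟩ : ↥K) ^ p ^ n = 1 := by
        apply Subtype.ext
        simpa using hxn
      rw [this, map_one]
    have h2 : (q ⟨g, hgK⟩) ^ orderOf g = 1 := by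
      rw [← map_pow]
      have : (⟨g, hgK⟩ : ↥K) ^ orderOf g = 1 := by
        apply Subtype.ext
        simpa using pow_orderOf_eq_one g
      rw [this, map_one]
    have h3 : orderOf (q ⟨g, hgK⟩) = 1 :=
      Nat.eq_one_of_dvd_coprimes (Nat.Coprime.pow_right n hgo)
        (orderOf_dvd_of_pow_eq_one h2) (orderOf_dvd_of_pow_eq_one h1)
    have h4 : q ⟨g, hgK⟩ = 1 := orderOf_eq_one_iff.mp h3
    have h5 : (⟨g, hgK⟩ : ↥K) ∈ B.subgroupOf K := (QuotientGroup.eq_one_iff _).mp h4
    exact Subgroup.mem_subgroupOf.mp h5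

/-- `O^p(PB) ≤ B` (internal form) for `B` subnormal and `P` a normal `p`-subgroup. -/
theorem closure_coprime_le_of_isSubnormal [hp : Fact p.Prime] {B : Subgroup G}
    (hB : B.IsSubnormal) {P : Subgroup G} [hPn : P.Normal] (hP : IsPGroup p P) :
    Subgroup.closure {x : G | x ∈ P ⊔ B ∧ (orderOf x).Coprime p} ≤ B := by
  rw [Subgroup.closure_le]
  rintro x ⟨hx, hxo⟩
  exact mem_of_isSubnormal_of_mem_sup hB hP hx hxo

/-- The subgroup generated by the `p'`-elements of `L` is normalized by `L`. -/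
theorem le_normalizer_closure_coprime (L : Subgroup G) :
    L ≤ Subgroup.normalizer
      ((Subgroup.closure {x : G | x ∈ L ∧ (orderOf x).Coprime p} : Subgroup G) : Set G) := by
  intro n hn
  have key : ∀ m : G, m ∈ L → ∀ y : G,
      y ∈ Subgroup.closure {x : G | x ∈ L ∧ (orderOf x).Coprime p} →
      m * y * m⁻¹ ∈ Subgroup.closure {x : G | x ∈ L ∧ (orderOf x).Coprime p} := by
    intro m hm y hy
    have : Subgroup.closure {x : G | x ∈ L ∧ (orderOf x).Coprime p} ≤
        (Subgroup.closure {x : G | x ∈ L ∧ (orderOf x).Coprime p}).comap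
          (MulAut.conj m).toMonoidHom := by
      rw [Subgroup.closure_le]
      rintro x ⟨hxL, hxo⟩
      apply Subgroup.subset_closure
      refine ⟨?_, ?_⟩
      · simp only [MulEquiv.coe_toMonoidHom, MulAut.conj_apply]
        exact L.mul_mem (L.mul_mem hm hxL) (L.inv_mem hm)
      · simp only [MulEquiv.coe_toMonoidHom, MulAut.conj_apply]
        rw [show m * x * m⁻¹ = MulAut.conj m x from rfl, MulEquiv.orderOf_eq]
        exact hxo
    have := this hy
    simpa [MulAut.conj_apply] using this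
  rw [Subgroup.mem_normalizer_iff]
  intro y
  constructor
  · exact key n hn y
  · intro h
    have := key n⁻¹ (L.inv_mem hn) _ h
    have e : n⁻¹ * (n * y * n⁻¹) * n⁻¹⁻¹ = y := by group
    rwa [e] at this

end Subnormal

end Cfsg.Agent.Lib.Helper17
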