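import Mathlib
import Cfsg.Prelude
import Cfsg.Agent.Lib.Helper10.Transport
import Cfsg.Agent.Lib.Helper17.GfsAction
import Cfsg.Agent.Lib.Helper17.Subnormal

/-!
Ambient version of `commutator_sup_centralizer_of_le_gfs`, and `F*` of subnormal subgroups.
-/

set_option autoImplicit false

namespace Cfsg.Agent.Lib.Helper17

open Cfsg Cfsg.Agent.Lib.Helper9

section ambient

universe u

variable {H : Type u} [Group H] [Finite H] {p : ℕ} [Fact p.Prime]

theorem pCore_top_eq_bot (hO : pCore p H = ⊥) : pCore p ↥(⊤ : Subgroup H) = ⊥ := by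
  have := Cfsg.Agent.Lib.Helper10.map_pCore (Subgroup.topEquiv (G := H)).symm p
  rw [hO, Subgroup.map_bot] at this
  exact this.symm

theorem gfs_top_map_subtype :
    (generalizedFittingSubgroup ↥(⊤ : Subgroup H)).map (⊤ : Subgroup H).subtype =
      generalizedFittingSubgroup H :=
  Cfsg.Agent.Lib.Helper10.map_generalizedFittingSubgroup (Subgroup.topEquiv (G := H))

/-- Ambient version: `O_p(H) = 1`, `Y` a `p`-subgroup, `L ≤ F*(H)` subnormal and `Y`-invariant. -/
theorem commutator_sup_centralizer_of_le_gfs_top (hO : pCore p H = ⊥) (Y : Subgroup H)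
    (hY : IsPGroup p ↥Y) (L : Subgroup H) (hLF : L ≤ generalizedFittingSubgroup H)
    (hLsn : L.IsSubnormal) (hYL : Y ≤ Subgroup.normalizer (L : Set H)) :
    ⁅L, Y⁆ ⊔ (L ⊓ Subgroup.centralizer (Y : Set H)) = L :=
  commutator_sup_centralizer_of_le_gfs ⊤ (pCore_top_eq_bot hO) Y hY
    (by rw [Subgroup.normalizer_eq_top]; exact le_top) L
    (by rw [gfs_top_map_subtype]; exact hLF) hLsn.subgroupOf hYL

theorem commutator_gfs_eq (hO : pCore p H = ⊥) (Y : Subgroup H) (hY : IsPGroup p ↥Y) :
    ⁅generalizedFittingSubgroup H, Y⁆ = ⁅⁅generalizedFittingSubgroup H, Y⁆, Y⁆ := by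
  haveI : (generalizedFittingSubgroup H).Normal := by
    haveI := gfs_characteristic (G := H)
    infer_instance
  have hYL : Y ≤ Subgroup.normalizer ((generalizedFittingSubgroup H : Subgroup H) : Set H) := by
    rw [Subgroup.normalizer_eq_top]; exact le_top
  exact commutator_eq_commutator_commutator hYL
    (commutator_sup_centralizer_of_le_gfs_top hO Y hY _ le_rfl
      (Subgroup.Normal.isSubnormal inferInstance) hYL)

/-- A subnormal subgroup of a group with `O_p = 1` has `O_p = 1`. -/
theorem pCore_eq_bot_of_isSubnormal (hO : pCore p H = ⊥) {K : Subgroup H} (hK : K.IsSubnormal) :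
    pCore p ↥K = ⊥ := by
  haveI : (pCore p ↥K).Normal := Cfsg.Agent.Lib.Helper1.pCore_normal p
  have hsn : ((pCore p ↥K).map K.subtype).IsSubnormal :=
    (Subgroup.Normal.isSubnormal inferInstance).trans' hK
  have hpg : IsPGroup p ↥((pCore p ↥K).map K.subtype) :=
    (Cfsg.Agent.Lib.Helper1.pCore_isPGroup p).map _
  obtain ⟨Q, hQn, hQp, hAQ⟩ := exists_normal_pgroup_ge_of_isSubnormal hsn hpg
  have h1 := hAQ.trans (Cfsg.Agent.Lib.Helper16.le_pCore Q hQn hQp)
  rw [hO, le_bot_iff] at h1
  exact (Subgroup.map_eq_bot_iff_of_injective _ K.subtype_injective).mp h1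

end ambient

section subnormal

universe u

variable {H : Type u} [Group H] [Finite H]

/-- `F*(K) ≤ F*(H)` for `K` subnormal. -/
theorem gfs_map_le_of_isSubnormal {K : Subgroup H} (hK : K.IsSubnormal) :
    (generalizedFittingSubgroup ↥K).map K.subtype ≤ generalizedFittingSubgroup H := by
  unfold generalizedFittingSubgroup
  rw [Subgroup.map_sup]
  apply sup_le_sup
  · unfold layer
    rw [sSup_eq_iSup', Subgroup.map_iSup, iSup_le_iff]
    rintro ⟨C, hC⟩
    exact le_sSup ((isComponent_map_subtype_iff hK C).mp hC)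
  · haveI : (fittingSubgroup ↥K).Normal := Cfsg.Agent.Lib.Helper1.fittingSubgroup_normal
    apply subnormal_nilpotent_le_fitting
    · exact (Subgroup.Normal.isSubnormal inferInstance).trans' hK
    · have e := (fittingSubgroup ↥K).equivMapOfInjective K.subtype K.subtype_injective
      haveI := Cfsg.Agent.Lib.Helper1.fittingSubgroup_isNilpotent (G := ↥K)
      exact (Group.isNilpotent_congr e).mp inferInstance

/-- `F*(H) ∩ K ≤ F*(K)` for `K` subnormal. -/
theorem gfs_inf_le_of_isSubnormal {K : Subgroup H} (hK : K.IsSubnormal) :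
    generalizedFittingSubgroup H ⊓ K ≤ (generalizedFittingSubgroup ↥K).map K.subtype := by
  haveI : (generalizedFittingSubgroup H).Normal := by
    haveI := gfs_characteristic (G := H)
    infer_instance
  have hsn : (generalizedFittingSubgroup H ⊓ K).IsSubnormal :=
    (Subgroup.Normal.isSubnormal inferInstance).inf hK
  have hdec := le_components_sup_fitting hsn inf_le_left
  refine hdec.trans (sup_le ?_ ?_)
  · apply sSup_le
    rintro C ⟨hC, hCL⟩
    have hCK : C ≤ K := hCL.trans inf_le_right
    have hC' : IsComponent (C.subgroupOf K) := by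
      rw [isComponent_map_subtype_iff hK, Subgroup.map_subgroupOf_eq_of_le hCK]
      exact hC
    have h1 : C.subgroupOf K ≤ generalizedFittingSubgroup ↥K :=
      (comp_le_layer hC').trans le_sup_left
    have h2 := Subgroup.map_mono (f := K.subtype) h1
    rwa [Subgroup.map_subgroupOf_eq_of_le hCK] at h2
  · -- `F*(H) ∩ K ∩ F(H)` is a nilpotent normal subgroup of `K`
    set N : Subgroup H := generalizedFittingSubgroup H ⊓ K ⊓ fittingSubgroup H with hN
    have hNK : N ≤ K := inf_le_left.trans inf_le_right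
    have hNF : N ≤ fittingSubgroup H := inf_le_right
    haveI : (fittingSubgroup H).Normal := Cfsg.Agent.Lib.Helper1.fittingSubgroup_normal
    have hsn' : (N.subgroupOf K).IsSubnormal := by
      have : N.IsSubnormal := hsn.inf (Subgroup.Normal.isSubnormal inferInstance)
      exact this.subgroupOf
    have hnil : Group.IsNilpotent ↥(N.subgroupOf K) := by
      haveI := Cfsg.Agent.Lib.Helper1.fittingSubgroup_isNilpotent (G := H)
      have h1 : Group.IsNilpotent ↥(N.subgroupOf (fittingSubgroup H)) := inferInstance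
      have e1 := Subgroup.subgroupOfEquivOfLe hNF
      have e2 := Subgroup.subgroupOfEquivOfLe hNK
      exact (Group.isNilpotent_congr (e1.trans e2.symm)).mp h1
    have h1 : N.subgroupOf K ≤ generalizedFittingSubgroup ↥K :=
      (subnormal_nilpotent_le_fitting hsn' hnil).trans le_sup_right
    have h2 := Subgroup.map_mono (f := K.subtype) h1
    rwa [Subgroup.map_subgroupOf_eq_of_le hNK] at h2

/-- If `Y ≤ K` with `K` subnormal and `[X,Y] = [X,Y,Y]`, then `[X,Y] ≤ K`. -/
theorem commutator_le_of_isSubnormal {K : Subgroup H} (hK : K.IsSubnormal) {X Y : Subgroup H}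
    (hYK : Y ≤ K) (h : ⁅X, Y⁆ = ⁅⁅X, Y⁆, Y⁆) : ⁅X, Y⁆ ≤ K := by
  induction hK with
  | top => exact le_top
  | step K K' hKK' hK' hN ih =>
    have h1 := ih (hYK.trans hKK')
    rw [h]
    refine (Subgroup.commutator_mono h1 hYK).trans ?_
    rw [Subgroup.commutator_comm]
    exact Cfsg.Agent.Lib.Helper1.commutator_le_of_le_normalizer
      ((Subgroup.normal_subgroupOf_iff_le_normalizer hKK').mp hN)

end subnormal

end Cfsg.Agent.Lib.Helper17
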