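import Cfsg.Prelude.Def_LocalStructure
import Cfsg.Agent.Lib.Helper16.PReduced4
import Cfsg.Agent.Lib.Helper16.PReduced3
import Cfsg.Agent.Lib.Helper17.CharP

set_option autoImplicit false

namespace Cfsg.Agent.Lib.Helper17

open Cfsg
open Cfsg.Agent.Lib.Helper16

section YL

variable {L : Type*} [Group L] {p : ℕ}

/-- `Y_L` is itself `p`-reduced. -/
theorem largestPReduced_isPReducedNormal [Finite L] [Fact p.Prime] :
    IsPReducedNormal p (largestPReduced p L) := by
  obtain ⟨Y, hY, hmax⟩ := exists_largest_pReduced (L := L) (p := p)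
  have : Y = largestPReduced p L := by
    apply le_antisymm
    · exact le_sSup hY
    · exact sSup_le hmax
  rw [← this]; exact hY

theorem le_largestPReduced {V : Subgroup L} (hV : IsPReducedNormal p V) :
    V ≤ largestPReduced p L := le_sSup hV

/-- Ambient form of `p`-reducedness for a subgroup of a subgroup. -/
theorem relPReduced_of_isPReducedNormal_sub {K : Subgroup L} (V : Subgroup ↥K)
    (hV : IsPReducedNormal p V) : RelPReduced p K (V.map K.subtype) := by
  have hrel := rel_of_isPReducedNormal_top V hV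
  obtain ⟨_, hN, hcomm, hexp, hD⟩ := hrel
  have hVn : V.Normal := hV.1
  refine ⟨Subgroup.map_subtype_le _, ?_, ?_, ?_, ?_⟩
  · intro k hk
    have h3 := Subgroup.le_normalizer_map (H := V) K.subtype
    have h4 : Subgroup.normalizer (V : Set K) = ⊤ := Subgroup.normalizer_eq_top_iff.2 hVn
    rw [h4] at h3
    exact h3 ⟨⟨k, hk⟩, Subgroup.mem_top _, rfl⟩
  · rintro _ ⟨a, ha, rfl⟩ _ ⟨b, hb, rfl⟩
    have := hcomm a ha b hb
    simpa using congrArg Subtype.val this
  · rintro _ ⟨a, ha, rfl⟩
    have := hexp a ha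
    simpa using congrArg Subtype.val this
  · intro D hDK hKD hDp
    have hDn : (D.subgroupOf K).Normal :=
      (Subgroup.normal_subgroupOf_iff_le_normalizer hDK).2 hKD
    have h1 : (⊤ : Subgroup ↥K) ≤ Subgroup.normalizer ((D.subgroupOf K : Subgroup ↥K) : Set ↥K) := by
      rw [Subgroup.normalizer_eq_top_iff.2 hDn]
    have h2 : ∀ d ∈ D.subgroupOf K, ∃ k : ℕ, d ^ (p ^ k) ∈ Subgroup.centralizer (V : Set ↥K) := by
      intro d hd
      obtain ⟨k, hk⟩ := hDp (d : L) (Subgroup.mem_subgroupOf.1 hd)
      refine ⟨k, ?_⟩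
      rw [Subgroup.mem_centralizer_iff]
      intro v hv
      apply Subtype.ext
      have := (Subgroup.mem_centralizer_iff.1 hk) (v : L) ⟨v, hv, rfl⟩
      simpa using this
    have h3 := hD (D.subgroupOf K) le_top h1 h2
    intro d hd
    rw [Subgroup.mem_centralizer_iff]
    rintro _ ⟨v, hv, rfl⟩
    have := (Subgroup.mem_centralizer_iff.1 (h3 (show (⟨d, hDK hd⟩ : ↥K) ∈ D.subgroupOf K from
      Subgroup.mem_subgroupOf.2 hd))) v hv
    simpa using congrArg Subtype.val this

/-- `Y_K` (in the ambient group) is `p`-reduced normal in `K`, in the ambient formulation. -/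
theorem relPReduced_largestPReducedOf [Finite L] [Fact p.Prime] (K : Subgroup L) :
    RelPReduced p K (largestPReducedOf p K) :=
  relPReduced_of_isPReducedNormal_sub _ largestPReduced_isPReducedNormal

/-- Every (ambient) `p`-reduced normal subgroup of `K` lies in `Y_K`. -/
theorem RelPReduced.le_largestPReducedOf [Finite L] [Fact p.Prime] {K W : Subgroup L}
    (h : RelPReduced p K W) : W ≤ largestPReducedOf p K := by
  have h1 := le_largestPReduced (isPReducedNormal_of_rel K W h)
  intro w hw
  exact ⟨⟨w, h.1 hw⟩, h1 (Subgroup.mem_subgroupOf.2 hw), rfl⟩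

theorem largestPReducedOf_le (K : Subgroup L) : largestPReducedOf p K ≤ K :=
  Subgroup.map_subtype_le _

theorem le_normalizer_largestPReducedOf [Finite L] [Fact p.Prime] (K : Subgroup L) :
    K ≤ Subgroup.normalizer (largestPReducedOf p K : Set L) :=
  (relPReduced_largestPReducedOf K).2.1

/-- `Y_K ≤ O_p(K)`, centralizes `O_p(K)` and has exponent `p`. -/
theorem largestPReducedOf_props [Finite L] [Fact p.Prime] (K : Subgroup L) :
    largestPReducedOf p K ≤ pCoreOf p K ∧
      largestPReducedOf p K ≤ Subgroup.centralizer (pCoreOf p K : Set L) ∧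
      ∀ y ∈ largestPReducedOf p K, y ^ p = 1 := by
  have h := pReduced_le_omegaZCore (L := ↥K) (p := p) _ largestPReduced_isPReducedNormal
  refine ⟨?_, ?_, ?_⟩
  · rintro _ ⟨y, hy, rfl⟩
    exact ⟨y, (h hy).1.1, rfl⟩
  · rintro _ ⟨y, hy, rfl⟩
    rw [Subgroup.mem_centralizer_iff]
    rintro _ ⟨q, hq, rfl⟩
    have := (Subgroup.mem_centralizer_iff.1 (h hy).1.2) q hq
    simpa using congrArg Subtype.val this
  · rintro _ ⟨y, hy, rfl⟩
    have := (h hy).2
    simpa using congrArg Subtype.val this

/-- `O_p(K) ≤ T` for a Sylow `p`-subgroup `T` of the ambient group contained in `K`. -/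
theorem pCoreOf_le_sylow [Finite L] [Fact p.Prime] (T : Sylow p L) {K : Subgroup L}
    (hTK : (T : Subgroup L) ≤ K) : pCoreOf p K ≤ T := by
  have hN : (T : Subgroup L) ≤ Subgroup.normalizer (pCoreOf p K : Set L) :=
    hTK.trans (le_normalizer_pCoreOf K)
  have hp : IsPGroup p (pCoreOf p K ⊔ (T : Subgroup L) : Subgroup L) :=
    (pCoreOf_isPGroup K).to_sup_of_normal_left' T.2 hN
  have := T.3 hp le_sup_right
  rw [← this]
  exact le_sup_left

end YL

end Cfsg.Agent.Lib.Helper17
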