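import Cfsg.Agent.Lib.Helper17.Asym4
import Cfsg.Agent.Lib.Helper17.GfsAction2
import Cfsg.Agent.Lib.Helper16.SylowInf
import Cfsg.Agent.Lib.Helper17.PResidual
import Cfsg.Agent.Lib.Helper17.YL
import Cfsg.Agent.Lib.Helper9.Layer2

/-!
Towards S2851: `Y_M ≤ Y_H` for `H` of characteristic `p` containing the preimage of
`F*(M†/C_{M†}(Y_M))`.
-/

set_option autoImplicit false
set_option linter.unusedSectionVars false

namespace Cfsg.Agent.Lib.Helper17

open Cfsg
open scoped commutatorElement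

section Asym5

variable {G : Type*} [Group G]

theorem le_normalizer_inf_h17 {A B B' : Subgroup G} (h1 : A ≤ Subgroup.normalizer (B : Set G))
    (h2 : A ≤ Subgroup.normalizer (B' : Set G)) :
    A ≤ Subgroup.normalizer ((B ⊓ B' : Subgroup G) : Set G) := by
  intro a ha
  have e1 := Subgroup.mem_normalizer_iff.1 (h1 ha)
  have e2 := Subgroup.mem_normalizer_iff.1 (h2 ha)
  rw [Subgroup.mem_normalizer_iff]
  intro x
  rw [Subgroup.mem_inf, Subgroup.mem_inf, ← e1 x, ← e2 x]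

theorem commutatorElement_mem_of_mem_normalizer_right {A : Subgroup G} {d f : G} (hd : d ∈ A)
    (hf : f ∈ Subgroup.normalizer (A : Set G)) : ⁅d, f⁆ ∈ A := by
  have h1 : f * d⁻¹ * f⁻¹ ∈ A := (Subgroup.mem_normalizer_iff.1 hf d⁻¹).1 (A.inv_mem hd)
  have e : ⁅d, f⁆ = d * (f * d⁻¹ * f⁻¹) := by rw [commutatorElement_def]; group
  rw [e]; exact A.mul_mem hd h1

theorem commutatorElement_mem_of_mem_normalizer_left {B : Subgroup G} {d f : G}
    (hd : d ∈ Subgroup.normalizer (B : Set G)) (hf : f ∈ B) : ⁅d, f⁆ ∈ B := by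
  have h1 : d * f * d⁻¹ ∈ B := (Subgroup.mem_normalizer_iff.1 hd f).1 hf
  rw [commutatorElement_def]
  exact B.mul_mem h1 (B.inv_mem hf)

theorem exists_pow_mem_of_isPGroup_h17 {p : ℕ} {A : Subgroup G} (hA : IsPGroup p A)
    (K : Subgroup G) : ∀ a ∈ A, ∃ k : ℕ, a ^ (p ^ k) ∈ K := by
  intro a ha
  obtain ⟨k, hk⟩ := hA ⟨a, ha⟩
  refine ⟨k, ?_⟩
  have h1 := congrArg Subtype.val hk
  rw [Subgroup.coe_pow, Subgroup.coe_one] at h1
  have h2 : a ^ (p ^ k) = 1 := h1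
  rw [h2]; exact K.one_mem

theorem closure_conj_le_centralizer {Y N A : Subgroup G}
    (hNA : N ≤ Subgroup.normalizer (A : Set G))
    (hYA : Y ≤ Subgroup.centralizer (A : Set G)) :
    Subgroup.closure {x : G | ∃ n ∈ N, ∃ y ∈ Y, x = n * y * n⁻¹} ≤
      Subgroup.centralizer (A : Set G) := by
  rw [Subgroup.closure_le]
  rintro _ ⟨n, hn, y, hy, rfl⟩
  have h1 := normalizer_le_normalizer_centralizer A (hNA hn)
  exact (Subgroup.mem_normalizer_iff.1 h1 y).1 (hYA hy)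

theorem le_normalizer_map_subtype_of_normal_h17 {K : Subgroup G} (D' : Subgroup ↥K)
    (hD' : D'.Normal) :
    K ≤ Subgroup.normalizer ((D'.map K.subtype : Subgroup G) : Set G) := by
  intro k hk
  have h3 := Subgroup.le_normalizer_map (H := D') K.subtype
  rw [Subgroup.normalizer_eq_top_iff.2 hD'] at h3
  exact h3 ⟨⟨k, hk⟩, Subgroup.mem_top _, rfl⟩

/-- Quotient form of the key step: if `O_p(Γ/N) = 1`, `E ≤ F` (the preimage of `F*(Γ/N)`) is
`F`-invariant with `p`-group image, `D₀` has `p`-group image and `[D₀, F] ≤ E`, then `D₀ ≤ N`. -/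
theorem le_of_commutator_gfs_le_aux {Γ : Type*} [Group Γ] [Finite Γ] {p : ℕ} [Fact p.Prime]
    (N : Subgroup Γ) [hN : N.Normal] (hO : pCore p (Γ ⧸ N) = ⊥) (D₀ E : Subgroup Γ)
    (hEF : E ≤ (generalizedFittingSubgroup (Γ ⧸ N)).comap (QuotientGroup.mk' N))
    (hFE : (generalizedFittingSubgroup (Γ ⧸ N)).comap (QuotientGroup.mk' N) ≤
      Subgroup.normalizer (E : Set Γ))
    (hcomm : ∀ d ∈ D₀, ∀ f ∈ (generalizedFittingSubgroup (Γ ⧸ N)).comap (QuotientGroup.mk' N),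
      ⁅d, f⁆ ∈ E)
    (hEp : ∀ e ∈ E, ∃ k : ℕ, e ^ (p ^ k) ∈ N) (hDp : ∀ d ∈ D₀, ∃ k : ℕ, d ^ (p ^ k) ∈ N) :
    D₀ ≤ N := by
  have hπ : Function.Surjective (QuotientGroup.mk' N) := QuotientGroup.mk'_surjective N
  have hFn : (generalizedFittingSubgroup (Γ ⧸ N)).Normal := by
    haveI := Cfsg.Agent.Lib.Helper9.gfs_characteristic (G := Γ ⧸ N)
    infer_instance
  have hOF : pCore p ↥(generalizedFittingSubgroup (Γ ⧸ N)) = ⊥ :=
    pCore_eq_bot_of_isSubnormal hO (Subgroup.Normal.isSubnormal hFn)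
  have hpg : ∀ A : Subgroup Γ, (∀ a ∈ A, ∃ k : ℕ, a ^ (p ^ k) ∈ N) →
      IsPGroup p (A.map (QuotientGroup.mk' N)) := by
    intro A hA
    rintro ⟨_, ⟨a, ha, rfl⟩⟩
    obtain ⟨k, hk⟩ := hA a ha
    refine ⟨k, Subtype.ext ?_⟩
    rw [Subgroup.coe_pow, Subgroup.coe_one]
    show (QuotientGroup.mk' N a) ^ (p ^ k) = 1
    rw [← map_pow, QuotientGroup.mk'_apply]
    exact (QuotientGroup.eq_one_iff _).2 hk
  have hker : ∀ A : Subgroup Γ, A.map (QuotientGroup.mk' N) = ⊥ → A ≤ N := by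
    intro A hA a ha
    have h1 : QuotientGroup.mk' N a ∈ A.map (QuotientGroup.mk' N) := ⟨a, ha, rfl⟩
    rw [hA, Subgroup.mem_bot, QuotientGroup.mk'_apply] at h1
    exact (QuotientGroup.eq_one_iff a).1 h1
  -- Step 1: the image of `E` is trivial
  have hE1 : E.map (QuotientGroup.mk' N) = ⊥ := by
    apply eq_bot_of_pCore_eq_bot hOF
    · rintro _ ⟨e, he, rfl⟩
      exact Subgroup.mem_comap.1 (hEF he)
    · intro f hf
      obtain ⟨f', rfl⟩ := hπ f
      exact Subgroup.le_normalizer_map (QuotientGroup.mk' N)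
        ⟨f', hFE (Subgroup.mem_comap.2 hf), rfl⟩
    · exact hpg E hEp
  have hEN : E ≤ N := hker E hE1
  -- Step 2: the image of `D₀` centralizes `F*`
  have hDC : D₀.map (QuotientGroup.mk' N) ≤
      Subgroup.centralizer
        ((generalizedFittingSubgroup (Γ ⧸ N) : Subgroup (Γ ⧸ N)) : Set (Γ ⧸ N)) := by
    rintro _ ⟨d, hd, rfl⟩
    rw [Subgroup.mem_centralizer_iff]
    intro f hf
    obtain ⟨f', rfl⟩ := hπ f
    have h1 : ⁅d, f'⁆ ∈ N := hEN (hcomm d hd f' (Subgroup.mem_comap.2 hf))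
    have h2 : QuotientGroup.mk' N ⁅d, f'⁆ = 1 := by
      rw [QuotientGroup.mk'_apply]; exact (QuotientGroup.eq_one_iff _).2 h1
    rw [map_commutatorElement, commutatorElement_eq_one_iff_mul_comm] at h2
    exact h2.symm
  have hD1 : D₀.map (QuotientGroup.mk' N) = ⊥ := by
    apply eq_bot_of_pCore_eq_bot hOF
    · exact hDC.trans Cfsg.Agent.Lib.Helper9.centralizer_gfs_le
    · intro f hf
      have hfc : f ∈ Subgroup.centralizer
          ((D₀.map (QuotientGroup.mk' N) : Subgroup (Γ ⧸ N)) : Set (Γ ⧸ N)) := by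
        rw [Subgroup.mem_centralizer_iff]
        intro x hx
        exact ((Subgroup.mem_centralizer_iff.1 (hDC hx)) f hf).symm
      exact Subgroup.centralizer_le_normalizer _ hfc
    · exact hpg D₀ hDp
  exact hker D₀ hD1

/-- Ambient form of the key step. -/
theorem le_of_commutator_gfs_le [Finite G] {p : ℕ} [Fact p.Prime] (Md C : Subgroup G)
    [hn : (C.subgroupOf Md).Normal]
    (hO : pCore p (↥Md ⧸ C.subgroupOf Md) = ⊥) (D₀ E : Subgroup G) (hD₀ : D₀ ≤ Md)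
    (hEF : E ≤ ((generalizedFittingSubgroup (↥Md ⧸ C.subgroupOf Md)).comap
      (QuotientGroup.mk' (C.subgroupOf Md))).map Md.subtype)
    (hFE : ((generalizedFittingSubgroup (↥Md ⧸ C.subgroupOf Md)).comap
      (QuotientGroup.mk' (C.subgroupOf Md))).map Md.subtype ≤ Subgroup.normalizer (E : Set G))
    (hcomm : ∀ d ∈ D₀, ∀ f ∈ ((generalizedFittingSubgroup (↥Md ⧸ C.subgroupOf Md)).comap
      (QuotientGroup.mk' (C.subgroupOf Md))).map Md.subtype, ⁅d, f⁆ ∈ E)
    (hEp : ∀ e ∈ E, ∃ k : ℕ, e ^ (p ^ k) ∈ C) (hDp : ∀ d ∈ D₀, ∃ k : ℕ, d ^ (p ^ k) ∈ C) :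
    D₀ ≤ C := by
  have hmem : ∀ f : ↥Md, (f : G) ∈ ((generalizedFittingSubgroup (↥Md ⧸ C.subgroupOf Md)).comap
      (QuotientGroup.mk' (C.subgroupOf Md))).map Md.subtype →
      f ∈ (generalizedFittingSubgroup (↥Md ⧸ C.subgroupOf Md)).comap
        (QuotientGroup.mk' (C.subgroupOf Md)) := by
    rintro f ⟨f', hf', hff'⟩
    have e : f' = f := Subtype.ext hff'
    rw [← e]; exact hf'
  have hpow : ∀ (x : ↥Md) (k : ℕ), (x : G) ^ (p ^ k) ∈ C → x ^ (p ^ k) ∈ C.subgroupOf Md := by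
    intro x k hx
    rw [Subgroup.mem_subgroupOf, Subgroup.coe_pow]
    exact hx
  have h1 : E.subgroupOf Md ≤ (generalizedFittingSubgroup (↥Md ⧸ C.subgroupOf Md)).comap
      (QuotientGroup.mk' (C.subgroupOf Md)) :=
    fun e he => hmem e (hEF (Subgroup.mem_subgroupOf.1 he))
  have h2 : (generalizedFittingSubgroup (↥Md ⧸ C.subgroupOf Md)).comap
      (QuotientGroup.mk' (C.subgroupOf Md)) ≤
      Subgroup.normalizer ((E.subgroupOf Md : Subgroup ↥Md) : Set ↥Md) := by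
    intro f hf
    have h := hFE ⟨f, hf, rfl⟩
    rw [Subgroup.mem_normalizer_iff] at h ⊢
    intro x
    rw [Subgroup.mem_subgroupOf, Subgroup.mem_subgroupOf]
    have := h (x : G)
    simpa using this
  have h3 : ∀ d ∈ D₀.subgroupOf Md, ∀ f ∈ (generalizedFittingSubgroup
      (↥Md ⧸ C.subgroupOf Md)).comap (QuotientGroup.mk' (C.subgroupOf Md)),
      ⁅d, f⁆ ∈ E.subgroupOf Md := by
    intro d hd f hf
    rw [Subgroup.mem_subgroupOf]
    have := hcomm (d : G) (Subgroup.mem_subgroupOf.1 hd) (f : G) ⟨f, hf, rfl⟩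
    simpa [commutatorElement_def] using this
  have h4 : ∀ e ∈ E.subgroupOf Md, ∃ k : ℕ, e ^ (p ^ k) ∈ C.subgroupOf Md := by
    intro e he
    obtain ⟨k, hk⟩ := hEp (e : G) (Subgroup.mem_subgroupOf.1 he)
    exact ⟨k, hpow e k hk⟩
  have h5 : ∀ d ∈ D₀.subgroupOf Md, ∃ k : ℕ, d ^ (p ^ k) ∈ C.subgroupOf Md := by
    intro d hd
    obtain ⟨k, hk⟩ := hDp (d : G) (Subgroup.mem_subgroupOf.1 hd)
    exact ⟨k, hpow d k hk⟩
  have key := le_of_commutator_gfs_le_aux (C.subgroupOf Md) hO (D₀.subgroupOf Md)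
    (E.subgroupOf Md) h1 h2 h3 h4 h5
  intro d hd
  have h6 : (⟨d, hD₀ hd⟩ : ↥Md) ∈ D₀.subgroupOf Md := Subgroup.mem_subgroupOf.2 hd
  exact Subgroup.mem_subgroupOf.1 (key h6)

/-- `O_p(K/C_K(W)) = 1` for a `p`-reduced normal subgroup `W` of `K` (ambient form). -/
theorem pCore_quotient_eq_bot_of_rel [Finite G] {p : ℕ} [Fact p.Prime] {K W : Subgroup G}
    (hW : Cfsg.Agent.Lib.Helper16.RelPReduced p K W) (N : Subgroup ↥K) [hN : N.Normal]
    (hNdef : N = (Subgroup.centralizer (W : Set G)).subgroupOf K) : pCore p (↥K ⧸ N) = ⊥ := by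
  obtain ⟨-, -, -, -, hD⟩ := hW
  have hDn : (pCore p (↥K ⧸ N)).Normal := Cfsg.Agent.Lib.Helper17.pCore_normal
  have hDp : IsPGroup p (pCore p (↥K ⧸ N)) := Cfsg.Agent.Lib.Helper17.pCore_isPGroup
  have hD'n : ((pCore p (↥K ⧸ N)).comap (QuotientGroup.mk' N)).Normal := hDn.comap _
  have h3 : ∀ d ∈ ((pCore p (↥K ⧸ N)).comap (QuotientGroup.mk' N)).map K.subtype,
      ∃ k : ℕ, d ^ (p ^ k) ∈ Subgroup.centralizer (W : Set G) := by
    rintro _ ⟨d', hd', rfl⟩
    obtain ⟨k, hk⟩ := hDp ⟨QuotientGroup.mk' N d', hd'⟩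
    refine ⟨k, ?_⟩
    have h4 : (QuotientGroup.mk' N d') ^ (p ^ k) = 1 := by
      have := congrArg Subtype.val hk
      rwa [Subgroup.coe_pow, Subgroup.coe_one] at this
    rw [← map_pow, QuotientGroup.mk'_apply] at h4
    have h5 : d' ^ (p ^ k) ∈ N := (QuotientGroup.eq_one_iff _).1 h4
    rw [hNdef, Subgroup.mem_subgroupOf, Subgroup.coe_pow] at h5
    exact h5
  have h4 := hD _ (Subgroup.map_subtype_le _) (le_normalizer_map_subtype_of_normal_h17 _ hD'n) h3
  rw [eq_bot_iff]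
  intro x hx
  obtain ⟨x', rfl⟩ := QuotientGroup.mk'_surjective N x
  have h5 : (x' : G) ∈ Subgroup.centralizer (W : Set G) := h4 ⟨x', Subgroup.mem_comap.2 hx, rfl⟩
  rw [Subgroup.mem_bot, QuotientGroup.mk'_apply]
  refine (QuotientGroup.eq_one_iff x').2 ?_
  rw [hNdef, Subgroup.mem_subgroupOf]
  exact h5

/-- A normal subgroup `D` of `H` lies in `K` as soon as `K` contains a `p`-power of every element
of `D` and the intersection of `D` with a Sylow `p`-subgroup of `H`. -/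
theorem le_of_sylow_of_forall_pow_mem [Finite G] {p : ℕ} [Fact p.Prime] {H D K : Subgroup G}
    (T : Sylow p ↥H) (hDH : D ≤ H) (hHD : H ≤ Subgroup.normalizer (D : Set G))
    (ha : ∀ d ∈ D, ∃ k : ℕ, d ^ (p ^ k) ∈ K)
    (hb : ∀ t : ↥H, t ∈ (T : Subgroup ↥H) → (t : G) ∈ D → (t : G) ∈ K) : D ≤ K := by
  haveI hDn : (D.subgroupOf H).Normal :=
    (Subgroup.normal_subgroupOf_iff_le_normalizer hDH).2 hHD
  have h1 := sylow_sup_pResidual (Cfsg.Agent.Lib.Helper16.sylowInf T (D.subgroupOf H))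
  have h2 : ((Cfsg.Agent.Lib.Helper16.sylowInf T (D.subgroupOf H) :
      Sylow p ↥(D.subgroupOf H)) : Subgroup ↥(D.subgroupOf H)) ≤
      (K.subgroupOf H).subgroupOf (D.subgroupOf H) := by
    intro x hx
    rw [Cfsg.Agent.Lib.Helper16.coe_sylowInf, Subgroup.mem_subgroupOf] at hx
    rw [Subgroup.mem_subgroupOf, Subgroup.mem_subgroupOf]
    exact hb (x : ↥H) hx (Subgroup.mem_subgroupOf.1 x.2)
  have h3 : pResidual p ↥(D.subgroupOf H) ≤ (K.subgroupOf H).subgroupOf (D.subgroupOf H) := by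
    apply pResidual_le_of_forall_pow_mem
    intro g
    obtain ⟨k, hk⟩ := ha ((g : ↥H) : G) (Subgroup.mem_subgroupOf.1 g.2)
    refine ⟨k, ?_⟩
    rw [Subgroup.mem_subgroupOf, Subgroup.mem_subgroupOf, Subgroup.coe_pow, Subgroup.coe_pow]
    exact hk
  intro d hd
  have hd'' : (⟨⟨d, hDH hd⟩, Subgroup.mem_subgroupOf.2 hd⟩ : ↥(D.subgroupOf H)) ∈
      ((Cfsg.Agent.Lib.Helper16.sylowInf T (D.subgroupOf H) :
      Sylow p ↥(D.subgroupOf H)) : Subgroup ↥(D.subgroupOf H)) ⊔ pResidual p ↥(D.subgroupOf H) := by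
    rw [h1]; exact Subgroup.mem_top _
  have h4 := (sup_le h2 h3) hd''
  rw [Subgroup.mem_subgroupOf, Subgroup.mem_subgroupOf] at h4
  exact h4

/-- Core of S2851, with `F` abstract. -/
theorem largest_le_core [Finite G] {p : ℕ} [Fact p.Prime] {Y Md P F H : Subgroup G}
    (hYP : Y ≤ P) (hPp : IsPGroup p P) (hPC : P ≤ Subgroup.centralizer (Y : Set G))
    (hYexp : ∀ y ∈ Y, y ^ p = 1)
    (hPN : ∀ L : Subgroup G, IsPGroup p L → P ≤ L → L ≤ Md)
    (hCF : Subgroup.centralizer (Y : Set G) ≤ F) (hFMd : F ≤ Md)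
    (hMdF : Md ≤ Subgroup.normalizer (F : Set G)) (hFH : F ≤ H)
    (hK : ∀ D₀ E : Subgroup G, D₀ ≤ Md → E ≤ F → F ≤ Subgroup.normalizer (E : Set G) →
      (∀ d ∈ D₀, ∀ f ∈ F, ⁅d, f⁆ ∈ E) →
      (∀ e ∈ E, ∃ k : ℕ, e ^ (p ^ k) ∈ Subgroup.centralizer (Y : Set G)) →
      (∀ d ∈ D₀, ∃ k : ℕ, d ^ (p ^ k) ∈ Subgroup.centralizer (Y : Set G)) →
      D₀ ≤ Subgroup.centralizer (Y : Set G))
    (hH : Subgroup.centralizer (pCore p ↥H : Set ↥H) ≤ pCore p ↥H) :
    Y ≤ largestPReducedOf p H := by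
  have hPH : P ≤ H := hPC.trans (hCF.trans hFH)
  have hYH : Y ≤ H := hYP.trans hPH
  have hUp : IsPGroup p (pCoreOf p H) := pCoreOf_isPGroup H
  have hHU : H ≤ Subgroup.normalizer ((pCoreOf p H : Subgroup G) : Set G) :=
    le_normalizer_pCoreOf H
  have hUH : pCoreOf p H ≤ H := pCoreOf_le H
  have hUMd : pCoreOf p H ≤ Md :=
    le_sup_left.trans (hPN (pCoreOf p H ⊔ P)
      (hUp.to_sup_of_normal_left' hPp (hPH.trans hHU)) le_sup_right)
  have hFNF : F ≤ Subgroup.normalizer (F : Set G) := Subgroup.le_normalizer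
  have hUC : pCoreOf p H ≤ Subgroup.centralizer (Y : Set G) := by
    apply hK (pCoreOf p H) (pCoreOf p H ⊓ F) hUMd inf_le_right
      (le_normalizer_inf_h17 (hFH.trans hHU) hFNF)
    · intro d hd f hf
      exact ⟨commutatorElement_mem_of_mem_normalizer_right hd (hHU (hFH hf)),
        commutatorElement_mem_of_mem_normalizer_left (hMdF (hUMd hd)) hf⟩
    · exact exists_pow_mem_of_isPGroup_h17 (hUp.to_le inf_le_left) _
    · exact exists_pow_mem_of_isPGroup_h17 hUp _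
  have hYU : Y ≤ pCoreOf p H := by
    intro y hy
    have h1 : (⟨y, hYH hy⟩ : ↥H) ∈ Subgroup.centralizer (pCore p ↥H : Set ↥H) := by
      rw [Subgroup.mem_centralizer_iff]
      intro u hu
      apply Subtype.ext
      have hu' : (u : G) ∈ pCoreOf p H := ⟨u, hu, rfl⟩
      have := Subgroup.mem_centralizer_iff.1 (hUC hu') y hy
      simpa using this.symm
    exact ⟨⟨y, hYH hy⟩, hH h1, rfl⟩
  have hYV : Y ≤ Subgroup.closure {x : G | ∃ n ∈ H, ∃ y ∈ Y, x = n * y * n⁻¹} := le_closure_conj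
  have hVH : Subgroup.closure {x : G | ∃ n ∈ H, ∃ y ∈ Y, x = n * y * n⁻¹} ≤ H :=
    closure_conj_le hYH
  have hHV := le_normalizer_closure_conj Y H
  have hYCU : Y ≤ Subgroup.centralizer ((pCoreOf p H : Subgroup G) : Set G) :=
    Subgroup.le_centralizer_iff.1 hUC
  have hVCU : Subgroup.closure {x : G | ∃ n ∈ H, ∃ y ∈ Y, x = n * y * n⁻¹} ≤
      Subgroup.centralizer ((pCoreOf p H : Subgroup G) : Set G) :=
    closure_conj_le_centralizer hHU hYCU
  have hVU : Subgroup.closure {x : G | ∃ n ∈ H, ∃ y ∈ Y, x = n * y * n⁻¹} ≤ pCoreOf p H := by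
    rw [Subgroup.closure_le]
    rintro _ ⟨n, hn, y, hy, rfl⟩
    exact (Subgroup.mem_normalizer_iff.1 (hHU hn) y).1 (hYU hy)
  have hVab : ∀ a ∈ Subgroup.closure {x : G | ∃ n ∈ H, ∃ y ∈ Y, x = n * y * n⁻¹},
      ∀ b ∈ Subgroup.closure {x : G | ∃ n ∈ H, ∃ y ∈ Y, x = n * y * n⁻¹}, a * b = b * a := by
    intro a ha b hb
    exact (Subgroup.mem_centralizer_iff.1 (hVCU ha) b (hVU hb)).symm
  have hVexp : ∀ a ∈ Subgroup.closure {x : G | ∃ n ∈ H, ∃ y ∈ Y, x = n * y * n⁻¹},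
      a ^ p = 1 := by
    intro a ha
    induction ha using Subgroup.closure_induction with
    | mem x hx =>
      obtain ⟨n, -, y, hy, rfl⟩ := hx
      rw [conj_pow, hYexp y hy, mul_one, mul_inv_cancel]
    | one => exact one_pow _
    | mul a b ha hb iha ihb =>
      have hc : Commute a b := hVab a ha b hb
      rw [hc.mul_pow, iha, ihb, one_mul]
    | inv a ha iha => rw [inv_pow, iha, inv_one]
  have hCVC : Subgroup.centralizer
      ((Subgroup.closure {x : G | ∃ n ∈ H, ∃ y ∈ Y, x = n * y * n⁻¹} : Subgroup G) : Set G) ≤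
      Subgroup.centralizer (Y : Set G) := Subgroup.centralizer_le hYV
  have hrelV : Cfsg.Agent.Lib.Helper16.RelPReduced p H
      (Subgroup.closure {x : G | ∃ n ∈ H, ∃ y ∈ Y, x = n * y * n⁻¹}) := by
    refine ⟨hVH, hHV, hVab, hVexp, ?_⟩
    intro D hDH hHD hDp
    have hDpC : ∀ d ∈ D, ∃ k : ℕ, d ^ (p ^ k) ∈ Subgroup.centralizer (Y : Set G) := by
      intro d hd
      obtain ⟨k, hk⟩ := hDp d hd
      exact ⟨k, hCVC hk⟩
    have h1 : D ⊓ Md ≤ Subgroup.centralizer (Y : Set G) := by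
      apply hK (D ⊓ Md) (D ⊓ F) inf_le_right inf_le_right
        (le_normalizer_inf_h17 (hFH.trans hHD) hFNF)
      · intro d hd f hf
        exact ⟨commutatorElement_mem_of_mem_normalizer_right hd.1 (hHD (hFH hf)),
          commutatorElement_mem_of_mem_normalizer_left (hMdF hd.2) hf⟩
      · intro e he; exact hDpC e he.1
      · intro d hd; exact hDpC d hd.1
    obtain ⟨T, hT⟩ := IsPGroup.exists_le_sylow
      (hPp.comap_subtype : IsPGroup p (P.subgroupOf H))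
    have hTMd : (T : Subgroup ↥H).map H.subtype ≤ Md := by
      apply hPN _ (T.2.map _)
      intro x hx
      exact ⟨⟨x, hPH hx⟩, hT (Subgroup.mem_subgroupOf.2 hx), rfl⟩
    have hDC : D ≤ Subgroup.centralizer (Y : Set G) := by
      apply le_of_sylow_of_forall_pow_mem T hDH hHD hDpC
      intro t ht htD
      exact h1 ⟨htD, hTMd ⟨t, ht, rfl⟩⟩
    have hYD : Y ≤ Subgroup.centralizer (D : Set G) := Subgroup.le_centralizer_iff.1 hDC
    exact Subgroup.le_centralizer_iff.1 (closure_conj_le_centralizer hHD hYD)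
  exact hYV.trans (RelPReduced.le_largestPReducedOf hrelV)

/-- S2851 in abstract form. -/
theorem largest_le_of_gfs_le [Finite G] {p : ℕ} [Fact p.Prime] {Y Md P : Subgroup G}
    (hYP : Y ≤ P) (hPp : IsPGroup p P)
    (hPC : P ≤ Subgroup.centralizer (Y : Set G)) (hCMd : Subgroup.centralizer (Y : Set G) ≤ Md)
    (hrel : Cfsg.Agent.Lib.Helper16.RelPReduced p Md Y)
    (hPN : ∀ L : Subgroup G, IsPGroup p L → P ≤ L → L ≤ Md)
    [hn : ((Subgroup.centralizer (Y : Set G)).subgroupOf Md).Normal]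
    (H : Subgroup G)
    (hFH : ((generalizedFittingSubgroup
        (↥Md ⧸ (Subgroup.centralizer (Y : Set G)).subgroupOf Md)).comap
        (QuotientGroup.mk' ((Subgroup.centralizer (Y : Set G)).subgroupOf Md))).map Md.subtype ≤ H)
    (hH : Subgroup.centralizer (pCore p ↥H : Set ↥H) ≤ pCore p ↥H) :
    Y ≤ largestPReducedOf p H := by
  have hO := pCore_quotient_eq_bot_of_rel hrel
    ((Subgroup.centralizer (Y : Set G)).subgroupOf Md) rfl
  have hFn : ((generalizedFittingSubgroup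
      (↥Md ⧸ (Subgroup.centralizer (Y : Set G)).subgroupOf Md)).comap
      (QuotientGroup.mk' ((Subgroup.centralizer (Y : Set G)).subgroupOf Md))).Normal := by
    haveI := Cfsg.Agent.Lib.Helper9.gfs_characteristic
      (G := ↥Md ⧸ (Subgroup.centralizer (Y : Set G)).subgroupOf Md)
    have hnn : (generalizedFittingSubgroup
      (↥Md ⧸ (Subgroup.centralizer (Y : Set G)).subgroupOf Md)).Normal := inferInstance
    exact hnn.comap _
  have hCF : Subgroup.centralizer (Y : Set G) ≤ ((generalizedFittingSubgroup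
      (↥Md ⧸ (Subgroup.centralizer (Y : Set G)).subgroupOf Md)).comap
      (QuotientGroup.mk' ((Subgroup.centralizer (Y : Set G)).subgroupOf Md))).map Md.subtype := by
    intro c hc
    have h1 : QuotientGroup.mk' ((Subgroup.centralizer (Y : Set G)).subgroupOf Md)
        ⟨c, hCMd hc⟩ = 1 := by
      rw [QuotientGroup.mk'_apply]
      exact (QuotientGroup.eq_one_iff _).2 (Subgroup.mem_subgroupOf.2 hc)
    refine ⟨⟨c, hCMd hc⟩, ?_, rfl⟩
    show QuotientGroup.mk' ((Subgroup.centralizer (Y : Set G)).subgroupOf Md) ⟨c, hCMd hc⟩ ∈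
      generalizedFittingSubgroup (↥Md ⧸ (Subgroup.centralizer (Y : Set G)).subgroupOf Md)
    rw [h1]
    exact Subgroup.one_mem _
  exact largest_le_core hYP hPp hPC hrel.2.2.2.1 hPN hCF (Subgroup.map_subtype_le _)
    (le_normalizer_map_subtype_of_normal_h17 _ hFn) hFH
    (le_of_commutator_gfs_le Md (Subgroup.centralizer (Y : Set G)) hO) hH

end Asym5

end Cfsg.Agent.Lib.Helper17
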