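import Cfsg.Agent.Lib.Helper19.AutOrb.Defs

/-!
# S4068 farm, piece [B4d]: `SL₂(𝔽₈)` has an element of order 9

`M = !![0, 1; 1, a]` with `a³ = a + 1`: `M³ = !![a, a²+1; a²+1, a+1] ≠ 1` and `(M³)³ = 1`.
-/

set_option autoImplicit false

namespace Cfsg.Agent.Lib.Helper19.AutOrb

open Matrix

namespace Helper17

theorem mat2_ext {R : Type*} {x11 x12 x21 x22 y11 y12 y21 y22 : R}
    (h11 : x11 = y11) (h12 : x12 = y12) (h21 : x21 = y21) (h22 : x22 = y22) :
    (!![x11, x12; x21, x22] : Matrix (Fin 2) (Fin 2) R) = !![y11, y12; y21, y22] := by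
  rw [h11, h12, h21, h22]

/-- A field with 8 elements contains a root of `x³ = x + 1`. -/
theorem exists_root (F : Type*) [Field F] [Fintype F] (hF : Fintype.card F = 8)
    (h2 : (2 : F) = 0) : ∃ a : F, a ^ 3 = a + 1 := by
  classical
  obtain ⟨b, hb0, hb1⟩ : ∃ b : F, b ≠ 0 ∧ b ≠ 1 := by
    by_contra hcon
    push Not at hcon
    have hsub : (Finset.univ : Finset F) ⊆ {0, 1} := by
      intro x _
      by_cases hx : x = 0
      · simp [hx]
      · simp [hcon x hx]
    have : Fintype.card F ≤ 2 :=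
      calc Fintype.card F = (Finset.univ : Finset F).card := rfl
        _ ≤ ({0, 1} : Finset F).card := Finset.card_le_card hsub
        _ ≤ 2 := Finset.card_le_two
    omega
  have hb7 : b ^ 7 = 1 := by
    have := FiniteField.pow_card_sub_one_eq_one b hb0
    rwa [hF] at this
  have hfac : (b - 1) * (b ^ 3 + b + 1) * (b ^ 3 + b ^ 2 + 1) = 0 := by
    linear_combination hb7 + (b ^ 4 - b ^ 3) * h2
  rcases mul_eq_zero.mp hfac with h | h
  · rcases mul_eq_zero.mp h with h | h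
    · exact absurd (sub_eq_zero.mp h) hb1
    · exact ⟨b, by linear_combination h - (b + 1) * h2⟩
  · exact ⟨b + 1, by linear_combination h + (b ^ 2 + b - 1) * h2⟩

end Helper17

/-- [B4d] `SL₂(𝔽₈)` has an element of order 9: `!![0,1;1,a]` with `a³ = a + 1`. -/
theorem exists_orderOf_nine (F : Type*) [Field F] [Fintype F] (hF : Fintype.card F = 8) :
    ∃ g : SpecialLinearGroup (Fin 2) F, orderOf g = 9 := by
  have h8 : (8 : F) = 0 := by
    have := Nat.cast_card_eq_zero F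
    rw [hF] at this
    exact_mod_cast this
  have h2 : (2 : F) = 0 := by
    have h : (2 : F) ^ 3 = 0 := by rw [← h8]; norm_num
    exact (pow_eq_zero_iff (by norm_num)).mp h
  obtain ⟨a, ha⟩ := Helper17.exists_root F hF h2
  have hdet : (!![0, 1; 1, a] : Matrix (Fin 2) (Fin 2) F).det = 1 := by
    rw [Matrix.det_fin_two_of]
    linear_combination (-1 : F) * h2
  have hM3 : (!![0, 1; 1, a] : Matrix (Fin 2) (Fin 2) F) ^ 3
      = !![a, a ^ 2 + 1; a ^ 2 + 1, a + 1] := by
    rw [pow_succ, pow_succ, pow_one, Matrix.mul_fin_two, Matrix.mul_fin_two]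
    apply Helper17.mat2_ext
    · ring
    · ring
    · ring
    · linear_combination ha + a * h2
  have hN3 : (!![a, a ^ 2 + 1; a ^ 2 + 1, a + 1] : Matrix (Fin 2) (Fin 2) F) ^ 3 = 1 := by
    rw [pow_succ, pow_succ, pow_one, Matrix.mul_fin_two, Matrix.mul_fin_two, Matrix.one_fin_two]
    apply Helper17.mat2_ext
    · linear_combination (10 + a + 3 * a ^ 2) * ha + (5 + 7 * a + 3 * a ^ 2) * h2
    · linear_combination (4 + 7 * a + a ^ 3) * ha + (3 + 7 * a + 7 * a ^ 2) * h2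
    · linear_combination (4 + 7 * a + a ^ 3) * ha + (3 + 7 * a + 7 * a ^ 2) * h2
    · linear_combination (10 + 2 * a + 3 * a ^ 2) * ha + (6 + 9 * a + 6 * a ^ 2) * h2
  have hM9 : (!![0, 1; 1, a] : Matrix (Fin 2) (Fin 2) F) ^ 9 = 1 := by
    rw [show 9 = 3 * 3 from rfl, pow_mul, hM3, hN3]
  let g : SpecialLinearGroup (Fin 2) F := ⟨!![0, 1; 1, a], hdet⟩
  have hgc : (g : Matrix (Fin 2) (Fin 2) F) = !![0, 1; 1, a] := rfl
  refine ⟨g, ?_⟩
  haveI : Fact (Nat.Prime 3) := ⟨Nat.prime_three⟩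
  have hc : ∀ m : ℕ, ((g ^ m : SpecialLinearGroup (Fin 2) F) : Matrix (Fin 2) (Fin 2) F)
      = (!![0, 1; 1, a] : Matrix (Fin 2) (Fin 2) F) ^ m := fun m => rfl
  have hg3 : ¬ g ^ 3 ^ 1 = 1 := by
    intro h
    have h' : ((g ^ 3 ^ 1 : SpecialLinearGroup (Fin 2) F) : Matrix (Fin 2) (Fin 2) F) 0 1
        = (1 : Matrix (Fin 2) (Fin 2) F) 0 1 := by rw [h]; rfl
    rw [hc, pow_one, hM3] at h'
    have hu : a ^ 2 + 1 = 0 := by simpa using h'
    have : (1 : F) = 0 := by linear_combination (-1 : F) * ha + a * hu - a * h2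
    exact one_ne_zero this
  have hg9 : g ^ 3 ^ (1 + 1) = 1 := by
    apply Subtype.ext
    rw [hc]
    exact hM9
  have key := orderOf_eq_prime_pow hg3 hg9
  rw [key]
  norm_num

end Cfsg.Agent.Lib.Helper19.AutOrb
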