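import Mathlib
import Cfsg.Prelude
import Cfsg.Agent.Lib.Helper1.CoprimeAbelian
import Cfsg.Agent.Lib.Helper17.GfsAction

/-!
Action form of Thompson's `A × B` lemma on an abelian `p`-subgroup `V`: the acting subgroups need only
commute, and be a `p`-group, modulo `C(V)`.
-/

set_option autoImplicit false

namespace Cfsg.Agent.Lib.Helper17

open scoped commutatorElement

section

variable {G : Type*} [Group G]

/-- The conjugation homomorphism `B → Aut(V)` for `B ≤ N(V)`. -/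
def conjHom (V B : Subgroup G) (h : B ≤ Subgroup.normalizer (V : Set G)) : ↥B →* MulAut ↥V where
  toFun b := conjRestr V (b : G) (h b.2)
  map_one' := by
    ext v
    simp [conjRestr]
  map_mul' a b := by
    ext v
    simp [conjRestr, mul_assoc]

theorem conjHom_apply (V B : Subgroup G) (h : B ≤ Subgroup.normalizer (V : Set G)) (b : ↥B)
    (v : ↥V) : ((conjHom V B h b) v : G) = (b : G) * v * (b : G)⁻¹ := rfl

variable {p : ℕ}

/-- A subgroup `B` acting as a `p`-group on a nontrivial `p`-subgroup `V` has nontrivial fixed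
points on `V`. -/
theorem inf_centralizer_ne_bot_of_pgroup_action [Finite G] [Fact p.Prime] {V B : Subgroup G}
    (hV : IsPGroup p ↥V) (hV1 : V ≠ ⊥) (hBV : B ≤ Subgroup.normalizer (V : Set G))
    (hB : ∀ b ∈ B, ∃ k : ℕ, b ^ (p ^ k) ∈ Subgroup.centralizer (V : Set G)) :
    V ⊓ Subgroup.centralizer (B : Set G) ≠ ⊥ := by
  have hR : IsPGroup p ↥(conjHom V B hBV).range := by
    rintro ⟨_, b, rfl⟩
    obtain ⟨k, hk⟩ := hB b b.2
    refine ⟨k, ?_⟩
    apply Subtype.ext
    show (conjHom V B hBV b) ^ (p ^ k) = 1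
    rw [← map_pow]
    ext v
    rw [conjHom_apply]
    have h1 := Subgroup.mem_centralizer_iff.mp hk v v.2
    simp only [MulAut.one_apply]
    have h2 : ((b ^ (p ^ k) : ↥B) : G) = (b : G) ^ (p ^ k) := rfl
    rw [h2, ← h1]
    group
  have hdvd : p ∣ Nat.card ↥V := by
    rcases hV.card_eq_or_dvd with h | h
    · exact absurd (Subgroup.card_eq_one.mp h) hV1
    · exact h
  have h1 : (1 : ↥V) ∈ MulAction.fixedPoints ↥(conjHom V B hBV).range ↥V := by
    intro g
    exact smul_one g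
  obtain ⟨v, hv, hv1⟩ := hR.exists_fixed_point_of_prime_dvd_card_of_fixed_point ↥V hdvd h1
  intro hbot
  apply hv1
  have hvc : (v : G) ∈ V ⊓ Subgroup.centralizer (B : Set G) := by
    refine Subgroup.mem_inf.mpr ⟨v.2, ?_⟩
    rw [Subgroup.mem_centralizer_iff]
    intro b hb
    have h2 := hv ⟨conjHom V B hBV ⟨b, hb⟩, ⟨⟨b, hb⟩, rfl⟩⟩
    have h3 : (conjHom V B hBV ⟨b, hb⟩) v = v := h2
    have h4 := congrArg Subtype.val h3
    rw [conjHom_apply] at h4
    calc b * (v : G) = (b * (v : G) * b⁻¹) * b := by group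
      _ = (v : G) * b := by rw [h4]
  rw [hbot, Subgroup.mem_bot] at hvc
  exact (Subtype.ext hvc).symm

/-- **`A × B` lemma, action form on an abelian `p`-group**: `a` a `p'`-element normalizing the abelian
`p`-subgroup `V`; `B` normalizes `V`, acts on it as a `p`-group and commutes with `a` modulo `C(V)`;
if `a` centralizes `C_V(B)` then `a` centralizes `V`. -/
theorem mem_centralizer_of_AxB_abelian [Finite G] [Fact p.Prime] {V B : Subgroup G} {a : G}
    (hV : IsPGroup p ↥V) (hVc : ∀ u ∈ V, ∀ v ∈ V, u * v = v * u)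
    (ha : (orderOf a).Coprime p) (haV : a ∈ Subgroup.normalizer (V : Set G))
    (hBV : B ≤ Subgroup.normalizer (V : Set G))
    (hB : ∀ b ∈ B, ∃ k : ℕ, b ^ (p ^ k) ∈ Subgroup.centralizer (V : Set G))
    (hab : ∀ b ∈ B, ⁅a, b⁆ ∈ Subgroup.centralizer (V : Set G))
    (hC : V ⊓ Subgroup.centralizer (B : Set G) ≤ Subgroup.centralizer ({a} : Set G)) :
    a ∈ Subgroup.centralizer (V : Set G) := by
  have hp : p.Prime := Fact.out
  haveI : IsMulCommutative ↥V := ⟨⟨fun u v => Subtype.ext (hVc u u.2 v v.2)⟩⟩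
  have hzV : Subgroup.zpowers a ≤ Subgroup.normalizer (V : Set G) := by
    rw [Subgroup.zpowers_le]; exact haV
  have hcop : (Nat.card ↥(Subgroup.zpowers a)).Coprime (Nat.card ↥V) := by
    rw [Nat.card_zpowers]
    obtain ⟨k, hk⟩ := IsPGroup.iff_card.mp hV
    rw [hk]
    exact Nat.Coprime.pow_right _ ha
  have hdisj := Cfsg.Agent.Lib.Helper1.abelian_centralizer_inf_commutator_eq_bot
    (Subgroup.zpowers a) V hzV hcop
  have hcomV : ∀ v ∈ V, ⁅v, a⁆ ∈ V := by
    intro v hv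
    have e : ⁅v, a⁆ = v * (a * v⁻¹ * a⁻¹) := by rw [commutatorElement_def]; group
    rw [e]
    exact V.mul_mem hv ((Subgroup.mem_normalizer_iff.mp haV _).mp (V.inv_mem hv))
  -- `V₁`, generated by the `[v, a]`
  obtain ⟨V₁, hV₁⟩ : ∃ V₁ : Subgroup G, V₁ = Subgroup.closure {x | ∃ v ∈ V, x = ⁅v, a⁆} := ⟨_, rfl⟩
  have hV₁V : V₁ ≤ V := by
    rw [hV₁, Subgroup.closure_le]
    rintro _ ⟨v, hv, rfl⟩
    exact hcomV v hv
  have hV₁c : V₁ ≤ ⁅V, Subgroup.zpowers a⁆ := by
    rw [hV₁, Subgroup.closure_le]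
    rintro _ ⟨v, hv, rfl⟩
    exact Subgroup.commutator_mem_commutator hv (Subgroup.mem_zpowers a)
  have hBV₁ : B ≤ Subgroup.normalizer (V₁ : Set G) := by
    intro b hb
    apply mem_normalizer_of_map_conj_le
    rw [hV₁, MonoidHom.map_closure, Subgroup.closure_le]
    rintro _ ⟨_, ⟨v, hv, rfl⟩, rfl⟩
    apply Subgroup.subset_closure
    have hv' : b * v * b⁻¹ ∈ V := (Subgroup.mem_normalizer_iff.mp (hBV hb) v).mp hv
    refine ⟨b * v * b⁻¹, hv', ?_⟩
    have hc := hab b hb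
    rw [commutatorElement_def] at hc
    obtain ⟨c, hcdef⟩ : ∃ c, c = a * b * a⁻¹ * b⁻¹ := ⟨_, rfl⟩
    obtain ⟨v', hv'def⟩ : ∃ v', v' = b * v * b⁻¹ := ⟨_, rfl⟩
    rw [← hcdef] at hc
    rw [← hv'def] at hv'
    have h1 : v' * c⁻¹ = c⁻¹ * v' :=
      Subgroup.mem_centralizer_iff.mp (Subgroup.inv_mem _ hc) v' hv'
    have h2 : (v' * a * v'⁻¹ * a⁻¹) * c = c * (v' * a * v'⁻¹ * a⁻¹) := by
      have := hcomV v' hv'
      rw [commutatorElement_def] at this
      exact Subgroup.mem_centralizer_iff.mp hc _ this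
    simp only [MulEquiv.coe_toMonoidHom, MulAut.conj_apply]
    rw [commutatorElement_def, commutatorElement_def, ← hv'def]
    calc b * (v * a * v⁻¹ * a⁻¹) * b⁻¹ = (v' * c⁻¹) * a * v'⁻¹ * a⁻¹ * c := by
          rw [hv'def, hcdef]; group
      _ = (c⁻¹ * v') * a * v'⁻¹ * a⁻¹ * c := by rw [h1]
      _ = c⁻¹ * ((v' * a * v'⁻¹ * a⁻¹) * c) := by group
      _ = c⁻¹ * (c * (v' * a * v'⁻¹ * a⁻¹)) := by rw [h2]
      _ = v' * a * v'⁻¹ * a⁻¹ := by group
  have hV₁bot : V₁ = ⊥ := by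
    by_contra hne
    have hB₁ : ∀ b ∈ B, ∃ k : ℕ, b ^ (p ^ k) ∈ Subgroup.centralizer (V₁ : Set G) := by
      intro b hb
      obtain ⟨k, hk⟩ := hB b hb
      exact ⟨k, Subgroup.centralizer_le (by exact_mod_cast hV₁V) hk⟩
    have h1 := inf_centralizer_ne_bot_of_pgroup_action (hV.to_le hV₁V) hne hBV₁ hB₁
    apply h1
    rw [eq_bot_iff, ← hdisj]
    intro z hz
    have hzV : z ∈ V := hV₁V hz.1
    have hza : z ∈ Subgroup.centralizer ({a} : Set G) := hC ⟨hzV, hz.2⟩
    refine Subgroup.mem_inf.mpr ⟨Subgroup.mem_inf.mpr ⟨hzV, ?_⟩, hV₁c hz.1⟩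
    rw [Subgroup.mem_centralizer_singleton_iff] at hza
    have : Subgroup.zpowers a ≤ Subgroup.centralizer ({z} : Set G) := by
      rw [Subgroup.zpowers_le, Subgroup.mem_centralizer_singleton_iff]
      exact hza.symm
    rw [Subgroup.mem_centralizer_iff]
    intro y hy
    have := this hy
    rw [Subgroup.mem_centralizer_singleton_iff] at this
    exact this
  rw [Subgroup.mem_centralizer_iff]
  intro v hv
  have h1 : ⁅v, a⁆ ∈ V₁ := by
    rw [hV₁]; exact Subgroup.subset_closure ⟨v, hv, rfl⟩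
  rw [hV₁bot, Subgroup.mem_bot, commutatorElement_eq_one_iff_mul_comm] at h1
  exact h1

end

end Cfsg.Agent.Lib.Helper17
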