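import Mathlib
import Cfsg.Prelude.Def_BaumannBlocks
import Cfsg.Agent.Lib.Helper27.Thompson
import Cfsg.Agent.Lib.Helper17.CoprimeGen
import Cfsg.Agent.Lib.Helper17.PResidual

set_option autoImplicit false

namespace Cfsg.Agent.Lib.Helper17.BBlock

open Cfsg
open Cfsg.Agent.Lib.Helper17
open scoped commutatorElement

variable {G : Type*} [Group G]

/-! ### Equivariance of the Baumann subgroup -/

theorem centralizer_map_equiv (e : G ≃* G) (H : Subgroup G) :
    Subgroup.centralizer ((H.map e.toMonoidHom : Subgroup G) : Set G) =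
      (Subgroup.centralizer (H : Set G)).map e.toMonoidHom := by
  ext x
  rw [Subgroup.mem_centralizer_iff, Subgroup.mem_map]
  constructor
  · intro h
    refine ⟨e.symm x, ?_, by simp⟩
    rw [Subgroup.mem_centralizer_iff]
    intro y hy
    apply e.injective
    have := h (e y) ⟨y, hy, rfl⟩
    simpa using this
  · rintro ⟨c, hc, rfl⟩ y ⟨z, hz, rfl⟩
    rw [Subgroup.mem_centralizer_iff] at hc
    have := congrArg e (hc z hz)
    simpa using this

theorem omegaOne_map_equiv (p : ℕ) (e : G ≃* G) (H : Subgroup G) :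
    omegaOne p (H.map e.toMonoidHom) = (omegaOne p H).map e.toMonoidHom := by
  unfold omegaOne
  rw [MonoidHom.map_closure]
  congr 1
  ext x
  constructor
  · rintro ⟨⟨y, hy, rfl⟩, hx⟩
    refine ⟨y, ⟨hy, ?_⟩, rfl⟩
    apply e.injective
    simpa using hx
  · rintro ⟨y, ⟨hy, hy2⟩, rfl⟩
    refine ⟨⟨y, hy, rfl⟩, ?_⟩
    have := congrArg e hy2
    simpa using this

theorem centerThompsonOf_map_equiv (p : ℕ) (e : G ≃* G) (P : Subgroup G) :
    centerThompsonOf p (P.map e.toMonoidHom) = (centerThompsonOf p P).map e.toMonoidHom := by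
  unfold centerThompsonOf
  rw [Cfsg.Agent.Lib.Helper27.thompsonSubgroupOf_map, centralizer_map_equiv,
    Subgroup.map_inf _ _ _ e.injective]

theorem baumannSubgroupOf_map_equiv (p : ℕ) (e : G ≃* G) (P : Subgroup G) :
    baumannSubgroupOf p (P.map e.toMonoidHom) = (baumannSubgroupOf p P).map e.toMonoidHom := by
  unfold baumannSubgroupOf
  rw [centerThompsonOf_map_equiv, omegaOne_map_equiv, centralizer_map_equiv,
    Subgroup.map_inf _ _ _ e.injective]

theorem baumannSubgroupOf_le (p : ℕ) (P : Subgroup G) : baumannSubgroupOf p P ≤ P := by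
  unfold baumannSubgroupOf
  exact inf_le_left

theorem omegaOne_le (p : ℕ) (H : Subgroup G) : omegaOne p H ≤ H := by
  unfold omegaOne
  rw [Subgroup.closure_le]
  rintro x ⟨hx, -⟩
  exact hx

theorem thompsonSubgroupOf_le_baumann (p : ℕ) (P : Subgroup G) :
    thompsonSubgroupOf p P ≤ baumannSubgroupOf p P := by
  unfold baumannSubgroupOf
  refine le_inf (Cfsg.Agent.Lib.Helper27.thompsonSubgroupOf_le p P) ?_
  intro x hx
  rw [Subgroup.mem_centralizer_iff]
  intro y hy
  have h1 : y ∈ centerThompsonOf p P := omegaOne_le p _ hy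
  unfold centerThompsonOf at h1
  have h2 := Subgroup.mem_centralizer_iff.mp h1.2
  exact (h2 x hx).symm

theorem le_normalizer_baumann_self (p : ℕ) (P : Subgroup G) :
    P ≤ Subgroup.normalizer (baumannSubgroupOf p P : Set G) := by
  intro t ht
  have hP : P.map (MulAut.conj t).toMonoidHom = P := by
    ext x
    constructor
    · rintro ⟨y, hy, rfl⟩
      simp only [MulEquiv.coe_toMonoidHom, MulAut.conj_apply]
      exact mul_mem (mul_mem ht hy) (inv_mem ht)
    · intro hx
      exact ⟨t⁻¹ * x * t, mul_mem (mul_mem (inv_mem ht) hx) ht, by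
        simp [MulAut.conj_apply, mul_assoc]⟩
  have h := baumannSubgroupOf_map_equiv p (MulAut.conj t) P
  rw [hP] at h
  exact mem_normalizer_of_map_conj_eq h.symm

/-- Any `p`-subgroup containing `B(T)` normalizes `B(T)`. -/
theorem le_normalizer_baumann [Finite G] {p : ℕ} [Fact p.Prime] (T : Sylow p G) {P : Subgroup G}
    (hP : IsPGroup p P) (hBP : baumannSubgroupOf p (T : Subgroup G) ≤ P) :
    P ≤ Subgroup.normalizer (baumannSubgroupOf p (T : Subgroup G) : Set G) := by
  obtain ⟨S, hS⟩ := hP.exists_le_sylow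
  obtain ⟨g, hg⟩ := MulAction.exists_smul_eq G T S
  have hST : (S : Subgroup G) = (T : Subgroup G).map (MulAut.conj g).toMonoidHom := by
    rw [← hg, Sylow.coe_subgroup_smul, Subgroup.pointwise_smul_def]
    rfl
  have hJ : thompsonSubgroupOf p (T : Subgroup G) = thompsonSubgroupOf p (S : Subgroup G) :=
    Cfsg.Agent.Lib.Helper27.thompsonSubgroupOf_eq_of_le p (MulAut.conj g) _ _ hST
      ((thompsonSubgroupOf_le_baumann p _).trans (hBP.trans hS))
  have hZ : centerThompsonOf p (S : Subgroup G) = centerThompsonOf p (T : Subgroup G) := by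
    unfold centerThompsonOf
    rw [hJ]
  have hle : baumannSubgroupOf p (T : Subgroup G) ≤ baumannSubgroupOf p (S : Subgroup G) := by
    have h1 : baumannSubgroupOf p (T : Subgroup G) ≤ (S : Subgroup G) := hBP.trans hS
    have h2 : baumannSubgroupOf p (T : Subgroup G) ≤
        Subgroup.centralizer (omegaOne p (centerThompsonOf p (T : Subgroup G)) : Set G) := by
      unfold baumannSubgroupOf
      exact inf_le_right
    have h3 : baumannSubgroupOf p (S : Subgroup G) = (S : Subgroup G) ⊓
        Subgroup.centralizer (omegaOne p (centerThompsonOf p (T : Subgroup G)) : Set G) := by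
      unfold baumannSubgroupOf
      rw [hZ]
    rw [h3]
    exact le_inf h1 h2
  have hB : baumannSubgroupOf p (T : Subgroup G) = baumannSubgroupOf p (S : Subgroup G) := by
    apply Subgroup.eq_of_le_of_card_ge hle
    rw [hST, baumannSubgroupOf_map_equiv, Cfsg.Agent.Lib.Helper27.card_map_equiv]
  rw [hB]
  exact hS.trans (le_normalizer_baumann_self p _)

/-! ### `p'`-generation -/

theorem closure_coprime_sup_eq [Finite G] {p : ℕ} [Fact p.Prime] {E P : Subgroup G}
    (hP : IsPGroup p P) (hPE : P ≤ Subgroup.normalizer (E : Set G))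
    (hE : pResidualOf p E = E) :
    Subgroup.closure {x : G | x ∈ E ⊔ P ∧ (orderOf x).Coprime p} = E := by
  have h1 : {x : G | x ∈ E ⊔ P ∧ (orderOf x).Coprime p} =
      {x : G | x ∈ E ∧ (orderOf x).Coprime p} := by
    ext x
    constructor
    · rintro ⟨hx, hc⟩
      exact ⟨mem_of_coprime_of_mem_sup_pgroup hP hPE hx hc, hc⟩
    · rintro ⟨hx, hc⟩
      exact ⟨Subgroup.mem_sup_left hx, hc⟩
  rw [h1, ← map_subtype_pResidual]
  exact hE

theorem closure_coprime_eq {p : ℕ} {E : Subgroup G} (hE : pResidualOf p E = E) :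
    Subgroup.closure {x : G | x ∈ E ∧ (orderOf x).Coprime p} = E := by
  rw [← map_subtype_pResidual]
  exact hE

/-- If the `p`-group `P` normalizes `E = O^p(E)`, then whatever normalizes `EP` normalizes `E`. -/
theorem normalizer_sup_le_normalizer [Finite G] {p : ℕ} [Fact p.Prime] {E P : Subgroup G}
    (hP : IsPGroup p P) (hPE : P ≤ Subgroup.normalizer (E : Set G))
    (hE : pResidualOf p E = E) :
    Subgroup.normalizer ((E ⊔ P : Subgroup G) : Set G) ≤ Subgroup.normalizer (E : Set G) := by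
  have h := normalizer_le_normalizer_closure_coprime (p := p) (E ⊔ P)
  rwa [closure_coprime_sup_eq hP hPE hE] at h

theorem pResidualOf_sup_eq [Finite G] {p : ℕ} [Fact p.Prime] {E P : Subgroup G}
    (hP : IsPGroup p P) (hPE : P ≤ Subgroup.normalizer (E : Set G))
    (hE : pResidualOf p E = E) : pResidualOf p (E ⊔ P) = E := by
  have h : pResidualOf p (E ⊔ P) =
      Subgroup.closure {x : G | x ∈ E ⊔ P ∧ (orderOf x).Coprime p} :=
    map_subtype_pResidual (E ⊔ P)
  rw [h, closure_coprime_sup_eq hP hPE hE]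

/-! ### The conjugation trick -/

theorem sup_eq_closure_conj {E B : Subgroup G} (hE2 : ⁅E, B⁆ = E) :
    E ⊔ B = Subgroup.closure {g : G | ∃ e ∈ E, ∃ b ∈ B, g = e * b * e⁻¹} := by
  have hBL : B ≤ Subgroup.closure {g : G | ∃ e ∈ E, ∃ b ∈ B, g = e * b * e⁻¹} :=
    fun b hb => Subgroup.subset_closure ⟨1, one_mem _, b, hb, by simp⟩
  apply le_antisymm
  · refine sup_le ?_ hBL
    conv_lhs => rw [← hE2]
    rw [Subgroup.commutator_le]
    intro e he b hb
    have h : ⁅e, b⁆ = (e * b * e⁻¹) * b⁻¹ := by simp only [commutatorElement_def]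
    rw [h]
    exact mul_mem (Subgroup.subset_closure ⟨e, he, b, hb, rfl⟩) (inv_mem (hBL hb))
  · rw [Subgroup.closure_le]
    rintro _ ⟨e, he, b, hb, rfl⟩
    exact mul_mem (mul_mem (Subgroup.mem_sup_left he) (Subgroup.mem_sup_right hb))
      (inv_mem (Subgroup.mem_sup_left he))

/-- The conjugation trick: a `p`-subgroup normalized by `B` and by `E = O^p(E) = [E, B]`
normalizes `E`, provided every `p`-subgroup containing `B` normalizes `B`. -/
theorem le_normalizer_of_trick [Finite G] {p : ℕ} [Fact p.Prime] {E B : Subgroup G}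
    (hBp : IsPGroup p B)
    (hKL : ∀ P : Subgroup G, IsPGroup p P → B ≤ P → P ≤ Subgroup.normalizer (B : Set G))
    (hE1 : pResidualOf p E = E) (hE2 : ⁅E, B⁆ = E) {Q : Subgroup G} (hQ : IsPGroup p Q)
    (hBQ : B ≤ Subgroup.normalizer (Q : Set G)) (hEQ : E ≤ Subgroup.normalizer (Q : Set G)) :
    Q ≤ Subgroup.normalizer (E : Set G) := by
  have hBE : B ≤ Subgroup.normalizer (E : Set G) := by
    have h := le_normalizer_commutator_right E B
    rwa [hE2] at h
  have hQB : IsPGroup p (B ⊔ Q : Subgroup G) := hBp.to_sup_of_normal_right' hQ hBQ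
  have hQN : Q ≤ Subgroup.normalizer (B : Set G) := le_sup_right.trans (hKL _ hQB le_sup_left)
  refine le_trans ?_ (normalizer_sup_le_normalizer hBp hBE hE1)
  intro x hx
  apply mem_normalizer_of_map_conj_le
  rw [sup_eq_closure_conj hE2, MonoidHom.map_closure, Subgroup.closure_le]
  rintro _ ⟨_, ⟨e, he, b, hb, rfl⟩, rfl⟩
  simp only [MulEquiv.coe_toMonoidHom, MulAut.conj_apply]
  have h1 : e⁻¹ * x * e ∈ Q := by
    have := (Subgroup.mem_normalizer_iff.mp (hEQ (inv_mem he)) x).mp hx
    simpa using this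
  have h2 : (e⁻¹ * x * e) * b * (e⁻¹ * x * e)⁻¹ ∈ B :=
    (Subgroup.mem_normalizer_iff.mp (hQN h1) b).mp hb
  have h3 : x * (e * b * e⁻¹) * x⁻¹ =
      e * ((e⁻¹ * x * e) * b * (e⁻¹ * x * e)⁻¹) * e⁻¹ := by group
  rw [h3]
  exact Subgroup.subset_closure ⟨e, he, _, h2, rfl⟩

/-- The conjugation trick for `B(T)`-blocks. -/
theorem le_normalizer_block [Finite G] {p : ℕ} [Fact p.Prime] (T : Sylow p G) {E : Subgroup G}
    (hE1 : pResidualOf p E = E) (hE2 : ⁅E, baumannSubgroupOf p (T : Subgroup G)⁆ = E)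
    {Q : Subgroup G} (hQ : IsPGroup p Q)
    (hBQ : baumannSubgroupOf p (T : Subgroup G) ≤ Subgroup.normalizer (Q : Set G))
    (hEQ : E ≤ Subgroup.normalizer (Q : Set G)) : Q ≤ Subgroup.normalizer (E : Set G) :=
  le_normalizer_of_trick (T.isPGroup'.to_le (baumannSubgroupOf_le p _))
    (fun _ hP hBP => le_normalizer_baumann T hP hBP) hE1 hE2 hQ hBQ hEQ

end Cfsg.Agent.Lib.Helper17.BBlock
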