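import Mathlib

set_option autoImplicit false

namespace Cfsg.Agent.Lib.Helper17.NatIrr

open Equiv Matrix
open scoped commutatorElement

/-! ### The even-weight module of the alternating group of odd degree -/

theorem three_cycle_apply {n : ℕ} {a b c : Fin n} (hab : a ≠ b) (hac : a ≠ c) (hbc : b ≠ c)
    (v : Fin n → ZMod 2) :
    (fun l => v ((swap a b * swap a c)⁻¹ l)) + v =
      Pi.single a (v b + v a) + Pi.single b (v c + v b) + Pi.single c (v a + v c) := by
  have hinv : (swap a b * swap a c)⁻¹ = swap a c * swap a b := by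
    rw [_root_.mul_inv_rev, swap_inv, swap_inv]
  funext l
  rw [hinv]
  simp only [Pi.add_apply, Perm.mul_apply]
  by_cases hla : l = a
  · rw [hla, swap_apply_left, swap_apply_of_ne_of_ne hab.symm hbc]
    simp [Pi.single_apply, hab, hac]
  · by_cases hlb : l = b
    · rw [hlb, swap_apply_right, swap_apply_left]
      simp [Pi.single_apply, hab.symm, hbc]
    · by_cases hlc : l = c
      · rw [hlc, swap_apply_of_ne_of_ne hac.symm hbc.symm, swap_apply_right]
        simp [Pi.single_apply, hac.symm, hbc.symm]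
      · rw [swap_apply_of_ne_of_ne hla hlb, swap_apply_of_ne_of_ne hla hlc]
        simp [Pi.single_apply, hla, hlb, hlc]
        exact CharTwo.add_self_eq_zero _

theorem zmod2_cases (x : ZMod 2) : x = 0 ∨ x = 1 := by
  revert x; decide

theorem alt_irr (m : ℕ) (M : AddSubgroup (Fin (2 * m + 1) → ZMod 2))
    (hM : ∀ σ ∈ alternatingGroup (Fin (2 * m + 1)), ∀ v ∈ M, (fun i => v (σ⁻¹ i)) ∈ M)
    (hsum : ∀ v ∈ M, ∑ i, v i = 0) (hne : ∃ v ∈ M, v ≠ 0) :
    ∀ w : Fin (2 * m + 1) → ZMod 2, ∑ i, w i = 0 → w ∈ M := by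
  obtain ⟨v, hvM, hv0⟩ := hne
  obtain ⟨i, hi⟩ : ∃ i, v i ≠ 0 := by
    by_contra h
    push_neg at h
    exact hv0 (funext h)
  have hi1 : v i = 1 := (zmod2_cases (v i)).resolve_left hi
  obtain ⟨j, hj⟩ : ∃ j, v j = 0 := by
    by_contra h
    push_neg at h
    have hall : ∀ l, v l = 1 := fun l => (zmod2_cases (v l)).resolve_left (h l)
    have h1 := hsum v hvM
    simp only [hall, Finset.sum_const, Finset.card_univ, Fintype.card_fin, nsmul_eq_mul,
      mul_one] at h1
    have h2 : ((2 * m + 1 : ℕ) : ZMod 2) = 1 := by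
      push_cast
      have : (2 : ZMod 2) = 0 := by decide
      rw [this]; ring
    rw [h2] at h1
    exact one_ne_zero h1
  have hij : i ≠ j := by
    rintro rfl
    rw [hj] at hi1
    exact zero_ne_one hi1
  obtain ⟨k, hki, hkj⟩ : ∃ k, k ≠ i ∧ k ≠ j := by
    have hcard : 3 ≤ Fintype.card (Fin (2 * m + 1)) := by
      rw [Fintype.card_fin]
      rcases Nat.eq_zero_or_pos m with hm | hm
      · exfalso
        apply hij
        apply Fin.ext
        have h1 := i.2
        have h2 := j.2
        omega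
      · omega
    by_contra h
    push_neg at h
    have h2 : Fintype.card (Fin (2 * m + 1)) ≤ 2 := by
      calc Fintype.card (Fin (2 * m + 1)) = (Finset.univ : Finset (Fin (2 * m + 1))).card :=
            Finset.card_univ.symm
        _ ≤ ({i, j} : Finset (Fin (2 * m + 1))).card := Finset.card_le_card (fun k _ => by
            by_cases hk : k = i
            · simp [hk]
            · simp [h k hk])
        _ ≤ 2 := Finset.card_le_two
    omega
  -- an element `e_a + e_b` of `M`
  obtain ⟨a, b, hab, hMab⟩ : ∃ a b : Fin (2 * m + 1), a ≠ b ∧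
      (Pi.single a (1 : ZMod 2) + Pi.single b 1) ∈ M := by
    have hσ : swap i j * swap i k ∈ alternatingGroup (Fin (2 * m + 1)) :=
      (Perm.isThreeCycle_swap_mul_swap_same hij hki.symm hkj.symm).mem_alternatingGroup
    have hu : (fun l => v ((swap i j * swap i k)⁻¹ l)) + v ∈ M :=
      M.add_mem (hM _ hσ v hvM) hvM
    rw [three_cycle_apply hij hki.symm hkj.symm, hi1, hj] at hu
    rcases zmod2_cases (v k) with hk | hk
    · refine ⟨i, k, hki.symm, ?_⟩
      rw [hk] at hu
      simpa using hu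
    · refine ⟨i, j, hij, ?_⟩
      rw [hk] at hu
      have h11 : (1 : ZMod 2) + 1 = 0 := by decide
      simpa [h11] using hu
  -- all `e_a + e_c`
  have hall : ∀ c, (Pi.single a (1 : ZMod 2) + Pi.single c 1) ∈ M := by
    intro c
    by_cases hca : c = a
    · rw [hca]
      have : (Pi.single a (1 : ZMod 2) + Pi.single a 1 : Fin (2 * m + 1) → ZMod 2) = 0 := by
        funext l
        simp only [Pi.add_apply, Pi.zero_apply]
        exact CharTwo.add_self_eq_zero _
      rw [this]
      exact M.zero_mem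
    · by_cases hcb : c = b
      · rw [hcb]; exact hMab
      · have hσ : swap a b * swap a c ∈ alternatingGroup (Fin (2 * m + 1)) :=
          (Perm.isThreeCycle_swap_mul_swap_same hab (Ne.symm hca) (Ne.symm hcb)).mem_alternatingGroup
        have hu := M.add_mem (hM _ hσ _ hMab) hMab
        have h3 := three_cycle_apply hab (Ne.symm hca) (Ne.symm hcb)
          (Pi.single a (1 : ZMod 2) + Pi.single b 1)
        rw [h3] at hu
        have h11 : (1 : ZMod 2) + 1 = 0 := by decide
        have hu' : (Pi.single b (1 : ZMod 2) + Pi.single c 1 : Fin (2 * m + 1) → ZMod 2) ∈ M := by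
          simpa [Pi.single_apply, hab, hab.symm, hca, hcb, Ne.symm hca, Ne.symm hcb, h11] using hu
        have hsum2 := M.add_mem hMab hu'
        have : (Pi.single a (1 : ZMod 2) + Pi.single b 1 + (Pi.single b 1 + Pi.single c 1) :
            Fin (2 * m + 1) → ZMod 2) = Pi.single a 1 + Pi.single c 1 := by
          funext l
          simp only [Pi.add_apply]
          have := CharTwo.add_self_eq_zero ((Pi.single b (1 : ZMod 2) : Fin (2 * m + 1) → ZMod 2) l)
          linear_combination this
        rwa [this] at hsum2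
  intro w hw
  have hwsum : w = ∑ c, w c • (Pi.single a (1 : ZMod 2) + Pi.single c 1) := by
    funext l
    simp only [Finset.sum_apply, Pi.smul_apply, Pi.add_apply, smul_eq_mul, mul_add,
      Finset.sum_add_distrib]
    rw [← Finset.sum_mul, hw, zero_mul, zero_add]
    simp [Pi.single_apply]
  rw [hwsum]
  apply AddSubgroup.sum_mem
  intro c _
  rcases zmod2_cases (w c) with h | h
  · rw [h, zero_smul]; exact M.zero_mem
  · rw [h, one_smul]; exact hall c


/-! ### The natural module of `SL₂(F)'` -/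

section SL2

variable {F : Type*} [Field F] [Fintype F]

theorem top_of_transvections (M : AddSubgroup (Fin 2 → F))
    (hU : ∀ b : F, ∀ v ∈ M, ![v 0 + b * v 1, v 1] ∈ M)
    (hL : ∀ b : F, ∀ v ∈ M, ![v 0, v 1 + b * v 0] ∈ M)
    (hne : ∃ v ∈ M, v ≠ 0) : ∀ w, w ∈ M := by
  obtain ⟨v, hv, hv0⟩ := hne
  have H1 : ∀ a : F, ![a, 0] ∈ M := by
    by_cases h1 : v 1 = 0
    · have h0 : v 0 ≠ 0 := by
        intro h0
        apply hv0
        funext i
        fin_cases i
        · exact h0
        · exact h1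
      have H2 : ∀ a : F, ![0, a] ∈ M := by
        intro a
        have h := M.sub_mem (hL (a / v 0) v hv) hv
        have e : ![v 0, v 1 + a / v 0 * v 0] - v = ![0, a] := by
          funext i
          fin_cases i
          · simp
          · simp [h1, h0]
        rwa [e] at h
      intro a
      have h := M.sub_mem (hU a _ (H2 1)) (H2 1)
      have e : ![(![0, 1] : Fin 2 → F) 0 + a * (![0, 1] : Fin 2 → F) 1, (![0, 1] : Fin 2 → F) 1] -
          ![0, 1] = ![a, 0] := by
        funext i
        fin_cases i <;> simp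
      rwa [e] at h
    · intro a
      have h := M.sub_mem (hU (a / v 1) v hv) hv
      have e : ![v 0 + a / v 1 * v 1, v 1] - v = ![a, 0] := by
        funext i
        fin_cases i
        · simp [h1]
        · simp
      rwa [e] at h
  have H2 : ∀ a : F, ![0, a] ∈ M := by
    intro a
    have h := M.sub_mem (hL a _ (H1 1)) (H1 1)
    have e : ![(![1, 0] : Fin 2 → F) 0, (![1, 0] : Fin 2 → F) 1 + a * (![1, 0] : Fin 2 → F) 0] -
        ![1, 0] = ![0, a] := by
      funext i
      fin_cases i <;> simp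
    rwa [e] at h
  intro w
  have e : w = ![w 0, 0] + ![0, w 1] := by
    funext i
    fin_cases i <;> simp
  rw [e]
  exact M.add_mem (H1 _) (H2 _)

theorem exists_sq_ne_one (h4 : 4 ≤ Fintype.card F) : ∃ d : F, d ≠ 0 ∧ d ^ 2 ≠ 1 := by
  classical
  by_contra hcon
  push_neg at hcon
  have hsub : (Finset.univ : Finset F) ⊆ {0, 1, -1} := by
    intro d _
    by_cases hd : d = 0
    · simp [hd]
    · have h1 := hcon d hd
      have h2 : (d - 1) * (d + 1) = 0 := by linear_combination h1
      rcases mul_eq_zero.mp h2 with h | h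
      · have : d = 1 := sub_eq_zero.mp h
        simp [this]
      · have : d = -1 := eq_neg_of_add_eq_zero_left h
        simp [this]
  have h5 := Finset.card_le_card hsub
  have h3 : ({0, 1, -1} : Finset F).card ≤ 3 := Finset.card_le_three
  rw [Finset.card_univ] at h5
  omega

/-- diagonal matrix `diag(e, d)` with `e * d = 1` -/
def dg (e d : F) (h : e * d = 1) : Matrix.SpecialLinearGroup (Fin 2) F :=
  ⟨!![e, 0; 0, d], by rw [Matrix.det_fin_two_of]; linear_combination h⟩

def up (a : F) : Matrix.SpecialLinearGroup (Fin 2) F :=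
  ⟨!![1, a; 0, 1], by rw [Matrix.det_fin_two_of]; ring⟩

def lo (a : F) : Matrix.SpecialLinearGroup (Fin 2) F :=
  ⟨!![1, 0; a, 1], by rw [Matrix.det_fin_two_of]; ring⟩

def sw (h2 : (2 : F) = 0) : Matrix.SpecialLinearGroup (Fin 2) F :=
  ⟨!![0, 1; 1, 0], by rw [Matrix.det_fin_two_of]; linear_combination (-1 : F) * h2⟩

theorem coe_dg (e d : F) (h : e * d = 1) :
    ((dg e d h : Matrix.SpecialLinearGroup (Fin 2) F) : Matrix (Fin 2) (Fin 2) F) =
      !![e, 0; 0, d] := rfl

theorem coe_up (a : F) :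
    ((up a : Matrix.SpecialLinearGroup (Fin 2) F) : Matrix (Fin 2) (Fin 2) F) = !![1, a; 0, 1] :=
  rfl

theorem coe_lo (a : F) :
    ((lo a : Matrix.SpecialLinearGroup (Fin 2) F) : Matrix (Fin 2) (Fin 2) F) = !![1, 0; a, 1] :=
  rfl

theorem coe_sw (h2 : (2 : F) = 0) :
    ((sw h2 : Matrix.SpecialLinearGroup (Fin 2) F) : Matrix (Fin 2) (Fin 2) F) = !![0, 1; 1, 0] :=
  rfl

theorem comm_dg_up (e d : F) (h : e * d = 1) (a : F) :
    ((⁅dg e d h, up a⁆ : Matrix.SpecialLinearGroup (Fin 2) F) : Matrix (Fin 2) (Fin 2) F) =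
      !![1, (e ^ 2 - 1) * a; 0, 1] := by
  rw [commutatorElement_def]
  rw [Matrix.SpecialLinearGroup.coe_mul, Matrix.SpecialLinearGroup.coe_mul,
    Matrix.SpecialLinearGroup.coe_mul, Matrix.SpecialLinearGroup.coe_inv,
    Matrix.SpecialLinearGroup.coe_inv, coe_dg, coe_up, Matrix.adjugate_fin_two_of,
    Matrix.adjugate_fin_two_of]
  simp only [Matrix.mul_fin_two]
  ext i j
  fin_cases i <;> fin_cases j <;> simp <;>
    first | linear_combination h | linear_combination (-a) * h

theorem comm_dg_lo (e d : F) (h : e * d = 1) (a : F) :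
    ((⁅dg e d h, lo a⁆ : Matrix.SpecialLinearGroup (Fin 2) F) : Matrix (Fin 2) (Fin 2) F) =
      !![1, 0; (d ^ 2 - 1) * a, 1] := by
  rw [commutatorElement_def]
  rw [Matrix.SpecialLinearGroup.coe_mul, Matrix.SpecialLinearGroup.coe_mul,
    Matrix.SpecialLinearGroup.coe_mul, Matrix.SpecialLinearGroup.coe_inv,
    Matrix.SpecialLinearGroup.coe_inv, coe_dg, coe_lo, Matrix.adjugate_fin_two_of,
    Matrix.adjugate_fin_two_of]
  simp only [Matrix.mul_fin_two]
  ext i j
  fin_cases i <;> fin_cases j <;> simp <;>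
    first | linear_combination h | linear_combination (-a) * h

theorem comm_sw_up (h2 : (2 : F) = 0) :
    ((⁅sw h2, up 1⁆ : Matrix.SpecialLinearGroup (Fin 2) F) : Matrix (Fin 2) (Fin 2) F) =
      !![-1, 1; -1, 0] := by
  rw [commutatorElement_def]
  rw [Matrix.SpecialLinearGroup.coe_mul, Matrix.SpecialLinearGroup.coe_mul,
    Matrix.SpecialLinearGroup.coe_mul, Matrix.SpecialLinearGroup.coe_inv,
    Matrix.SpecialLinearGroup.coe_inv, coe_sw, coe_up, Matrix.adjugate_fin_two_of,
    Matrix.adjugate_fin_two_of]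
  simp only [Matrix.mul_fin_two]
  ext i j
  fin_cases i <;> fin_cases j <;> simp

theorem comm_up_lo :
    ((⁅up (1 : F), lo 1⁆ : Matrix.SpecialLinearGroup (Fin 2) F) : Matrix (Fin 2) (Fin 2) F) =
      !![3, -1; 1, 0] := by
  rw [commutatorElement_def]
  rw [Matrix.SpecialLinearGroup.coe_mul, Matrix.SpecialLinearGroup.coe_mul,
    Matrix.SpecialLinearGroup.coe_mul, Matrix.SpecialLinearGroup.coe_inv,
    Matrix.SpecialLinearGroup.coe_inv, coe_lo, coe_up, Matrix.adjugate_fin_two_of,
    Matrix.adjugate_fin_two_of]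
  simp only [Matrix.mul_fin_two]
  ext i j
  fin_cases i <;> fin_cases j <;> simp <;> ring

theorem mulVec_fin_two (a b c d : F) (v : Fin 2 → F) :
    (!![a, b; c, d]).mulVec v = ![a * v 0 + b * v 1, c * v 0 + d * v 1] := by
  funext i
  fin_cases i <;> simp [Matrix.mulVec, dotProduct, Fin.sum_univ_two]

theorem top_of_no_eigen (M : AddSubgroup (Fin 2 → F)) (hsm : ∀ a : F, ∀ u ∈ M, a • u ∈ M)
    (α β γ δ : F) (hg : ∀ v ∈ M, ![α * v 0 + β * v 1, γ * v 0 + δ * v 1] ∈ M)
    (hdet : ∀ x y : F, (x ≠ 0 ∨ y ≠ 0) → γ * x ^ 2 + (δ - α) * x * y - β * y ^ 2 ≠ 0)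
    (hne : ∃ v ∈ M, v ≠ 0) : ∀ w, w ∈ M := by
  obtain ⟨v, hv, hv0⟩ := hne
  have hxy : v 0 ≠ 0 ∨ v 1 ≠ 0 := by
    by_contra h
    push_neg at h
    apply hv0
    funext i
    fin_cases i
    · exact h.1
    · exact h.2
  have hΔ := hdet (v 0) (v 1) hxy
  set Δ := γ * v 0 ^ 2 + (δ - α) * v 0 * v 1 - β * v 1 ^ 2 with hΔdef
  have hu := hg v hv
  have ht1 : ![Δ, 0] ∈ M := by
    have h := M.sub_mem (hsm (γ * v 0 + δ * v 1) v hv) (hsm (v 1) _ hu)
    have e : (γ * v 0 + δ * v 1) • v - v 1 • ![α * v 0 + β * v 1, γ * v 0 + δ * v 1] = ![Δ, 0] := by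
      funext i
      fin_cases i
      · simp only [Fin.zero_eta, Fin.isValue, Pi.sub_apply, Pi.smul_apply, smul_eq_mul,
          Matrix.cons_val_zero]
        rw [hΔdef]; ring
      · simp only [Fin.mk_one, Fin.isValue, Pi.sub_apply, Pi.smul_apply, smul_eq_mul,
          Matrix.cons_val_one, Matrix.cons_val_zero]
        ring
    rwa [e] at h
  have ht2 : ![0, Δ] ∈ M := by
    have h := M.sub_mem (hsm (v 0) _ hu) (hsm (α * v 0 + β * v 1) v hv)
    have e : v 0 • ![α * v 0 + β * v 1, γ * v 0 + δ * v 1] - (α * v 0 + β * v 1) • v = ![0, Δ] := by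
      funext i
      fin_cases i
      · simp only [Fin.zero_eta, Fin.isValue, Pi.sub_apply, Pi.smul_apply, smul_eq_mul,
          Matrix.cons_val_zero]
        ring
      · simp only [Fin.mk_one, Fin.isValue, Pi.sub_apply, Pi.smul_apply, smul_eq_mul,
          Matrix.cons_val_one, Matrix.cons_val_zero]
        rw [hΔdef]; ring
    rwa [e] at h
  intro w
  have e : w = (w 0 / Δ) • ![Δ, 0] + (w 1 / Δ) • ![0, Δ] := by
    funext i
    fin_cases i
    · simp only [Fin.zero_eta, Fin.isValue, Pi.add_apply, Pi.smul_apply, smul_eq_mul,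
        Matrix.cons_val_zero]
      field_simp
      ring
    · simp only [Fin.mk_one, Fin.isValue, Pi.add_apply, Pi.smul_apply, smul_eq_mul,
        Matrix.cons_val_one, Matrix.cons_val_zero]
      field_simp
      ring
  rw [e]
  exact M.add_mem (hsm _ _ ht1) (hsm _ _ ht2)

theorem sl2_irr (M : AddSubgroup (Fin 2 → F))
    (hM : ∀ g ∈ commutator (Matrix.SpecialLinearGroup (Fin 2) F), ∀ v ∈ M,
      (g : Matrix (Fin 2) (Fin 2) F).mulVec v ∈ M)
    (hne : ∃ v ∈ M, v ≠ 0) : ∀ w, w ∈ M := by
  classical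
  have hmem : ∀ a b : Matrix.SpecialLinearGroup (Fin 2) F,
      ⁅a, b⁆ ∈ commutator (Matrix.SpecialLinearGroup (Fin 2) F) := fun a b =>
    Subgroup.commutator_mem_commutator (Subgroup.mem_top a) (Subgroup.mem_top b)
  have hcard : 1 < Fintype.card F := Fintype.one_lt_card
  have hcast : ((Fintype.card F : ℕ) : F) = 0 := Nat.cast_card_eq_zero F
  rcases (by omega : Fintype.card F = 2 ∨ Fintype.card F = 3 ∨ 4 ≤ Fintype.card F) with
    hc | hc | hc
  · -- two elements
    have h2 : (2 : F) = 0 := by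
      rw [hc] at hcast; exact_mod_cast hcast
    have h01 : ∀ a : F, a = 0 ∨ a = 1 := by
      have hs : ({0, 1} : Finset F) = Finset.univ := by
        apply Finset.eq_univ_of_card
        rw [Finset.card_pair zero_ne_one, hc]
      intro a
      have : a ∈ ({0, 1} : Finset F) := hs ▸ Finset.mem_univ a
      simpa using this
    apply top_of_no_eigen M _ (-1) 1 (-1) 0 _ _ hne
    · intro a u hu
      rcases h01 a with rfl | rfl
      · rw [zero_smul]; exact M.zero_mem
      · rw [one_smul]; exact hu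
    · intro v hv
      have h := hM _ (hmem (sw h2) (up 1)) v hv
      rwa [comm_sw_up, mulVec_fin_two] at h
    · intro x y hxy
      rcases h01 x with rfl | rfl <;> rcases h01 y with rfl | rfl <;> simp at hxy ⊢
  · -- three elements
    have h3 : (3 : F) = 0 := by
      rw [hc] at hcast; exact_mod_cast hcast
    have h2ne : (1 : F) + 1 ≠ 0 := by
      intro h
      have : (1 : F) = 0 := by linear_combination h3 - h
      exact one_ne_zero this
    have h1ne : (1 : F) ≠ -1 := by
      intro h
      apply h2ne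
      linear_combination h
    have h01 : ∀ a : F, a = 0 ∨ a = 1 ∨ a = -1 := by
      have hs : ({0, 1, -1} : Finset F) = Finset.univ := by
        apply Finset.eq_univ_of_card
        rw [hc, Finset.card_insert_of_notMem (by simp), Finset.card_pair h1ne]
      intro a
      have : a ∈ ({0, 1, -1} : Finset F) := hs ▸ Finset.mem_univ a
      simpa using this
    apply top_of_no_eigen M _ 0 (-1) 1 0 _ _ hne
    · intro a u hu
      rcases h01 a with rfl | rfl | rfl
      · rw [zero_smul]; exact M.zero_mem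
      · rw [one_smul]; exact hu
      · rw [neg_smul, one_smul]; exact M.neg_mem hu
    · intro v hv
      have h := hM _ (hmem (up 1) (lo 1)) v hv
      rwa [comm_up_lo, h3, mulVec_fin_two] at h
    · intro x y hxy
      rcases h01 x with rfl | rfl | rfl <;> rcases h01 y with rfl | rfl | rfl <;>
        simp at hxy ⊢ <;> exact h2ne
  · -- at least four elements
    obtain ⟨d, hd0, hd1⟩ := exists_sq_ne_one hc
    have hdd : d * d⁻¹ = 1 := mul_inv_cancel₀ hd0
    have hdd' : d⁻¹ * d = 1 := inv_mul_cancel₀ hd0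
    have hu : d ^ 2 - 1 ≠ 0 := sub_ne_zero.mpr hd1
    apply top_of_transvections M _ _ hne
    · intro b v hv
      have h := hM _ (hmem (dg d d⁻¹ hdd) (up (b / (d ^ 2 - 1)))) v hv
      rw [comm_dg_up, mulVec_fin_two] at h
      have e : (d ^ 2 - 1) * (b / (d ^ 2 - 1)) = b := by field_simp
      rw [e] at h
      simpa using h
    · intro b v hv
      have h := hM _ (hmem (dg d⁻¹ d hdd') (lo (b / (d ^ 2 - 1)))) v hv
      rw [comm_dg_lo, mulVec_fin_two] at h
      have e : (d ^ 2 - 1) * (b / (d ^ 2 - 1)) = b := by field_simp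
      rw [e] at h
      have e2 : ![1 * v 0 + 0 * v 1, b * v 0 + 1 * v 1] = ![v 0, v 1 + b * v 0] := by
        funext i
        fin_cases i
        · simp
        · simp [add_comm]
      rwa [e2] at h

end SL2

end Cfsg.Agent.Lib.Helper17.NatIrr
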