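import Mathlib
import Cfsg.Prelude.Def_BaumannBlocks
import Cfsg.Agent.Lib.Helper17.BBlock
import Cfsg.Agent.Lib.Helper17.NatIrr
import Cfsg.Agent.Lib.Helper17.Basic
import Cfsg.Agent.H5.Thompson

set_option autoImplicit false

namespace Cfsg.Agent.Lib.Helper17.BBlock

open Cfsg
open Cfsg.Agent.Lib.Helper17
open scoped commutatorElement

variable {G : Type*} [Group G]

/-! ### `Ω₁(Z(X))` -/

/-- The subgroup of elements of `Z(X)` with `x ^ p = 1`. -/
def omegaSub (p : ℕ) (X : Subgroup G) : Subgroup G where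
  carrier := {x | x ∈ X ⊓ Subgroup.centralizer (X : Set G) ∧ x ^ p = 1}
  one_mem' := ⟨one_mem _, one_pow _⟩
  mul_mem' := by
    rintro a b ⟨ha, ha'⟩ ⟨hb, hb'⟩
    refine ⟨mul_mem ha hb, ?_⟩
    have hc : Commute a b := Subgroup.mem_centralizer_iff.mp hb.2 a ha.1
    rw [hc.mul_pow, ha', hb', one_mul]
  inv_mem' := by
    rintro a ⟨ha, ha'⟩
    exact ⟨inv_mem ha, by rw [inv_pow, ha', inv_one]⟩

theorem omegaOneCenter_eq (p : ℕ) (X : Subgroup G) : omegaOneCenter p X = omegaSub p X := by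
  unfold omegaOneCenter omegaOne
  exact Subgroup.closure_eq (omegaSub p X)

theorem mem_omegaOneCenter {p : ℕ} {X : Subgroup G} {x : G} :
    x ∈ omegaOneCenter p X ↔ (x ∈ X ∧ x ∈ Subgroup.centralizer (X : Set G)) ∧ x ^ p = 1 := by
  rw [omegaOneCenter_eq]
  rfl

theorem omegaOneCenter_le (p : ℕ) (X : Subgroup G) : omegaOneCenter p X ≤ X :=
  fun _ hx => (mem_omegaOneCenter.mp hx).1.1

theorem omegaOneCenter_le_centralizer (p : ℕ) (X : Subgroup G) :
    omegaOneCenter p X ≤ Subgroup.centralizer (X : Set G) :=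
  fun _ hx => (mem_omegaOneCenter.mp hx).1.2

theorem omegaOneCenter_pow {p : ℕ} {X : Subgroup G} {x : G} (hx : x ∈ omegaOneCenter p X) :
    x ^ p = 1 := (mem_omegaOneCenter.mp hx).2

theorem omegaOneCenter_comm {p : ℕ} {X : Subgroup G} {a b : G} (ha : a ∈ omegaOneCenter p X)
    (hb : b ∈ omegaOneCenter p X) : a * b = b * a :=
  Subgroup.mem_centralizer_iff.mp (omegaOneCenter_le_centralizer p X hb) a
    (omegaOneCenter_le p X ha)

theorem normalizer_le_normalizer_omegaOneCenter (p : ℕ) (X : Subgroup G) :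
    Subgroup.normalizer (X : Set G) ≤ Subgroup.normalizer (omegaOneCenter p X : Set G) := by
  intro g hg
  have hgC := normalizer_le_normalizer_centralizer X hg
  rw [Subgroup.mem_normalizer_iff] at hg hgC ⊢
  intro x
  rw [mem_omegaOneCenter, mem_omegaOneCenter, ← hg x, ← hgC x, conj_pow]
  constructor
  · rintro ⟨h1, h2⟩
    exact ⟨h1, by rw [h2]; group⟩
  · rintro ⟨h1, h2⟩
    exact ⟨h1, by simpa using h2⟩

/-! ### `O_p` of a subgroup -/

theorem pCoreOf_le (p : ℕ) (E : Subgroup G) : pCoreOf p E ≤ E := by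
  unfold pCoreOf
  exact Subgroup.map_subtype_le _

theorem le_pCoreOf {p : ℕ} {N E : Subgroup G} (hNE : N ≤ E)
    (hn : E ≤ Subgroup.normalizer (N : Set G)) (hp : IsPGroup p N) : N ≤ pCoreOf p E := by
  intro x hx
  have h : (⟨x, hNE hx⟩ : E) ∈ N.subgroupOf E := by
    rw [Subgroup.mem_subgroupOf]; exact hx
  exact ⟨⟨x, hNE hx⟩, subgroupOf_le_pCore hn hp h, rfl⟩

/-! ### Coprime commutators -/

theorem commutator_eq_one_of_coprime {p : ℕ} {x z : G} (hx : (orderOf x).Coprime p)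
    (hcomm : x * ⁅x, z⁆ = ⁅x, z⁆ * x) (hp : ⁅x, z⁆ ^ p = 1) : ⁅x, z⁆ = 1 := by
  have hxz : x * z * x⁻¹ = ⁅x, z⁆ * z := by rw [commutatorElement_def]; group
  have key : ∀ k : ℕ, x ^ k * z * (x ^ k)⁻¹ = ⁅x, z⁆ ^ k * z := by
    intro k
    induction k with
    | zero => simp
    | succ k ih =>
      have hc : Commute x (⁅x, z⁆ ^ k) := (show Commute x ⁅x, z⁆ from hcomm).pow_right k
      calc x ^ (k + 1) * z * (x ^ (k + 1))⁻¹ = x * (x ^ k * z * (x ^ k)⁻¹) * x⁻¹ := by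
            rw [pow_succ']; group
        _ = x * (⁅x, z⁆ ^ k * z) * x⁻¹ := by rw [ih]
        _ = (x * ⁅x, z⁆ ^ k) * z * x⁻¹ := by group
        _ = (⁅x, z⁆ ^ k * x) * z * x⁻¹ := by rw [hc.eq]
        _ = ⁅x, z⁆ ^ k * (x * z * x⁻¹) := by group
        _ = ⁅x, z⁆ ^ k * (⁅x, z⁆ * z) := by rw [hxz]
        _ = ⁅x, z⁆ ^ (k + 1) * z := by rw [pow_succ]; group
  have h1 := key (orderOf x)
  rw [pow_orderOf_eq_one, inv_one, mul_one, one_mul] at h1
  have h2 : ⁅x, z⁆ ^ orderOf x = 1 := by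
    have h : ⁅x, z⁆ ^ orderOf x * z = 1 * z := by rw [one_mul]; exact h1.symm
    exact mul_right_cancel h
  have h3 : orderOf ⁅x, z⁆ ∣ Nat.gcd (orderOf x) p :=
    Nat.dvd_gcd (orderOf_dvd_of_pow_eq_one h2) (orderOf_dvd_of_pow_eq_one hp)
  rw [Nat.Coprime] at hx
  rw [hx] at h3
  exact orderOf_eq_one_iff.mp (Nat.dvd_one.mp h3)

/-! ### Irreducibility of the natural sections -/

theorem sl2_section_irr {F : Type*} [Field F] [Fintype F] {E U U₀ N : Subgroup G}
    (h : ActsAsSL2OnSection F (commutator (Matrix.SpecialLinearGroup (Fin 2) F)) E U U₀)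
    (hNU : N ≤ U) (hNE : E ≤ Subgroup.normalizer (N : Set G)) (hN : ¬ N ≤ U₀) :
    ∀ u ∈ U, ∃ n ∈ N, ∃ z ∈ U₀, u = n * z := by
  obtain ⟨-, -, ρ, ψ, hρ, -, hψk, hact⟩ := h
  let M : AddSubgroup (Fin 2 → F) :=
    { carrier := {v | ∃ n : U, (n : G) ∈ N ∧ Multiplicative.toAdd (ψ n) = v}
      zero_mem' := ⟨1, one_mem _, by simp⟩
      add_mem' := by
        rintro _ _ ⟨n₁, h₁, rfl⟩ ⟨n₂, h₂, rfl⟩
        exact ⟨n₁ * n₂, mul_mem h₁ h₂, by simp⟩
      neg_mem' := by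
        rintro _ ⟨n, hn, rfl⟩
        exact ⟨n⁻¹, inv_mem hn, by simp⟩ }
  have hMtop : ∀ w, w ∈ M := by
    apply NatIrr.sl2_irr M
    · intro g hg v hv
      obtain ⟨n, hn, rfl⟩ := hv
      rw [← hρ] at hg
      obtain ⟨e, rfl⟩ := hg
      obtain ⟨w, hw1, hw2⟩ := hact e n
      refine ⟨w, ?_, hw2⟩
      rw [hw1]
      exact (Subgroup.mem_normalizer_iff.mp (hNE e.2) _).mp hn
    · obtain ⟨n, hn, hnU₀⟩ := SetLike.not_le_iff_exists.mp hN
      refine ⟨Multiplicative.toAdd (ψ ⟨n, hNU hn⟩), ⟨⟨n, hNU hn⟩, hn, rfl⟩, ?_⟩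
      intro h0
      apply hnU₀
      have h1 : ψ ⟨n, hNU hn⟩ = 1 := h0
      exact (hψk _).mp h1
  intro u hu
  obtain ⟨n, hn, hnu⟩ := hMtop (Multiplicative.toAdd (ψ ⟨u, hu⟩))
  have hk : ψ (n⁻¹ * ⟨u, hu⟩) = 1 := by
    rw [map_mul, map_inv]
    have h1 : ψ n = ψ ⟨u, hu⟩ := hnu
    rw [h1, inv_mul_cancel]
  have hz := (hψk _).mp hk
  refine ⟨n, hn, _, hz, ?_⟩
  simp

theorem perm_section_irr {m : ℕ} {E U U₀ N : Subgroup G}
    (h : ActsAsOddPermModuleOnSection (2 * m + 1) (alternatingGroup (Fin (2 * m + 1))) E U U₀)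
    (hNU : N ≤ U) (hNE : E ≤ Subgroup.normalizer (N : Set G)) (hN : ¬ N ≤ U₀) :
    ∀ u ∈ U, ∃ n ∈ N, ∃ z ∈ U₀, u = n * z := by
  obtain ⟨-, -, ρ, ψ, hρ, hψsum, -, hψk, hact⟩ := h
  let M : AddSubgroup (Fin (2 * m + 1) → ZMod 2) :=
    { carrier := {v | ∃ n : U, (n : G) ∈ N ∧ Multiplicative.toAdd (ψ n) = v}
      zero_mem' := ⟨1, one_mem _, by simp⟩
      add_mem' := by
        rintro _ _ ⟨n₁, h₁, rfl⟩ ⟨n₂, h₂, rfl⟩
        exact ⟨n₁ * n₂, mul_mem h₁ h₂, by simp⟩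
      neg_mem' := by
        rintro _ ⟨n, hn, rfl⟩
        exact ⟨n⁻¹, inv_mem hn, by simp⟩ }
  have hMtop : ∀ w : Fin (2 * m + 1) → ZMod 2, ∑ i, w i = 0 → w ∈ M := by
    apply NatIrr.alt_irr m M
    · intro σ hσ v hv
      obtain ⟨n, hn, rfl⟩ := hv
      rw [← hρ] at hσ
      obtain ⟨e, rfl⟩ := hσ
      obtain ⟨w, hw1, hw2⟩ := hact e n
      refine ⟨w, ?_, funext hw2⟩
      rw [hw1]
      exact (Subgroup.mem_normalizer_iff.mp (hNE e.2) _).mp hn
    · rintro _ ⟨n, -, rfl⟩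
      exact hψsum n
    · obtain ⟨n, hn, hnU₀⟩ := SetLike.not_le_iff_exists.mp hN
      refine ⟨Multiplicative.toAdd (ψ ⟨n, hNU hn⟩), ⟨⟨n, hNU hn⟩, hn, rfl⟩, ?_⟩
      intro h0
      apply hnU₀
      have h1 : ψ ⟨n, hNU hn⟩ = 1 := h0
      exact (hψk _).mp h1
  intro u hu
  obtain ⟨n, hn, hnu⟩ := hMtop (Multiplicative.toAdd (ψ ⟨u, hu⟩)) (hψsum _)
  have hk : ψ (n⁻¹ * ⟨u, hu⟩) = 1 := by
    rw [map_mul, map_inv]
    have h1 : ψ n = ψ ⟨u, hu⟩ := hnu
    rw [h1, inv_mul_cancel]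
  have hz := (hψk _).mp hk
  refine ⟨n, hn, _, hz, ?_⟩
  simp

/-- Module-theoretic consequences of the definition of a block. -/
theorem block_props [Finite G] {p : ℕ} {T E : Subgroup G} (hE : IsBaumannBlock p T E) :
    (∀ N : Subgroup G, N ≤ omegaOneCenter p (pCoreOf p E) →
        E ≤ Subgroup.normalizer (N : Set G) →
        ¬ N ≤ omegaOneCenter p (pCoreOf p E) ⊓ Subgroup.centralizer (E : Set G) →
        ∀ u ∈ omegaOneCenter p (pCoreOf p E), ∃ n ∈ N,
          ∃ z ∈ omegaOneCenter p (pCoreOf p E) ⊓ Subgroup.centralizer (E : Set G), u = n * z) ∧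
    (∀ N : Subgroup G, N ≤ pCoreOf p E → E ≤ Subgroup.normalizer (N : Set G) →
        (∀ a ∈ N, ∀ b ∈ N, a * b = b * a) → N ≤ omegaOneCenter p (pCoreOf p E)) := by
  obtain ⟨-, -, -, -, hcase⟩ := hE
  rcases hcase with ⟨F, iF, iFt, n, hcard, -, hact, hQ⟩ | ⟨-, m, -, hact, hQ⟩
  · constructor
    · intro N hNW hNE hNZ
      exact sl2_section_irr hact hNW hNE hNZ
    · rcases hQ with hQW | ⟨-, hact2, hcomm, -, hZE, hcardZ, -⟩
      · intro N hNQ _ _
        exact hNQ.trans (le_of_eq hQW)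
      · intro N hNQ hNE hab
        by_contra hNW
        have hirr := sl2_section_irr hact2 hNQ hNE hNW
        have hQab : ⁅pCoreOf p E, pCoreOf p E⁆ = ⊥ := by
          rw [Subgroup.commutator_eq_bot_iff_le_centralizer]
          intro u₁ hu₁
          rw [Subgroup.mem_centralizer_iff]
          intro u₂ hu₂
          obtain ⟨n₁, hn₁, z₁, hz₁, rfl⟩ := hirr u₁ hu₁
          obtain ⟨n₂, hn₂, z₂, hz₂, rfl⟩ := hirr u₂ hu₂
          have hzc : ∀ z ∈ omegaOneCenter p (pCoreOf p E), ∀ q ∈ pCoreOf p E, Commute z q :=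
            fun z hz q hq =>
              (Subgroup.mem_centralizer_iff.mp (omegaOneCenter_le_centralizer p _ hz) q hq).symm
          have c1 : Commute n₂ n₁ := hab n₂ hn₂ n₁ hn₁
          have c2 : Commute n₂ z₁ := (hzc z₁ hz₁ n₂ (hNQ hn₂)).symm
          have c3 : Commute z₂ n₁ := hzc z₂ hz₂ n₁ (hNQ hn₁)
          have c4 : Commute z₂ z₁ := hzc z₂ hz₂ z₁ (omegaOneCenter_le p _ hz₁)
          exact ((c1.mul_right c2).mul_left (c3.mul_right c4)).eq
        have hbot : E ⊓ Subgroup.centralizer (E : Set G) = ⊥ := by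
          rw [hZE, ← hcomm, hQab]
        rw [hbot, Subgroup.card_bot] at hcardZ
        have hn0 : n = 0 := by
          by_contra h
          have := Nat.one_lt_pow h (by norm_num : 1 < 3)
          omega
        rw [hn0, pow_zero] at hcard
        have := @Fintype.one_lt_card F iFt _
        omega
  · constructor
    · intro N hNW hNE hNZ
      exact perm_section_irr hact hNW hNE hNZ
    · intro N hNQ _ _
      exact hNQ.trans (le_of_eq hQ)


/-! ### The main arguments -/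

section main

variable [Finite G] {p : ℕ} [Fact p.Prime]

theorem abstract_main {E B Z₀ V Q W : Subgroup G}
    (hE1 : Subgroup.closure {x : G | x ∈ E ∧ (orderOf x).Coprime p} = E)
    (hBE : B ≤ Subgroup.normalizer (E : Set G)) (hZ₀B : Z₀ ≤ B)
    (hVn : V.Normal) (hZ₀V : Z₀ ≤ V) (hVc : ∀ a ∈ V, ∀ b ∈ V, a * b = b * a)
    (hVp : ∀ a ∈ V, a ^ p = 1)
    (hNQ' : ∀ N : Subgroup G, N ≤ E → N ≤ V → E ≤ Subgroup.normalizer (N : Set G) → N ≤ Q)
    (hP2 : ∀ N : Subgroup G, N ≤ Q → E ≤ Subgroup.normalizer (N : Set G) →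
        (∀ a ∈ N, ∀ b ∈ N, a * b = b * a) → N ≤ W)
    (hP1 : ∀ N : Subgroup G, N ≤ W → E ≤ Subgroup.normalizer (N : Set G) →
        ¬ N ≤ W ⊓ Subgroup.centralizer (E : Set G) →
        ∀ u ∈ W, ∃ n ∈ N, ∃ z ∈ W ⊓ Subgroup.centralizer (E : Set G), u = n * z)
    (hne : ⁅E, Z₀⁆ ≠ ⊥) :
    ⁅E, Z₀⁆ ≤ V ∧ ⁅W, E⁆ ≤ ⁅E, Z₀⁆ ∧ ⁅W, E⁆ ≠ ⊥ := by
  have hNV : ⁅E, Z₀⁆ ≤ V := by
    rw [Subgroup.commutator_le]
    intro e _ z hz
    have h : ⁅e, z⁆ = (e * z * e⁻¹) * z⁻¹ := by simp only [commutatorElement_def]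
    rw [h]
    exact mul_mem (hVn.conj_mem z (hZ₀V hz) e) (inv_mem (hZ₀V hz))
  have hNE : ⁅E, Z₀⁆ ≤ E := by
    rw [Subgroup.commutator_le]
    intro e he z hz
    have h : ⁅e, z⁆ = e * (z * e⁻¹ * z⁻¹) := by simp only [commutatorElement_def, mul_assoc]
    rw [h]
    exact mul_mem he ((Subgroup.mem_normalizer_iff.mp (hBE (hZ₀B hz)) e⁻¹).mp (inv_mem he))
  have hEN : E ≤ Subgroup.normalizer ((⁅E, Z₀⁆ : Subgroup G) : Set G) :=
    le_normalizer_commutator_left E Z₀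
  have hNQ := hNQ' _ hNE hNV hEN
  have hNW := hP2 _ hNQ hEN (fun a ha b hb => hVc a (hNV ha) b (hNV hb))
  have hNZ : ¬ ⁅E, Z₀⁆ ≤ W ⊓ Subgroup.centralizer (E : Set G) := by
    intro h
    apply hne
    rw [Subgroup.commutator_eq_bot_iff_le_centralizer]
    have hcl : Subgroup.closure {x : G | x ∈ E ∧ (orderOf x).Coprime p} ≤
        Subgroup.centralizer (Z₀ : Set G) := by
      rw [Subgroup.closure_le]
      rintro x ⟨hxE, hxc⟩
      rw [SetLike.mem_coe, Subgroup.mem_centralizer_iff]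
      intro z hz
      have hn : ⁅x, z⁆ ∈ ⁅E, Z₀⁆ := Subgroup.commutator_mem_commutator hxE hz
      have hcomm : x * ⁅x, z⁆ = ⁅x, z⁆ * x := Subgroup.mem_centralizer_iff.mp (h hn).2 x hxE
      have h1 := commutator_eq_one_of_coprime hxc hcomm (hVp _ (hNV hn))
      exact (commutatorElement_eq_one_iff_mul_comm.mp h1).symm
    rwa [hE1] at hcl
  refine ⟨hNV, ?_, ?_⟩
  · rw [Subgroup.commutator_le]
    intro u hu e he
    obtain ⟨n, hn, z, hz, rfl⟩ := hP1 _ hNW hEN hNZ u hu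
    have hze : e * z = z * e := Subgroup.mem_centralizer_iff.mp hz.2 e he
    have h : ⁅n * z, e⁆ = n * (e * n⁻¹ * e⁻¹) := by
      rw [commutatorElement_def]
      calc n * z * e * (n * z)⁻¹ * e⁻¹ = n * (z * e) * z⁻¹ * n⁻¹ * e⁻¹ := by group
        _ = n * (e * z) * z⁻¹ * n⁻¹ * e⁻¹ := by rw [hze]
        _ = n * (e * n⁻¹ * e⁻¹) := by group
    rw [h]
    exact mul_mem hn ((Subgroup.mem_normalizer_iff.mp (hEN he) n⁻¹).mp (inv_mem hn))
  · intro h0
    apply hNZ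
    rw [Subgroup.commutator_eq_bot_iff_le_centralizer] at h0
    exact le_inf hNW (hNW.trans h0)

theorem commutator_thompson_ne_bot (T : Sylow p G) {E W : Subgroup G}
    (hE1 : Subgroup.closure {x : G | x ∈ E ∧ (orderOf x).Coprime p} = E)
    (hE2 : ⁅E, baumannSubgroupOf p (T : Subgroup G)⁆ = E)
    (hWET : ⁅W, E⁆ ≤ (T : Subgroup G))
    (hpw : ∀ a ∈ ⁅W, E⁆, a ^ p = 1) (hne : ⁅W, E⁆ ≠ ⊥) :
    ⁅⁅W, E⁆, thompsonSubgroupOf p (T : Subgroup G)⁆ ≠ ⊥ := by
  intro h0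
  rw [Subgroup.commutator_eq_bot_iff_le_centralizer] at h0
  have hWJ : ⁅W, E⁆ ≤ thompsonSubgroupOf p (T : Subgroup G) := by
    intro w hw
    have hwT := hWET hw
    have h1 : (⟨w, hwT⟩ : (T : Subgroup G)) ∈
        Subgroup.centralizer (thompsonSubgroup p (T : Subgroup G) : Set (T : Subgroup G)) := by
      rw [Subgroup.mem_centralizer_iff]
      intro j hj
      apply Subtype.ext
      have hjJ : (j : G) ∈ thompsonSubgroupOf p (T : Subgroup G) := ⟨j, hj, rfl⟩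
      exact Subgroup.mem_centralizer_iff.mp (h0 hw) _ hjJ
    have h2 : (⟨w, hwT⟩ : (T : Subgroup G)) ^ p = 1 := by
      apply Subtype.ext
      simpa using hpw w hw
    have h3 := Cfsg.H5.mem_thompson_of_mem_centralizer_thompson h1 h2
    exact ⟨⟨w, hwT⟩, h3, rfl⟩
  have hWΩ : ⁅W, E⁆ ≤ omegaOne p (centerThompsonOf p (T : Subgroup G)) := by
    intro w hw
    unfold omegaOne centerThompsonOf
    exact Subgroup.subset_closure ⟨⟨hWJ hw, h0 hw⟩, hpw w hw⟩
  have hBW : baumannSubgroupOf p (T : Subgroup G) ≤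
      Subgroup.centralizer ((⁅W, E⁆ : Subgroup G) : Set G) := by
    unfold baumannSubgroupOf
    exact inf_le_right.trans (Subgroup.centralizer_le (SetLike.coe_subset_coe.mpr hWΩ))
  have hEnW : E ≤ Subgroup.normalizer ((⁅W, E⁆ : Subgroup G) : Set G) :=
    le_normalizer_commutator_right W E
  have hEW : E ≤ Subgroup.centralizer ((⁅W, E⁆ : Subgroup G) : Set G) := by
    have hcl : ⁅E, baumannSubgroupOf p (T : Subgroup G)⁆ ≤
        Subgroup.centralizer ((⁅W, E⁆ : Subgroup G) : Set G) := by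
      rw [Subgroup.commutator_le]
      intro e he b hb
      rw [Subgroup.mem_centralizer_iff]
      intro w hw
      have hw' : e⁻¹ * w * e ∈ ⁅W, E⁆ := by
        have := (Subgroup.mem_normalizer_iff.mp (hEnW (inv_mem he)) w).mp hw
        simpa using this
      have hbw : w * b = b * w := Subgroup.mem_centralizer_iff.mp (hBW hb) w hw
      have hbw' : (e⁻¹ * w * e) * b = b * (e⁻¹ * w * e) :=
        Subgroup.mem_centralizer_iff.mp (hBW hb) _ hw'
      have hb1 : w * b⁻¹ = b⁻¹ * w := by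
        calc w * b⁻¹ = b⁻¹ * (b * w) * b⁻¹ := by group
          _ = b⁻¹ * (w * b) * b⁻¹ := by rw [hbw]
          _ = b⁻¹ * w := by group
      calc w * ⁅e, b⁆ = e * ((e⁻¹ * w * e) * b) * e⁻¹ * b⁻¹ := by
            rw [commutatorElement_def]; group
        _ = e * (b * (e⁻¹ * w * e)) * e⁻¹ * b⁻¹ := by rw [hbw']
        _ = e * b * e⁻¹ * (w * b⁻¹) := by group
        _ = e * b * e⁻¹ * (b⁻¹ * w) := by rw [hb1]
        _ = ⁅e, b⁆ * w := by rw [commutatorElement_def]; group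
    rwa [hE2] at hcl
  have hEcW : E ≤ Subgroup.centralizer (W : Set G) := by
    have hcl : Subgroup.closure {x : G | x ∈ E ∧ (orderOf x).Coprime p} ≤
        Subgroup.centralizer (W : Set G) := by
      rw [Subgroup.closure_le]
      rintro x ⟨hxE, hxc⟩
      rw [SetLike.mem_coe, Subgroup.mem_centralizer_iff]
      intro w hw
      have hn : ⁅x, w⁆ ∈ ⁅W, E⁆ := by
        rw [← commutatorElement_inv]
        exact inv_mem (Subgroup.commutator_mem_commutator hw hxE)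
      have hcomm : x * ⁅x, w⁆ = ⁅x, w⁆ * x :=
        (Subgroup.mem_centralizer_iff.mp (hEW hxE) _ hn).symm
      have h1 := commutator_eq_one_of_coprime hxc hcomm (hpw _ hn)
      exact (commutatorElement_eq_one_iff_mul_comm.mp h1).symm
    rwa [hE1] at hcl
  apply hne
  rw [Subgroup.commutator_eq_bot_iff_le_centralizer]
  exact Subgroup.le_centralizer_iff.mp hEcW

/-- The facts on a `B(T)`-block of a group of characteristic `p` proved so far, in one place. -/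
theorem block_facts (hG : Subgroup.centralizer (pCore p G : Set G) ≤ pCore p G) (T : Sylow p G)
    {E : Subgroup G} (hE : IsBaumannBlock p (T : Subgroup G) E) :
    pCore p G ≤ Subgroup.normalizer (E : Set G) ∧
    ⁅omegaOneCenter p (pCoreOf p E), E⁆ ≤ omegaOneCenter p (pCore p G) ∧
    ⁅omegaOneCenter p (pCoreOf p E), E⁆ ≠ ⊥ := by
  have hbp := block_props hE
  obtain ⟨hE1, hE2, -, hE4, -⟩ := hE
  have hRp : IsPGroup p (pCore p G) := pCore_isPGroup
  have hRT : pCore p G ≤ (T : Subgroup G) := pCore_le_sylow T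
  have hcl := closure_coprime_eq hE1
  have hBE : baumannSubgroupOf p (T : Subgroup G) ≤ Subgroup.normalizer (E : Set G) := by
    have h := le_normalizer_commutator_right E (baumannSubgroupOf p (T : Subgroup G))
    rwa [hE2] at h
  have hZ₀B : omegaOneCenter p (T : Subgroup G) ≤ baumannSubgroupOf p (T : Subgroup G) := by
    intro x hx
    obtain ⟨⟨hxT, hxC⟩, -⟩ := mem_omegaOneCenter.mp hx
    unfold baumannSubgroupOf
    refine ⟨hxT, ?_⟩
    have hle : omegaOne p (centerThompsonOf p (T : Subgroup G)) ≤ (T : Subgroup G) := by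
      refine (omegaOne_le p _).trans ?_
      unfold centerThompsonOf
      exact inf_le_left.trans (Cfsg.Agent.Lib.Helper27.thompsonSubgroupOf_le p _)
    exact Subgroup.centralizer_le (SetLike.coe_subset_coe.mpr hle) hxC
  have hVn : (omegaOneCenter p (pCore p G)).Normal := by
    rw [← Subgroup.normalizer_eq_top_iff, eq_top_iff]
    calc (⊤ : Subgroup G) = Subgroup.normalizer (pCore p G : Set G) :=
          (Subgroup.normalizer_eq_top (pCore p G)).symm
      _ ≤ _ := normalizer_le_normalizer_omegaOneCenter p _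
  have hZ₀V : omegaOneCenter p (T : Subgroup G) ≤ omegaOneCenter p (pCore p G) := by
    intro x hx
    obtain ⟨⟨hxT, hxC⟩, hxp⟩ := mem_omegaOneCenter.mp hx
    have hxCR : x ∈ Subgroup.centralizer (pCore p G : Set G) :=
      Subgroup.centralizer_le (SetLike.coe_subset_coe.mpr hRT) hxC
    exact mem_omegaOneCenter.mpr ⟨⟨hG hxCR, hxCR⟩, hxp⟩
  have hNQ' : ∀ N : Subgroup G, N ≤ E → N ≤ omegaOneCenter p (pCore p G) →
      E ≤ Subgroup.normalizer (N : Set G) → N ≤ pCoreOf p E := fun N hNE hNV hEN =>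
    le_pCoreOf hNE hEN (hRp.to_le (hNV.trans (omegaOneCenter_le p _)))
  obtain ⟨hNV, hWN, hWne⟩ := abstract_main hcl hBE hZ₀B hVn hZ₀V
    (fun a ha b hb => omegaOneCenter_comm ha hb) (fun a ha => omegaOneCenter_pow ha) hNQ'
    hbp.2 hbp.1 hE4
  have hRE : pCore p G ≤ Subgroup.normalizer (E : Set G) :=
    le_normalizer_block T hE1 hE2 hRp (by rw [Subgroup.normalizer_eq_top]; exact le_top)
      (by rw [Subgroup.normalizer_eq_top]; exact le_top)
  exact ⟨hRE, hWN.trans hNV, hWne⟩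

end main

end Cfsg.Agent.Lib.Helper17.BBlock
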