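import Mathlib
import Cfsg.Agent.Lib.Helper2.BurnsidePQ

/-!
# The binary octahedral group as 4×4 matrices over `ZMod 13`

A fixed-point-free group `K` of 4×4 matrices over `ZMod 13`, generated by `gA` (order 8) and
`gB` (order 6), all of whose elements `x` satisfy `x ^ 8 = 1 ∨ x ^ 6 = 1`, and such that
`x - 1` is invertible for `x ≠ 1`.  All facts are verified through index tables.
-/

set_option autoImplicit false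

namespace Cfsg.Agent.Lib.Helper17.BinOct13

/-- 4×4 matrices over `ZMod 13`. -/
abbrev M4 := Matrix (Fin 4) (Fin 4) (ZMod 13)

def gA : M4 := !![0, 1, 0, 12; 7, 0, 6, 0; 0, 1, 0, 1; 7, 0, 7, 0]
def gAi : M4 := !![0, 1, 0, 1; 7, 0, 7, 0; 0, 12, 0, 1; 6, 0, 7, 0]
def gB : M4 := !![1, 0, 3, 0; 0, 1, 0, 3; 4, 0, 0, 0; 0, 4, 0, 0]
def gBi : M4 := !![0, 0, 10, 0; 0, 0, 0, 10; 9, 0, 1, 0; 0, 9, 0, 1]

/-- The 48 elements. -/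
def LL : List M4 := [
  !![0, 0, 1, 0; 0, 0, 0, 1; 12, 0, 0, 0; 0, 12, 0, 0],
  !![0, 0, 3, 0; 0, 0, 0, 3; 4, 0, 12, 0; 0, 4, 0, 12],
  !![0, 0, 4, 0; 0, 0, 0, 4; 3, 0, 12, 0; 0, 3, 0, 12],
  !![0, 0, 9, 0; 0, 0, 0, 9; 10, 0, 1, 0; 0, 10, 0, 1],
  !![0, 0, 10, 0; 0, 0, 0, 10; 9, 0, 1, 0; 0, 9, 0, 1],
  !![0, 0, 12, 0; 0, 0, 0, 12; 1, 0, 0, 0; 0, 1, 0, 0],
  !![0, 1, 0, 1; 7, 0, 7, 0; 0, 12, 0, 1; 6, 0, 7, 0],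
  !![0, 1, 0, 7; 7, 0, 10, 0; 0, 7, 0, 12; 10, 0, 6, 0],
  !![0, 1, 0, 12; 7, 0, 6, 0; 0, 1, 0, 1; 7, 0, 7, 0],
  !![0, 2, 0, 9; 1, 0, 11, 0; 0, 9, 0, 9; 11, 0, 11, 0],
  !![0, 3, 0, 3; 8, 0, 8, 0; 0, 3, 0, 8; 8, 0, 4, 0],
  !![0, 3, 0, 8; 8, 0, 4, 0; 0, 10, 0, 10; 5, 0, 5, 0],
  !![0, 3, 0, 10; 8, 0, 5, 0; 0, 8, 0, 10; 4, 0, 5, 0],
  !![0, 4, 0, 2; 2, 0, 1, 0; 0, 4, 0, 9; 2, 0, 11, 0],
  !![0, 4, 0, 4; 2, 0, 2, 0; 0, 2, 0, 9; 1, 0, 11, 0],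
  !![0, 4, 0, 9; 2, 0, 11, 0; 0, 9, 0, 11; 11, 0, 12, 0],
  !![0, 5, 0, 3; 9, 0, 8, 0; 0, 3, 0, 10; 8, 0, 5, 0],
  !![0, 6, 0, 1; 3, 0, 7, 0; 0, 1, 0, 7; 7, 0, 10, 0],
  !![0, 7, 0, 12; 10, 0, 6, 0; 0, 12, 0, 6; 6, 0, 3, 0],
  !![0, 8, 0, 10; 4, 0, 5, 0; 0, 10, 0, 3; 5, 0, 8, 0],
  !![0, 9, 0, 4; 11, 0, 2, 0; 0, 4, 0, 2; 2, 0, 1, 0],
  !![0, 9, 0, 9; 11, 0, 11, 0; 0, 11, 0, 4; 12, 0, 2, 0],
  !![0, 9, 0, 11; 11, 0, 12, 0; 0, 9, 0, 4; 11, 0, 2, 0],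
  !![0, 10, 0, 3; 5, 0, 8, 0; 0, 5, 0, 3; 9, 0, 8, 0],
  !![0, 10, 0, 5; 5, 0, 9, 0; 0, 3, 0, 3; 8, 0, 8, 0],
  !![0, 10, 0, 10; 5, 0, 5, 0; 0, 10, 0, 5; 5, 0, 9, 0],
  !![0, 11, 0, 4; 12, 0, 2, 0; 0, 4, 0, 4; 2, 0, 2, 0],
  !![0, 12, 0, 1; 6, 0, 7, 0; 0, 12, 0, 12; 6, 0, 6, 0],
  !![0, 12, 0, 6; 6, 0, 3, 0; 0, 6, 0, 1; 3, 0, 7, 0],
  !![0, 12, 0, 12; 6, 0, 6, 0; 0, 1, 0, 12; 7, 0, 6, 0],
  !![1, 0, 0, 0; 0, 1, 0, 0; 0, 0, 1, 0; 0, 0, 0, 1],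
  !![1, 0, 3, 0; 0, 1, 0, 3; 4, 0, 0, 0; 0, 4, 0, 0],
  !![1, 0, 4, 0; 0, 1, 0, 4; 3, 0, 0, 0; 0, 3, 0, 0],
  !![3, 0, 0, 0; 0, 3, 0, 0; 12, 0, 9, 0; 0, 12, 0, 9],
  !![3, 0, 9, 0; 0, 3, 0, 9; 9, 0, 10, 0; 0, 9, 0, 10],
  !![3, 0, 12, 0; 0, 3, 0, 12; 0, 0, 9, 0; 0, 0, 0, 9],
  !![4, 0, 0, 0; 0, 4, 0, 0; 12, 0, 10, 0; 0, 12, 0, 10],
  !![4, 0, 3, 0; 0, 4, 0, 3; 3, 0, 9, 0; 0, 3, 0, 9],
  !![4, 0, 12, 0; 0, 4, 0, 12; 0, 0, 10, 0; 0, 0, 0, 10],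
  !![9, 0, 0, 0; 0, 9, 0, 0; 1, 0, 3, 0; 0, 1, 0, 3],
  !![9, 0, 1, 0; 0, 9, 0, 1; 0, 0, 3, 0; 0, 0, 0, 3],
  !![9, 0, 10, 0; 0, 9, 0, 10; 10, 0, 4, 0; 0, 10, 0, 4],
  !![10, 0, 0, 0; 0, 10, 0, 0; 1, 0, 4, 0; 0, 1, 0, 4],
  !![10, 0, 1, 0; 0, 10, 0, 1; 0, 0, 4, 0; 0, 0, 0, 4],
  !![10, 0, 4, 0; 0, 10, 0, 4; 4, 0, 3, 0; 0, 4, 0, 3],
  !![12, 0, 0, 0; 0, 12, 0, 0; 0, 0, 12, 0; 0, 0, 0, 12],
  !![12, 0, 9, 0; 0, 12, 0, 9; 10, 0, 0, 0; 0, 10, 0, 0],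
  !![12, 0, 10, 0; 0, 12, 0, 10; 9, 0, 0, 0; 0, 9, 0, 0]
]

/-- Inverses of `x - 1` (dummy `0` at the identity). -/
def WW : List M4 := [
  !![6, 0, 6, 0; 0, 6, 0, 6; 7, 0, 6, 0; 0, 7, 0, 6],
  !![8, 0, 12, 0; 0, 8, 0, 12; 3, 0, 4, 0; 0, 3, 0, 4],
  !![8, 0, 3, 0; 0, 8, 0, 3; 12, 0, 4, 0; 0, 12, 0, 4],
  !![0, 0, 4, 0; 0, 0, 0, 4; 3, 0, 12, 0; 0, 3, 0, 12],
  !![0, 0, 3, 0; 0, 0, 0, 3; 4, 0, 12, 0; 0, 4, 0, 12],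
  !![6, 0, 7, 0; 0, 6, 0, 7; 6, 0, 6, 0; 0, 6, 0, 6],
  !![6, 0, 6, 12; 0, 6, 6, 6; 7, 1, 6, 0; 7, 7, 0, 6],
  !![6, 6, 0, 3; 3, 6, 8, 0; 0, 3, 6, 7; 8, 0, 10, 6],
  !![6, 0, 7, 1; 0, 6, 7, 7; 6, 12, 6, 0; 6, 6, 0, 6],
  !![1, 10, 11, 4; 5, 1, 2, 11; 11, 4, 11, 3; 2, 11, 8, 11],
  !![8, 9, 8, 10; 11, 8, 5, 8; 8, 10, 4, 4; 5, 8, 2, 4],
  !![6, 5, 0, 9; 9, 6, 11, 0; 0, 8, 6, 8; 4, 0, 4, 6],
  !![6, 5, 0, 8; 9, 6, 4, 0; 0, 9, 6, 8; 11, 0, 4, 6],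
  !![6, 11, 0, 12; 12, 6, 6, 0; 0, 11, 6, 2; 12, 0, 1, 6],
  !![6, 11, 0, 11; 12, 6, 12, 0; 0, 12, 6, 2; 6, 0, 1, 6],
  !![11, 10, 2, 4; 5, 11, 2, 2; 2, 4, 1, 3; 2, 2, 8, 1],
  !![4, 9, 5, 10; 11, 4, 5, 5; 5, 10, 8, 4; 5, 5, 2, 8],
  !![6, 10, 0, 6; 5, 6, 3, 0; 0, 6, 6, 3; 3, 0, 8, 6],
  !![6, 3, 0, 7; 8, 6, 10, 0; 0, 7, 6, 10; 10, 0, 5, 6],
  !![4, 4, 5, 3; 2, 4, 8, 5; 5, 3, 8, 9; 8, 5, 11, 8],
  !![11, 3, 2, 9; 8, 11, 11, 2; 2, 9, 1, 10; 11, 2, 5, 1],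
  !![6, 2, 0, 2; 1, 6, 1, 0; 0, 1, 6, 11; 7, 0, 12, 6],
  !![6, 2, 0, 1; 1, 6, 7, 0; 0, 2, 6, 11; 1, 0, 12, 6],
  !![6, 8, 0, 5; 4, 6, 9, 0; 0, 4, 6, 5; 2, 0, 9, 6],
  !![6, 8, 0, 4; 4, 6, 2, 0; 0, 5, 6, 5; 9, 0, 9, 6],
  !![8, 4, 8, 3; 2, 8, 8, 8; 8, 3, 4, 9; 8, 8, 11, 4],
  !![1, 3, 11, 9; 8, 1, 11, 11; 11, 9, 11, 10; 11, 11, 5, 11],
  !![6, 0, 7, 12; 0, 6, 6, 7; 6, 1, 6, 0; 7, 6, 0, 6],
  !![6, 7, 0, 10; 10, 6, 5, 0; 0, 10, 6, 6; 5, 0, 3, 6],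
  !![6, 0, 6, 1; 0, 6, 7, 6; 7, 12, 6, 0; 6, 7, 0, 6],
  !![0, 0, 0, 0; 0, 0, 0, 0; 0, 0, 0, 0; 0, 0, 0, 0],
  !![12, 0, 10, 0; 0, 12, 0, 10; 9, 0, 0, 0; 0, 9, 0, 0],
  !![12, 0, 9, 0; 0, 12, 0, 9; 10, 0, 0, 0; 0, 10, 0, 0],
  !![7, 0, 0, 0; 0, 7, 0, 0; 9, 0, 5, 0; 0, 9, 0, 5],
  !![11, 0, 2, 0; 0, 11, 0, 2; 2, 0, 1, 0; 0, 2, 0, 1],
  !![7, 0, 9, 0; 0, 7, 0, 9; 0, 0, 5, 0; 0, 0, 0, 5],
  !![9, 0, 0, 0; 0, 9, 0, 0; 1, 0, 3, 0; 0, 1, 0, 3],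
  !![4, 0, 5, 0; 0, 4, 0, 5; 5, 0, 8, 0; 0, 5, 0, 8],
  !![9, 0, 1, 0; 0, 9, 0, 1; 0, 0, 3, 0; 0, 0, 0, 3],
  !![5, 0, 0, 0; 0, 5, 0, 0; 4, 0, 7, 0; 0, 4, 0, 7],
  !![5, 0, 4, 0; 0, 5, 0, 4; 0, 0, 7, 0; 0, 0, 0, 7],
  !![8, 0, 8, 0; 0, 8, 0, 8; 8, 0, 4, 0; 0, 8, 0, 4],
  !![3, 0, 0, 0; 0, 3, 0, 0; 12, 0, 9, 0; 0, 12, 0, 9],
  !![3, 0, 12, 0; 0, 3, 0, 12; 0, 0, 9, 0; 0, 0, 0, 9],
  !![1, 0, 11, 0; 0, 1, 0, 11; 11, 0, 11, 0; 0, 11, 0, 11],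
  !![6, 0, 0, 0; 0, 6, 0, 0; 0, 0, 6, 0; 0, 0, 0, 6],
  !![4, 0, 10, 0; 0, 4, 0, 10; 1, 0, 8, 0; 0, 1, 0, 8],
  !![4, 0, 1, 0; 0, 4, 0, 1; 10, 0, 8, 0; 0, 10, 0, 8]
]

def el (i : ℕ) : M4 := LL.getD i 0
def wel (i : ℕ) : M4 := WW.getD i 0

def sAl : List ℕ := [6, 20, 24, 11, 15, 29, 30, 44, 5, 33, 2, 35, 36, 1, 32, 38, 31, 41, 37, 47, 40, 46, 4, 39, 43, 3, 42, 0, 34, 45, 8, 23, 26, 14, 18, 10, 16, 7, 13, 19, 22, 28, 21, 25, 17, 27, 9, 12]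
def sBl : List ℕ := [43, 45, 40, 38, 30, 35, 26, 20, 13, 12, 27, 18, 6, 10, 24, 16, 7, 21, 14, 28, 19, 11, 25, 29, 17, 8, 23, 22, 15, 9, 31, 1, 44, 0, 36, 33, 32, 2, 37, 46, 41, 3, 5, 42, 39, 47, 34, 4]
def sAil : List ℕ := [27, 13, 10, 25, 22, 8, 0, 37, 30, 46, 35, 3, 47, 38, 33, 4, 36, 44, 34, 39, 1, 42, 40, 31, 2, 43, 32, 45, 41, 5, 6, 16, 14, 9, 28, 11, 12, 18, 15, 23, 20, 17, 26, 24, 7, 29, 21, 19]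
def sBil : List ℕ := [33, 31, 37, 41, 47, 42, 12, 16, 25, 29, 13, 21, 9, 8, 18, 28, 15, 24, 11, 20, 7, 17, 27, 26, 14, 22, 6, 10, 19, 23, 4, 30, 36, 35, 46, 5, 34, 38, 3, 44, 2, 40, 43, 0, 32, 1, 39, 45]
def sql : List ℕ := [45, 47, 46, 46, 47, 45, 0, 45, 5, 44, 41, 45, 45, 45, 45, 34, 37, 45, 45, 37, 34, 45, 45, 45, 45, 41, 44, 5, 45, 0, 30, 1, 2, 39, 45, 40, 33, 45, 35, 33, 35, 45, 39, 40, 45, 30, 2, 1]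
def cul : List ℕ := [5, 30, 30, 45, 45, 0, 27, 28, 29, 15, 16, 24, 23, 22, 21, 9, 10, 18, 17, 25, 26, 14, 13, 12, 11, 19, 20, 6, 7, 8, 30, 45, 45, 30, 44, 30, 45, 41, 45, 30, 30, 37, 45, 45, 34, 45, 30, 30]

def tA (i : ℕ) : ℕ := sAl.getD i 0
def tB (i : ℕ) : ℕ := sBl.getD i 0
def tAi (i : ℕ) : ℕ := sAil.getD i 0
def tBi (i : ℕ) : ℕ := sBil.getD i 0
def sq (i : ℕ) : ℕ := sql.getD i 0
def cu (i : ℕ) : ℕ := cul.getD i 0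

theorem tA_lt : ∀ i < 48, tA i < 48 := by decide
theorem tB_lt : ∀ i < 48, tB i < 48 := by decide
theorem tAi_lt : ∀ i < 48, tAi i < 48 := by decide
theorem tBi_lt : ∀ i < 48, tBi i < 48 := by decide
theorem sq_lt : ∀ i < 48, sq i < 48 := by decide
theorem cu_lt : ∀ i < 48, cu i < 48 := by decide
theorem ordT : ∀ i < 48, sq (sq (sq i)) = 30 ∨ sq (cu i) = 30 := by decide

set_option maxRecDepth 1000000 in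
theorem gA_mul_gAi : gA * gAi = 1 := by decide +kernel
set_option maxRecDepth 1000000 in
theorem gAi_mul_gA : gAi * gA = 1 := by decide +kernel
set_option maxRecDepth 1000000 in
theorem gB_mul_gBi : gB * gBi = 1 := by decide +kernel
set_option maxRecDepth 1000000 in
theorem gBi_mul_gB : gBi * gB = 1 := by decide +kernel
set_option maxRecDepth 1000000 in
theorem el_i0 : el 30 = 1 := by decide +kernel
set_option maxRecDepth 1000000 in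
theorem el_iA : el 8 = gA := by decide +kernel
set_option maxRecDepth 1000000 in
theorem el_iB : el 31 = gB := by decide +kernel

set_option maxRecDepth 1000000 in
theorem mulA : ∀ i < 48, gA * el i = el (tA i) := by decide +kernel
set_option maxRecDepth 1000000 in
theorem mulB : ∀ i < 48, gB * el i = el (tB i) := by decide +kernel
set_option maxRecDepth 1000000 in
theorem mulAi : ∀ i < 48, gAi * el i = el (tAi i) := by decide +kernel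
set_option maxRecDepth 1000000 in
theorem mulBi : ∀ i < 48, gBi * el i = el (tBi i) := by decide +kernel
set_option maxRecDepth 1000000 in
theorem sqT : ∀ i < 48, el i * el i = el (sq i) := by decide +kernel
set_option maxRecDepth 1000000 in
theorem cuT : ∀ i < 48, el (sq i) * el i = el (cu i) := by decide +kernel
set_option maxRecDepth 1000000 in
theorem fpfT : ∀ i < 48, i = 30 ∨ (el i - 1) * wel i = 1 := by decide +kernel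

theorem el_sq (i : ℕ) (hi : i < 48) : el i ^ 2 = el (sq i) := by
  rw [pow_two]; exact sqT i hi

theorem el_cu (i : ℕ) (hi : i < 48) : el i ^ 3 = el (cu i) := by
  rw [pow_succ, el_sq i hi]; exact cuT i hi

theorem el_p4 (i : ℕ) (hi : i < 48) : el i ^ 4 = el (sq (sq i)) := by
  have h : el i ^ 4 = (el i ^ 2) ^ 2 := by rw [← pow_mul]
  rw [h, el_sq i hi, el_sq _ (sq_lt i hi)]

theorem el_p8 (i : ℕ) (hi : i < 48) : el i ^ 8 = el (sq (sq (sq i))) := by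
  have h : el i ^ 8 = (el i ^ 4) ^ 2 := by rw [← pow_mul]
  rw [h, el_p4 i hi, el_sq _ (sq_lt _ (sq_lt i hi))]

theorem el_p6 (i : ℕ) (hi : i < 48) : el i ^ 6 = el (sq (cu i)) := by
  have h : el i ^ 6 = (el i ^ 3) ^ 2 := by rw [← pow_mul]
  rw [h, el_cu i hi, el_sq _ (cu_lt i hi)]

theorem el_pow (i : ℕ) (hi : i < 48) : el i ^ 8 = 1 ∨ el i ^ 6 = 1 := by
  rcases ordT i hi with h | h
  · left; rw [el_p8 i hi, h, el_i0]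
  · right; rw [el_p6 i hi, h, el_i0]

set_option maxRecDepth 1000000 in
theorem gA_pow8 : gA ^ 8 = 1 := by
  rw [← el_iA, el_p8 _ (by norm_num)]; decide +kernel
set_option maxRecDepth 1000000 in
theorem gA_pow4 : gA ^ 4 ≠ 1 := by
  rw [← el_iA, el_p4 _ (by norm_num)]; decide +kernel
set_option maxRecDepth 1000000 in
theorem gB_pow6 : gB ^ 6 = 1 := by
  rw [← el_iB, el_p6 _ (by norm_num)]; decide +kernel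
set_option maxRecDepth 1000000 in
theorem gB_pow2 : gB ^ 2 ≠ 1 := by
  rw [← el_iB, el_sq _ (by norm_num)]; decide +kernel
set_option maxRecDepth 1000000 in
theorem gB_pow3 : gB ^ 3 ≠ 1 := by
  rw [← el_iB, el_cu _ (by norm_num)]; decide +kernel

/-- Order 8 from `x ^ 8 = 1`, `x ^ 4 ≠ 1`. -/
theorem orderOf_eq_eight {G : Type*} [Monoid G] (x : G) (h8 : x ^ 8 = 1) (h4 : x ^ 4 ≠ 1) :
    orderOf x = 8 := by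
  have hd : orderOf x ∣ 8 := orderOf_dvd_of_pow_eq_one h8
  have hn : ¬ orderOf x ∣ 4 := fun h => h4 (orderOf_dvd_iff_pow_eq_one.mp h)
  have hpos : 0 < orderOf x := Nat.pos_of_dvd_of_pos hd (by norm_num)
  have hle : orderOf x ≤ 8 := Nat.le_of_dvd (by norm_num) hd
  generalize orderOf x = o at *
  interval_cases o <;> omega

/-- Order 6 from `x ^ 6 = 1`, `x ^ 2 ≠ 1`, `x ^ 3 ≠ 1`. -/
theorem orderOf_eq_six {G : Type*} [Monoid G] (x : G) (h6 : x ^ 6 = 1) (h2 : x ^ 2 ≠ 1)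
    (h3 : x ^ 3 ≠ 1) : orderOf x = 6 := by
  have hd : orderOf x ∣ 6 := orderOf_dvd_of_pow_eq_one h6
  have hn2 : ¬ orderOf x ∣ 2 := fun h => h2 (orderOf_dvd_iff_pow_eq_one.mp h)
  have hn3 : ¬ orderOf x ∣ 3 := fun h => h3 (orderOf_dvd_iff_pow_eq_one.mp h)
  have hpos : 0 < orderOf x := Nat.pos_of_dvd_of_pos hd (by norm_num)
  have hle : orderOf x ≤ 6 := Nat.le_of_dvd (by norm_num) hd
  generalize orderOf x = o at *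
  interval_cases o <;> omega

theorem orderOf_gA : orderOf gA = 8 := orderOf_eq_eight gA gA_pow8 gA_pow4
theorem orderOf_gB : orderOf gB = 6 := orderOf_eq_six gB gB_pow6 gB_pow2 gB_pow3

/-- The generators as units. -/
def uA : M4ˣ := ⟨gA, gAi, gA_mul_gAi, gAi_mul_gA⟩
def uB : M4ˣ := ⟨gB, gBi, gB_mul_gBi, gBi_mul_gB⟩

/-- The binary octahedral group inside `GL₄(𝔽₁₃)`. -/
def K : Subgroup M4ˣ := Subgroup.closure {uA, uB}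

theorem uA_mem : uA ∈ K := Subgroup.subset_closure (by simp)
theorem uB_mem : uB ∈ K := Subgroup.subset_closure (by simp)

theorem mem_K_index {k : M4ˣ} (hk : k ∈ K) : ∃ i, i < 48 ∧ (k : M4) = el i := by
  unfold K at hk
  induction hk using Subgroup.closure_induction_left with
  | one => exact ⟨30, by norm_num, by rw [Units.val_one, el_i0]⟩
  | mul_left x hx y hy ih =>
    obtain ⟨i, hi, hy'⟩ := ih
    simp only [Set.mem_insert_iff, Set.mem_singleton_iff] at hx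
    rcases hx with rfl | rfl
    · exact ⟨tA i, tA_lt i hi, by rw [Units.val_mul, hy']; exact mulA i hi⟩
    · exact ⟨tB i, tB_lt i hi, by rw [Units.val_mul, hy']; exact mulB i hi⟩
  | inv_mul_cancel x hx y hy ih =>
    obtain ⟨i, hi, hy'⟩ := ih
    simp only [Set.mem_insert_iff, Set.mem_singleton_iff] at hx
    rcases hx with rfl | rfl
    · exact ⟨tAi i, tAi_lt i hi, by rw [Units.val_mul, hy']; exact mulAi i hi⟩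
    · exact ⟨tBi i, tBi_lt i hi, by rw [Units.val_mul, hy']; exact mulBi i hi⟩

theorem K_pow {k : M4ˣ} (hk : k ∈ K) : (k : M4) ^ 8 = 1 ∨ (k : M4) ^ 6 = 1 := by
  obtain ⟨i, hi, h⟩ := mem_K_index hk
  rw [h]; exact el_pow i hi

theorem K_fpf {k : M4ˣ} (hk : k ∈ K) (hk1 : k ≠ 1) : ∃ w : M4, ((k : M4) - 1) * w = 1 := by
  obtain ⟨i, hi, h⟩ := mem_K_index hk
  rcases fpfT i hi with h0 | h0
  · exfalso; apply hk1; apply Units.ext; rw [h, h0, el_i0, Units.val_one]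
  · exact ⟨wel i, by rw [h]; exact h0⟩

theorem exists_two_three_pow : ∀ n : ℕ, n ≠ 0 →
    (∀ q : ℕ, q.Prime → q ∣ n → q = 2 ∨ q = 3) → ∃ a b : ℕ, n = 2 ^ a * 3 ^ b := by
  intro n
  induction n using Nat.strong_induction_on with
  | _ n ih =>
    intro hn h
    by_cases h1 : n = 1
    · exact ⟨0, 0, by simp [h1]⟩
    · obtain ⟨q, hq, hqn⟩ := Nat.exists_prime_and_dvd h1
      obtain ⟨m, hm⟩ := hqn
      have hm0 : m ≠ 0 := by rintro rfl; simp at hm; exact hn hm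
      have hlt : m < n := by
        have := hq.one_lt
        have := Nat.pos_of_ne_zero hm0
        rw [hm]; nlinarith
      obtain ⟨a, b, hab⟩ := ih m hlt hm0 (fun r hr hrm => h r hr (hm ▸ Dvd.dvd.mul_left hrm q))
      rcases h q hq ⟨m, hm⟩ with hq2 | hq3
      · exact ⟨a + 1, b, by rw [hm, hab, hq2]; ring⟩
      · exact ⟨a, b + 1, by rw [hm, hab, hq3]; ring⟩

theorem K_solvable : Group.IsSolvable K := by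
  have hcard : ∃ a b : ℕ, Nat.card K = 2 ^ a * 3 ^ b := by
    apply exists_two_three_pow _ Nat.card_pos.ne'
    intro q hq hqd
    have := Fact.mk hq
    obtain ⟨x, hx⟩ := exists_prime_orderOf_dvd_card' q hqd
    have hx' : orderOf ((x : M4ˣ) : M4) = q := by rw [orderOf_units, Subgroup.orderOf_coe, hx]
    rcases K_pow x.2 with h | h
    · have h8 : q ∣ 2 ^ 3 := by
        have := orderOf_dvd_of_pow_eq_one h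
        rw [hx'] at this; simpa using this
      left
      exact (Nat.prime_dvd_prime_iff_eq hq Nat.prime_two).mp (hq.dvd_of_dvd_pow h8)
    · have h6 : q ∣ 2 * 3 := by
        have := orderOf_dvd_of_pow_eq_one h
        rw [hx'] at this; simpa using this
      rcases (Nat.Prime.dvd_mul hq).mp h6 with h2 | h3
      · left; exact (Nat.prime_dvd_prime_iff_eq hq Nat.prime_two).mp h2
      · right; exact (Nat.prime_dvd_prime_iff_eq hq Nat.prime_three).mp h3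
  obtain ⟨a, b, hab⟩ := hcard
  exact Cfsg.Agent.Lib.Helper2.isSolvable_of_card_eq_prime_pow_mul_prime_pow 2 3 Nat.prime_two
    Nat.prime_three (Nat.card K) K rfl ⟨a, b, hab⟩

end Cfsg.Agent.Lib.Helper17.BinOct13
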