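import Mathlib
import Cfsg.Agent.Lib.Helper2.BurnsidePQ
import Cfsg.Agent.Lib.Helper17.BinOct13

/-!
# The group `C₃ ⋊ C₈` as 4×4 matrices over `ZMod 7`

A fixed-point-free group `K` of 4×4 matrices over `ZMod 7`, generated by `gA` (order 12) and
`gB` (order 8), all of whose elements `x` satisfy `x ^ 8 = 1 ∨ x ^ 12 = 1`, and such that
`x - 1` is invertible for `x ≠ 1`.  All facts are verified through index tables.
-/

set_option autoImplicit false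

namespace Cfsg.Agent.Lib.Helper17.C3C8mod7

open Cfsg.Agent.Lib.Helper17.BinOct13 (exists_two_three_pow orderOf_eq_eight)

/-- 4×4 matrices over `ZMod 7`. -/
abbrev N4 := Matrix (Fin 4) (Fin 4) (ZMod 7)

def gA : N4 := !![0, 5, 0, 0; 2, 0, 0, 0; 0, 0, 0, 3; 0, 0, 4, 0]
def gAi : N4 := !![0, 4, 0, 0; 3, 0, 0, 0; 0, 0, 0, 2; 0, 0, 5, 0]
def gB : N4 := !![0, 0, 0, 6; 0, 0, 1, 0; 1, 0, 0, 0; 0, 1, 0, 0]
def gBi : N4 := !![0, 0, 1, 0; 0, 0, 0, 1; 0, 1, 0, 0; 6, 0, 0, 0]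

/-- The 24 elements. -/
def LL : List N4 := [
  !![0, 0, 0, 1; 0, 0, 6, 0; 6, 0, 0, 0; 0, 6, 0, 0],
  !![0, 0, 0, 2; 0, 0, 5, 0; 3, 0, 0, 0; 0, 3, 0, 0],
  !![0, 0, 0, 3; 0, 0, 4, 0; 2, 0, 0, 0; 0, 2, 0, 0],
  !![0, 0, 0, 4; 0, 0, 3, 0; 5, 0, 0, 0; 0, 5, 0, 0],
  !![0, 0, 0, 5; 0, 0, 2, 0; 4, 0, 0, 0; 0, 4, 0, 0],
  !![0, 0, 0, 6; 0, 0, 1, 0; 1, 0, 0, 0; 0, 1, 0, 0],
  !![0, 0, 1, 0; 0, 0, 0, 1; 0, 1, 0, 0; 6, 0, 0, 0],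
  !![0, 0, 2, 0; 0, 0, 0, 2; 0, 4, 0, 0; 3, 0, 0, 0],
  !![0, 0, 3, 0; 0, 0, 0, 3; 0, 5, 0, 0; 2, 0, 0, 0],
  !![0, 0, 4, 0; 0, 0, 0, 4; 0, 2, 0, 0; 5, 0, 0, 0],
  !![0, 0, 5, 0; 0, 0, 0, 5; 0, 3, 0, 0; 4, 0, 0, 0],
  !![0, 0, 6, 0; 0, 0, 0, 6; 0, 6, 0, 0; 1, 0, 0, 0],
  !![0, 1, 0, 0; 6, 0, 0, 0; 0, 0, 0, 1; 0, 0, 6, 0],
  !![0, 2, 0, 0; 5, 0, 0, 0; 0, 0, 0, 4; 0, 0, 3, 0],
  !![0, 3, 0, 0; 4, 0, 0, 0; 0, 0, 0, 5; 0, 0, 2, 0],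
  !![0, 4, 0, 0; 3, 0, 0, 0; 0, 0, 0, 2; 0, 0, 5, 0],
  !![0, 5, 0, 0; 2, 0, 0, 0; 0, 0, 0, 3; 0, 0, 4, 0],
  !![0, 6, 0, 0; 1, 0, 0, 0; 0, 0, 0, 6; 0, 0, 1, 0],
  !![1, 0, 0, 0; 0, 1, 0, 0; 0, 0, 1, 0; 0, 0, 0, 1],
  !![2, 0, 0, 0; 0, 2, 0, 0; 0, 0, 4, 0; 0, 0, 0, 4],
  !![3, 0, 0, 0; 0, 3, 0, 0; 0, 0, 5, 0; 0, 0, 0, 5],
  !![4, 0, 0, 0; 0, 4, 0, 0; 0, 0, 2, 0; 0, 0, 0, 2],
  !![5, 0, 0, 0; 0, 5, 0, 0; 0, 0, 3, 0; 0, 0, 0, 3],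
  !![6, 0, 0, 0; 0, 6, 0, 0; 0, 0, 6, 0; 0, 0, 0, 6]
]

/-- Inverses of `x - 1` (dummy `0` at the identity). -/
def WW : List N4 := [
  !![3, 4, 3, 3; 3, 3, 4, 3; 4, 3, 3, 4; 4, 4, 3, 3],
  !![3, 4, 6, 6; 3, 3, 1, 6; 2, 5, 3, 4; 2, 2, 3, 3],
  !![3, 4, 2, 2; 3, 3, 5, 2; 6, 1, 3, 4; 6, 6, 3, 3],
  !![3, 4, 5, 5; 3, 3, 2, 5; 1, 6, 3, 4; 1, 1, 3, 3],
  !![3, 4, 1, 1; 3, 3, 6, 1; 5, 2, 3, 4; 5, 5, 3, 3],
  !![3, 4, 4, 4; 3, 3, 3, 4; 3, 4, 3, 4; 3, 3, 3, 3],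
  !![3, 3, 3, 3; 4, 3, 4, 3; 4, 3, 3, 3; 4, 4, 4, 3],
  !![3, 3, 6, 6; 4, 3, 1, 6; 2, 5, 3, 3; 2, 2, 4, 3],
  !![3, 3, 2, 2; 4, 3, 5, 2; 6, 1, 3, 3; 6, 6, 4, 3],
  !![3, 3, 5, 5; 4, 3, 2, 5; 1, 6, 3, 3; 1, 1, 4, 3],
  !![3, 3, 1, 1; 4, 3, 6, 1; 5, 2, 3, 3; 5, 5, 4, 3],
  !![3, 3, 4, 4; 4, 3, 3, 4; 3, 4, 3, 3; 3, 3, 4, 3],
  !![3, 3, 0, 0; 4, 3, 0, 0; 0, 0, 3, 3; 0, 0, 4, 3],
  !![4, 1, 0, 0; 6, 4, 0, 0; 0, 0, 2, 1; 0, 0, 6, 2],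
  !![2, 6, 0, 0; 1, 2, 0, 0; 0, 0, 4, 6; 0, 0, 1, 4],
  !![2, 1, 0, 0; 6, 2, 0, 0; 0, 0, 4, 1; 0, 0, 6, 4],
  !![4, 6, 0, 0; 1, 4, 0, 0; 0, 0, 2, 6; 0, 0, 1, 2],
  !![3, 4, 0, 0; 3, 3, 0, 0; 0, 0, 3, 4; 0, 0, 3, 3],
  !![0, 0, 0, 0; 0, 0, 0, 0; 0, 0, 0, 0; 0, 0, 0, 0],
  !![1, 0, 0, 0; 0, 1, 0, 0; 0, 0, 5, 0; 0, 0, 0, 5],
  !![4, 0, 0, 0; 0, 4, 0, 0; 0, 0, 2, 0; 0, 0, 0, 2],
  !![5, 0, 0, 0; 0, 5, 0, 0; 0, 0, 1, 0; 0, 0, 0, 1],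
  !![2, 0, 0, 0; 0, 2, 0, 0; 0, 0, 4, 0; 0, 0, 0, 4],
  !![3, 0, 0, 0; 0, 3, 0, 0; 0, 0, 3, 0; 0, 0, 0, 3]
]

def el (i : ℕ) : N4 := LL.getD i 0
def wel (i : ℕ) : N4 := WW.getD i 0

def sAl : List ℕ := [7, 9, 11, 6, 8, 10, 4, 2, 0, 5, 3, 1, 19, 21, 23, 18, 20, 22, 16, 14, 12, 17, 15, 13]
def sBl : List ℕ := [12, 15, 16, 13, 14, 17, 18, 21, 22, 19, 20, 23, 6, 9, 10, 7, 8, 11, 5, 2, 1, 4, 3, 0]
def sAil : List ℕ := [8, 11, 7, 10, 6, 9, 3, 0, 4, 1, 5, 2, 20, 23, 19, 22, 18, 21, 15, 12, 16, 13, 17, 14]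
def sBil : List ℕ := [23, 20, 19, 22, 21, 18, 12, 15, 16, 13, 14, 17, 0, 3, 4, 1, 2, 5, 6, 9, 10, 7, 8, 11]
def sql : List ℕ := [17, 17, 17, 17, 17, 17, 12, 12, 12, 12, 12, 12, 23, 20, 22, 22, 20, 23, 18, 21, 19, 19, 21, 18]
def cul : List ℕ := [6, 7, 8, 9, 10, 11, 0, 1, 2, 3, 4, 5, 17, 17, 12, 17, 12, 12, 18, 18, 23, 18, 23, 23]

def tA (i : ℕ) : ℕ := sAl.getD i 0
def tB (i : ℕ) : ℕ := sBl.getD i 0
def tAi (i : ℕ) : ℕ := sAil.getD i 0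
def tBi (i : ℕ) : ℕ := sBil.getD i 0
def sq (i : ℕ) : ℕ := sql.getD i 0
def cu (i : ℕ) : ℕ := cul.getD i 0

theorem tA_lt : ∀ i < 24, tA i < 24 := by decide
theorem tB_lt : ∀ i < 24, tB i < 24 := by decide
theorem tAi_lt : ∀ i < 24, tAi i < 24 := by decide
theorem tBi_lt : ∀ i < 24, tBi i < 24 := by decide
theorem sq_lt : ∀ i < 24, sq i < 24 := by decide
theorem cu_lt : ∀ i < 24, cu i < 24 := by decide
theorem ordT : ∀ i < 24, sq (sq (sq i)) = 18 ∨ sq (sq (cu i)) = 18 := by decide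

set_option maxRecDepth 1000000 in
theorem gA_mul_gAi : gA * gAi = 1 := by decide +kernel
set_option maxRecDepth 1000000 in
theorem gAi_mul_gA : gAi * gA = 1 := by decide +kernel
set_option maxRecDepth 1000000 in
theorem gB_mul_gBi : gB * gBi = 1 := by decide +kernel
set_option maxRecDepth 1000000 in
theorem gBi_mul_gB : gBi * gB = 1 := by decide +kernel
set_option maxRecDepth 1000000 in
theorem el_i0 : el 18 = 1 := by decide +kernel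
set_option maxRecDepth 1000000 in
theorem el_iA : el 16 = gA := by decide +kernel
set_option maxRecDepth 1000000 in
theorem el_iB : el 5 = gB := by decide +kernel

set_option maxRecDepth 1000000 in
theorem mulA : ∀ i < 24, gA * el i = el (tA i) := by decide +kernel
set_option maxRecDepth 1000000 in
theorem mulB : ∀ i < 24, gB * el i = el (tB i) := by decide +kernel
set_option maxRecDepth 1000000 in
theorem mulAi : ∀ i < 24, gAi * el i = el (tAi i) := by decide +kernel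
set_option maxRecDepth 1000000 in
theorem mulBi : ∀ i < 24, gBi * el i = el (tBi i) := by decide +kernel
set_option maxRecDepth 1000000 in
theorem sqT : ∀ i < 24, el i * el i = el (sq i) := by decide +kernel
set_option maxRecDepth 1000000 in
theorem cuT : ∀ i < 24, el (sq i) * el i = el (cu i) := by decide +kernel
set_option maxRecDepth 1000000 in
theorem fpfT : ∀ i < 24, i = 18 ∨ (el i - 1) * wel i = 1 := by decide +kernel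

theorem el_sq (i : ℕ) (hi : i < 24) : el i ^ 2 = el (sq i) := by
  rw [pow_two]; exact sqT i hi

theorem el_cu (i : ℕ) (hi : i < 24) : el i ^ 3 = el (cu i) := by
  rw [pow_succ, el_sq i hi]; exact cuT i hi

theorem el_p4 (i : ℕ) (hi : i < 24) : el i ^ 4 = el (sq (sq i)) := by
  have h : el i ^ 4 = (el i ^ 2) ^ 2 := by rw [← pow_mul]
  rw [h, el_sq i hi, el_sq _ (sq_lt i hi)]

theorem el_p8 (i : ℕ) (hi : i < 24) : el i ^ 8 = el (sq (sq (sq i))) := by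
  have h : el i ^ 8 = (el i ^ 4) ^ 2 := by rw [← pow_mul]
  rw [h, el_p4 i hi, el_sq _ (sq_lt _ (sq_lt i hi))]

theorem el_p6 (i : ℕ) (hi : i < 24) : el i ^ 6 = el (sq (cu i)) := by
  have h : el i ^ 6 = (el i ^ 3) ^ 2 := by rw [← pow_mul]
  rw [h, el_cu i hi, el_sq _ (cu_lt i hi)]

theorem el_p12 (i : ℕ) (hi : i < 24) : el i ^ 12 = el (sq (sq (cu i))) := by
  have h : el i ^ 12 = (el i ^ 6) ^ 2 := by rw [← pow_mul]
  rw [h, el_p6 i hi, el_sq _ (sq_lt _ (cu_lt i hi))]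

theorem el_pow (i : ℕ) (hi : i < 24) : el i ^ 8 = 1 ∨ el i ^ 12 = 1 := by
  rcases ordT i hi with h | h
  · left; rw [el_p8 i hi, h, el_i0]
  · right; rw [el_p12 i hi, h, el_i0]

set_option maxRecDepth 1000000 in
theorem gA_pow12 : gA ^ 12 = 1 := by
  rw [← el_iA, el_p12 _ (by norm_num)]; decide +kernel
set_option maxRecDepth 1000000 in
theorem gA_pow4 : gA ^ 4 ≠ 1 := by
  rw [← el_iA, el_p4 _ (by norm_num)]; decide +kernel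
set_option maxRecDepth 1000000 in
theorem gA_pow6 : gA ^ 6 ≠ 1 := by
  rw [← el_iA, el_p6 _ (by norm_num)]; decide +kernel
set_option maxRecDepth 1000000 in
theorem gB_pow8 : gB ^ 8 = 1 := by
  rw [← el_iB, el_p8 _ (by norm_num)]; decide +kernel
set_option maxRecDepth 1000000 in
theorem gB_pow4 : gB ^ 4 ≠ 1 := by
  rw [← el_iB, el_p4 _ (by norm_num)]; decide +kernel

/-- Order 12 from `x ^ 12 = 1`, `x ^ 4 ≠ 1`, `x ^ 6 ≠ 1`. -/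
theorem orderOf_eq_twelve {G : Type*} [Monoid G] (x : G) (h12 : x ^ 12 = 1) (h4 : x ^ 4 ≠ 1)
    (h6 : x ^ 6 ≠ 1) : orderOf x = 12 := by
  have hd : orderOf x ∣ 12 := orderOf_dvd_of_pow_eq_one h12
  have hn4 : ¬ orderOf x ∣ 4 := fun h => h4 (orderOf_dvd_iff_pow_eq_one.mp h)
  have hn6 : ¬ orderOf x ∣ 6 := fun h => h6 (orderOf_dvd_iff_pow_eq_one.mp h)
  have hpos : 0 < orderOf x := Nat.pos_of_dvd_of_pos hd (by norm_num)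
  have hle : orderOf x ≤ 12 := Nat.le_of_dvd (by norm_num) hd
  generalize orderOf x = o at *
  interval_cases o <;> omega

theorem orderOf_gA : orderOf gA = 12 := orderOf_eq_twelve gA gA_pow12 gA_pow4 gA_pow6
theorem orderOf_gB : orderOf gB = 8 := orderOf_eq_eight gB gB_pow8 gB_pow4

/-- The generators as units. -/
def uA : N4ˣ := ⟨gA, gAi, gA_mul_gAi, gAi_mul_gA⟩
def uB : N4ˣ := ⟨gB, gBi, gB_mul_gBi, gBi_mul_gB⟩

/-- The group `C₃ ⋊ C₈` inside `GL₄(𝔽₇)`. -/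
def K : Subgroup N4ˣ := Subgroup.closure {uA, uB}

theorem uA_mem : uA ∈ K := Subgroup.subset_closure (by simp)
theorem uB_mem : uB ∈ K := Subgroup.subset_closure (by simp)

theorem mem_K_index {k : N4ˣ} (hk : k ∈ K) : ∃ i, i < 24 ∧ (k : N4) = el i := by
  unfold K at hk
  induction hk using Subgroup.closure_induction_left with
  | one => exact ⟨18, by norm_num, by rw [Units.val_one, el_i0]⟩
  | mul_left x hx y hy ih =>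
    obtain ⟨i, hi, hy'⟩ := ih
    simp only [Set.mem_insert_iff, Set.mem_singleton_iff] at hx
    rcases hx with rfl | rfl
    · exact ⟨tA i, tA_lt i hi, by rw [Units.val_mul, hy']; exact mulA i hi⟩
    · exact ⟨tB i, tB_lt i hi, by rw [Units.val_mul, hy']; exact mulB i hi⟩
  | inv_mul_cancel x hx y hy ih =>
    obtain ⟨i, hi, hy'⟩ := ih
    simp only [Set.mem_insert_iff, Set.mem_singleton_iff] at hx
    rcases hx with rfl | rfl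
    · exact ⟨tAi i, tAi_lt i hi, by rw [Units.val_mul, hy']; exact mulAi i hi⟩
    · exact ⟨tBi i, tBi_lt i hi, by rw [Units.val_mul, hy']; exact mulBi i hi⟩

theorem K_pow {k : N4ˣ} (hk : k ∈ K) : (k : N4) ^ 8 = 1 ∨ (k : N4) ^ 12 = 1 := by
  obtain ⟨i, hi, h⟩ := mem_K_index hk
  rw [h]; exact el_pow i hi

theorem K_fpf {k : N4ˣ} (hk : k ∈ K) (hk1 : k ≠ 1) : ∃ w : N4, ((k : N4) - 1) * w = 1 := by
  obtain ⟨i, hi, h⟩ := mem_K_index hk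
  rcases fpfT i hi with h0 | h0
  · exfalso; apply hk1; apply Units.ext; rw [h, h0, el_i0, Units.val_one]
  · exact ⟨wel i, by rw [h]; exact h0⟩

theorem K_solvable : Group.IsSolvable K := by
  have hcard : ∃ a b : ℕ, Nat.card K = 2 ^ a * 3 ^ b := by
    apply exists_two_three_pow _ Nat.card_pos.ne'
    intro q hq hqd
    have := Fact.mk hq
    obtain ⟨x, hx⟩ := exists_prime_orderOf_dvd_card' q hqd
    have hx' : orderOf ((x : N4ˣ) : N4) = q := by rw [orderOf_units, Subgroup.orderOf_coe, hx]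
    rcases K_pow x.2 with h | h
    · have h8 : q ∣ 2 ^ 3 := by
        have := orderOf_dvd_of_pow_eq_one h
        rw [hx'] at this; simpa using this
      left
      exact (Nat.prime_dvd_prime_iff_eq hq Nat.prime_two).mp (hq.dvd_of_dvd_pow h8)
    · have h12 : q ∣ 2 ^ 2 * 3 := by
        have := orderOf_dvd_of_pow_eq_one h
        rw [hx'] at this; simpa using this
      rcases (Nat.Prime.dvd_mul hq).mp h12 with h2 | h3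
      · left; exact (Nat.prime_dvd_prime_iff_eq hq Nat.prime_two).mp (hq.dvd_of_dvd_pow h2)
      · right; exact (Nat.prime_dvd_prime_iff_eq hq Nat.prime_three).mp h3
  obtain ⟨a, b, hab⟩ := hcard
  exact Cfsg.Agent.Lib.Helper2.isSolvable_of_card_eq_prime_pow_mul_prime_pow 2 3 Nat.prime_two
    Nat.prime_three (Nat.card K) K rfl ⟨a, b, hab⟩

end Cfsg.Agent.Lib.Helper17.C3C8mod7
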