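import Cfsg.Agent.Lib.Helper24.CT.A04

/-!
Spare for S4146 leaf A05 (architect helper24): for a `q`-element `x` of maximal class size, a
conjugate `y` of a given primary `b` (with `q ∤ cl b`) has `C(x) ≤ C(y)`.
-/

set_option autoImplicit false

namespace Cfsg.Agent.Lib.Helper17.CTA05

open Cfsg.Agent.Lib.Helper24.CT

variable {G : Type*} [Group G] {m₁ n₁ : ℕ}

theorem orderOf_conj' (g b : G) : orderOf (g * b * g⁻¹) = orderOf b := by
  have := MulEquiv.orderOf_eq (MulAut.conj g) b
  rwa [MulAut.conj_apply] at this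

/-- a Sylow subgroup of `↥C` inside `D ≤ C` kills `p` from the relative index. -/
theorem not_dvd_relIndex_of_sylow_le [Finite G] {p : ℕ} [Fact p.Prime] {C D : Subgroup G}
    (S : Sylow p ↥C) (hS : (S : Subgroup ↥C).map C.subtype ≤ D) : ¬ p ∣ D.relIndex C := by
  intro hp
  have h1 : D.relIndex C ∣ ((S : Subgroup ↥C).map C.subtype).relIndex C :=
    Subgroup.relIndex_dvd_of_le_left C hS
  have h2 : ((S : Subgroup ↥C).map C.subtype).relIndex C = (S : Subgroup ↥C).index := by
    rw [Subgroup.relIndex, Subgroup.subgroupOf,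
      Subgroup.comap_map_eq_self_of_injective C.subtype_injective]
  rw [h2] at h1
  exact Sylow.not_dvd_index S (hp.trans h1)

theorem exists_centralizer_le_of_ne [Finite G] (h : Hyp0 G m₁ n₁) {q u : ℕ} (hq : q.Prime)
    (hu : u.Prime) (huq : u ≠ q) {x b : G} (hx : cl x = m₁ * n₁) (hxq : IsPrimary q x)
    (hbu : IsPrimary u b) (hb : ¬ q ∣ cl b) :
    ∃ g : G, Subgroup.centralizer ({x} : Set G) ≤ Subgroup.centralizer ({g * b * g⁻¹} : Set G) := by
  obtain ⟨g, hg⟩ := exists_conj_commute_of_not_dvd_cl hq hxq hb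
  refine ⟨g, h.centralizer_le_of_coprime_of_cl_max hx hg ?_⟩
  obtain ⟨k, hk⟩ := hxq
  obtain ⟨j, hj⟩ := hbu
  rw [orderOf_conj', hk, hj]
  exact Nat.Coprime.pow _ _ ((Nat.coprime_primes hq hu).mpr (Ne.symm huq))

theorem exists_centralizer_le_of_eq [Finite G] (h : Hyp0 G m₁ n₁) {q : ℕ} (hq : q.Prime)
    {x b : G} (hx : cl x = m₁ * n₁) (hxq : IsPrimary q x)
    (hbq : IsPrimary q b) (hb : ¬ q ∣ cl b) :
    ∃ g : G, Subgroup.centralizer ({x} : Set G) ≤ Subgroup.centralizer ({g * b * g⁻¹} : Set G) := by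
  classical
  have : Fact q.Prime := ⟨hq⟩
  set C : Subgroup G := Subgroup.centralizer ({x} : Set G) with hC
  have hxC : x ∈ C := Subgroup.mem_centralizer_singleton_iff.mpr rfl
  obtain ⟨k, hk⟩ := hxq
  -- a Sylow `q`-subgroup of `C` containing `x`
  have hz : IsPGroup q (Subgroup.zpowers (⟨x, hxC⟩ : ↥C)) := by
    apply IsPGroup.of_card (n := k)
    rw [Nat.card_zpowers, ← hk, ← Subgroup.orderOf_coe]
  obtain ⟨P, hP⟩ := hz.exists_le_sylow
  have hxP : (⟨x, hxC⟩ : ↥C) ∈ (P : Subgroup ↥C) := hP (Subgroup.mem_zpowers _)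
  have hP' : IsPGroup q ((P : Subgroup ↥C).map C.subtype) := P.2.map _
  obtain ⟨Q, hQ⟩ := hP'.exists_le_sylow
  obtain ⟨g, hg⟩ := exists_conj_sylow_le_centralizer hbq hb Q
  refine ⟨g, ?_⟩
  set y : G := g * b * g⁻¹ with hy
  have hxP' : x ∈ (P : Subgroup ↥C).map C.subtype := ⟨⟨x, hxC⟩, hxP, rfl⟩
  have hxy : x * y = y * x := Subgroup.mem_centralizer_singleton_iff.mp (hg (hQ hxP'))
  have hyC : y ∈ C := Subgroup.mem_centralizer_singleton_iff.mpr hxy.symm
  set D : Subgroup G := C ⊓ Subgroup.centralizer ({y} : Set G) with hD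
  have hrel : D.relIndex C = 1 := by
    by_contra hne
    obtain ⟨p, hp, hpd⟩ := Nat.exists_prime_and_dvd hne
    have : Fact p.Prime := ⟨hp⟩
    by_cases hpq : p = q
    · subst hpq
      refine not_dvd_relIndex_of_sylow_le P ?_ hpd
      exact le_inf (Subgroup.map_subtype_le _) (hQ.trans hg)
    · obtain ⟨S⟩ : Nonempty (Sylow p ↥C) := inferInstance
      refine not_dvd_relIndex_of_sylow_le S ?_ hpd
      rintro _ ⟨v, hv, rfl⟩
      refine ⟨v.2, ?_⟩
      obtain ⟨j, hj⟩ := (IsPGroup.iff_orderOf.mp S.2) ⟨v, hv⟩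
      have hj' : orderOf (v : G) = p ^ j := by
        rw [Subgroup.orderOf_coe]
        have : orderOf (⟨v, hv⟩ : (S : Subgroup ↥C)) = orderOf v := by
          rw [← Subgroup.orderOf_coe]
        rw [← this, hj]
      have hvx : (v : G) * x = x * (v : G) := Subgroup.mem_centralizer_singleton_iff.mp v.2
      have hcomm : Commute x (v : G) := hvx.symm
      have hcop : (orderOf x).Coprime (orderOf (v : G)) := by
        rw [hk, hj']
        exact Nat.Coprime.pow _ _ ((Nat.coprime_primes hq hp).mpr (Ne.symm hpq))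
      have hle := h.centralizer_le_of_coprime_of_cl_max hx hcomm hcop
      have hyv : y * (v : G) = (v : G) * y := Subgroup.mem_centralizer_singleton_iff.mp (hle hyC)
      show (v : G) ∈ Subgroup.centralizer ({y} : Set G)
      exact Subgroup.mem_centralizer_singleton_iff.mpr hyv.symm
  exact (Subgroup.relIndex_eq_one.mp hrel).trans inf_le_right

end Cfsg.Agent.Lib.Helper17.CTA05
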