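import Cfsg.Agent.Lib.Helper17.CharP
import Cfsg.Agent.Lib.Helper17.Conj
import Cfsg.Agent.Lib.Helper17.Commutator

set_option autoImplicit false

namespace Cfsg.Agent.Lib.Helper17

open Cfsg

section CharP2

variable {G : Type*} [Group G] {p : ℕ}

theorem normalizer_le_normalizer_centralizer' (V : Subgroup G) :
    Subgroup.normalizer (V : Set G) ≤
      Subgroup.normalizer ((Subgroup.centralizer (V : Set G) : Subgroup G) : Set G) := by
  intro g hg
  apply mem_normalizer_of_map_conj_eq
  rw [← centralizer_map_conj, map_conj_eq_of_mem_normalizer hg]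

/-- A `p'`-element of a `p`-group is trivial. -/
theorem eq_one_of_mem_pgroup_of_coprime [hp : Fact p.Prime] {Q : Subgroup G} (hQ : IsPGroup p Q)
    {c : G} (hc : c ∈ Q) (hcop : (orderOf c).Coprime p) : c = 1 := by
  obtain ⟨k, hk⟩ := hQ ⟨c, hc⟩
  have hk' : c ^ p ^ k = 1 := by
    have := congrArg Subtype.val hk
    simpa using this
  have h1 : orderOf c ∣ p ^ k := orderOf_dvd_of_pow_eq_one hk'
  have h2 : orderOf c = 1 :=
    Nat.eq_one_of_dvd_coprimes (Nat.Coprime.pow_right k hcop) dvd_rfl h1
  exact orderOf_eq_one_iff.mp h2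

/-- **`p`-locals of groups of characteristic `p` have characteristic `p`** (general form):
if `M` has characteristic `p`, `K ≤ M`, and `A ≤ O_p(K)` with `C_{O_p(M)}(A) ≤ K`, then `K` has
characteristic `p`. -/
theorem isCharPSub_of_local [Finite G] [Fact p.Prime] {M K A : Subgroup G}
    (hM : IsCharPSub p M) (hKM : K ≤ M) (hA : A ≤ pCoreOf p K)
    (hC : pCoreOf p M ⊓ Subgroup.centralizer (A : Set G) ≤ K) : IsCharPSub p K := by
  set Q := pCoreOf p M with hQ
  set R := pCoreOf p K with hR
  have hQp : IsPGroup p Q := pCoreOf_isPGroup M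
  have hRp : IsPGroup p R := pCoreOf_isPGroup K
  have hAp : IsPGroup p A := hRp.to_le hA
  have hMQ : M ≤ Subgroup.normalizer (Q : Set G) := le_normalizer_pCoreOf M
  have hKR : K ≤ Subgroup.normalizer (R : Set G) := le_normalizer_pCoreOf K
  have hRK : R ≤ K := pCoreOf_le K
  have hQK : Q ⊓ K ≤ R := by
    apply le_pCoreOf inf_le_right _ (hQp.to_le inf_le_left)
    intro k hk
    exact mem_normalizer_inf (hMQ (hKM hk)) (Subgroup.le_normalizer hk)
  have hCp : IsPGroup p (K ⊓ Subgroup.centralizer (R : Set G) : Subgroup G) := by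
    apply isPGroup_of_coprime_elements_trivial
    intro c hc hcop
    obtain ⟨hcK, hcR⟩ := Subgroup.mem_inf.mp hc
    have hcA : ∀ b ∈ A, c * b = b * c := fun b hb =>
      ((Subgroup.mem_centralizer_iff.mp hcR) b (hA hb)).symm
    have hyp : ∀ x ∈ Q, (∀ b ∈ A, b * x = x * b) → c * x = x * c := by
      intro x hxQ hxA
      have hxK : x ∈ K := hC (Subgroup.mem_inf.mpr ⟨hxQ, by
        rw [Subgroup.mem_centralizer_iff]; exact hxA⟩)
      have hxR : x ∈ R := hQK (Subgroup.mem_inf.mpr ⟨hxQ, hxK⟩)
      exact ((Subgroup.mem_centralizer_iff.mp hcR) x hxR).symm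
    have hcent := thompson_AxB hAp hcop hcA (Nat.card Q) Q rfl hQp (hMQ (hKM hcK))
      (((hA.trans hRK).trans hKM).trans hMQ) hyp
    have hcQ : c ∈ Q := by
      apply hM
      refine Subgroup.mem_inf.mpr ⟨hKM hcK, ?_⟩
      rw [Subgroup.mem_centralizer_iff]
      intro x hx
      exact (hcent x hx).symm
    exact eq_one_of_mem_pgroup_of_coprime hQp hcQ hcop
  unfold IsCharPSub
  apply le_pCoreOf inf_le_left _ hCp
  intro k hk
  exact mem_normalizer_inf (Subgroup.le_normalizer hk)
    (normalizer_le_normalizer_centralizer' R (hKR hk))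

/-- `N_M(A)` has characteristic `p` when `M` does, for a `p`-subgroup `A ≤ M`. -/
theorem isCharPSub_normalizer_inf [Finite G] [Fact p.Prime] {M A : Subgroup G}
    (hM : IsCharPSub p M) (hAM : A ≤ M) (hA : IsPGroup p A) :
    IsCharPSub p (M ⊓ Subgroup.normalizer (A : Set G)) := by
  apply isCharPSub_of_local hM inf_le_left (A := A)
  · exact le_pCoreOf (le_inf hAM Subgroup.le_normalizer) inf_le_right hA
  · exact le_inf (inf_le_left.trans (pCoreOf_le M))
      (inf_le_right.trans (Subgroup.centralizer_le_normalizer _))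

/-- `C_M(A)` has characteristic `p` when `M` does, for a `p`-subgroup `A ≤ M`. -/
theorem isCharPSub_centralizer_inf [Finite G] [Fact p.Prime] {M A : Subgroup G}
    (hM : IsCharPSub p M) (hAM : A ≤ M) (hA : IsPGroup p A) :
    IsCharPSub p (M ⊓ Subgroup.centralizer (A : Set G)) := by
  apply isCharPSub_of_normal (K := M ⊓ Subgroup.normalizer (A : Set G))
    (inf_le_inf_left M (Subgroup.centralizer_le_normalizer _)) _
    (isCharPSub_normalizer_inf hM hAM hA)
  intro k hk
  obtain ⟨hkM, hkN⟩ := Subgroup.mem_inf.mp hk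
  exact mem_normalizer_inf (Subgroup.le_normalizer hkM)
    (normalizer_le_normalizer_centralizer' A hkN)

end CharP2

end Cfsg.Agent.Lib.Helper17
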