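import Mathlib
import Cfsg.Agent.Lib.Helper9.GfsP
import Cfsg.Agent.Lib.Helper17.StrongPEmb2

set_option autoImplicit false
open Cfsg

namespace Cfsg.Agent.Lib.Helper17

universe u

section Bridge

variable {H : Type u} [Group H] [Finite H] {p : ℕ} [Fact p.Prime]

/-- `F*(H)` is a `p`-group iff `C_H(O_p(H)) ≤ O_p(H)`. -/
theorem isPGroup_gfs_iff_centralizer_pCore_le :
    IsPGroup p ↥(Cfsg.generalizedFittingSubgroup H) ↔
      Subgroup.centralizer (pCore p H : Set H) ≤ pCore p H := by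
  constructor
  · intro h
    have h1 := Cfsg.Agent.Lib.Helper9.gfs_eq_pCore_of_isPGroup h
    rw [← h1]
    exact Cfsg.Agent.Lib.Helper9.centralizer_gfs_le
  · intro h
    apply Cfsg.Agent.Lib.Helper9.isPGroup_gfs_of_centralizer_pCore_le (pCore p H) h
    exact ((Cfsg.Agent.Lib.Helper1.pCore_isPGroup (G := H) p).to_subgroup _)

/-- `F*(H) = O_p(H)` iff `C_H(O_p(H)) ≤ O_p(H)`. -/
theorem gfs_eq_pCore_iff_centralizer_pCore_le :
    Cfsg.generalizedFittingSubgroup H = pCore p H ↔
      Subgroup.centralizer (pCore p H : Set H) ≤ pCore p H := by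
  rw [← isPGroup_gfs_iff_centralizer_pCore_le]
  exact ⟨Cfsg.Agent.Lib.Helper9.isPGroup_gfs_of_eq_pCore,
    Cfsg.Agent.Lib.Helper9.gfs_eq_pCore_of_isPGroup⟩

end Bridge

section Ambient

variable {G : Type u} [Group G] [Finite G] {p : ℕ} [Fact p.Prime]

/-- If `z ∈ Z(X)` for a `p`-subgroup `X` and `C_G(z)` has characteristic `p`, so does `N_G(X)`. -/
theorem isPGroup_gfs_normalizer_of_centralizer {X : Subgroup G} (hX : IsPGroup p X) {z : G}
    (hzX : z ∈ X) (hzc : ∀ x ∈ X, x * z = z * x)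
    (h : IsPGroup p ↥(Cfsg.generalizedFittingSubgroup ↥(Subgroup.centralizer ({z} : Set G)))) :
    IsPGroup p ↥(Cfsg.generalizedFittingSubgroup ↥(Subgroup.normalizer (X : Set G))) := by
  set Y : Subgroup G := Subgroup.centralizer ({z} : Set G) with hYdef
  set K : Subgroup G := Subgroup.normalizer (X : Set G) with hKdef
  have hXY : X ≤ Y := by
    intro x hx
    rw [hYdef, Subgroup.mem_centralizer_singleton_iff]
    exact hzc x hx
  have h2 : IsPGroup p ↥(Cfsg.generalizedFittingSubgroup ↥(K ⊓ Y)) :=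
    Cfsg.Agent.Lib.Helper9.isPGroup_gfs_normalizer_inf hXY hX h
  set M : Subgroup ↥K := (K ⊓ Y).subgroupOf K with hMdef
  have hM : IsPGroup p ↥(Cfsg.generalizedFittingSubgroup ↥M) :=
    Cfsg.Agent.Lib.Helper9.isPGroup_gfs_of_mulEquiv
      (Subgroup.subgroupOfEquivOfLe (inf_le_left : K ⊓ Y ≤ K)).symm h2
  have hXK : X ≤ K := Subgroup.le_normalizer
  have hXn : (X.subgroupOf K).Normal :=
    (Subgroup.normal_subgroupOf_iff_le_normalizer hXK).mpr le_rfl
  have hXO : X.subgroupOf K ≤ pCore p ↥K :=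
    Cfsg.Agent.Lib.Helper1.le_pCore hXn hX.comap_subtype
  have hcent : Subgroup.centralizer (pCore p ↥K : Set ↥K) ≤ M := by
    intro k hk
    rw [hMdef, Subgroup.mem_subgroupOf]
    have hkY : (k : G) ∈ Y := by
      rw [hYdef, Subgroup.mem_centralizer_singleton_iff]
      have hzK : z ∈ K := hXK hzX
      have hzO : (⟨z, hzK⟩ : ↥K) ∈ pCore p ↥K := hXO (Subgroup.mem_subgroupOf.mpr hzX)
      have := (Subgroup.mem_centralizer_iff.mp hk) _ hzO
      exact (congrArg Subtype.val this).symm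
    exact ⟨k.2, hkY⟩
  exact Cfsg.Agent.Lib.Helper9.isPGroup_gfs_of_centralizer_pCore_le M hcent hM

/-- Conjugation isomorphism between element centralizers. -/
def centralizerConjEquiv (g z : G) :
    ↥(Subgroup.centralizer ({z} : Set G)) ≃* ↥(Subgroup.centralizer ({g * z * g⁻¹} : Set G)) where
  toFun c := ⟨g * c * g⁻¹, by
    have hc := Subgroup.mem_centralizer_singleton_iff.mp c.2
    rw [Subgroup.mem_centralizer_singleton_iff]
    calc g * (c : G) * g⁻¹ * (g * z * g⁻¹) = g * ((c : G) * z) * g⁻¹ := by group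
      _ = g * (z * (c : G)) * g⁻¹ := by rw [hc]
      _ = g * z * g⁻¹ * (g * (c : G) * g⁻¹) := by group⟩
  invFun c := ⟨g⁻¹ * c * g, by
    have hc := Subgroup.mem_centralizer_singleton_iff.mp c.2
    rw [Subgroup.mem_centralizer_singleton_iff]
    calc g⁻¹ * (c : G) * g * z = g⁻¹ * ((c : G) * (g * z * g⁻¹)) * g := by group
      _ = g⁻¹ * ((g * z * g⁻¹) * (c : G)) * g := by rw [hc]
      _ = z * (g⁻¹ * (c : G) * g) := by group⟩
  left_inv c := by apply Subtype.ext; simp [mul_assoc]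
  right_inv c := by apply Subtype.ext; simp [mul_assoc]
  map_mul' a b := by apply Subtype.ext; simp [mul_assoc]

omit [Finite G] [Fact p.Prime] in
theorem isPGroup_gfs_centralizer_conj (g z : G)
    (h : IsPGroup p ↥(Cfsg.generalizedFittingSubgroup ↥(Subgroup.centralizer ({z} : Set G)))) :
    IsPGroup p ↥(Cfsg.generalizedFittingSubgroup
      ↥(Subgroup.centralizer ({g * z * g⁻¹} : Set G))) :=
  Cfsg.Agent.Lib.Helper9.isPGroup_gfs_of_mulEquiv (centralizerConjEquiv g z) h

end Ambient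

end Cfsg.Agent.Lib.Helper17
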