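import Mathlib

/-!
Commutators of joins modulo a normal subgroup, and powers of products in class two.
-/

set_option autoImplicit false

namespace Cfsg.Agent.Lib.Helper17

open scoped commutatorElement

section

variable {G : Type*} [Group G]

/-- If `C` is normal and `[H₁, K], [H₂, K] ≤ C`, then `[H₁ ⊔ H₂, K] ≤ C`. -/
theorem commutator_sup_le_of_normal {H₁ H₂ K C : Subgroup G} [hC : C.Normal]
    (h1 : ⁅H₁, K⁆ ≤ C) (h2 : ⁅H₂, K⁆ ≤ C) : ⁅H₁ ⊔ H₂, K⁆ ≤ C := by
  rw [Subgroup.commutator_le]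
  intro h hh k hk
  rw [Subgroup.sup_eq_closure] at hh
  induction hh using Subgroup.closure_induction with
  | mem x hx =>
    rcases hx with hx | hx
    · exact h1 (Subgroup.commutator_mem_commutator hx hk)
    · exact h2 (Subgroup.commutator_mem_commutator hx hk)
  | one => rw [commutatorElement_one_left]; exact C.one_mem
  | mul x y _ _ hx hy =>
    have e : ⁅x * y, k⁆ = x * ⁅y, k⁆ * x⁻¹ * ⁅x, k⁆ := by
      rw [commutatorElement_def, commutatorElement_def, commutatorElement_def]; group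
    rw [e]
    exact C.mul_mem (hC.conj_mem _ hy x) hx
  | inv x _ hx =>
    have e : ⁅x⁻¹, k⁆ = x⁻¹ * ⁅x, k⁆⁻¹ * x⁻¹⁻¹ := by
      rw [commutatorElement_def, commutatorElement_def]; group
    rw [e]
    exact hC.conj_mem _ (C.inv_mem hx) x⁻¹

/-- If `C` is normal and all four `[Hᵢ, Kⱼ] ≤ C`, then `[H₁ ⊔ H₂, K₁ ⊔ K₂] ≤ C`. -/
theorem commutator_sup_sup_le_of_normal {H₁ H₂ K₁ K₂ C : Subgroup G} [hC : C.Normal]
    (h11 : ⁅H₁, K₁⁆ ≤ C) (h12 : ⁅H₁, K₂⁆ ≤ C) (h21 : ⁅H₂, K₁⁆ ≤ C) (h22 : ⁅H₂, K₂⁆ ≤ C) :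
    ⁅H₁ ⊔ H₂, K₁ ⊔ K₂⁆ ≤ C := by
  apply commutator_sup_le_of_normal
  · rw [Subgroup.commutator_comm]
    apply commutator_sup_le_of_normal
    · rw [Subgroup.commutator_comm]; exact h11
    · rw [Subgroup.commutator_comm]; exact h12
  · rw [Subgroup.commutator_comm]
    apply commutator_sup_le_of_normal
    · rw [Subgroup.commutator_comm]; exact h21
    · rw [Subgroup.commutator_comm]; exact h22

/-- Powers of a product when `c = w⁻¹ v⁻¹ w v` commutes with `v` and `w`. -/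
theorem exists_pow_mul_eq (v w : G) (hcv : (w⁻¹ * v⁻¹ * w * v) * v = v * (w⁻¹ * v⁻¹ * w * v))
    (hcw : (w⁻¹ * v⁻¹ * w * v) * w = w * (w⁻¹ * v⁻¹ * w * v)) (n : ℕ) :
    ∃ m : ℕ, (v * w) ^ n = v ^ n * w ^ n * (w⁻¹ * v⁻¹ * w * v) ^ m := by
  obtain ⟨c, hc⟩ : ∃ c, c = w⁻¹ * v⁻¹ * w * v := ⟨_, rfl⟩
  rw [← hc] at hcv hcw ⊢
  have hwv : w * v = v * w * c := by rw [hc]; group
  have hcv' : Commute c v := hcv
  have hcw' : Commute c w := hcw
  -- `w^n v = v w^n c^n`
  have h1 : ∀ n : ℕ, w ^ n * v = v * w ^ n * c ^ n := by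
    intro n
    induction n with
    | zero => simp
    | succ k ih =>
      calc w ^ (k + 1) * v = w ^ k * (w * v) := by rw [pow_succ]; group
        _ = w ^ k * (v * w * c) := by rw [hwv]
        _ = (w ^ k * v) * w * c := by group
        _ = (v * w ^ k * c ^ k) * w * c := by rw [ih]
        _ = v * w ^ k * (c ^ k * w) * c := by group
        _ = v * w ^ k * (w * c ^ k) * c := by rw [(hcw'.pow_left k).eq]
        _ = v * (w ^ k * w) * (c ^ k * c) := by group
        _ = v * w ^ (k + 1) * c ^ (k + 1) := by rw [← pow_succ, ← pow_succ]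
  induction n with
  | zero => exact ⟨0, by simp⟩
  | succ k ih =>
    obtain ⟨m, hm⟩ := ih
    refine ⟨m + k, ?_⟩
    calc (v * w) ^ (k + 1) = (v * w) ^ k * (v * w) := pow_succ _ _
      _ = v ^ k * w ^ k * c ^ m * (v * w) := by rw [hm]
      _ = v ^ k * w ^ k * (c ^ m * v) * w := by group
      _ = v ^ k * w ^ k * (v * c ^ m) * w := by rw [(hcv'.pow_left m).eq]
      _ = v ^ k * (w ^ k * v) * (c ^ m * w) := by group
      _ = v ^ k * (v * w ^ k * c ^ k) * (w * c ^ m) := by rw [h1 k, (hcw'.pow_left m).eq]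
      _ = (v ^ k * v) * w ^ k * (c ^ k * w) * c ^ m := by group
      _ = (v ^ k * v) * w ^ k * (w * c ^ k) * c ^ m := by rw [(hcw'.pow_left k).eq]
      _ = (v ^ k * v) * (w ^ k * w) * (c ^ k * c ^ m) := by simp only [mul_assoc]
      _ = v ^ (k + 1) * w ^ (k + 1) * c ^ (m + k) := by
        rw [← pow_succ, ← pow_succ, ← pow_add, add_comm k m]

end

end Cfsg.Agent.Lib.Helper17
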