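import Mathlib
import Cfsg.Prelude.Def_KGroupFacts
import Cfsg.Agent.Lib.Helper12.SchurBasic
import Cfsg.Agent.Lib.Helper21.WeakL12
import Cfsg.Agent.Lib.Helper1.WeakL11

/-!
# S2043-[P2] piece A (helper17): lifts of generators of a perfect group with trivial multiplier

If the images `σ (γh i)` generate a perfect group `M` with trivial Schur multiplier, the kernel of `σ` is a central
`p`-group and the `γh i` have orders prime to `p`, then the `γh i` generate a copy of `M`: the restriction of `σ`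
to the group `Kt` generated by the `γh i` splits, and the section hits every `γh i` by uniqueness of lifts.
-/

set_option autoImplicit false

namespace Cfsg.Agent.Lib.Helper22.Co1M

open Cfsg

theorem card_lifts_le {Γ G : Type} [Group Γ] [Finite Γ] [Group G] (σ : Γ →* G)
    (hc : σ.ker ≤ Subgroup.center Γ) {p : ℕ} (hk : IsPGroup p σ.ker) (t : ℕ) (γh : ℕ → Γ) (n : ℕ → ℕ)
    (hn : ∀ i < t, (n i).Coprime p) (hpow : ∀ i < t, γh i ^ n i = 1)
    (hperf : commutator ↥(Subgroup.closure (Set.range fun i : Fin t => σ (γh i.val))) = ⊤)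
    (hmult : Cfsg.HasCyclicSchurMultiplier
      ↥(Subgroup.closure (Set.range fun i : Fin t => σ (γh i.val))) 1) :
    Nat.card ↥(Subgroup.closure (Set.range fun i : Fin t => γh i.val)) ≤
      Nat.card ↥(Subgroup.closure (Set.range fun i : Fin t => σ (γh i.val))) := by
  classical
  set Kt : Subgroup Γ := Subgroup.closure (Set.range fun i : Fin t => γh i.val) with hKt
  set M : Subgroup G := Subgroup.closure (Set.range fun i : Fin t => σ (γh i.val)) with hM
  have hMK : M = Kt.map σ := Cfsg.Agent.Lib.Helper10.Weak.closure_map_range σ γh t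
  -- the restriction of `σ`
  let ψ : ↥Kt →* ↥M := (σ.comp Kt.subtype).codRestrict M (fun x => by
    rw [hMK]
    exact Subgroup.mem_map_of_mem σ x.2)
  have hψv : ∀ x : ↥Kt, ((ψ x : ↥M) : G) = σ (x : Γ) := fun x => rfl
  have hψ : Function.Surjective ψ := by
    rintro ⟨y, hy⟩
    have hy' : y ∈ Kt.map σ := hMK ▸ hy
    obtain ⟨x, hx, rfl⟩ := Subgroup.mem_map.mp hy'
    exact ⟨⟨x, hx⟩, Subtype.ext rfl⟩
  haveI : Finite ↥M := Finite.of_surjective ψ hψ
  have hker : ∀ x : ↥Kt, x ∈ ψ.ker → (x : Γ) ∈ σ.ker := by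
    intro x hx
    rw [MonoidHom.mem_ker] at hx ⊢
    have := congrArg (fun m : ↥M => (m : G)) hx
    simpa [hψv] using this
  have hkc : ψ.ker ≤ Subgroup.center ↥Kt := by
    intro x hx
    rw [Subgroup.mem_center_iff]
    intro g
    apply Subtype.ext
    have := Subgroup.mem_center_iff.mp (hc (hker x hx)) (g : Γ)
    simpa using this
  have hkp : IsPGroup p ψ.ker := by
    rintro ⟨x, hx⟩
    obtain ⟨k, hk1⟩ := hk ⟨(x : Γ), hker x hx⟩
    refine ⟨k, ?_⟩
    apply Subtype.ext
    apply Subtype.ext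
    have := congrArg Subtype.val hk1
    simpa using this
  obtain ⟨s, hs⟩ := Cfsg.Agent.Lib.Helper12.Schur.exists_section_of_trivial_multiplier
    hperf hmult ψ hψ hkc
  have hs' : ∀ m : ↥M, ψ (s m) = m := fun m => by
    have := congrArg (fun f : ↥M →* ↥M => f m) hs
    simpa using this
  -- the section hits the generators
  have hgen : ∀ i : Fin t, ∃ m : ↥M, ((s m : ↥Kt) : Γ) = γh i.val := by
    intro i
    let x : ↥Kt := ⟨γh i.val, Subgroup.subset_closure ⟨i, rfl⟩⟩
    refine ⟨ψ x, ?_⟩
    have hx : x ^ n i.val = 1 := Subtype.ext (by simpa using hpow i.val i.2)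
    have hsx : s (ψ x) ^ n i.val = 1 := by
      rw [← map_pow, ← map_pow, hx, map_one, map_one]
    have := Cfsg.Agent.Lib.Helper10.Weak.lift_unique ψ hkc hkp (hn i.val i.2) (hn i.val i.2) hsx hx
      (hs' (ψ x))
    rw [this]
  have hall : ∀ x ∈ Kt, ∃ m : ↥M, ((s m : ↥Kt) : Γ) = x := by
    intro x hx
    induction hx using Subgroup.closure_induction with
    | mem y hy =>
      obtain ⟨i, rfl⟩ := hy
      exact hgen i
    | one => exact ⟨1, by simp⟩
    | mul a b _ _ iha ihb =>
      obtain ⟨ma, hma⟩ := iha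
      obtain ⟨mb, hmb⟩ := ihb
      exact ⟨ma * mb, by rw [map_mul, Subgroup.coe_mul, hma, hmb]⟩
    | inv a _ iha =>
      obtain ⟨ma, hma⟩ := iha
      exact ⟨ma⁻¹, by rw [map_inv, Subgroup.coe_inv, hma]⟩
  have hsurj : Function.Surjective s := by
    rintro ⟨x, hx⟩
    obtain ⟨m, hm⟩ := hall x hx
    exact ⟨m, Subtype.ext hm⟩
  exact Nat.card_le_card_of_surjective s hsurj

end Cfsg.Agent.Lib.Helper22.Co1M
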