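import Mathlib

/-!
Coatoms under surjective homomorphisms, and an index formula `|G : A| = |D : A ∩ D|` for `G = AD`.
-/

set_option autoImplicit false

namespace Cfsg.Agent.Lib.Helper17

section

variable {G G' : Type*} [Group G] [Group G']

theorem isCoatom_map_of_ker_le {f : G →* G'} (hf : Function.Surjective f) {M : Subgroup G}
    (hM : IsCoatom M) (hk : f.ker ≤ M) : IsCoatom (M.map f) := by
  have hcm : (M.map f).comap f = M := by
    rw [Subgroup.comap_map_eq]; exact sup_eq_left.mpr hk
  constructor
  · intro h
    apply hM.1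
    rw [← hcm, h, Subgroup.comap_top]
  · intro X hX
    have h1 : M < X.comap f := by
      rw [← hcm]
      refine lt_of_le_of_ne (Subgroup.comap_mono hX.le) ?_
      intro h
      have h2 := congrArg (Subgroup.map f) h
      rw [Subgroup.map_comap_eq_self_of_surjective hf, Subgroup.map_comap_eq_self_of_surjective hf]
        at h2
      exact hX.ne h2
    have h2 := hM.2 _ h1
    rw [← Subgroup.map_comap_eq_self_of_surjective hf X, h2, ← MonoidHom.range_eq_map,
      MonoidHom.range_eq_top.mpr hf]

theorem isCoatom_comap_of_surjective {f : G →* G'} (hf : Function.Surjective f) {M : Subgroup G'}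
    (hM : IsCoatom M) : IsCoatom (M.comap f) := by
  constructor
  · intro h
    apply hM.1
    rw [← Subgroup.map_comap_eq_self_of_surjective hf M, h, ← MonoidHom.range_eq_map,
      MonoidHom.range_eq_top.mpr hf]
  · intro X hX
    have hker : f.ker ≤ X := (Subgroup.ker_le_comap f M).trans hX.le
    have hcm : (X.map f).comap f = X := by
      rw [Subgroup.comap_map_eq]; exact sup_eq_left.mpr hker
    have h1 : M < X.map f := by
      refine lt_of_le_of_ne ?_ ?_
      · rw [← Subgroup.map_comap_eq_self_of_surjective hf M]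
        exact Subgroup.map_mono hX.le
      · intro h
        rw [h, hcm] at hX
        exact lt_irrefl _ hX
    have h2 := hM.2 _ h1
    rw [← hcm, h2, Subgroup.comap_top]

/-- `|G : A| = |D : A ∩ D|` when `G = AD`, `D` normal. -/
theorem index_eq_relIndex_of_sup_eq_top [Finite G] {A D : Subgroup G} [D.Normal]
    (h : A ⊔ D = ⊤) : A.index = (A ⊓ D).relIndex D := by
  have h1 : Nat.card A * A.index = Nat.card G := A.card_mul_index
  have h2 : Nat.card D * D.index = Nat.card G := D.card_mul_index
  have h3 : D.relIndex A = D.index := by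
    rw [← Subgroup.relIndex_sup_right (K := D) (H := A), h, Subgroup.relIndex_top_right]
  have h4 : Nat.card ↥(A ⊓ D) * D.relIndex A = Nat.card A := by
    have h5 := (D.subgroupOf A).card_mul_index
    have h6 : Nat.card ↥(D.subgroupOf A) = Nat.card ↥(A ⊓ D) := by
      rw [← Subgroup.inf_subgroupOf_right, inf_comm]
      exact Nat.card_congr (Subgroup.subgroupOfEquivOfLe inf_le_left).toEquiv
    rw [h6] at h5
    exact h5
  have h7 : Nat.card ↥(A ⊓ D) * (A ⊓ D).relIndex D = Nat.card D := by
    have h5 := ((A ⊓ D).subgroupOf D).card_mul_index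
    have h6 : Nat.card ↥((A ⊓ D).subgroupOf D) = Nat.card ↥(A ⊓ D) :=
      Nat.card_congr (Subgroup.subgroupOfEquivOfLe inf_le_right).toEquiv
    rw [h6] at h5
    exact h5
  have hpos : 0 < Nat.card ↥(A ⊓ D) := Nat.card_pos
  have hpos2 : 0 < D.index := Nat.pos_of_ne_zero (Subgroup.index_ne_zero_of_finite)
  -- card(A⊓D) * D.index * A.index = card D * D.index
  have h8 : Nat.card ↥(A ⊓ D) * A.index * D.index = Nat.card ↥(A ⊓ D) * (A ⊓ D).relIndex D * D.index := by
    rw [h7, h2, ← h1, ← h4, h3]; ring
  have h9 := Nat.eq_of_mul_eq_mul_right hpos2 h8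
  exact Nat.eq_of_mul_eq_mul_left hpos h9

end

end Cfsg.Agent.Lib.Helper17
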