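import Cfsg.Agent.Lib.Helper17.E8CCCData

set_option autoImplicit false
set_option maxRecDepth 100000
set_option Elab.async false

namespace Cfsg.Agent.Lib.Helper10.E8CC.Helper17

open Cfsg.Lie

theorem chk_15 : chk 15 = true := by decide +kernel

theorem chk_16 : chk 16 = true := by decide +kernel

theorem chk_17 : chk 17 = true := by decide +kernel

theorem chk_18 : chk 18 = true := by decide +kernel

theorem chk_19 : chk 19 = true := by decide +kernel

theorem chk_20 : chk 20 = true := by decide +kernel

theorem chk_21 : chk 21 = true := by decide +kernel

theorem chk_22 : chk 22 = true := by decide +kernel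

theorem chk_23 : chk 23 = true := by decide +kernel

theorem chk_24 : chk 24 = true := by decide +kernel

theorem chk_25 : chk 25 = true := by decide +kernel

theorem chk_26 : chk 26 = true := by decide +kernel

theorem chk_27 : chk 27 = true := by decide +kernel

theorem chk_28 : chk 28 = true := by decide +kernel

theorem chk_29 : chk 29 = true := by decide +kernel

end Cfsg.Agent.Lib.Helper10.E8CC.Helper17
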