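import Cfsg.Agent.Lib.Helper17.E8CCCData

set_option autoImplicit false
set_option maxRecDepth 100000
set_option Elab.async false

namespace Cfsg.Agent.Lib.Helper10.E8CC.Helper17

open Cfsg.Lie

theorem chk_45 : chk 45 = true := by decide +kernel

theorem chk_46 : chk 46 = true := by decide +kernel

theorem chk_47 : chk 47 = true := by decide +kernel

theorem chk_48 : chk 48 = true := by decide +kernel

theorem chk_49 : chk 49 = true := by decide +kernel

theorem chk_50 : chk 50 = true := by decide +kernel

theorem chk_51 : chk 51 = true := by decide +kernel

theorem chk_52 : chk 52 = true := by decide +kernel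

theorem chk_53 : chk 53 = true := by decide +kernel

theorem chk_54 : chk 54 = true := by decide +kernel

theorem chk_55 : chk 55 = true := by decide +kernel

theorem chk_56 : chk 56 = true := by decide +kernel

theorem chk_57 : chk 57 = true := by decide +kernel

theorem chk_58 : chk 58 = true := by decide +kernel

theorem chk_59 : chk 59 = true := by decide +kernel

end Cfsg.Agent.Lib.Helper10.E8CC.Helper17
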