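import Cfsg.Agent.Lib.Helper17.E8CCCData

set_option autoImplicit false
set_option maxRecDepth 100000
set_option Elab.async false

namespace Cfsg.Agent.Lib.Helper10.E8CC.Helper17

open Cfsg.Lie

theorem chk_60 : chk 60 = true := by decide +kernel

theorem chk_61 : chk 61 = true := by decide +kernel

theorem chk_62 : chk 62 = true := by decide +kernel

theorem chk_63 : chk 63 = true := by decide +kernel

theorem chk_64 : chk 64 = true := by decide +kernel

theorem chk_65 : chk 65 = true := by decide +kernel

theorem chk_66 : chk 66 = true := by decide +kernel

theorem chk_67 : chk 67 = true := by decide +kernel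

theorem chk_68 : chk 68 = true := by decide +kernel

theorem chk_69 : chk 69 = true := by decide +kernel

theorem chk_70 : chk 70 = true := by decide +kernel

theorem chk_71 : chk 71 = true := by decide +kernel

theorem chk_72 : chk 72 = true := by decide +kernel

theorem chk_73 : chk 73 = true := by decide +kernel

theorem chk_74 : chk 74 = true := by decide +kernel

end Cfsg.Agent.Lib.Helper10.E8CC.Helper17
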