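import Cfsg.Agent.Lib.Helper17.E8CCCData

set_option autoImplicit false
set_option maxRecDepth 100000
set_option Elab.async false

namespace Cfsg.Agent.Lib.Helper10.E8CC.Helper17

open Cfsg.Lie

theorem chk_90 : chk 90 = true := by decide +kernel

theorem chk_91 : chk 91 = true := by decide +kernel

theorem chk_92 : chk 92 = true := by decide +kernel

theorem chk_93 : chk 93 = true := by decide +kernel

theorem chk_94 : chk 94 = true := by decide +kernel

theorem chk_95 : chk 95 = true := by decide +kernel

theorem chk_96 : chk 96 = true := by decide +kernel

theorem chk_97 : chk 97 = true := by decide +kernel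

theorem chk_98 : chk 98 = true := by decide +kernel

theorem chk_99 : chk 99 = true := by decide +kernel

theorem chk_100 : chk 100 = true := by decide +kernel

theorem chk_101 : chk 101 = true := by decide +kernel

theorem chk_102 : chk 102 = true := by decide +kernel

theorem chk_103 : chk 103 = true := by decide +kernel

theorem chk_104 : chk 104 = true := by decide +kernel

end Cfsg.Agent.Lib.Helper10.E8CC.Helper17
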