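import Cfsg.Agent.Lib.Helper17.E8CCCData

set_option autoImplicit false
set_option maxRecDepth 100000
set_option Elab.async false

namespace Cfsg.Agent.Lib.Helper10.E8CC.Helper17

open Cfsg.Lie

theorem chk_105 : chk 105 = true := by decide +kernel

theorem chk_106 : chk 106 = true := by decide +kernel

theorem chk_107 : chk 107 = true := by decide +kernel

theorem chk_108 : chk 108 = true := by decide +kernel

theorem chk_109 : chk 109 = true := by decide +kernel

theorem chk_110 : chk 110 = true := by decide +kernel

theorem chk_111 : chk 111 = true := by decide +kernel

theorem chk_112 : chk 112 = true := by decide +kernel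

theorem chk_113 : chk 113 = true := by decide +kernel

theorem chk_114 : chk 114 = true := by decide +kernel

theorem chk_115 : chk 115 = true := by decide +kernel

theorem chk_116 : chk 116 = true := by decide +kernel

theorem chk_117 : chk 117 = true := by decide +kernel

theorem chk_118 : chk 118 = true := by decide +kernel

theorem chk_119 : chk 119 = true := by decide +kernel

end Cfsg.Agent.Lib.Helper10.E8CC.Helper17
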