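import Cfsg.Agent.Lib.Helper17.E8CCCC0
import Cfsg.Agent.Lib.Helper17.E8CCCC1
import Cfsg.Agent.Lib.Helper17.E8CCCC2
import Cfsg.Agent.Lib.Helper17.E8CCCC3
import Cfsg.Agent.Lib.Helper17.E8CCCC4
import Cfsg.Agent.Lib.Helper17.E8CCCC5
import Cfsg.Agent.Lib.Helper17.E8CCCC6
import Cfsg.Agent.Lib.Helper17.E8CCCC7

/-!
# S2107-[E8-C] (helper17): reference decompositions and adjacency for `chevE8`

`E8CCCGen`: Bool checker; `E8CCCData`: the certificate (reference decomposition per root, code per ordered pair);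
`E8CCCC0 … C7`: the check of all `240 × 240` ordered pairs, two rows per `decide +kernel`.
-/

set_option autoImplicit false

namespace Cfsg.Agent.Lib.Helper10.E8CC

open Cfsg.Lie Cfsg.Agent.Lib.Helper8.Chev Cfsg.Agent.Lib.Helper14.StCC

namespace Helper17

theorem chk_all : ∀ j < 120, chk j = true := by
  intro j hj
  interval_cases j
  exacts [
    chk_0, chk_1, chk_2, chk_3, chk_4, chk_5, chk_6, chk_7, chk_8, chk_9, chk_10, chk_11, chk_12,
    chk_13, chk_14, chk_15, chk_16, chk_17, chk_18, chk_19, chk_20, chk_21, chk_22, chk_23, chk_24,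
    chk_25, chk_26, chk_27, chk_28, chk_29, chk_30, chk_31, chk_32, chk_33, chk_34, chk_35, chk_36,
    chk_37, chk_38, chk_39, chk_40, chk_41, chk_42, chk_43, chk_44, chk_45, chk_46, chk_47, chk_48,
    chk_49, chk_50, chk_51, chk_52, chk_53, chk_54, chk_55, chk_56, chk_57, chk_58, chk_59, chk_60,
    chk_61, chk_62, chk_63, chk_64, chk_65, chk_66, chk_67, chk_68, chk_69, chk_70, chk_71, chk_72,
    chk_73, chk_74, chk_75, chk_76, chk_77, chk_78, chk_79, chk_80, chk_81, chk_82, chk_83, chk_84,
    chk_85, chk_86, chk_87, chk_88, chk_89, chk_90, chk_91, chk_92, chk_93, chk_94, chk_95, chk_96,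
    chk_97, chk_98, chk_99, chk_100, chk_101, chk_102, chk_103, chk_104, chk_105, chk_106, chk_107,
    chk_108, chk_109, chk_110, chk_111, chk_112, chk_113, chk_114, chk_115, chk_116, chk_117,
    chk_118, chk_119]

theorem adj_all (a b q : ℕ) (N : ℤ) (hab : B.OneP chevE8 a b q N) :
    Adj chevE8 a b (ref q).1 (ref q).2 q := by
  have ha : a < 240 := hab.1
  have h := chk_all (a / 2) (by omega)
  unfold chk at h
  exact rowsB_spec chevE8 h (by omega) (by omega) hab

end Helper17

/-- [E8-C] reference decompositions and adjacency (240 roots, 56 decompositions each;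
certificate: `(a₀, b₀)` per root and `c` per decomposition) -/
theorem canP_E8 {q : ℕ} (hq : q < chevE8.nroots) : CanP chevE8 q :=
  Helper17.canP_of_checks chevE8 Helper17.adj_all Helper17.ref_ok hq

end Cfsg.Agent.Lib.Helper10.E8CC
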