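import Cfsg.Agent.Lib.Helper17.E8CCCData

set_option autoImplicit false
set_option maxRecDepth 100000
set_option Elab.async false

namespace Cfsg.Agent.Lib.Helper10.E8CC.Helper17

open Cfsg.Lie

theorem chk_0 : chk 0 = true := by decide +kernel

theorem chk_1 : chk 1 = true := by decide +kernel

theorem chk_2 : chk 2 = true := by decide +kernel

theorem chk_3 : chk 3 = true := by decide +kernel

theorem chk_4 : chk 4 = true := by decide +kernel

theorem chk_5 : chk 5 = true := by decide +kernel

theorem chk_6 : chk 6 = true := by decide +kernel

theorem chk_7 : chk 7 = true := by decide +kernel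

theorem chk_8 : chk 8 = true := by decide +kernel

theorem chk_9 : chk 9 = true := by decide +kernel

theorem chk_10 : chk 10 = true := by decide +kernel

theorem chk_11 : chk 11 = true := by decide +kernel

theorem chk_12 : chk 12 = true := by decide +kernel

theorem chk_13 : chk 13 = true := by decide +kernel

theorem chk_14 : chk 14 = true := by decide +kernel

theorem ref_ok : refB chevE8 ref chevE8.nroots = true := by decide +kernel

end Cfsg.Agent.Lib.Helper10.E8CC.Helper17
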