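import Cfsg.Agent.Lib.Helper10.E8CC.Defs

/-!
# S2107-[E8-C] (helper17): a Bool checker for `CanP`

Certificate: a reference decomposition `(a₀, b₀)` per root `q` and a code per ordered pair `(a, b)`:
`0` = the reference decomposition, `1` = its mirror, `2 + 2 c` = adjacent to `(a₀, b₀)` through `c`,
`3 + 2 c` = adjacent to `(b₀, a₀)` through `c`.  The check runs over ALL ordered pairs `(a, b)`.
-/

set_option autoImplicit false

namespace Cfsg.Agent.Lib.Helper10.E8CC.Helper17

open Cfsg.Lie Cfsg.Agent.Lib.Helper8.Chev Cfsg.Agent.Lib.Helper14.StCC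

/-- the single term `(q, N, 1, 1)` of a list of terms -/
def single1 : List (ℕ × ℤ × ℕ × ℕ) → Option (ℕ × ℤ)
  | [(q, N, i, j)] => if i = 1 ∧ j = 1 then some (q, N) else none
  | _ => none

theorem single1_eq_some {l : List (ℕ × ℤ × ℕ × ℕ)} {q : ℕ} {N : ℤ} (h : single1 l = some (q, N)) :
    l = [(q, N, 1, 1)] := by
  rcases l with _ | ⟨⟨q', N', i, j⟩, _ | ⟨y, t⟩⟩
  · simp [single1] at h
  · simp only [single1] at h
    split_ifs at h with hij
    obtain ⟨rfl, rfl⟩ := hij
    simp only [Option.some.injEq, Prod.mk.injEq] at h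
    obtain ⟨rfl, rfl⟩ := h
    rfl
  · simp [single1] at h

theorem single1_one (q : ℕ) (N : ℤ) : single1 [(q, N, 1, 1)] = some (q, N) := by
  simp [single1]

variable (D : ChevalleyDatum)

/-- `(a, b)` is an admissible ordered pair -/
def admB (a b : ℕ) : Bool :=
  decide (a < D.nroots) && decide (b < D.nroots) && !(b == a) && !(b == D.neg a)

theorem admB_spec {a b : ℕ} (h : admB D a b = true) :
    a < D.nroots ∧ b < D.nroots ∧ b ≠ a ∧ b ≠ D.neg a := by
  simp only [admB, Bool.and_eq_true, decide_eq_true_eq, Bool.not_eq_true', beq_eq_false_iff_ne] at h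
  obtain ⟨⟨⟨h1, h2⟩, h3⟩, h4⟩ := h
  exact ⟨h1, h2, h3, h4⟩

/-- `NilP` as a Bool -/
def nilB (a b : ℕ) : Bool := admB D a b && (D.commTerms a b).isEmpty

theorem nilB_spec {a b : ℕ} (h : nilB D a b = true) : B.NilP D a b := by
  simp only [nilB, Bool.and_eq_true, List.isEmpty_iff] at h
  obtain ⟨h1, h2, h3, h4⟩ := admB_spec D h.1
  exact ⟨h1, h2, h3, h4, h.2⟩

/-- `OneP` with a coefficient `±1`, as a Bool -/
def oneB (a b q : ℕ) : Bool :=
  admB D a b &&
    match single1 (D.commTerms a b) with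
    | some (q', N) => (q' == q) && ((N == 1) || (N == -1))
    | none => false

theorem oneB_spec {a b q : ℕ} (h : oneB D a b q = true) :
    ∃ N : ℤ, B.OneP D a b q N ∧ (N = 1 ∨ N = -1) := by
  unfold oneB at h
  rw [Bool.and_eq_true] at h
  obtain ⟨h1, h2, h3, h4⟩ := admB_spec D h.1
  have h5 := h.2
  cases hs : single1 (D.commTerms a b) with
  | none => rw [hs] at h5; exact absurd h5 (by simp)
  | some p =>
    obtain ⟨q', N⟩ := p
    rw [hs] at h5
    simp only [Bool.and_eq_true, Bool.or_eq_true, beq_iff_eq] at h5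
    obtain ⟨rfl, hN⟩ := h5
    exact ⟨N, ⟨h1, h2, h3, h4, single1_eq_some hs⟩, hN⟩

/-- `AdjI` with the witness `c`, as a Bool -/
def adjIB (a b a' b' q c : ℕ) : Bool :=
  oneB D a c a' && oneB D c b' b && nilB D a b' && nilB D a' b && nilB D a' q && nilB D b q

theorem adjIB_spec {a b a' b' q c : ℕ} (h : adjIB D a b a' b' q c = true) : AdjI D a b a' b' q := by
  simp only [adjIB, Bool.and_eq_true] at h
  obtain ⟨⟨⟨⟨⟨h1, h2⟩, h3⟩, h4⟩, h5⟩, h6⟩ := h
  obtain ⟨N₁, hN₁, hN₁'⟩ := oneB_spec D h1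
  obtain ⟨N₂, hN₂, hN₂'⟩ := oneB_spec D h2
  exact ⟨c, N₁, N₂, hN₁, hN₁', hN₂, hN₂', nilB_spec D h3, nilB_spec D h4, nilB_spec D h5,
    nilB_spec D h6⟩

/-- `Adj` with a code, as a Bool -/
def adjB (a b a₀ b₀ q code : ℕ) : Bool :=
  if code = 0 then (a == a₀) && (b == b₀)
  else if code = 1 then (a == b₀) && (b == a₀)
  else if code % 2 = 0 then adjIB D a b a₀ b₀ q ((code - 2) / 2)
  else adjIB D a b b₀ a₀ q ((code - 2) / 2)

theorem adjB_spec {a b a₀ b₀ q code : ℕ} (h : adjB D a b a₀ b₀ q code = true) :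
    Adj D a b a₀ b₀ q := by
  unfold adjB at h
  split_ifs at h with h0 h1 h2
  · simp only [Bool.and_eq_true, beq_iff_eq] at h
    exact Or.inl h
  · simp only [Bool.and_eq_true, beq_iff_eq] at h
    exact Or.inr (Or.inl h)
  · exact Or.inr (Or.inr (Or.inl (adjIB_spec D h)))
  · exact Or.inr (Or.inr (Or.inr (adjIB_spec D h)))

/-- the check of the ordered pair `(a, b)` -/
def pairB (ref : ℕ → ℕ × ℕ) (code a b : ℕ) : Bool :=
  match single1 (D.commTerms a b) with
  | some (q, _) => adjB D a b (ref q).1 (ref q).2 q code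
  | none => true

theorem pairB_spec {ref : ℕ → ℕ × ℕ} {code a b q : ℕ} {N : ℤ} (h : pairB D ref code a b = true)
    (hab : B.OneP D a b q N) : Adj D a b (ref q).1 (ref q).2 q := by
  unfold pairB at h
  rw [hab.2.2.2.2, single1_one] at h
  exact adjB_spec D h

/-- the check of the rows `lo ≤ a < lo + len` -/
def rowsB (ref : ℕ → ℕ × ℕ) (codes : List (List ℕ)) (lo len : ℕ) : Bool :=
  (List.range len).all fun i => (List.range D.nroots).all fun b =>
    pairB D ref ((codes.getD (lo + i) []).getD b 0) (lo + i) b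

theorem rowsB_spec {ref : ℕ → ℕ × ℕ} {codes : List (List ℕ)} {lo len : ℕ}
    (h : rowsB D ref codes lo len = true) {a b q : ℕ} {N : ℤ} (h1 : lo ≤ a) (h2 : a < lo + len)
    (hab : B.OneP D a b q N) : Adj D a b (ref q).1 (ref q).2 q := by
  unfold rowsB at h
  rw [List.all_eq_true] at h
  have h3 := h (a - lo) (List.mem_range.mpr (by omega))
  have h4 : lo + (a - lo) = a := by omega
  rw [h4, List.all_eq_true] at h3
  exact pairB_spec D (h3 b (List.mem_range.mpr hab.2.1)) hab

/-- the check of the reference decompositions of the roots `q < m` -/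
def refB (ref : ℕ → ℕ × ℕ) (m : ℕ) : Bool :=
  (List.range m).all fun q => oneB D (ref q).1 (ref q).2 q && nilB D (ref q).2 q

theorem canP_of_checks {ref : ℕ → ℕ × ℕ} (hall : ∀ (a b q : ℕ) (N : ℤ), B.OneP D a b q N →
    Adj D a b (ref q).1 (ref q).2 q) (href : refB D ref D.nroots = true) {q : ℕ}
    (hq : q < D.nroots) : CanP D q := by
  unfold refB at href
  rw [List.all_eq_true] at href
  have h := href q (List.mem_range.mpr hq)
  rw [Bool.and_eq_true] at h
  obtain ⟨N₀, hN₀, hN₀'⟩ := oneB_spec D h.1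
  exact ⟨(ref q).1, (ref q).2, N₀, hN₀, hN₀', nilB_spec D h.2, fun a b N hab => hall a b q N hab⟩

end Cfsg.Agent.Lib.Helper10.E8CC.Helper17
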