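import Mathlib
import Cfsg.Agent.Lib.Helper17.ExtFDefs
import Cfsg.Agent.Lib.Helper25.ExtFEa
import Cfsg.Agent.H5.S5886FOALG

/-!
# S5886, piece P4: the case `n = 2r`, `(r, q) ≠ (2, 2)` (helper17)

From a configuration (an `L`-point `P₁` and the image `P'` of an `L`-point under `g₀ ∈ H`, meeting in an
`F`-hyperplane of both) we get an `F`-transvection in `H`: the set of `θ ∈ End_F(L)` with
`v ↦ v + ρ(θ(ψ₁ v)) v₁ ∈ H` is an additive group containing `L`, stable under norm-one multiplications on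
both sides and under `θ ↦ (1 + b τ) θ (1 - β)`; by `alg_top` it is everything.
-/

set_option autoImplicit false

namespace Cfsg.Agent.Lib.Helper17.ExtFP4

open Matrix Module Cfsg.Agent.Lib.Helper17.ExtF

variable {F : Type*} [Field F] [Fintype F] {L : Type*} [Field L] [Algebra F L] {n : ℕ}
  (ρ : L →ₐ[F] Matrix (Fin n) (Fin n) F) {r : ℕ}

open Cfsg.Agent.Lib.Helper25.ExtFEa (finrank_pt exists_lin_sep exists_coords)

open Cfsg.H5.S5886 (alg_top)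

/-! ### elementary maps -/

/-- the `F`-linear map `v ↦ v + ρ (ψ v) *ᵥ e` -/
def elemL (ψ : (Fin n → F) →ₗ[F] L) (e : Fin n → F) : (Fin n → F) →ₗ[F] (Fin n → F) :=
  LinearMap.id + (orb ρ e) ∘ₗ ψ

@[simp] lemma elemL_apply (ψ : (Fin n → F) →ₗ[F] L) (e v : Fin n → F) :
    elemL ρ ψ e v = v + ρ (ψ v) *ᵥ e := by
  simp [elemL]

lemma elemL_comp (ψ ψ' : (Fin n → F) →ₗ[F] L) (e : Fin n → F) (hψ : Lin ρ ψ) (he : ψ e = 0)
    (v : Fin n → F) : elemL ρ ψ e (elemL ρ ψ' e v) = v + ρ (ψ v + ψ' v) *ᵥ e := by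
  rw [elemL_apply, elemL_apply, map_add, hψ, he, mul_zero, add_zero, rho_add_mulVec]
  abel

/-- general elementary map as a `GL` element (only needs `ψ` to vanish on the `L`-point of `e`) -/
lemma exists_elem0 (ψ : (Fin n → F) →ₗ[F] L) (e : Fin n → F) (hz : ∀ c : L, ψ (ρ c *ᵥ e) = 0) :
    ∃ g : GL (Fin n) F, (∀ v, act g v = v + ρ (ψ v) *ᵥ e) ∧
      (∀ v, act g⁻¹ v = v - ρ (ψ v) *ᵥ e) := by
  obtain ⟨g, hg, hg'⟩ := exists_gl (elemL ρ ψ e) (elemL ρ (-ψ) e) (by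
      intro v
      rw [elemL_apply, elemL_apply, map_add, hz, add_zero, LinearMap.neg_apply, map_neg,
        Matrix.neg_mulVec]
      abel) (by
      intro v
      rw [elemL_apply, elemL_apply, LinearMap.neg_apply, map_add, hz, add_zero, map_neg,
        Matrix.neg_mulVec]
      abel)
  refine ⟨g, fun v => by rw [hg, elemL_apply], fun v => ?_⟩
  rw [hg', elemL_apply, LinearMap.neg_apply, map_neg, Matrix.neg_mulVec, sub_eq_add_neg]

/-- an `L`-transvection as a `GL` element -/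
lemma exists_ktv (ψ : (Fin n → F) →ₗ[F] L) (e : Fin n → F) (hψ : Lin ρ ψ) (he : ψ e = 0) :
    ∃ g : GL (Fin n) F, (∀ v, act g v = v + ρ (ψ v) *ᵥ e) ∧
      (∀ v, act g⁻¹ v = v - ρ (ψ v) *ᵥ e) :=
  exists_elem0 ρ ψ e (fun c => hψ.map_orb he c)

lemma ktv_mem {H : Subgroup (GL (Fin n) F)} (hE : HasElem ρ H) (ψ : (Fin n → F) →ₗ[F] L)
    (e : Fin n → F) (hψ : Lin ρ ψ) (he : ψ e = 0) (g : GL (Fin n) F)
    (hg : ∀ v, act g v = v + ρ (ψ v) *ᵥ e) : g ∈ H :=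
  hE ψ e hψ (by rw [he, add_zero, map_one]) g hg

/-- an `L`-dilatation as a `GL` element -/
lemma exists_dil (ψ : (Fin n → F) →ₗ[F] L) (e : Fin n → F) (hψ : Lin ρ ψ) (ν : L)
    (hν : 1 + ψ e = ν) (hν0 : ν ≠ 0) :
    ∃ g : GL (Fin n) F, (∀ v, act g v = v + ρ (ψ v) *ᵥ e) ∧
      (∀ v, act g⁻¹ v = v - ρ (ν⁻¹ * ψ v) *ᵥ e) := by
  have hψe : ψ e = ν - 1 := by rw [← hν]; ring
  set ψ' : (Fin n → F) →ₗ[F] L := (LinearMap.mulLeft F (-ν⁻¹)) ∘ₗ ψ with hψ'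
  have hψ'v : ∀ v, ψ' v = -ν⁻¹ * ψ v := fun v => rfl
  obtain ⟨g, hg, hg'⟩ := exists_gl (elemL ρ ψ e) (elemL ρ ψ' e) (by
      intro v
      rw [elemL_apply, elemL_apply, map_add, hψ, hψ'v, hψe, add_assoc, ← rho_add_mulVec]
      have : -ν⁻¹ * ψ v + (ψ v + -ν⁻¹ * ψ v * (ν - 1)) = 0 := by
        field_simp
        ring
      rw [this, rho_zero_mulVec, add_zero]) (by
      intro v
      rw [elemL_apply, elemL_apply, hψ'v, map_add, hψ, hψe, add_assoc, ← rho_add_mulVec]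
      have : ψ v + -ν⁻¹ * (ψ v + ψ v * (ν - 1)) = 0 := by
        field_simp
        ring
      rw [this, rho_zero_mulVec, add_zero])
  refine ⟨g, fun v => by rw [hg, elemL_apply], fun v => ?_⟩
  rw [hg', elemL_apply, hψ'v, neg_mul, map_neg, Matrix.neg_mulVec, sub_eq_add_neg]

lemma orb_injective {v : Fin n → F} (hv : v ≠ 0) : Function.Injective (orb ρ v) := by
  rw [← LinearMap.ker_eq_bot, LinearMap.ker_eq_bot']
  intro a ha
  by_contra ha0
  apply hv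
  have h1 : ρ a⁻¹ *ᵥ (ρ a *ᵥ v) = v := by
    rw [← rho_mul_mulVec, inv_mul_cancel₀ ha0, rho_one_mulVec]
  rw [← h1]
  have : ρ a *ᵥ v = 0 := ha
  rw [this, Matrix.mulVec_zero]


lemma mem_map_pt (g : GL (Fin n) F) (v x : Fin n → F) :
    x ∈ (pt ρ v).map (actL g) ↔ ∃ c : L, act g (ρ c *ᵥ v) = x := by
  rw [Submodule.mem_map]
  constructor
  · rintro ⟨y, ⟨c, rfl⟩, rfl⟩
    exact ⟨c, rfl⟩
  · rintro ⟨c, rfl⟩
    exact ⟨_, ⟨c, rfl⟩, rfl⟩

theorem hasOneT0_of_config_two (hr : r.Prime) (hrk : finrank F L = r) (hn : n = 2 * r)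
    (hq : ¬ (r = 2 ∧ Fintype.card F = 2))
    (H : Subgroup (GL (Fin n) F)) (hE : HasElem ρ H) (v₁ v₀ : Fin n → F) (g₀ : GL (Fin n) F)
    (hc : Config ρ H r v₁ v₀ g₀) : HasOneT0 ρ H := by
  classical
  obtain ⟨hg₀, hv₁, hv₀, hfin⟩ := hc
  have hrpos := hr.pos
  haveI : FiniteDimensional F L := Module.finite_of_finrank_pos (by rw [hrk]; exact hrpos)
  have hdimP₁ : finrank F ↥(pt ρ v₁) = r := finrank_pt ρ hrk hrpos hv₁
  have hdimP' : finrank F ↥((pt ρ v₀).map (actL g₀)) = r := by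
    rw [← finrank_pt ρ hrk hrpos hv₀]
    exact (Submodule.equivMapOfInjective (actL g₀) (act_injective g₀) (pt ρ v₀)).finrank_eq.symm
  -- w ∈ P' \ P₁
  obtain ⟨w, hwP', hwP₁⟩ : ∃ w, w ∈ (pt ρ v₀).map (actL g₀) ∧ w ∉ pt ρ v₁ := by
    by_contra hcon
    have hle : (pt ρ v₀).map (actL g₀) ≤ pt ρ v₁ := by
      intro x hx
      by_contra hx'
      exact hcon ⟨x, hx, hx'⟩
    rw [inf_eq_right.mpr hle, hdimP'] at hfin
    omega
  -- p ∈ P₁ \ P'
  obtain ⟨p, hpP₁, hpP'⟩ : ∃ p, p ∈ pt ρ v₁ ∧ p ∉ (pt ρ v₀).map (actL g₀) := by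
    by_contra hcon
    have hle : pt ρ v₁ ≤ (pt ρ v₀).map (actL g₀) := by
      intro x hx
      by_contra hx'
      exact hcon ⟨x, hx, hx'⟩
    rw [inf_eq_left.mpr hle, hdimP₁] at hfin
    omega
  obtain ⟨pt', rfl⟩ := (mem_pt ρ v₁ p).1 hpP₁
  -- coordinates
  obtain ⟨π, ψ₁, hπ, hψ₁, hdec, hπv, hπw, hψv, hψw⟩ := exists_coords ρ hrk hrpos hn v₁ w hv₁ hwP₁
  -- ψ₀
  have hgp : act g₀⁻¹ (ρ pt' *ᵥ v₁) ∉ pt ρ v₀ := by
    intro hmem
    apply hpP'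
    rw [mem_map_pt]
    obtain ⟨c, hc⟩ := (mem_pt ρ v₀ _).1 hmem
    exact ⟨c, by rw [hc, act_act_inv]⟩
  obtain ⟨ψ₀, hψ₀, hψ₀v, hψ₀p⟩ := exists_lin_sep ρ hrk hrpos v₀ _ hgp
  -- D = P₁ ⊓ P', D ⊔ span w = P'
  set D := pt ρ v₁ ⊓ (pt ρ v₀).map (actL g₀) with hD
  have hwD : w ∉ D := fun h => hwP₁ h.1
  have hsup : D ⊔ Submodule.span F {w} = (pt ρ v₀).map (actL g₀) := by
    apply Submodule.eq_of_le_of_finrank_eq
    · exact sup_le inf_le_right ((Submodule.span_singleton_le_iff_mem _ _).2 hwP')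
    · have hlt : D < D ⊔ Submodule.span F {w} := by
        refine lt_of_le_of_ne le_sup_left ?_
        intro h
        apply hwD
        rw [h]
        exact Submodule.mem_sup_right (Submodule.mem_span_singleton_self w)
      have h1 := Submodule.finrank_lt_finrank_of_lt hlt
      have h2 : finrank F ↥(D ⊔ Submodule.span F {w}) ≤ finrank F ↥((pt ρ v₀).map (actL g₀)) :=
        Submodule.finrank_mono
          (sup_le inf_le_right ((Submodule.span_singleton_le_iff_mem _ _).2 hwP'))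
      omega
  -- ψ₁ on P' takes values in F
  have hψ₁P' : ∀ u ∈ (pt ρ v₀).map (actL g₀), ∃ c : F, ψ₁ u = algebraMap F L c := by
    intro u hu
    rw [← hsup, Submodule.mem_sup] at hu
    obtain ⟨d, hd, z, hz, rfl⟩ := hu
    obtain ⟨c, rfl⟩ := Submodule.mem_span_singleton.1 hz
    obtain ⟨a, rfl⟩ := (mem_pt ρ v₁ d).1 hd.1
    refine ⟨c, ?_⟩
    rw [map_add, hψ₁, hψv, mul_zero, zero_add, map_smul, hψw, Algebra.algebraMap_eq_smul_one]
  -- Dt and τ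
  set Dt : Submodule F L := ((pt ρ v₀).map (actL g₀)).comap (orb ρ v₁) with hDt
  have hDtmem : ∀ c : L, c ∈ Dt ↔ ρ c *ᵥ v₁ ∈ (pt ρ v₀).map (actL g₀) := fun c => Iff.rfl
  have hDtmap : Dt.map (orb ρ v₁) = D := by
    apply le_antisymm
    · rintro x ⟨c, hc, rfl⟩
      exact ⟨smul_mem_pt ρ v₁ c, hc⟩
    · rintro x ⟨hx1, hx2⟩
      obtain ⟨c, rfl⟩ := (mem_pt ρ v₁ x).1 hx1
      exact ⟨c, hx2, rfl⟩
  have hDtdim : finrank F ↥Dt + 1 = r := by
    rw [← hfin, ← hDtmap]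
    congr 1
    exact (Submodule.equivMapOfInjective (orb ρ v₁) (orb_injective ρ hv₁) Dt).finrank_eq
  have hptDt : pt' ∉ Dt := fun h => hpP' ((hDtmem pt').1 h)
  obtain ⟨f, hfp, hfD⟩ := Submodule.exists_le_ker_of_notMem hptDt
  have hkerf : LinearMap.ker f = Dt := by
    symm
    apply Submodule.eq_of_le_of_finrank_eq hfD
    have hlt : LinearMap.ker f < ⊤ := by
      rw [lt_top_iff_ne_top]
      intro h
      apply hfp
      have : pt' ∈ LinearMap.ker f := by rw [h]; trivial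
      exact this
    have h1 := Submodule.finrank_lt_finrank_of_lt hlt
    rw [finrank_top, hrk] at h1
    have h2 : finrank F ↥Dt ≤ finrank F ↥(LinearMap.ker f) := Submodule.finrank_mono hfD
    omega
  set τ : L →ₗ[F] F := (f pt')⁻¹ • f with hτ
  have hτp : τ pt' = 1 := by
    rw [hτ, LinearMap.smul_apply, smul_eq_mul, inv_mul_cancel₀ hfp]
  have hτ0 : τ ≠ 0 := by
    intro h
    rw [h] at hτp
    simp at hτp
  have hτker : ∀ c : L, τ c = 0 ↔ c ∈ Dt := by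
    intro c
    rw [← hkerf, LinearMap.mem_ker, hτ, LinearMap.smul_apply, smul_eq_mul, mul_eq_zero]
    constructor
    · rintro (h | h)
      · exact absurd (inv_eq_zero.1 h) hfp
      · exact h
    · exact fun h => Or.inr h
  have hτsplit : ∀ c : L, c - τ c • pt' ∈ Dt := by
    intro c
    rw [← hτker, map_sub, map_smul, hτp, smul_eq_mul, mul_one, sub_self]
  -- ψ₁ basic facts
  have hψ₁G : ∀ (c : L) (v : Fin n → F), ψ₁ (v + ρ c *ᵥ v₁) = ψ₁ v := by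
    intro c v
    rw [map_add, hψ₁, hψv, mul_zero, add_zero]
  -- the subgroup 𝓕
  have hzθ : ∀ (θ : L →ₗ[F] L) (c : L), (θ ∘ₗ ψ₁) (ρ c *ᵥ v₁) = 0 := by
    intro θ c
    rw [LinearMap.comp_apply, hψ₁, hψv, mul_zero, map_zero]
  let 𝓕 : AddSubgroup (L →ₗ[F] L) :=
    { carrier := {θ | ∀ g : GL (Fin n) F, (∀ v, act g v = v + ρ (θ (ψ₁ v)) *ᵥ v₁) → g ∈ H}
      zero_mem' := by
        intro g hg
        have : g = 1 := by
          apply gl_ext
          intro v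
          rw [hg, act_one, LinearMap.zero_apply, rho_zero_mulVec, add_zero]
        rw [this]
        exact H.one_mem
      add_mem' := by
        intro θ θ' hθ hθ' g hg
        obtain ⟨k, hk, -⟩ := exists_elem0 ρ (θ ∘ₗ ψ₁) v₁ (hzθ θ)
        obtain ⟨k', hk', -⟩ := exists_elem0 ρ (θ' ∘ₗ ψ₁) v₁ (hzθ θ')
        have : g = k * k' := by
          apply gl_ext
          intro v
          rw [hg, act_mul, hk, hk']
          simp only [LinearMap.comp_apply, LinearMap.add_apply]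
          rw [hψ₁G, rho_add_mulVec]
          abel
        rw [this]
        exact H.mul_mem (hθ k hk) (hθ' k' hk')
      neg_mem' := by
        intro θ hθ g hg
        obtain ⟨k, hk, hk'⟩ := exists_elem0 ρ (θ ∘ₗ ψ₁) v₁ (hzθ θ)
        have : g = k⁻¹ := by
          apply gl_ext
          intro v
          rw [hg, hk']
          simp only [LinearMap.comp_apply, LinearMap.neg_apply]
          rw [map_neg, Matrix.neg_mulVec, sub_eq_add_neg]
        rw [this]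
        exact H.inv_mem (hθ k hk) }
  have hmem𝓕 : ∀ θ : L →ₗ[F] L, θ ∈ 𝓕 ↔
      ∀ g : GL (Fin n) F, (∀ v, act g v = v + ρ (θ (ψ₁ v)) *ᵥ v₁) → g ∈ H := fun θ => Iff.rfl
  -- conjugation principle
  have hconj : ∀ (θ θ' : L →ₗ[F] L) (y : GL (Fin n) F) (s s' : L →ₗ[F] L), θ ∈ 𝓕 → y ∈ H →
      (∀ c : L, act y (ρ c *ᵥ v₁) = ρ (s c) *ᵥ v₁) → (∀ v, ψ₁ (act y⁻¹ v) = s' (ψ₁ v)) →
      θ' = s ∘ₗ θ ∘ₗ s' → θ' ∈ 𝓕 := by
    intro θ θ' y s s' hθ hy hys hys' hθ' g hg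
    obtain ⟨k, hk, -⟩ := exists_elem0 ρ (θ ∘ₗ ψ₁) v₁ (hzθ θ)
    have : g = y * k * y⁻¹ := by
      apply gl_ext
      intro v
      rw [hg, act_mul, act_mul, hk, act_add, act_act_inv, LinearMap.comp_apply, hys, hys', hθ']
      rfl
    rw [this]
    exact H.mul_mem (H.mul_mem hy (hθ k hk)) (H.inv_mem hy)
  have hψ₁sub : ∀ (c : L) (v : Fin n → F), ψ₁ (v - ρ c *ᵥ v₁) = ψ₁ v := by
    intro c v
    rw [map_sub, hψ₁, hψv, mul_zero, sub_zero]
  -- (h1)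
  have h1 : ∀ c : L, LinearMap.mulLeft F c ∈ 𝓕 := by
    intro c g hg
    refine ktv_mem ρ hE ((LinearMap.mulLeft F c) ∘ₗ ψ₁) v₁ (hψ₁.mulLeft c) ?_ g hg
    rw [LinearMap.comp_apply, hψv, map_zero]
  -- (h2)
  have h2 : ∀ θ ∈ 𝓕, ∀ ν : L, Algebra.norm F ν = 1 →
      (LinearMap.mulLeft F ν) ∘ₗ θ ∈ 𝓕 ∧ θ ∘ₗ (LinearMap.mulLeft F ν) ∈ 𝓕 := by
    intro θ hθ ν hν
    have hν0 : ν ≠ 0 := by
      rintro rfl
      rw [Algebra.norm_zero] at hν
      exact zero_ne_one hν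
    constructor
    · -- dilatation along v₁
      have hone : 1 + ((LinearMap.mulLeft F (ν - 1)) ∘ₗ π) v₁ = ν := by
        rw [LinearMap.comp_apply, hπv, LinearMap.mulLeft_apply]; ring
      obtain ⟨d, hd, hd'⟩ := exists_dil ρ ((LinearMap.mulLeft F (ν - 1)) ∘ₗ π) v₁
        (hπ.mulLeft _) ν hone hν0
      have hdH : d ∈ H := hE _ v₁ (hπ.mulLeft _) (by rw [hone, hν]) d hd
      refine hconj θ _ d (LinearMap.mulLeft F ν) LinearMap.id hθ hdH ?_ ?_ (by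
        rw [LinearMap.comp_id])
      · intro c
        rw [hd, LinearMap.comp_apply, hπ, hπv, LinearMap.mulLeft_apply, ← rho_add_mulVec,
          LinearMap.mulLeft_apply]
        congr 2
        ring
      · intro v
        rw [hd', hψ₁sub, LinearMap.id_apply]
    · -- dilatation along w
      have hone : 1 + ((LinearMap.mulLeft F (ν⁻¹ - 1)) ∘ₗ ψ₁) w = ν⁻¹ := by
        rw [LinearMap.comp_apply, hψw, LinearMap.mulLeft_apply]; ring
      obtain ⟨d, hd, hd'⟩ := exists_dil ρ ((LinearMap.mulLeft F (ν⁻¹ - 1)) ∘ₗ ψ₁) w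
        (hψ₁.mulLeft _) ν⁻¹ hone (inv_ne_zero hν0)
      have hνinv : Algebra.norm F ν⁻¹ = 1 := by
        have hmm := map_mul (Algebra.norm F) ν ν⁻¹
        rw [mul_inv_cancel₀ hν0, map_one, hν, one_mul] at hmm
        exact hmm.symm
      have hdH : d ∈ H := hE _ w (hψ₁.mulLeft _) (by rw [hone, hνinv]) d hd
      refine hconj θ _ d LinearMap.id (LinearMap.mulLeft F ν) hθ hdH ?_ ?_ (by
        rw [LinearMap.id_comp])
      · intro c
        rw [hd, LinearMap.comp_apply, hψ₁, hψv, mul_zero, map_zero, rho_zero_mulVec, add_zero,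
          LinearMap.id_apply]
      · intro v
        rw [hd', map_sub, hψ₁, hψw, inv_inv, LinearMap.comp_apply, LinearMap.mulLeft_apply,
          LinearMap.mulLeft_apply]
        field_simp
        ring
  -- κ : L → F with κ 1 = 1
  obtain ⟨κ, hκ⟩ : ∃ κ : L →ₗ[F] F, κ 1 = 1 := by
    have h1' : (1 : L) ∉ (⊥ : Submodule F L) := by
      rw [Submodule.mem_bot]; exact one_ne_zero
    obtain ⟨f', hf', -⟩ := Submodule.exists_le_ker_of_notMem h1'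
    exact ⟨(f' 1)⁻¹ • f', by rw [LinearMap.smul_apply, smul_eq_mul, inv_mul_cancel₀ hf']⟩
  -- (h3)
  have h3 : ∀ b : L, b ≠ 0 → τ b = 0 → ∃ β : L →ₗ[F] F, β ≠ 0 ∧ β 1 = 0 ∧
      ∀ θ ∈ 𝓕, (addRk τ b) ∘ₗ θ ∘ₗ (subRk β) ∈ 𝓕 := by
    intro b hb hτb
    have hbDt : b ∈ Dt := (hτker b).1 hτb
    obtain ⟨a, ha⟩ := (mem_map_pt ρ g₀ v₀ _).1 ((hDtmem b).1 hbDt)
    have ha0 : a ≠ 0 := by
      rintro rfl
      rw [rho_zero_mulVec, act_zero] at ha
      exact hb (orb_injective ρ hv₁ (by rw [map_zero]; exact ha.symm))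
    have hψa : ((LinearMap.mulLeft F a) ∘ₗ ψ₀) v₀ = 0 := by
      rw [LinearMap.comp_apply, hψ₀v, map_zero]
    obtain ⟨k, hk, hk'⟩ := exists_ktv ρ ((LinearMap.mulLeft F a) ∘ₗ ψ₀) v₀ (hψ₀.mulLeft a) hψa
    have hkH : k ∈ H := ktv_mem ρ hE _ v₀ (hψ₀.mulLeft a) hψa k hk
    set y : GL (Fin n) F := g₀ * k * g₀⁻¹ with hy
    have hyH : y ∈ H := H.mul_mem (H.mul_mem hg₀ hkH) (H.inv_mem hg₀)
    set BL : (Fin n → F) →ₗ[F] (Fin n → F) :=
      (actL g₀) ∘ₗ (orb ρ v₀) ∘ₗ (LinearMap.mulLeft F a) ∘ₗ ψ₀ ∘ₗ (actL g₀⁻¹) with hBL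
    have hBLv : ∀ v, BL v = act g₀ (ρ (a * ψ₀ (act g₀⁻¹ v)) *ᵥ v₀) := fun v => rfl
    have hyv : ∀ v, act y v = v + BL v := by
      intro v
      rw [hy, act_mul, act_mul, hk, act_add, act_act_inv, hBLv]
      rfl
    have hyinv : y⁻¹ = g₀ * k⁻¹ * g₀⁻¹ := by
      rw [hy, _root_.mul_inv_rev, _root_.mul_inv_rev, inv_inv, mul_assoc]
    have hyv' : ∀ v, act y⁻¹ v = v - BL v := by
      intro v
      rw [hyinv, act_mul, act_mul, hk', act_sub, act_act_inv, hBLv]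
      rfl
    have hBLP' : ∀ u ∈ (pt ρ v₀).map (actL g₀), BL u = 0 := by
      intro u hu
      obtain ⟨c, rfl⟩ := (mem_map_pt ρ g₀ v₀ u).1 hu
      rw [hBLv, act_inv_act, hψ₀, hψ₀v, mul_zero, mul_zero, rho_zero_mulVec, act_zero]
    have hBLmem : ∀ v, BL v ∈ (pt ρ v₀).map (actL g₀) := by
      intro v
      rw [mem_map_pt]
      exact ⟨_, (hBLv v).symm⟩
    have hBLp : BL (ρ pt' *ᵥ v₁) = ρ b *ᵥ v₁ := by
      rw [hBLv, hψ₀p, mul_one, ha]
    have hBLc : ∀ c : L, BL (ρ c *ᵥ v₁) = τ c • (ρ b *ᵥ v₁) := by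
      intro c
      have hsplit : ρ c *ᵥ v₁ = ρ (c - τ c • pt') *ᵥ v₁ + τ c • (ρ pt' *ᵥ v₁) := by
        rw [← Matrix.smul_mulVec, ← map_smul, ← rho_add_mulVec, sub_add_cancel]
      rw [hsplit, map_add, map_smul, hBLp, hBLP' _ ((hDtmem _).1 (hτsplit c)), zero_add]
    have hys : ∀ c : L, act y (ρ c *ᵥ v₁) = ρ ((addRk τ b) c) *ᵥ v₁ := by
      intro c
      rw [hyv, hBLc, addRk_apply, rho_add_mulVec, map_smul, Matrix.smul_mulVec]
    -- β
    set β : L →ₗ[F] F := κ ∘ₗ ψ₁ ∘ₗ BL ∘ₗ (orb ρ w) with hβ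
    have hβv : ∀ c : L, β c = κ (ψ₁ (BL (ρ c *ᵥ w))) := fun c => rfl
    have hkey : ∀ v, ψ₁ (BL v) = algebraMap F L (β (ψ₁ v)) := by
      intro v
      have h1' : ψ₁ (BL v) = ψ₁ (BL (ρ (ψ₁ v) *ᵥ w)) := by
        conv_lhs => rw [hdec v]
        rw [map_add, map_add, hBLc, map_smul, hψ₁, hψv, mul_zero, smul_zero, zero_add]
      obtain ⟨c, hc⟩ := hψ₁P' _ (hBLmem (ρ (ψ₁ v) *ᵥ w))
      rw [h1', hβv, hc]
      congr 1
      rw [Algebra.algebraMap_eq_smul_one, map_smul, hκ, smul_eq_mul, mul_one]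
    have hβ1 : β 1 = 0 := by
      rw [hβv, rho_one_mulVec, hBLP' w hwP', map_zero, map_zero]
    have hβ0 : β ≠ 0 := by
      intro h0
      obtain ⟨c₀, hc₀⟩ := (mem_map_pt ρ g₀ v₀ w).1 hwP'
      have hBLw : BL (act g₀ (ρ (c₀ * a⁻¹) *ᵥ (act g₀⁻¹ (ρ pt' *ᵥ v₁)))) = w := by
        rw [hBLv, act_inv_act, hψ₀, hψ₀p, mul_one, ← hc₀]
        congr 3
        field_simp
      have := hkey (act g₀ (ρ (c₀ * a⁻¹) *ᵥ (act g₀⁻¹ (ρ pt' *ᵥ v₁))))
      rw [hBLw, hψw, h0, LinearMap.zero_apply, map_zero] at this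
      exact one_ne_zero this
    refine ⟨β, hβ0, hβ1, ?_⟩
    intro θ hθ
    refine hconj θ _ y (addRk τ b) (subRk β) hθ hyH hys ?_ rfl
    intro v
    rw [hyv', map_sub, hkey, subRk_apply, Algebra.algebraMap_eq_smul_one]
  -- conclude
  have htop : 𝓕 = ⊤ := alg_top (by rw [hrk]; exact hr) (by rw [hrk]; exact hq) 𝓕 h1 h2 τ hτ0 h3
  refine ⟨ψ₁, τ, v₁, hψ₁, ⟨w, hψw⟩, hτ0, hv₁, hψv, ?_⟩
  intro g hg
  have hθ₁ : (LinearMap.toSpanSingleton F L 1) ∘ₗ τ ∈ 𝓕 := by rw [htop]; trivial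
  refine hθ₁ g ?_
  intro v
  rw [hg, LinearMap.comp_apply, LinearMap.comp_apply, LinearMap.toSpanSingleton_apply, map_smul,
    map_one, Matrix.smul_mulVec, Matrix.one_mulVec]

end Cfsg.Agent.Lib.Helper17.ExtFP4
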