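import Mathlib
import Cfsg.Agent.Lib.Helper17.ExtFDefs
import Cfsg.Agent.Lib.Helper25.ExtFEa
import Cfsg.Agent.Lib.Helper22.S5886FOP2
import Cfsg.Agent.Lib.Helper16.S5886FOP5
import Cfsg.Agent.Lib.Helper23.S5886FOP3
import Cfsg.Agent.Lib.Helper26.S5886FOSPREAD
import Cfsg.Agent.Lib.Helper17.ExtFP4
import Cfsg.Agent.Lib.Helper20.S5886FOQ222

set_option autoImplicit false

namespace Cfsg.Agent.Lib.Helper17.ExtFMain

open Matrix Module Cfsg.Agent.Lib.Helper17.ExtF

variable {F : Type*} [Field F] [Fintype F] {L : Type*} [Field L] [Algebra F L] {n : ℕ}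
  (ρ : L →ₐ[F] Matrix (Fin n) (Fin n) F) {r : ℕ}

open Cfsg.Agent.Lib.Helper25.ExtFEa (finrank_dvd)
open Cfsg.Agent.Lib.Helper22.ExtFP2 (exists_config)
open Cfsg.Agent.Lib.Helper16.S5886FOP5 (sl_le_of_hasT0)
open Cfsg.Agent.Lib.Helper23.S5886P3 (hasOneT0_of_config_three)
open Cfsg.Agent.Lib.Helper26.S5886SP (hasT0_of_one)
open Cfsg.Agent.Lib.Helper17.ExtFP4 (hasOneT0_of_config_two)
open Cfsg.Agent.Lib.Helper20.S5886Q222 (hasOneT0_of_config_222)


/-- abstract main theorem: an overgroup of the elementary `L`-linear maps containing an element that moves the spread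
of `L`-points contains `SL_n(F)` -/
theorem sl_le_of_moves (hr : r.Prime) (hrk : finrank F L = r) (hn : 2 * r ≤ n)
    (H : Subgroup (GL (Fin n) F)) (hE : HasElem ρ H)
    (hN : Fintype.card F = 2 → ∀ g : GL (Fin n) F, Normalizes ρ g → g ∈ H)
    (g : GL (Fin n) F) (hg : g ∈ H) (hm : Moves ρ g) :
    Cfsg.Geo.specialLinear (Fin n) F ≤ H := by
  obtain ⟨v₁, v₀, g₀, hc⟩ := exists_config ρ hr hrk hn H hE g hg hm
  have hone : HasOneT0 ρ H := by
    by_cases h3 : 3 * r ≤ n
    · exact hasOneT0_of_config_three ρ hr hrk h3 H hE v₁ v₀ g₀ hc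
    · have hn2 : n = 2 * r := by
        obtain ⟨m, rfl⟩ := finrank_dvd ρ hrk hr.pos
        have hrpos := hr.pos
        have h2 : 2 ≤ m := by
          by_contra hlt
          have hlt : m < 2 := Nat.lt_of_not_le hlt
          have : r * m ≤ r * 1 := Nat.mul_le_mul_left r (by omega)
          omega
        have h3' : m < 3 := by
          by_contra hge
          have hge : 3 ≤ m := Nat.le_of_not_lt hge
          have : r * 3 ≤ r * m := Nat.mul_le_mul_left r hge
          omega
        have : m = 2 := by omega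
        subst this
        ring
      by_cases hq : r = 2 ∧ Fintype.card F = 2
      · obtain ⟨rfl, hq2⟩ := hq
        exact hasOneT0_of_config_222 ρ hrk (by omega) hq2 H hE (hN hq2) v₁ v₀ g₀ hc
      · exact hasOneT0_of_config_two ρ hr hrk hn2 hq H hE v₁ v₀ g₀ hc
  exact sl_le_of_hasT0 ρ hrk hr.pos hn H (hasT0_of_one ρ hr hrk hn H hE hone)

end Cfsg.Agent.Lib.Helper17.ExtFMain
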