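import Mathlib
import Cfsg.Prelude
import Cfsg.Agent.S1784

/-!
Counting elements of order `4` in an extraspecial `2`-group of `+` type.
-/

set_option autoImplicit false

namespace Cfsg.Agent.Lib.Helper17

open Cfsg Subgroup Cfsg.Agent.S1784
open scoped commutatorElement

section es

variable {E : Type*} [Group E] [Finite E]

/-- An extraspecial `2`-group satisfies the elementwise axioms `ES ⊤ z`. -/
theorem es_top_of_extraspecial (hE : IsExtraspecial 2 E) : ∃ z : E, ES (⊤ : Subgroup E) z := by
  haveI : Fact (Nat.Prime 2) := ⟨Nat.prime_two⟩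
  have hc := hE.2
  have hnt : Nontrivial (center E) := by
    rw [← Finite.one_lt_card_iff_nontrivial, hc]
    norm_num
  obtain ⟨⟨z, hz⟩, hz1⟩ := exists_ne (1 : center E)
  have hz1' : z ≠ 1 := fun h => hz1 (Subtype.ext h)
  have hz2 : z ^ 2 = 1 := by
    have h1 : (⟨z, hz⟩ : center E) ^ Nat.card (center E) = 1 := pow_card_eq_one'
    rw [hc] at h1
    exact congrArg Subtype.val h1
  have hzz : z * z = 1 := by rw [← pow_two]; exact hz2
  have hcen : ∀ x ∈ center E, x = 1 ∨ x = z := by
    intro x hx
    have h1 : zpowers z ≤ center E := Subgroup.zpowers_le.mpr hz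
    have h2 : zpowers z = center E := by
      apply Subgroup.eq_of_le_of_card_ge h1
      rw [hc, Nat.card_zpowers, orderOf_eq_prime hz2 hz1']
    rw [← h2] at hx
    exact Cfsg.Agent.S1785.mem_zpowers_of_sq_eq_one hz2 hx
  refine ⟨z, mem_top z, hz1', hzz, ?_, ?_, ?_, ?_⟩
  · intro a _
    exact Subgroup.mem_center_iff.mp hz a
  · intro a _ b _
    apply hcen
    rw [← hE.1.2.2, commutator_def]
    exact Subgroup.commutator_mem_commutator (mem_top a) (mem_top b)
  · intro a _
    rw [← pow_two]
    apply hcen
    rw [← hE.1.2.1]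
    exact Cfsg.Agent.Lib.Helper1.IsPGroup.pow_mem_frattini hE.1.1 a
  · intro a _ ha
    apply hcen
    rw [Subgroup.mem_center_iff]
    intro b
    exact (ha b (mem_top b)).symm

variable {z : E}

/-- A subgroup `A` with `|A|² = 2|E|` which is abelian is self-centralizing. -/
theorem es_centralizer_eq_of_card (h : ES (⊤ : Subgroup E) z) (A : Subgroup E)
    (hAab : ∀ a ∈ A, ∀ b ∈ A, a * b = b * a)
    (hA : Nat.card A * Nat.card A = 2 * Nat.card E) : centralizer (A : Set E) = A := by
  have h1 := h.down A le_top
  rw [top_inf_eq, Subgroup.card_top, ← hA] at h1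
  have h2 : Nat.card (centralizer (A : Set E)) ≤ Nat.card A :=
    Nat.le_of_mul_le_mul_left h1 Nat.card_pos
  have h3 : A ≤ centralizer (A : Set E) := by
    intro a ha
    rw [mem_centralizer_iff]
    intro b hb
    exact hAab b hb a ha
  exact (Subgroup.eq_of_le_of_card_ge h3 h2).symm

/-- `(x a)² = [x,a] x²` for an involution (or identity) `a`. -/
theorem es_mul_sq (h : ES (⊤ : Subgroup E) z) (x a : E) (ha : a * a = 1) :
    (x * a) * (x * a) = ⁅x, a⁆ * (x * x) := by
  have hxx : a * (x * x) = (x * x) * a := h.central (h.sq x (mem_top x)) (mem_top a)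
  have h1 : x * a = ⁅x, a⁆ * a * x := by rw [commutatorElement_def]; group
  calc x * a * (x * a) = (⁅x, a⁆ * a * x) * (x * a) := by rw [← h1]
    _ = ⁅x, a⁆ * (a * (x * x)) * a := by group
    _ = ⁅x, a⁆ * ((x * x) * a) * a := by rw [hxx]
    _ = ⁅x, a⁆ * (x * x) * (a * a) := by group
    _ = ⁅x, a⁆ * (x * x) := by rw [ha, mul_one]

/-- `[x, a b] = [x, a] [x, b]`. -/
theorem es_comm_mul (h : ES (⊤ : Subgroup E) z) (x a b : E) :
    ⁅x, a * b⁆ = ⁅x, a⁆ * ⁅x, b⁆ := by
  have h1 : ⁅x, a * b⁆ = ⁅x, a⁆ * (a * ⁅x, b⁆ * a⁻¹) := by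
    simp only [commutatorElement_def]; group
  rw [h1, h.central (h.comm x (mem_top x) b (mem_top b)) (mem_top a), mul_inv_cancel_right]

/-- Counting the elements of square `1` in an extraspecial `2`-group with a self-centralizing
elementary abelian subgroup `A`: `2 #{x | x² = 1} = |E| + |A|`. -/
theorem es_two_mul_card_sq_eq_one (h : ES (⊤ : Subgroup E) z) (A : Subgroup E)
    (hA : IsElementaryAbelian 2 A) (hAc : Nat.card A * Nat.card A = 2 * Nat.card E) :
    2 * Nat.card {x : E // x * x = 1} = Nat.card E + Nat.card A := by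
  classical
  haveI := Fintype.ofFinite E
  have hAab : ∀ a ∈ A, ∀ b ∈ A, a * b = b * a := fun a ha b hb => by
    haveI := hA.1
    exact congrArg Subtype.val (mul_comm' (⟨a, ha⟩ : A) ⟨b, hb⟩)
  have hAsq : ∀ a ∈ A, a * a = 1 := fun a ha => by rw [← pow_two]; exact hA.2 a ha
  have hC := es_centralizer_eq_of_card h A hAab hAc
  let f : E → ℕ := fun x =>
    (Finset.univ.filter (fun a : A => (x * (a : E)) * (x * (a : E)) = 1)).card
  have hf : ∀ x : E, 2 * f x = Fintype.card A + (if x ∈ A then Fintype.card A else 0) := by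
    intro x
    by_cases hx : x ∈ A
    · rw [if_pos hx]
      have : f x = Fintype.card A := by
        show (Finset.univ.filter _).card = _
        rw [Finset.filter_true_of_mem, Finset.card_univ]
        intro a _
        exact hAsq _ (A.mul_mem hx a.2)
      rw [this]
      ring
    · rw [if_neg hx, add_zero]
      have hx' : x ∉ centralizer (A : Set E) := by rw [hC]; exact hx
      rw [mem_centralizer_iff] at hx'
      push Not at hx'
      obtain ⟨a₀, ha₀, hne⟩ := hx'
      have hz : ⁅x, a₀⁆ = z := by
        rcases h.comm x (mem_top x) a₀ (mem_top a₀) with h1 | h1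
        · exfalso
          apply hne
          exact (commutatorElement_eq_one_iff_mul_comm.mp h1).symm
        · exact h1
      have hg : ∀ a : A, ⁅x, (a : E)⁆ * (x * x) = 1 ∨ ⁅x, (a : E)⁆ * (x * x) = z := by
        intro a
        rcases h.comm x (mem_top x) a (mem_top _) with h1 | h1 <;>
          rcases h.sq x (mem_top x) with h2 | h2 <;> rw [h1, h2]
        · left; rw [mul_one]
        · right; rw [one_mul]
        · right; rw [mul_one]
        · left; exact h.z_sq
      have hfx : f x = (Finset.univ.filter (fun a : A => ⁅x, (a : E)⁆ * (x * x) = 1)).card := by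
        show (Finset.univ.filter _).card = _
        congr 1
        apply Finset.filter_congr
        intro a _
        rw [es_mul_sq h x a (hAsq a a.2)]
      have hflip : ∀ a : A, ⁅x, ((a * ⟨a₀, ha₀⟩ : A) : E)⁆ * (x * x) =
          ⁅x, (a : E)⁆ * (x * x) * z := by
        intro a
        rw [Subgroup.coe_mul, es_comm_mul h, hz]
        have hc : z * (x * x) = (x * x) * z :=
          (h.central (h.sq x (mem_top x)) (mem_top z)).symm ▸ rfl
        rw [mul_assoc, hc, ← mul_assoc]
      have hz1 : z ≠ 1 := h.z_ne
      have heq : (Finset.univ.filter (fun a : A => ⁅x, (a : E)⁆ * (x * x) = 1)).card =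
          (Finset.univ.filter (fun a : A => ¬ ⁅x, (a : E)⁆ * (x * x) = 1)).card := by
        apply Finset.card_equiv (Equiv.mulRight (⟨a₀, ha₀⟩ : A))
        intro a
        simp only [Finset.mem_filter, Finset.mem_univ, true_and, Equiv.coe_mulRight]
        rw [hflip a]
        constructor
        · intro h1
          rw [h1, one_mul]
          exact hz1
        · intro h1
          rcases hg a with h2 | h2
          · exact h2
          · exfalso
            apply h1
            rw [h2]
            exact h.z_sq
      have htot := Finset.card_filter_add_card_filter_not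
        (s := (Finset.univ : Finset A)) (fun a : A => ⁅x, (a : E)⁆ * (x * x) = 1)
      rw [Finset.card_univ] at htot
      rw [hfx, two_mul]
      nth_rewrite 2 [heq]
      exact htot
  have hsum : ∑ x : E, f x =
      Fintype.card A * (Finset.univ.filter (fun y : E => y * y = 1)).card := by
    simp only [f, Finset.card_filter]
    rw [Finset.sum_comm]
    have : ∀ a : A, ∑ x : E, (if (x * (a : E)) * (x * (a : E)) = 1 then 1 else 0) =
        ∑ y : E, (if y * y = 1 then 1 else 0) := by
      intro a
      exact Fintype.sum_equiv (Equiv.mulRight (a : E)) _ _ (fun x => rfl)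
    rw [Finset.sum_congr rfl (fun a _ => this a), Finset.sum_const, Finset.card_univ, smul_eq_mul]
  have hsum2 : 2 * ∑ x : E, f x = Fintype.card E * Fintype.card A +
      Fintype.card A * Fintype.card A := by
    rw [Finset.mul_sum, Finset.sum_congr rfl (fun x _ => hf x), Finset.sum_add_distrib,
      Finset.sum_const, Finset.card_univ, smul_eq_mul, Finset.sum_ite, Finset.sum_const,
      Finset.sum_const, smul_zero, add_zero, smul_eq_mul]
    congr 2
    rw [← Fintype.card_subtype]
  have hS : Nat.card {x : E // x * x = 1} =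
      (Finset.univ.filter (fun y : E => y * y = 1)).card := by
    rw [Nat.card_eq_fintype_card, Fintype.card_subtype]
  rw [hsum] at hsum2
  rw [hS]
  have hApos : 0 < Nat.card A := Nat.card_pos
  rw [← Nat.card_eq_fintype_card (α := E), ← Nat.card_eq_fintype_card (α := A)] at hsum2
  have : Nat.card A * (2 * (Finset.univ.filter (fun y : E => y * y = 1)).card) =
      Nat.card A * (Nat.card E + Nat.card A) := by
    rw [mul_add]
    linarith
  exact Nat.eq_of_mul_eq_mul_left hApos this

omit [Finite E] in
/-- In an extraspecial `2`-group an element has order `4` iff its square is not `1`. -/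
theorem es_orderOf_eq_four_iff (h : ES (⊤ : Subgroup E) z) (x : E) :
    orderOf x = 4 ↔ ¬ x * x = 1 := by
  constructor
  · intro h4 h1
    have : orderOf x ∣ 2 := orderOf_dvd_of_pow_eq_one (by rw [pow_two]; exact h1)
    rw [h4] at this
    omega
  · intro h1
    have h2 : x * x = z := (h.sq x (mem_top x)).resolve_left h1
    have h3 : orderOf x = 2 ^ (1 + 1) := by
      haveI : Fact (Nat.Prime 2) := ⟨Nat.prime_two⟩
      apply orderOf_eq_prime_pow
      · rw [pow_one, pow_two]
        exact h1
      · have : x ^ 2 ^ (1 + 1) = (x * x) * (x * x) := by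
          norm_num
          rw [show (4 : ℕ) = 2 + 2 by norm_num, pow_add, pow_two]
        rw [this, h2]
        exact h.z_sq
    rw [h3]
    norm_num

/-- The number of elements of order `4` in an extraspecial `2`-group. -/
theorem es_card_orderOf_four (h : ES (⊤ : Subgroup E) z) :
    Nat.card {x : E // orderOf x = 4} + Nat.card {x : E // x * x = 1} = Nat.card E := by
  classical
  haveI := Fintype.ofFinite E
  have h1 : Nat.card {x : E // orderOf x = 4} = Nat.card {x : E // ¬ x * x = 1} :=
    Nat.card_congr (Equiv.subtypeEquivRight (es_orderOf_eq_four_iff h))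
  rw [h1, Nat.card_eq_fintype_card, Nat.card_eq_fintype_card, Nat.card_eq_fintype_card,
    Fintype.card_subtype_compl]
  have := Fintype.card_subtype_le (fun x : E => x * x = 1)
  omega

/-- The number of elements of order `4` in an extraspecial group `2^{1+2m}_+`. -/
theorem card_orderOf_four_of_extraspecial (m : ℕ) (hE : IsExtraspecial 2 E)
    (hcard : Nat.card E = 2 ^ (2 * m + 1))
    (hplus : ∃ A : Subgroup E, IsElementaryAbelian 2 A ∧ Nat.card A = 2 ^ (m + 1)) :
    Nat.card {x : E // orderOf x = 4} = 2 ^ (2 * m) - 2 ^ m := by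
  obtain ⟨z, h⟩ := es_top_of_extraspecial hE
  obtain ⟨A, hA, hAc⟩ := hplus
  have h1 := es_two_mul_card_sq_eq_one h A hA (by rw [hAc, hcard]; ring)
  have h2 := es_card_orderOf_four h
  rw [hcard, hAc] at h1
  rw [hcard] at h2
  have e1 : 2 ^ (2 * m + 1) = 2 * 2 ^ (2 * m) := by ring
  have e2 : 2 ^ (m + 1) = 2 * 2 ^ m := by ring
  rw [e1, e2] at h1
  rw [e1] at h2
  omega

end es

end Cfsg.Agent.Lib.Helper17
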