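import Mathlib
import Cfsg.Prelude.Def_CaseTheorems
import Cfsg.Agent.Lib.Helper4.CSC9

/-!
# A `2`-group with an involution whose centralizer has order `4`

`L1`: a finite `2`-group of order at least `8` having an involution `t` with `|C(t)| = 4` is
dihedral or quasi-dihedral (a case of Suzuki's lemma on groups of maximal class), obtained from
the classification of `p`-groups all of whose normal abelian subgroups are cyclic.
-/

set_option autoImplicit false
set_option linter.unusedVariables false
set_option linter.unusedSectionVars false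
set_option linter.style.haveILetI false
set_option linter.deprecated false

namespace Cfsg.Agent.Lib.Helper17.Fix2

open Subgroup

/-! ### small counting lemmas -/

theorem eq_of_card_two {K : Type*} (hK : Nat.card K = 2) {a b : K} (hab : a ≠ b) (x : K) :
    x = a ∨ x = b := by
  obtain ⟨p, q, hpq, huniv⟩ := Nat.card_eq_two_iff.mp hK
  have hm : ∀ w : K, w = p ∨ w = q := fun w => by
    have : w ∈ ({p, q} : Set K) := by rw [huniv]; trivial
    simpa using this
  rcases hm a with h1 | h1 <;> rcases hm b with h2 | h2 <;> rcases hm x with h3 | h3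
  · exact Or.inl (h3.trans h1.symm)
  · exact absurd (h1.trans h2.symm) hab
  · exact Or.inl (h3.trans h1.symm)
  · exact Or.inr (h3.trans h2.symm)
  · exact Or.inr (h3.trans h2.symm)
  · exact Or.inl (h3.trans h1.symm)
  · exact absurd (h1.trans h2.symm) hab
  · exact Or.inl (h3.trans h1.symm)

theorem eq_of_card_four {K : Type*} (hK : Nat.card K = 4) {a b c d : K} (hab : a ≠ b)
    (hac : a ≠ c) (had : a ≠ d) (hbc : b ≠ c) (hbd : b ≠ d) (hcd : c ≠ d) (x : K) :
    x = a ∨ x = b ∨ x = c ∨ x = d := by
  classical
  haveI : Finite K := Nat.finite_of_card_ne_zero (by omega)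
  haveI := Fintype.ofFinite K
  by_contra hx
  push Not at hx
  obtain ⟨h1, h2, h3, h4⟩ := hx
  have h5 : ({x, a, b, c, d} : Finset K).card = 5 := by
    rw [Finset.card_insert_of_notMem, Finset.card_insert_of_notMem,
      Finset.card_insert_of_notMem, Finset.card_insert_of_notMem, Finset.card_singleton]
      <;> simp [*]
  have := Finset.card_le_univ ({x, a, b, c, d} : Finset K)
  rw [h5, ← Nat.card_eq_fintype_card, hK] at this
  omega

theorem mem_two {G : Type*} [Group G] (C : Subgroup G) (hC : Nat.card C = 2) {a b : G}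
    (ha : a ∈ C) (hb : b ∈ C) (hab : a ≠ b) {x : G} (hx : x ∈ C) : x = a ∨ x = b := by
  have := eq_of_card_two hC (a := ⟨a, ha⟩) (b := ⟨b, hb⟩) (by simpa using hab) ⟨x, hx⟩
  simpa using this

theorem mem_four {G : Type*} [Group G] (C : Subgroup G) (hC : Nat.card C = 4) {a b c d : G}
    (ha : a ∈ C) (hb : b ∈ C) (hc : c ∈ C) (hd : d ∈ C) (hab : a ≠ b) (hac : a ≠ c)
    (had : a ≠ d) (hbc : b ≠ c) (hbd : b ≠ d) (hcd : c ≠ d) {x : G} (hx : x ∈ C) :
    x = a ∨ x = b ∨ x = c ∨ x = d := by
  have := eq_of_card_four hC (a := ⟨a, ha⟩) (b := ⟨b, hb⟩) (c := ⟨c, hc⟩) (d := ⟨d, hd⟩)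
    (by simpa using hab) (by simpa using hac) (by simpa using had) (by simpa using hbc)
    (by simpa using hbd) (by simpa using hcd) ⟨x, hx⟩
  simpa using this

theorem card_le_four_of {G : Type*} [Group G] (A : Subgroup G) {a b c d : G}
    (h : ∀ x ∈ A, x = a ∨ x = b ∨ x = c ∨ x = d) : Nat.card A ≤ 4 := by
  classical
  have hsub : (A : Set G) ⊆ (({a, b, c, d} : Finset G) : Set G) := by
    intro x hx
    have := h x hx
    simp only [Finset.coe_insert, Finset.coe_singleton, Set.mem_insert_iff,
      Set.mem_singleton_iff]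
    exact this
  have h1 : (A : Set G).ncard ≤ (({a, b, c, d} : Finset G) : Set G).ncard :=
    Set.ncard_le_ncard hsub (Finset.finite_toSet _)
  rw [Set.ncard_coe_finset] at h1
  have h2 : Nat.card A = (A : Set G).ncard := Nat.card_coe_set_eq (A : Set G)
  rw [h2]
  exact h1.trans Finset.card_le_four

theorem card_eq_two_of {G : Type*} [Group G] (U : Subgroup G) {s : G} (hs : s ∈ U) (hs1 : s ≠ 1)
    (h : ∀ u ∈ U, u = 1 ∨ u = s) : Nat.card U = 2 := by
  rw [Nat.card_eq_two_iff]
  refine ⟨⟨1, U.one_mem⟩, ⟨s, hs⟩, ?_, ?_⟩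
  · intro e
    exact hs1 (congrArg Subtype.val e).symm
  · ext x
    constructor
    · intro _; trivial
    · intro _
      rcases h x.1 x.2 with h1 | h1
      · left; exact Subtype.ext h1
      · right; exact Subtype.ext h1

/-! ### quaternion groups have a unique involution -/

section Quaternion

theorem zmod_double {n : ℕ} [NeZero n] (i : ZMod (2 * n)) (h : i + i = 0) (hi : i ≠ 0) :
    i = (n : ZMod (2 * n)) := by
  have hn := NeZero.ne n
  haveI : NeZero (2 * n) := ⟨by omega⟩
  have hlt := ZMod.val_lt i
  have hcast := ZMod.natCast_zmod_val i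
  have h1 : ((i.val + i.val : ℕ) : ZMod (2 * n)) = 0 := by
    rw [Nat.cast_add, hcast]; exact h
  rw [ZMod.natCast_eq_zero_iff] at h1
  obtain ⟨c, hc⟩ := h1
  have hc2 : c < 2 := by
    by_contra hge
    push Not at hge
    have h2 : 2 * n * 2 ≤ 2 * n * c := Nat.mul_le_mul_left _ hge
    omega
  interval_cases c
  · exfalso; apply hi
    have h3 : i.val = 0 := by omega
    rw [← hcast, h3, Nat.cast_zero]
  · have h3 : i.val = n := by omega
    rw [← hcast, h3]

theorem quaternion_invol {n : ℕ} [NeZero n] (g : QuaternionGroup n) (hg : g * g = 1)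
    (hg1 : g ≠ 1) : g = QuaternionGroup.a n := by
  cases g with
  | a i =>
    rw [QuaternionGroup.a_mul_a, QuaternionGroup.one_def] at hg
    have h0 : i + i = 0 := QuaternionGroup.a.inj hg
    have hi : i ≠ 0 := by
      intro h; apply hg1; rw [h, QuaternionGroup.one_def]
    rw [zmod_double i h0 hi]
  | xa i =>
    exfalso
    rw [QuaternionGroup.xa_mul_xa, QuaternionGroup.one_def] at hg
    have h0 : (n : ZMod (2 * n)) + i - i = 0 := QuaternionGroup.a.inj hg
    rw [add_sub_cancel_right, ZMod.natCast_eq_zero_iff] at h0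
    have h1 := Nat.le_of_dvd (Nat.pos_of_ne_zero (NeZero.ne n)) h0
    have h2 := NeZero.ne n
    omega

theorem quaternion_unique_invol {G : Type*} [Group G] [Finite G] {n : ℕ}
    (e : G ≃* QuaternionGroup n) {t z : G} (ht : t * t = 1) (ht1 : t ≠ 1) (hz : z * z = 1)
    (hz1 : z ≠ 1) : t = z := by
  have hn : n ≠ 0 := by
    rintro rfl
    haveI : Finite (QuaternionGroup 0) := Finite.of_equiv G e.toEquiv
    have hinj : Function.Injective
        (fun i : ZMod (2 * 0) => (QuaternionGroup.a i : QuaternionGroup 0)) :=
      fun _ _ h => QuaternionGroup.a.inj h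
    haveI : Finite (ZMod (2 * 0)) := Finite.of_injective _ hinj
    haveI : Infinite (ZMod (2 * 0)) := (inferInstance : Infinite ℤ)
    exact not_finite (ZMod (2 * 0))
  haveI : NeZero n := ⟨hn⟩
  apply e.injective
  rw [quaternion_invol (e t) (by rw [← map_mul, ht, map_one])
      (fun h => ht1 (e.map_eq_one_iff.mp h)),
    quaternion_invol (e z) (by rw [← map_mul, hz, map_one])
      (fun h => hz1 (e.map_eq_one_iff.mp h))]

end Quaternion

/-- a Klein four group from two distinct involutions in a group of order four -/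
theorem klein_of_two_invol {K : Type*} [Group K] (hK : Nat.card K = 4) {s t : K}
    (hs : s * s = 1) (hs1 : s ≠ 1) (ht1 : t ≠ 1) (hst : s ≠ t) (htts : t * t ≠ s) :
    Nonempty (K ≃* DihedralGroup 2) := by
  haveI : Fact (Nat.Prime 2) := ⟨Nat.prime_two⟩
  have hcomm := IsPGroup.commutative_of_card_eq_prime_sq (p := 2) (G := K) (by rw [hK]; norm_num)
  have hsi : s⁻¹ = s := inv_eq_of_mul_eq_one_left hs
  have d3 : (1 : K) ≠ s * t := by
    intro h
    apply hst
    have h' : t = s⁻¹ := eq_inv_of_mul_eq_one_right h.symm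
    rw [h', hsi]
  have d5 : s ≠ s * t := by
    intro h; apply ht1
    exact mul_left_cancel (a := s) (by rw [mul_one]; exact h.symm)
  have d6 : t ≠ s * t := by
    intro h; apply hs1
    exact mul_right_cancel (b := t) (by rw [one_mul]; exact h.symm)
  have el := eq_of_card_four hK (a := 1) (b := s) (c := t) (d := s * t) (Ne.symm hs1)
    (Ne.symm ht1) d3 hst d5 d6
  have htt : t * t = 1 := by
    rcases el (t * t) with h | h | h | h
    · exact h
    · exact absurd h htts
    · exact absurd (mul_left_cancel (a := t) (by rw [mul_one]; exact h)) ht1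
    · exact absurd (mul_right_cancel h).symm hst
  haveI : Nontrivial K := ⟨⟨s, 1, hs1⟩⟩
  haveI : IsKleinFour K := by
    refine ⟨hK, ?_⟩
    rw [Monoid.exponent_eq_prime_iff Nat.prime_two]
    intro g hg
    apply orderOf_eq_prime _ hg
    rw [pow_two]
    rcases el g with h | h | h | h
    · exact absurd h hg
    · rw [h, hs]
    · rw [h, htt]
    · rw [h]
      calc s * t * (s * t) = s * (t * s) * t := by group
        _ = s * (s * t) * t := by rw [hcomm t s]
        _ = (s * s) * (t * t) := by group
        _ = 1 := by rw [hs, htt, mul_one]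
  exact IsKleinFour.nonempty_mulEquiv

/-- a maximal normal abelian subgroup above a given normal abelian subgroup -/
theorem exists_max_ge {G : Type*} [Group G] [Finite G] (F : Subgroup G)
    (hFn : F.Normal) (hFc : IsMulCommutative ↥F) :
    ∃ A : Subgroup G, F ≤ A ∧ A.Normal ∧ IsMulCommutative ↥A ∧
      ∀ B : Subgroup G, B.Normal → IsMulCommutative ↥B → A ≤ B → B = A := by
  have hfin : Set.Finite {A : Subgroup G | F ≤ A ∧ A.Normal ∧ IsMulCommutative ↥A} :=
    Set.toFinite _
  have hne : {A : Subgroup G | F ≤ A ∧ A.Normal ∧ IsMulCommutative ↥A}.Nonempty :=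
    ⟨F, le_rfl, hFn, hFc⟩
  obtain ⟨A, hA, hmax⟩ := hfin.exists_maximal hne
  refine ⟨A, hA.1, hA.2.1, hA.2.2, ?_⟩
  intro B hBn hBc hAB
  exact le_antisymm (hmax ⟨hA.1.trans hAB, hBn, hBc⟩ hAB) hAB

section L1

variable {S : Type*} [Group S] [Finite S]

/-- the structure of the centralizer of `t` -/
theorem cent_struct (hS : IsPGroup 2 S) {t : S} (ht1 : t ≠ 1) (htt : t * t = 1)
    (hC : Nat.card (centralizer ({t} : Set S)) = 4) (h8 : 8 ≤ Nat.card S) :
    t ∉ center S ∧ ∃ z : S, z ∈ center S ∧ z ≠ 1 ∧ z * z = 1 ∧ z ≠ t ∧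
      ∀ x : S, x * t = t * x → x = 1 ∨ x = t ∨ x = z ∨ x = t * z := by
  haveI : Fact (Nat.Prime 2) := ⟨Nat.prime_two⟩
  have htc : t ∉ center S := by
    intro h
    have htop : centralizer ({t} : Set S) = ⊤ := by
      rw [centralizer_eq_top_iff_subset]
      intro x hx
      rw [Set.mem_singleton_iff] at hx
      rw [hx]; exact h
    rw [htop, card_top] at hC
    omega
  haveI : Nontrivial S := by
    apply (Finite.one_lt_card_iff_nontrivial).mp
    omega
  haveI := hS.center_nontrivial
  obtain ⟨⟨z, hz⟩, hz1'⟩ := exists_ne (1 : center S)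
  have hz1 : z ≠ 1 := fun h => hz1' (Subtype.ext h)
  have hzt : z ≠ t := fun h => htc (h ▸ hz)
  have hzcomm : ∀ g : S, g * z = z * g := fun g => (mem_center_iff.mp hz) g
  have hti : t⁻¹ = t := inv_eq_of_mul_eq_one_left htt
  have m1 : (1 : S) ∈ centralizer ({t} : Set S) := one_mem _
  have mt : t ∈ centralizer ({t} : Set S) := mem_centralizer_singleton_iff.mpr rfl
  have mz : z ∈ centralizer ({t} : Set S) :=
    mem_centralizer_singleton_iff.mpr ((hzcomm t).symm)
  have mtz : t * z ∈ centralizer ({t} : Set S) := mul_mem mt mz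
  have d3 : (1 : S) ≠ t * z := by
    intro h
    apply hzt
    have h' : z = t⁻¹ := eq_inv_of_mul_eq_one_right h.symm
    rw [h', hti]
  have d5 : t ≠ t * z := by
    intro h; apply hz1
    exact mul_left_cancel (a := t) (by rw [mul_one]; exact h.symm)
  have d6 : z ≠ t * z := by
    intro h; apply ht1
    exact mul_right_cancel (b := z) (by rw [one_mul]; exact h.symm)
  have hel : ∀ x : S, x * t = t * x → x = 1 ∨ x = t ∨ x = z ∨ x = t * z := by
    intro x hx
    exact mem_four _ hC m1 mt mz mtz (Ne.symm ht1) (Ne.symm hz1) d3 (Ne.symm hzt) d5 d6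
      (mem_centralizer_singleton_iff.mpr hx)
  have hzz : z * z = 1 := by
    have hzz_c : z * z ∈ center S := mul_mem hz hz
    rcases hel (z * z) ((mem_center_iff.mp hzz_c t).symm) with h | h | h | h
    · exact h
    · exact absurd (h ▸ hzz_c) htc
    · exact absurd (mul_left_cancel (a := z) (by rw [mul_one]; exact h)) hz1
    · exact absurd (mul_right_cancel h) hzt
  exact ⟨htc, z, hz, hz1, hzz, hzt, hel⟩

/-- if all conjugates of `w` lie in `{w, w z}` with `z` a central involution, the centralizer of
`w` has index at most two -/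
theorem card_le_of_two_conj {w z : S} (hz : z ∈ center S) (hzz : z * z = 1)
    (h : ∀ x : S, x * w * x⁻¹ = w ∨ x * w * x⁻¹ = w * z) :
    Nat.card S ≤ 2 * Nat.card (centralizer ({w} : Set S)) := by
  set C := centralizer ({w} : Set S) with hCdef
  have hmem : ∀ x : S, x ∈ C ↔ x * w * x⁻¹ = w := by
    intro x
    rw [hCdef, mem_centralizer_singleton_iff, mul_inv_eq_iff_eq_mul]
  by_cases htop : C = ⊤
  · rw [htop, card_top]; omega
  · obtain ⟨a, ha⟩ : ∃ a, a ∉ C := by
      by_contra hall
      push Not at hall
      exact htop (eq_top_iff.mpr fun x _ => hall x)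
    have hzcomm : ∀ g : S, g * z = z * g := fun g => (mem_center_iff.mp hz) g
    have hout : ∀ b : S, b ∉ C → b * w * b⁻¹ = w * z := by
      intro b hb
      rcases h b with h1 | h1
      · exact absurd ((hmem b).mpr h1) hb
      · exact h1
    have hidx : C.index = 2 := by
      rw [index_eq_two_iff]
      refine ⟨a, fun b => ?_⟩
      by_cases hb : b ∈ C
      · refine Or.inr ⟨hb, fun hba => ha ?_⟩
        have : a = b⁻¹ * (b * a) := by group
        rw [this]; exact mul_mem (inv_mem hb) hba
      · refine Or.inl ⟨?_, hb⟩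
        rw [hmem]
        have e1 : b * a * w * (b * a)⁻¹ = b * (a * w * a⁻¹) * b⁻¹ := by group
        rw [e1, hout a ha]
        have e2 : b * (w * z) * b⁻¹ = (b * w * b⁻¹) * (b * z * b⁻¹) := by group
        rw [e2, hout b hb]
        have e3 : b * z * b⁻¹ = z := by rw [hzcomm b, mul_assoc, mul_inv_cancel, mul_one]
        rw [e3, mul_assoc, hzz, mul_one]
    have := C.card_mul_index
    rw [hidx] at this
    omega

/-- **Lemma AB**: an abelian `2`-subgroup with an involutory automorphism having at most the
fixed points `1, z` is cyclic or a four-group -/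
theorem AB (hS : IsPGroup 2 S) (A : Subgroup S) (hA : ∀ a ∈ A, ∀ b ∈ A, a * b = b * a)
    (σ : S ≃* S) (hσσ : ∀ a, σ (σ a) = a) {z : S} (hzz : z * z = 1) (hz1 : z ≠ 1)
    (hnorm : ∀ a ∈ A, σ a ∈ A) (hfix : ∀ a ∈ A, σ a = a → a = 1 ∨ a = z) :
    IsCyclic A ∨ ∃ v ∈ A, v * v = 1 ∧ v ≠ 1 ∧ v ≠ z ∧ σ v = v * z ∧
      ∀ x ∈ A, x = 1 ∨ x = z ∨ x = v ∨ x = v * z := by
  haveI : Fact (Nat.Prime 2) := ⟨Nat.prime_two⟩
  by_cases hcyc : IsCyclic A
  · exact Or.inl hcyc
  right
  have h1 : ∀ a ∈ A, a * σ a = 1 ∨ a * σ a = z := by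
    intro a ha
    apply hfix _ (A.mul_mem ha (hnorm a ha))
    rw [map_mul, hσσ]
    exact hA _ (hnorm a ha) _ ha
  have h2 : ∃ v ∈ A, v * v = 1 ∧ v ≠ 1 ∧ v ≠ z := by
    by_contra hno
    push Not at hno
    apply hcyc
    apply Cfsg.Agent.Lib.Helper10.isCyclic_of_comm_of_uniqueOrderP (p := 2) (hS.to_subgroup A)
    · intro a b; exact Subtype.ext (hA a.1 a.2 b.1 b.2)
    · intro x y hx hx1 hy
      have hx' : (x : S) * (x : S) = 1 := by
        have := congrArg Subtype.val hx
        simpa [pow_two] using this
      have hy' : (y : S) * (y : S) = 1 := by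
        have := congrArg Subtype.val hy
        simpa [pow_two] using this
      have hxz : (x : S) = z := hno x.1 x.2 hx' (fun h => hx1 (Subtype.ext h))
      by_cases hy1 : y = 1
      · rw [hy1]; exact one_mem _
      · have hyz : (y : S) = z := hno y.1 y.2 hy' (fun h => hy1 (Subtype.ext h))
        have : y = x := Subtype.ext (hyz.trans hxz.symm)
        rw [this]; exact mem_zpowers x
  obtain ⟨v, hvA, hvv, hv1, hvz⟩ := h2
  have hinv : ∀ w ∈ A, w * w = 1 → w ≠ 1 → w ≠ z → σ w = w * z := by
    intro w hwA hww hw1 hwz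
    have hwi : w⁻¹ = w := inv_eq_of_mul_eq_one_left hww
    rcases h1 w hwA with h | h
    · exfalso
      have : σ w = w := by
        have h' : σ w = w⁻¹ := eq_inv_of_mul_eq_one_right h
        rw [h', hwi]
      rcases hfix w hwA this with h0 | h0
      · exact hw1 h0
      · exact hwz h0
    · have : σ w = w⁻¹ * z := by rw [← h]; group
      rw [this, hwi]
  have hσv : σ v = v * z := hinv v hvA hvv hv1 hvz
  have hzA : z ∈ A := by
    have : z = v⁻¹ * σ v := by rw [hσv]; group
    rw [this]; exact A.mul_mem (A.inv_mem hvA) (hnorm v hvA)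
  have h4 : ∀ a ∈ A, a ^ 4 = 1 → a ^ 2 = 1 := by
    intro a ha ha4
    by_contra ha2
    have hinv2 : (a ^ 2)⁻¹ = a ^ 2 :=
      inv_eq_of_mul_eq_one_left (by rw [← pow_add]; exact ha4)
    have hσa2 : σ (a ^ 2) = a ^ 2 := by
      rcases h1 a ha with h | h
      · have h' : σ a = a⁻¹ := eq_inv_of_mul_eq_one_right h
        rw [map_pow, h', inv_pow]
        exact hinv2
      · have h' : σ a = a⁻¹ * z := by rw [← h]; group
        rw [map_pow, h']
        have hc : Commute a⁻¹ z := hA _ (A.inv_mem ha) _ hzA
        rw [hc.mul_pow, pow_two z, hzz, mul_one, inv_pow]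
        exact hinv2
    have ha2z : a ^ 2 = z := by
      rcases hfix _ (A.pow_mem ha 2) hσa2 with h | h
      · exact absurd h ha2
      · exact h
    rcases h1 a ha with h | h
    · have h' : σ a = a⁻¹ := eq_inv_of_mul_eq_one_right h
      have hb : σ (a * v) = a * v := by
        rw [map_mul, h', hσv, ← ha2z]
        have hc : v * a = a * v := hA v hvA a ha
        calc a⁻¹ * (v * a ^ 2) = a⁻¹ * (v * a * a) := by rw [pow_two, mul_assoc]
          _ = a⁻¹ * (a * v * a) := by rw [hc]
          _ = v * a := by group
          _ = a * v := hc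
      rcases hfix _ (A.mul_mem ha hvA) hb with h0 | h0
      · apply ha2
        have : a = v⁻¹ := eq_inv_of_mul_eq_one_left h0
        rw [this, inv_pow, pow_two, hvv, inv_one]
      · apply ha2
        have : v = a := by
          have : a * v = a * a := by rw [h0, ← ha2z, pow_two]
          exact mul_left_cancel this
        rw [← this, pow_two, hvv]
    · have h' : σ a = a := by
        have : σ a = a⁻¹ * z := by rw [← h]; group
        rw [this, ← ha2z]; group
      rcases hfix a ha h' with h0 | h0
      · apply ha2; rw [h0, one_pow]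
      · apply ha2; rw [h0, pow_two, hzz]
  have key : ∀ k : ℕ, ∀ a ∈ A, a ^ 2 ^ k = 1 → a ^ 2 = 1 := by
    intro k
    induction k with
    | zero =>
      intro a _ h
      rw [pow_zero, pow_one] at h
      rw [h, one_pow]
    | succ k ih =>
      intro a ha h
      rcases Nat.eq_zero_or_pos k with hk0 | hkpos
      · subst hk0
        simpa using h
      · apply ih a ha
        obtain ⟨j, rfl⟩ := Nat.exists_eq_succ_of_ne_zero hkpos.ne'
        have hc4 : (a ^ 2 ^ j) ^ 4 = 1 := by
          rw [← pow_mul]
          have : 2 ^ j * 4 = 2 ^ (j + 1 + 1) := by ring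
          rw [this]; exact h
        have hc2 := h4 _ (A.pow_mem ha _) hc4
        rw [← pow_mul] at hc2
        have : 2 ^ j * 2 = 2 ^ (j + 1) := by ring
        rw [this] at hc2; exact hc2
  have h5 : ∀ a ∈ A, a ^ 2 = 1 := by
    intro a ha
    obtain ⟨k, hk⟩ := (IsPGroup.iff_orderOf.mp hS) a
    have hpow : a ^ 2 ^ k = 1 := by rw [← hk]; exact pow_orderOf_eq_one a
    exact key k a ha hpow
  refine ⟨v, hvA, hvv, hv1, hvz, hσv, ?_⟩
  intro x hx
  by_cases hx1 : x = 1
  · exact Or.inl hx1
  by_cases hxz : x = z
  · exact Or.inr (Or.inl hxz)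
  right; right
  have hxx : x * x = 1 := by rw [← pow_two]; exact h5 x hx
  have hσx : σ x = x * z := hinv x hx hxx hx1 hxz
  have hvi : v⁻¹ = v := inv_eq_of_mul_eq_one_left hvv
  have hfixed : σ (x * v) = x * v := by
    rw [map_mul, hσx, hσv]
    have hc : z * v = v * z := hA z hzA v hvA
    calc x * z * (v * z) = x * (z * v) * z := by group
      _ = x * (v * z) * z := by rw [hc]
      _ = x * v * (z * z) := by group
      _ = x * v := by rw [hzz, mul_one]
  rcases hfix _ (A.mul_mem hx hvA) hfixed with h0 | h0
  · left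
    rw [eq_inv_of_mul_eq_one_left h0, hvi]
  · right
    have : x = z * v⁻¹ := by rw [← h0]; group
    rw [this, hvi]; exact hA z hzA v hvA

/-- a normal abelian subgroup does not contain `t` (when `|S| ≥ 16`) -/
theorem not_mem_of_normal_abelian (hS : IsPGroup 2 S) {t : S} (ht1 : t ≠ 1) (htt : t * t = 1)
    (hC : Nat.card (centralizer ({t} : Set S)) = 4) (h16 : 16 ≤ Nat.card S)
    (B : Subgroup S) (hBn : B.Normal) (hBc : ∀ a ∈ B, ∀ b ∈ B, a * b = b * a) : t ∉ B := by
  intro htB
  obtain ⟨htc, z, hz, hz1, hzz, hzt, hel⟩ := cent_struct hS ht1 htt hC (by omega)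
  have hconj : ∀ x : S, x * t * x⁻¹ = t ∨ x * t * x⁻¹ = t * z := by
    intro x
    have hxB : x * t * x⁻¹ ∈ B := hBn.conj_mem t htB x
    have e : t = x⁻¹ * (x * t * x⁻¹) * x := by group
    rcases hel _ (hBc _ hxB _ htB) with h | h | h | h
    · exfalso; apply ht1
      rw [e, h]; group
    · exact Or.inl h
    · exfalso; apply hzt
      rw [e, h]
      have hzc := (mem_center_iff.mp hz) x⁻¹
      rw [hzc, mul_assoc, inv_mul_cancel, mul_one]
    · exact Or.inr h
  have := card_le_of_two_conj hz hzz hconj
  omega

/-- **L1** -/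
theorem L1 (hS : IsPGroup 2 S) {t : S} (ht1 : t ≠ 1) (htt : t * t = 1)
    (hC : Nat.card (centralizer ({t} : Set S)) = 4) (h8 : 8 ≤ Nat.card S) :
    (∃ n : ℕ, Nonempty (S ≃* DihedralGroup n)) ∨ Cfsg.IsQuasiDihedral S := by
  haveI : Fact (Nat.Prime 2) := ⟨Nat.prime_two⟩
  obtain ⟨htc, z, hz, hz1, hzz, hzt, hel⟩ := cent_struct hS ht1 htt hC h8
  have hzcomm : ∀ g : S, g * z = z * g := fun g => (mem_center_iff.mp hz) g
  have hti : t⁻¹ = t := inv_eq_of_mul_eq_one_left htt
  have hnq : ¬ ∃ n : ℕ, Nonempty (S ≃* QuaternionGroup n) := by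
    rintro ⟨n, ⟨e⟩⟩
    exact hzt (quaternion_unique_invol e hzz hz1 htt ht1)
  have hna : ¬ IsMulCommutative S := by
    intro hc
    apply htc
    rw [mem_center_iff]
    intro g
    exact hc.is_comm.comm g t
  have htztz : (t * z) * (t * z) = 1 := by
    calc t * z * (t * z) = t * (z * t) * z := by group
      _ = t * (t * z) * z := by rw [← hzcomm t]
      _ = (t * t) * (z * z) := by group
      _ = 1 := by rw [htt, hzz, mul_one]
  obtain ⟨e, he⟩ := IsPGroup.iff_card.mp hS
  by_cases h8' : Nat.card S = 8
  · -- order `8`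
    have hex : ∃ u : S, u * u ≠ 1 := by
      by_contra hall
      push Not at hall
      apply hna
      refine ⟨⟨fun a b => ?_⟩⟩
      have hab := hall (a * b)
      have h1 : a * b = (a * b)⁻¹ := eq_inv_of_mul_eq_one_left hab
      rw [h1, mul_inv_rev, inv_eq_of_mul_eq_one_left (hall a),
        inv_eq_of_mul_eq_one_left (hall b)]
    obtain ⟨u, hu⟩ := hex
    obtain ⟨k, hk⟩ := (IsPGroup.iff_orderOf.mp hS) u
    have hdvd : orderOf u ∣ 8 := h8' ▸ orderOf_dvd_natCard u
    have hk2 : k = 2 := by
      rw [hk] at hdvd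
      have hk3 : k ≤ 3 := by
        have h1 : 2 ^ k ≤ 8 := Nat.le_of_dvd (by norm_num) hdvd
        by_contra hlt
        push Not at hlt
        have h2 : 2 ^ 4 ≤ 2 ^ k := Nat.pow_le_pow_right (by norm_num) hlt
        omega
      interval_cases k
      · exfalso; apply hu
        rw [pow_zero, orderOf_eq_one_iff] at hk
        rw [hk, mul_one]
      · exfalso; apply hu
        have := pow_orderOf_eq_one u
        rw [hk, pow_one, pow_two] at this
        exact this
      · rfl
      · exfalso; apply hna
        have hcyc : IsCyclic S := isCyclic_of_orderOf_eq_card u (by rw [hk, h8']; norm_num)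
        obtain ⟨g, hg⟩ := hcyc.exists_generator
        refine ⟨⟨fun a b => ?_⟩⟩
        obtain ⟨i, rfl⟩ := mem_zpowers_iff.mp (hg a)
        obtain ⟨j, rfl⟩ := mem_zpowers_iff.mp (hg b)
        exact ((Commute.refl g).zpow_zpow i j).eq
    subst hk2
    have hcardU : Nat.card (zpowers u) = 2 ^ 2 := by rw [Nat.card_zpowers, hk]
    have hidx : (zpowers u).index = 2 := by
      have := (zpowers u).card_mul_index
      rw [hcardU, h8'] at this
      omega
    have hUn : (zpowers u).Normal := normal_of_index_eq_two hidx
    have hCu : centralizer ((zpowers u : Subgroup S) : Set S) = zpowers u := by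
      apply le_antisymm
      · intro x hx
        by_contra hxu
        have hxu' : x * u = u * x := by
          rw [mem_centralizer_iff] at hx
          exact (hx u (mem_zpowers u)).symm
        -- `u` is central
        have hucen : ∀ g : S, g * u = u * g := by
          intro g
          by_cases hg : g ∈ zpowers u
          · obtain ⟨i, rfl⟩ := mem_zpowers_iff.mp hg
            exact ((Commute.refl u).zpow_left i).eq
          · have hmem : x⁻¹ * g ∈ zpowers u := by
              rw [mul_mem_iff_of_index_two hidx]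
              constructor
              · intro h; exact absurd (inv_mem_iff.mp h) hxu
              · intro h; exact absurd h hg
            obtain ⟨i, hi⟩ := mem_zpowers_iff.mp hmem
            have hg' : g = x * u ^ i := by rw [hi]; group
            rw [hg']
            have hc1 : Commute x u := hxu'
            have hc2 : Commute (u ^ i) u := (Commute.refl u).zpow_left i
            exact (hc1.mul_left hc2).eq
        have := hel u (hucen t).symm
        apply hu
        rcases this with h | h | h | h
        · rw [h, mul_one]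
        · rw [h, htt]
        · rw [h, hzz]
        · rw [h, htztz]
      · intro x hx
        rw [mem_centralizer_iff]
        intro y hy
        obtain ⟨i, rfl⟩ := mem_zpowers_iff.mp hx
        obtain ⟨j, rfl⟩ := mem_zpowers_iff.mp hy
        exact ((Commute.refl u).zpow_zpow j i).eq
    have h := Cfsg.Agent.Helper4.CSC.hyp_of hS hna u hUn 2 hcardU hCu
    rcases h.dichotomy with ⟨_, x, hx, hall, hconj⟩ | ⟨hpn, _⟩
    · obtain ⟨_, hD | hQ | hQD⟩ := h.beta_recog hx hall hconj
      · exact Or.inl hD
      · exact absurd hQ hnq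
      · exact Or.inr hQD
    · exact absurd ⟨rfl, rfl⟩ hpn
  · -- order at least `16`
    have h16 : 16 ≤ Nat.card S := by
      rw [he] at h8 h8' ⊢
      have he4 : 4 ≤ e := by
        by_contra hlt
        push Not at hlt
        interval_cases e <;> simp_all
      calc 16 = 2 ^ 4 := by norm_num
        _ ≤ 2 ^ e := Nat.pow_le_pow_right (by norm_num) he4
    have htz1 : t * z ≠ 1 := by
      intro h
      apply hzt
      have h' : z = t⁻¹ := eq_inv_of_mul_eq_one_right h
      rw [h', hti]
    have hCtz : centralizer ({t * z} : Set S) = centralizer ({t} : Set S) := by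
      ext x
      rw [mem_centralizer_singleton_iff, mem_centralizer_singleton_iff]
      constructor
      · intro h
        have : x * t * z = t * x * z := by
          calc x * t * z = x * (t * z) := by group
            _ = t * z * x := h
            _ = t * (z * x) := by group
            _ = t * (x * z) := by rw [hzcomm x]
            _ = t * x * z := by group
        exact mul_right_cancel this
      · intro h
        calc x * (t * z) = x * t * z := by group
          _ = t * x * z := by rw [h]
          _ = t * (x * z) := by group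
          _ = t * (z * x) := by rw [hzcomm x]
          _ = t * z * x := by group
    have hCtz' : Nat.card (centralizer ({t * z} : Set S)) = 4 := by rw [hCtz]; exact hC
    have hn : ∀ A : Subgroup S, A.Normal → IsMulCommutative A → IsCyclic A := by
      intro B hBn hBc
      by_contra hBcyc
      obtain ⟨A, hBA, hAn, hAc, hAmax⟩ := exists_max_ge B hBn hBc
      have hAc' : ∀ a ∈ A, ∀ b ∈ A, a * b = b * a := fun a ha b hb => by
        have := hAc.is_comm.comm ⟨a, ha⟩ ⟨b, hb⟩
        exact congrArg Subtype.val this
      have htA : t ∉ A := not_mem_of_normal_abelian hS ht1 htt hC h16 A hAn hAc'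
      have htzA : t * z ∉ A := not_mem_of_normal_abelian hS htz1 htztz hCtz' h16 A hAn hAc'
      have hσσ : ∀ a, (MulAut.conj t) ((MulAut.conj t) a) = a := by
        intro a
        rw [MulAut.conj_apply, MulAut.conj_apply]
        have : t * (t * a * t⁻¹) * t⁻¹ = (t * t) * a * (t * t)⁻¹ := by group
        rw [this, htt]; group
      have hnorm : ∀ a ∈ A, (MulAut.conj t) a ∈ A := by
        intro a ha
        rw [MulAut.conj_apply]; exact hAn.conj_mem a ha t
      have hfix : ∀ a ∈ A, (MulAut.conj t) a = a → a = 1 ∨ a = z := by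
        intro a ha h
        rw [MulAut.conj_apply, mul_inv_eq_iff_eq_mul] at h
        rcases hel a h.symm with h1 | h1 | h1 | h1
        · exact Or.inl h1
        · exact absurd (h1 ▸ ha) htA
        · exact Or.inr h1
        · exact absurd (h1 ▸ ha) htzA
      rcases AB hS A hAc' (MulAut.conj t) hσσ hzz hz1 hnorm hfix with
        hAcyc | ⟨v, hvA, hvv, hv1, hvz, hσv, hAel⟩
      · apply hBcyc
        haveI := hAcyc
        have hsub : IsCyclic (B.subgroupOf A) := inferInstance
        exact isCyclic_of_surjective (subgroupOfEquivOfLe hBA)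
          (subgroupOfEquivOfLe hBA).surjective
      · have hconj : ∀ x : S, x * v * x⁻¹ = v ∨ x * v * x⁻¹ = v * z := by
          intro x
          have e : v = x⁻¹ * (x * v * x⁻¹) * x := by group
          rcases hAel _ (hAn.conj_mem v hvA x) with h | h | h | h
          · exfalso; apply hv1
            rw [e, h]; group
          · exfalso; apply hvz
            rw [e, h]
            have hzc := (mem_center_iff.mp hz) x⁻¹
            rw [hzc, mul_assoc, inv_mul_cancel, mul_one]
          · exact Or.inl h
          · exact Or.inr h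
        have h1 := card_le_of_two_conj hz hzz hconj
        haveI := hAn
        have hCA : centralizer ({v} : Set S) ≤ A := by
          refine le_trans ?_
            (Cfsg.Agent.Lib.Helper10.centralizer_le_of_maximal_normal_abelian hS A hAc hAmax)
          intro x hx
          rw [mem_centralizer_singleton_iff] at hx
          rw [mem_centralizer_iff]
          intro a ha
          rcases hAel a ha with h | h | h | h
          · rw [h, one_mul, mul_one]
          · rw [h]; exact (hzcomm x).symm
          · rw [h]; exact hx.symm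
          · rw [h]
            calc v * z * x = v * (z * x) := by group
              _ = v * (x * z) := by rw [hzcomm x]
              _ = (v * x) * z := by group
              _ = (x * v) * z := by rw [hx]
              _ = x * (v * z) := by group
        have h2 : Nat.card (centralizer ({v} : Set S)) ≤ 4 := by
          calc Nat.card (centralizer ({v} : Set S)) ≤ Nat.card A :=
                Nat.le_of_dvd Nat.card_pos (card_dvd_of_le hCA)
            _ ≤ 4 := card_le_four_of A hAel
        omega
    have hm : ∃ B : Subgroup S, IsMulCommutative B ∧ ¬ IsCyclic B := by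
      refine ⟨centralizer ({t} : Set S), ⟨⟨fun a b => Subtype.ext ?_⟩⟩, ?_⟩
      · have ha := mem_centralizer_singleton_iff.mp a.2
        show (a : S) * (b : S) = (b : S) * (a : S)
        rcases hel b.1 (mem_centralizer_singleton_iff.mp b.2) with h | h | h | h
        · rw [h, mul_one, one_mul]
        · rw [h]; exact ha
        · rw [h]; exact hzcomm _
        · rw [h]
          calc (a : S) * (t * z) = (a : S) * t * z := by group
            _ = t * (a : S) * z := by rw [ha]
            _ = t * ((a : S) * z) := by group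
            _ = t * (z * (a : S)) := by rw [hzcomm]
            _ = t * z * (a : S) := by group
      · intro hcyc
        obtain ⟨g, hg⟩ := hcyc.exists_generator
        have hord : orderOf g = 4 := by rw [orderOf_eq_card_of_forall_mem_zpowers hg, hC]
        have hgg : g * g = 1 := by
          apply Subtype.ext
          show (g : S) * (g : S) = 1
          rcases hel g.1 (mem_centralizer_singleton_iff.mp g.2) with h | h | h | h
          · rw [h, mul_one]
          · rw [h, htt]
          · rw [h, hzz]
          · rw [h, htztz]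
        have : orderOf g ∣ 2 := orderOf_dvd_of_pow_eq_one (by rw [pow_two, hgg])
        rw [hord] at this
        omega
    obtain ⟨_, hq | ⟨n, _, hd⟩ | hqd⟩ :=
      Cfsg.Agent.Helper4.CSC.pgroup_normal_abelian_cyclic 2 hS hn hm
    · exact absurd hq hnq
    · exact Or.inl ⟨n, hd⟩
    · exact Or.inr hqd

end L1

/-- **L1** for a subgroup -/
theorem L1' {G : Type*} [Group G] [Finite G] (S : Subgroup G) (hS : IsPGroup 2 S) {t : G}
    (htS : t ∈ S) (ht1 : t ≠ 1) (htt : t * t = 1)
    (hC : Nat.card (S ⊓ centralizer ({t} : Set G) : Subgroup G) = 4) (h8 : 8 ≤ Nat.card S) :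
    (∃ n : ℕ, Nonempty (↥S ≃* DihedralGroup n)) ∨ Cfsg.IsQuasiDihedral ↥S := by
  refine L1 hS (t := ⟨t, htS⟩) (fun h => ht1 (congrArg Subtype.val h)) (Subtype.ext htt) ?_ h8
  have heq : centralizer ({(⟨t, htS⟩ : S)} : Set S) =
      (S ⊓ centralizer ({t} : Set G)).subgroupOf S := by
    ext x
    rw [mem_centralizer_singleton_iff, mem_subgroupOf, mem_inf, mem_centralizer_singleton_iff]
    constructor
    · intro h; exact ⟨x.2, congrArg Subtype.val h⟩
    · intro h; exact Subtype.ext h.2
  rw [heq, Nat.card_congr (subgroupOfEquivOfLe inf_le_left).toEquiv]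
  exact hC

end Cfsg.Agent.Lib.Helper17.Fix2
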