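import Mathlib
import Cfsg.Prelude.Def_Solvable
import Cfsg.Prelude.Def_CaseTheorems
import Cfsg.Agent.Lib.Helper17.SylowLemmas
import Cfsg.Agent.Lib.Helper17.SignKernel
import Cfsg.Agent.Lib.Helper17.Conj
import Cfsg.Agent.Lib.Helper17.Fix2Grp

/-!
# Permutation groups in which non-identity elements fix at most two points: Sylow `2`-subgroups
-/

set_option autoImplicit false
set_option linter.unusedVariables false
set_option linter.unusedSectionVars false
set_option linter.style.haveILetI false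
set_option linter.deprecated false

namespace Cfsg.Agent.Lib.Helper17.Fix2

open Subgroup MulAction
open scoped Pointwise

/-- no non-identity element fixes three points -/
def Fix3 (G : Type*) [Group G] (Ω : Type*) [MulAction G Ω] : Prop :=
  ∀ g : G, g ≠ 1 → ∀ a b c : Ω, a ≠ b → a ≠ c → b ≠ c → g • a = a → g • b = b → g • c = c → False

theorem three_fix {G : Type*} [Group G] {Ω : Type*} [Finite Ω] [MulAction G Ω]
    (hfix : ∀ g : G, g ≠ 1 → Nat.card (MulAction.fixedBy Ω g) ≤ 2) : Fix3 G Ω := by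
  intro g hg a b c hab hac hbc ha hb hc
  have h1 := hfix g hg
  have hsub : ({a, b, c} : Set Ω) ⊆ MulAction.fixedBy Ω g := by
    intro x hx
    simp only [Set.mem_insert_iff, Set.mem_singleton_iff] at hx
    rw [MulAction.mem_fixedBy]
    rcases hx with rfl | rfl | rfl <;> assumption
  have h3 : ({a, b, c} : Set Ω).ncard = 3 :=
    Set.ncard_eq_three.mpr ⟨a, b, c, hab, hac, hbc, rfl⟩
  have h4 : ({a, b, c} : Set Ω).ncard ≤ (MulAction.fixedBy Ω g).ncard :=
    Set.ncard_le_ncard hsub (Set.toFinite _)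
  rw [Nat.card_coe_set_eq] at h1
  omega

/-! ### the sign of an element swapping two points and semiregular elsewhere -/

theorem sign_swap_semireg {G : Type*} [Group G] {Ω : Type*} [Fintype Ω] [DecidableEq Ω]
    [MulAction G Ω] (c : G) (a b : Ω) (hab : a ≠ b) (hca : c • a = b) (hcb : c • b = a)
    (k : ℕ) (hk : 1 ≤ k) (hc : orderOf c = 2 ^ k)
    (hsemi : ∀ q : Ω, q ≠ a → q ≠ b → ∀ j : ℕ, c ^ j • q = q → c ^ j = 1)
    (hdiv : 2 ^ (k + 1) ∣ Fintype.card Ω - 2) :
    Equiv.Perm.sign (MulAction.toPermHom G Ω c) = -1 := by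
  set σ : Equiv.Perm Ω := MulAction.toPermHom G Ω c with hσdef
  have hσpow : ∀ j : ℕ, ∀ q : Ω, (σ ^ j) q = c ^ j • q := by
    intro j q
    rw [hσdef, ← map_pow]; rfl
  set τ : Equiv.Perm Ω := Equiv.swap a b with hτdef
  set ρ : Equiv.Perm Ω := τ * σ with hρdef
  have hσa : σ a = b := hca
  have hσb : σ b = a := hcb
  have hρa : ρ a = a := by
    rw [hρdef, Equiv.Perm.mul_apply, hσa, hτdef, Equiv.swap_apply_right]
  have hρb : ρ b = b := by
    rw [hρdef, Equiv.Perm.mul_apply, hσb, hτdef, Equiv.swap_apply_left]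
  have hσc : ∀ q, q ≠ a → q ≠ b → σ q ≠ a ∧ σ q ≠ b := by
    intro q hqa hqb
    constructor
    · intro h; apply hqb; apply σ.injective; rw [h, hσb]
    · intro h; apply hqa; apply σ.injective; rw [h, hσa]
  have hρq : ∀ q, q ≠ a → q ≠ b → ρ q = σ q := by
    intro q hqa hqb
    obtain ⟨h1, h2⟩ := hσc q hqa hqb
    rw [hρdef, Equiv.Perm.mul_apply, hτdef]
    exact Equiv.swap_apply_of_ne_of_ne h1 h2
  have hρpow : ∀ j : ℕ, ∀ q, q ≠ a → q ≠ b →
      ((ρ ^ j) q = (σ ^ j) q ∧ (σ ^ j) q ≠ a ∧ (σ ^ j) q ≠ b) := by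
    intro j
    induction j with
    | zero =>
      intro q hqa hqb
      simp only [pow_zero, Equiv.Perm.coe_one, id_eq]
      exact ⟨trivial, hqa, hqb⟩
    | succ j ih =>
      intro q hqa hqb
      obtain ⟨h1, h2, h3⟩ := ih q hqa hqb
      have e1 : (ρ ^ (j + 1)) q = ρ ((ρ ^ j) q) := by rw [pow_succ']; rfl
      have e2 : (σ ^ (j + 1)) q = σ ((σ ^ j) q) := by rw [pow_succ']; rfl
      rw [e1, e2, h1, hρq _ h2 h3]
      exact ⟨rfl, hσc _ h2 h3⟩
  have hρfixa : ∀ j : ℕ, (ρ ^ j) a = a :=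
    fun j => Equiv.Perm.pow_apply_eq_self_of_apply_eq_self hρa j
  have hρfixb : ∀ j : ℕ, (ρ ^ j) b = b :=
    fun j => Equiv.Perm.pow_apply_eq_self_of_apply_eq_self hρb j
  have hσord : σ ^ (2 ^ k) = 1 := by
    rw [hσdef, ← map_pow, ← hc, pow_orderOf_eq_one, map_one]
  have hρord : ρ ^ (2 ^ k) = 1 := by
    ext q
    by_cases hqa : q = a
    · rw [hqa, hρfixa]; rfl
    · by_cases hqb : q = b
      · rw [hqb, hρfixb]; rfl
      · rw [(hρpow _ q hqa hqb).1, hσord]
  have hcyc : ∀ n ∈ ρ.cycleType, n = 2 ^ k := by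
    intro n hn
    have h1 : n ∣ 2 ^ k :=
      (Equiv.Perm.dvd_of_mem_cycleType hn).trans (orderOf_dvd_of_pow_eq_one hρord)
    obtain ⟨τ₁, τ₂, hστ, hdisj, hcycle, hcard⟩ := Equiv.Perm.mem_cycleType_iff.mp hn
    obtain ⟨q, hq⟩ := hcycle.nonempty_support
    have hq' : τ₁ q ≠ q := Equiv.Perm.mem_support.mp hq
    have hτ₂ : τ₂ q = q := (hdisj q).resolve_left hq'
    have hτ₁n : τ₁ ^ n = 1 := by
      rw [← hcard, ← hcycle.orderOf]; exact pow_orderOf_eq_one τ₁
    have hρn : (ρ ^ n) q = q := by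
      rw [hστ, hdisj.commute.mul_pow, hτ₁n, one_mul]
      exact Equiv.Perm.pow_apply_eq_self_of_apply_eq_self hτ₂ n
    have hρq' : ρ q ≠ q := by
      rw [hστ, Equiv.Perm.mul_apply, hτ₂]; exact hq'
    have hqa : q ≠ a := fun h => hρq' (by rw [h]; exact hρa)
    have hqb : q ≠ b := fun h => hρq' (by rw [h]; exact hρb)
    have h2 : c ^ n = 1 :=
      hsemi q hqa hqb n (by rw [← hσpow, ← (hρpow n q hqa hqb).1]; exact hρn)
    have h3 : 2 ^ k ∣ n := by rw [← hc]; exact orderOf_dvd_of_pow_eq_one h2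
    exact Nat.dvd_antisymm h1 h3
  set N := Multiset.card ρ.cycleType with hNdef
  have hrep : ρ.cycleType = Multiset.replicate N (2 ^ k) :=
    Multiset.eq_replicate.mpr ⟨rfl, hcyc⟩
  have h2k : 2 ≤ 2 ^ k := by
    calc 2 = 2 ^ 1 := rfl
      _ ≤ 2 ^ k := Nat.pow_le_pow_right (by norm_num) hk
  have hsupp : ρ.support = ({a, b} : Finset Ω)ᶜ := by
    ext q
    rw [Equiv.Perm.mem_support, Finset.mem_compl, Finset.mem_insert, Finset.mem_singleton]
    constructor
    · intro hq hq2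
      rcases hq2 with h | h
      · exact hq (by rw [h]; exact hρa)
      · exact hq (by rw [h]; exact hρb)
    · intro hq hq2
      push Not at hq
      rw [hρq q hq.1 hq.2] at hq2
      have h1 : c ^ 1 = 1 := hsemi q hq.1 hq.2 1 (by rw [pow_one]; exact hq2)
      rw [pow_one] at h1
      rw [h1, orderOf_one] at hc
      omega
  have hsum : ρ.cycleType.sum = Fintype.card Ω - 2 := by
    rw [Equiv.Perm.sum_cycleType, hsupp, Finset.card_compl, Finset.card_pair hab]
  have hN : N * 2 ^ k = Fintype.card Ω - 2 := by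
    have h := hsum
    rw [hrep, Multiset.sum_replicate, smul_eq_mul] at h
    exact h
  have hNeven : Even N := by
    obtain ⟨w, hw⟩ := hdiv
    have h1 : N * 2 ^ k = (2 * w) * 2 ^ k := by rw [hN, hw]; ring
    have h2 := Nat.eq_of_mul_eq_mul_right (by positivity) h1
    exact ⟨w, by omega⟩
  have hsumeven : Even (Fintype.card Ω - 2) := by
    obtain ⟨w, hw⟩ := hdiv
    rw [hw, pow_succ]
    exact ⟨2 ^ k * w, by ring⟩
  have hστρ : σ = τ * ρ := by
    rw [hρdef, ← mul_assoc, hτdef, Equiv.swap_mul_self, one_mul]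
  rw [hστρ, map_mul, hτdef, Equiv.Perm.sign_swap hab, Equiv.Perm.sign_of_cycleType, hsum,
    ← hNdef, (hsumeven.add hNeven).neg_one_pow, mul_one]

/-! ### a free action -/

theorem free_card_dvd {H : Type*} [Group H] [Finite H] {Ω : Type*} [Fintype Ω] [MulAction H Ω]
    (a b : Ω) (hab : a ≠ b)
    (hinv : ∀ h : H, (h • a = a ∨ h • a = b) ∧ (h • b = a ∨ h • b = b))
    (hfree : ∀ h : H, ∀ q : Ω, q ≠ a → q ≠ b → h • q = q → h = 1) :
    Nat.card H ∣ Fintype.card Ω - 2 := by
  classical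
  let A : SubMulAction H Ω :=
    { carrier := {q | q ≠ a ∧ q ≠ b}
      smul_mem' := by
        intro h q hq
        constructor
        · intro e
          have hq' : q = h⁻¹ • a := by rw [← e, inv_smul_smul]
          rcases (hinv h⁻¹).1 with h1 | h1
          · exact hq.1 (hq'.trans h1)
          · exact hq.2 (hq'.trans h1)
        · intro e
          have hq' : q = h⁻¹ • b := by rw [← e, inv_smul_smul]
          rcases (hinv h⁻¹).2 with h1 | h1
          · exact hq.1 (hq'.trans h1)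
          · exact hq.2 (hq'.trans h1) }
  have hstab : ∀ q : A, MulAction.stabilizer H q = ⊥ := by
    intro q
    rw [SubMulAction.stabilizer_of_subMul, eq_bot_iff]
    intro h hh
    rw [MulAction.mem_stabilizer_iff] at hh
    rw [Subgroup.mem_bot]
    exact hfree h q.1 q.2.1 q.2.2 hh
  have e := MulAction.selfEquivOrbitsQuotientProd hstab
  have hcard : Nat.card A = Nat.card (Quotient (MulAction.orbitRel H A)) * Nat.card H := by
    rw [Nat.card_congr e, Nat.card_prod]
  have hA : Nat.card A = Fintype.card Ω - 2 := by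
    have h1 : Nat.card A = Set.ncard (A : Set Ω) := Nat.card_coe_set_eq (A : Set Ω)
    have h2 : (A : Set Ω) = ({a, b} : Set Ω)ᶜ := by
      ext q
      simp only [Set.mem_compl_iff, Set.mem_insert_iff, Set.mem_singleton_iff, not_or]
      rfl
    have h3 := Set.ncard_add_ncard_compl ({a, b} : Set Ω)
    rw [Set.ncard_pair hab, Nat.card_eq_fintype_card] at h3
    rw [h1, h2]
    omega
  rw [← hA, hcard]
  exact Dvd.intro_left _ rfl

/-! ### Sylow conjugation inside a subgroup -/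

theorem exists_conj_mem {G : Type*} [Group G] [Finite G] {p : ℕ} [Fact p.Prime]
    {R D : Subgroup G} (hR : IsPGroup p R) (hRD : R ≤ D) (P : Sylow p G)
    (hPD : (P : Subgroup G) ≤ D) :
    ∃ d ∈ D, ∀ r ∈ R, d⁻¹ * r * d ∈ (P : Subgroup G) := by
  obtain ⟨Q, hQ⟩ := (hR.comap_subtype (K := D)).exists_le_sylow
  obtain ⟨d, hd⟩ := MulAction.exists_smul_eq D (P.subtype hPD) Q
  refine ⟨d, d.2, ?_⟩
  rw [Sylow.smul_subtype hPD d] at hd
  intro r hr
  have h1 : (⟨r, hRD hr⟩ : D) ∈ R.subgroupOf D := by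
    rw [Subgroup.mem_subgroupOf]; exact hr
  have h2 := hQ h1
  rw [← hd] at h2
  have h3 : (⟨r, hRD hr⟩ : D) ∈ ((d • P : Sylow p G) : Subgroup G).subgroupOf D := by
    rw [← Sylow.coe_subtype (d • P) (Sylow.smul_le hPD d)]; exact h2
  rw [Subgroup.mem_subgroupOf] at h3
  have h4 : r ∈ MulAut.conj (d : G) • (P : Subgroup G) := h3
  rw [Subgroup.mem_pointwise_smul_iff_inv_smul_mem, MulAut.smul_def, MulAut.conj_inv_apply] at h4
  exact h4

/-! ### the general set-up -/

section Main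

variable {G : Type*} [Group G] [Finite G] {Ω : Type*} [MulAction G Ω]

/-- the setwise stabilizer of a pair of points -/
def pairStab (α β : Ω) : Subgroup G where
  carrier := {g | (g • α = α ∧ g • β = β) ∨ (g • α = β ∧ g • β = α)}
  one_mem' := Or.inl ⟨one_smul _ _, one_smul _ _⟩
  mul_mem' := by
    rintro a b (⟨h1, h2⟩ | ⟨h1, h2⟩) (⟨h3, h4⟩ | ⟨h3, h4⟩)
    · exact Or.inl ⟨by rw [mul_smul, h3, h1], by rw [mul_smul, h4, h2]⟩
    · exact Or.inr ⟨by rw [mul_smul, h3, h2], by rw [mul_smul, h4, h1]⟩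
    · exact Or.inr ⟨by rw [mul_smul, h3, h1], by rw [mul_smul, h4, h2]⟩
    · exact Or.inl ⟨by rw [mul_smul, h3, h2], by rw [mul_smul, h4, h1]⟩
  inv_mem' := by
    rintro x (⟨h1, h2⟩ | ⟨h1, h2⟩)
    · exact Or.inl ⟨inv_smul_eq_iff.mpr h1.symm, inv_smul_eq_iff.mpr h2.symm⟩
    · exact Or.inr ⟨inv_smul_eq_iff.mpr h2.symm, inv_smul_eq_iff.mpr h1.symm⟩

theorem mem_pairStab {α β : Ω} {g : G} :
    g ∈ pairStab (G := G) α β ↔ (g • α = α ∧ g • β = β) ∨ (g • α = β ∧ g • β = α) := Iff.rfl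

theorem relIndex_mul_card' {H K : Subgroup G} (h : H ≤ K) :
    H.relIndex K * Nat.card H = Nat.card K := by
  have := (H.subgroupOf K).card_mul_index
  rw [Nat.card_congr (subgroupOfEquivOfLe h).toEquiv] at this
  rw [relIndex, mul_comm]; exact this

/-- the structure at a point whose stabilizer in `S` is neither trivial nor all of `S` -/
theorem point_struct (hfix3 : Fix3 G Ω) (S : Subgroup G) (hS : IsPGroup 2 S) (ω : Ω)
    (hU1 : S ⊓ stabilizer G ω ≠ ⊥) (hU2 : ¬ S ≤ stabilizer G ω) :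
    ∃ y ∈ S, y • ω ≠ ω ∧ y • (y • ω) = ω ∧
      (∀ u ∈ S, u • ω = ω → u • (y • ω) = y • ω) ∧
      (∀ s ∈ S, s • (y • ω) = y • ω → s • ω = ω) ∧
      (∀ s ∈ S, s ∈ normalizer ((S ⊓ stabilizer G ω : Subgroup G) : Set G) →
        s • ω = ω ∨ s • ω = y • ω) ∧
      y ∈ normalizer ((S ⊓ stabilizer G ω : Subgroup G) : Set G) := by
  haveI : Fact (Nat.Prime 2) := ⟨Nat.prime_two⟩
  set U := S ⊓ stabilizer G ω with hUdef
  have hUS : U < S :=
    lt_of_le_of_ne inf_le_left (fun h => hU2 (le_of_eq_of_le h.symm inf_le_right))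
  obtain ⟨y, hyS, hyN, hyU⟩ := pgroup_normalizer_gt hS hUS
  have hmemU : ∀ g : G, g ∈ U ↔ g ∈ S ∧ g • ω = ω := by
    intro g; rw [hUdef, mem_inf, mem_stabilizer_iff]
  have hyω : y • ω ≠ ω := fun h => hyU ((hmemU y).mpr ⟨hyS, h⟩)
  have hN := mem_normalizer_iff.mp hyN
  obtain ⟨u0, hu0U, hu01⟩ : ∃ u ∈ U, u ≠ 1 := by
    by_contra hno
    push Not at hno
    exact hU1 (eq_bot_iff.mpr fun x hx => mem_bot.mpr (hno x hx))
  have hu0 := (hmemU u0).mp hu0U
  have ha : ∀ u ∈ S, u • ω = ω → u • (y • ω) = y • ω := by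
    intro u huS huω
    have h1 : y⁻¹ * u * y ∈ U := by
      rw [hN]
      have : y * (y⁻¹ * u * y) * y⁻¹ = u := by group
      rw [this]; exact (hmemU u).mpr ⟨huS, huω⟩
    have h2 := ((hmemU _).mp h1).2
    rw [mul_smul, mul_smul, inv_smul_eq_iff] at h2
    exact h2
  have hb : ∀ s ∈ S, s • (y • ω) = y • ω → s • ω = ω := by
    intro s hsS hs
    have h1 : y⁻¹ * s * y ∈ U := by
      rw [hmemU]
      refine ⟨S.mul_mem (S.mul_mem (S.inv_mem hyS) hsS) hyS, ?_⟩
      rw [mul_smul, mul_smul, hs, inv_smul_smul]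
    have h2 := (hN _).mp h1
    have : y * (y⁻¹ * s * y) * y⁻¹ = s := by group
    rw [this] at h2
    exact ((hmemU s).mp h2).2
  have hconj1 : ∀ s : G, s * u0 * s⁻¹ ≠ 1 := by
    intro s h; apply hu01
    have : u0 = s⁻¹ * (s * u0 * s⁻¹) * s := by group
    rw [this, h]; group
  have hd : ∀ s ∈ S, s ∈ normalizer (U : Set G) → s • ω = ω ∨ s • ω = y • ω := by
    intro s hsS hsN
    have h1 : s * u0 * s⁻¹ ∈ U := (mem_normalizer_iff.mp hsN u0).mp hu0U
    have h2 := (hmemU _).mp h1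
    by_contra hne
    push Not at hne
    refine hfix3 _ (hconj1 s) ω (y • ω) (s • ω) hyω.symm (Ne.symm hne.1) (Ne.symm hne.2) h2.2
      (ha _ h2.1 h2.2) ?_
    rw [mul_smul, mul_smul, inv_smul_smul, hu0.2]
  have hc : y • (y • ω) = ω := by
    have h1 : y * u0 * y⁻¹ ∈ U := (hN u0).mp hu0U
    have h2 := (hmemU _).mp h1
    by_contra hne
    have hne2 : y • (y • ω) ≠ y • ω := by
      intro h; apply hyω
      exact smul_left_cancel y h
    refine hfix3 _ (hconj1 y) ω (y • ω) (y • (y • ω)) hyω.symm (Ne.symm hne) (Ne.symm hne2) h2.2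
      (ha _ h2.1 h2.2) ?_
    rw [mul_smul, mul_smul, inv_smul_smul, ha u0 hu0.1 hu0.2]
  exact ⟨y, hyS, hyω, hc, ha, hb, hd, hyN⟩

theorem relIndex_two (S : Subgroup G) (ω : Ω) (y : G) (hyS : y ∈ S) (hyω : y • ω ≠ ω)
    (hyN : y ∈ normalizer ((S ⊓ stabilizer G ω : Subgroup G) : Set G))
    (hd : ∀ s ∈ S, s ∈ normalizer ((S ⊓ stabilizer G ω : Subgroup G) : Set G) →
      s • ω = ω ∨ s • ω = y • ω) :
    (S ⊓ stabilizer G ω).relIndex
      (S ⊓ normalizer ((S ⊓ stabilizer G ω : Subgroup G) : Set G)) = 2 := by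
  rw [relIndex_eq_two_iff_exists_notMem_and']
  refine ⟨y⁻¹, mem_inf.mpr ⟨S.inv_mem hyS, inv_mem hyN⟩, ?_, ?_⟩
  · intro h
    have := (mem_inf.mp h).2
    rw [mem_stabilizer_iff, inv_smul_eq_iff] at this
    exact hyω this.symm
  · intro b hb
    obtain ⟨hbS, hbN⟩ := mem_inf.mp hb
    rcases hd b hbS hbN with h | h
    · right; exact mem_inf.mpr ⟨hbS, mem_stabilizer_iff.mpr h⟩
    · left
      refine mem_inf.mpr ⟨S.mul_mem (S.inv_mem hyS) hbS, ?_⟩
      rw [mem_stabilizer_iff, mul_smul, h, inv_smul_smul]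

theorem centralizer_eq_normalizer_of_card_two (U : Subgroup G) (hU : Nat.card U = 2) {t : G}
    (htU : t ∈ U) (ht1 : t ≠ 1) :
    centralizer ({t} : Set G) = normalizer (U : Set G) := by
  have el : ∀ x ∈ U, x = 1 ∨ x = t := fun x hx => mem_two U hU U.one_mem htU (Ne.symm ht1) hx
  ext c
  rw [mem_centralizer_singleton_iff, mem_normalizer_iff]
  constructor
  · intro hc h
    have hct : c * t * c⁻¹ = t := by rw [hc, mul_assoc, mul_inv_cancel, mul_one]
    have e : h = c⁻¹ * (c * h * c⁻¹) * c := by group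
    constructor
    · intro hh
      rcases el h hh with h1 | h1
      · rw [h1, mul_one, mul_inv_cancel]; exact U.one_mem
      · rw [h1, hct]; exact htU
    · intro hh
      rcases el _ hh with h1 | h1
      · have : h = 1 := by rw [e, h1]; group
        rw [this]; exact U.one_mem
      · have : h = t := by
          rw [e, h1, mul_assoc, ← hc, ← mul_assoc, inv_mul_cancel, one_mul]
        rw [this]; exact htU
  · intro hN
    have h1 : c * t * c⁻¹ ∈ U := (hN t).mp htU
    rcases el _ h1 with h | h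
    · exfalso; apply ht1
      have e : t = c⁻¹ * (c * t * c⁻¹) * c := by group
      rw [e, h]; group
    · exact mul_inv_eq_iff_eq_mul.mp h

/-- **Case II**: `N_S(T) < S` -/
theorem case_two (hfix3 : Fix3 G Ω) (S : Subgroup G) (hS : IsPGroup 2 S) (α : Ω)
    (hT1 : S ⊓ stabilizer G α ≠ ⊥) (hT2 : ¬ S ≤ stabilizer G α)
    (hM : ¬ S ≤ normalizer ((S ⊓ stabilizer G α : Subgroup G) : Set G)) :
    Nat.card (S ⊓ stabilizer G α : Subgroup G) = 2 ∧
      ((∃ n : ℕ, Nonempty (↥S ≃* DihedralGroup n)) ∨ Cfsg.IsQuasiDihedral ↥S) := by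
  haveI : Fact (Nat.Prime 2) := ⟨Nat.prime_two⟩
  obtain ⟨y, hyS, hyα, hyy, ha, hb, hd, hyN⟩ := point_struct hfix3 S hS α hT1 hT2
  set T := S ⊓ stabilizer G α with hTdef
  set M := S ⊓ normalizer (T : Set G) with hMdef
  have hrel : T.relIndex M = 2 := relIndex_two S α y hyS hyα hyN hd
  have hTM : T ≤ M := le_inf inf_le_left le_normalizer
  have hMS : M < S :=
    lt_of_le_of_ne inf_le_left (fun h => hM (le_of_eq_of_le h.symm inf_le_right))
  obtain ⟨g, hgS, hgN, hgM⟩ := pgroup_normalizer_gt hS hMS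
  set T' := T.map (MulAut.conj g).toMonoidHom with hT'def
  have hT'M : T' ≤ M := by
    intro x hx
    rw [hT'def, mem_map_conj] at hx
    have h1 : g⁻¹ * x * g ∈ M := hTM hx
    have h2 := (mem_normalizer_iff.mp hgN (g⁻¹ * x * g)).mp h1
    have : g * (g⁻¹ * x * g) * g⁻¹ = x := by group
    rwa [this] at h2
  have hmemT : ∀ x : G, x ∈ T ↔ x ∈ S ∧ x • α = α := by
    intro x; rw [hTdef, mem_inf, mem_stabilizer_iff]
  have hyM : y ∈ M := mem_inf.mpr ⟨hyS, hyN⟩
  have hgα1 : g • α ≠ α := fun h => hgM (hTM ((hmemT g).mpr ⟨hgS, h⟩))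
  have hgα2 : g • α ≠ y • α := by
    intro h
    apply hgM
    have h1 : y⁻¹ * g ∈ T := by
      rw [hmemT]; refine ⟨S.mul_mem (S.inv_mem hyS) hgS, ?_⟩
      rw [mul_smul, h, inv_smul_smul]
    have : g = y * (y⁻¹ * g) := by group
    rw [this]; exact M.mul_mem hyM (hTM h1)
  have hinf : T ⊓ T' = ⊥ := by
    rw [eq_bot_iff]
    intro x hx
    rw [mem_bot]
    by_contra hx1
    obtain ⟨hxT, hxT'⟩ := mem_inf.mp hx
    rw [hT'def, mem_map_conj] at hxT'
    have h1 := (hmemT x).mp hxT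
    have h2 := (hmemT _).mp hxT'
    have h3 : x • (g • α) = g • α := by
      have := h2.2
      rw [mul_smul, mul_smul, inv_smul_eq_iff] at this
      exact this
    exact hfix3 x hx1 α (y • α) (g • α) hyα.symm (Ne.symm hgα1) (Ne.symm hgα2) h1.2
      (ha x h1.1 h1.2) h3
  have e1 := relIndex_mul_card' hTM
  rw [hrel] at e1
  have hcM : Nat.card M ≤ 4 := by
    have h1 := relIndex_inf_le (H := T) (K := T') (L := M)
    rw [hinf, relIndex_bot_left] at h1
    have h2 : T'.relIndex M = 2 := by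
      have e2 := relIndex_mul_card' hT'M
      have e3 : Nat.card T' = Nat.card T := card_map_conj T g
      rw [e3] at e2
      have hpos : 0 < Nat.card T := Nat.card_pos
      have : T'.relIndex M * Nat.card T = 2 * Nat.card T := by rw [e2, e1]
      exact Nat.eq_of_mul_eq_mul_right hpos this
    rw [hrel, h2] at h1
    exact h1
  have hcT : Nat.card T = 2 := by
    have h1 : 1 < Nat.card T := T.one_lt_card_iff_ne_bot.mpr hT1
    omega
  have hcM4 : Nat.card M = 4 := by omega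
  refine ⟨hcT, ?_⟩
  obtain ⟨t, htT, ht1⟩ : ∃ t ∈ T, t ≠ 1 := by
    by_contra hno
    push Not at hno
    exact hT1 (eq_bot_iff.mpr fun x hx => mem_bot.mpr (hno x hx))
  have hcent : centralizer ({t} : Set G) = normalizer (T : Set G) :=
    centralizer_eq_normalizer_of_card_two T hcT htT ht1
  have hC : Nat.card (S ⊓ centralizer ({t} : Set G) : Subgroup G) = 4 := by
    rw [hcent]; exact hcM4
  have htt : t * t = 1 := by
    rcases mem_two T hcT T.one_mem htT (Ne.symm ht1) (T.mul_mem htT htT) with h | h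
    · exact h
    · exact absurd (mul_left_cancel (a := t) (by rw [mul_one]; exact h)) ht1
  have h8 : 8 ≤ Nat.card S := by
    obtain ⟨e, he⟩ := IsPGroup.iff_card.mp hS
    have hdvd : Nat.card M ∣ Nat.card S := card_dvd_of_le inf_le_left
    have hne : Nat.card M ≠ Nat.card S := by
      intro h
      exact hMS.ne (eq_of_le_of_card_ge inf_le_left (by rw [h]))
    rw [hcM4, he] at hdvd hne
    rw [he]
    have he3 : 3 ≤ e := by
      by_contra hlt
      push Not at hlt
      interval_cases e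
      · norm_num at hdvd
      · norm_num at hdvd
      · norm_num at hne
    calc 8 = 2 ^ 3 := by norm_num
      _ ≤ 2 ^ e := Nat.pow_le_pow_right (by norm_num) he3
  exact L1' S hS ((hmemT t).mp htT).1 ht1 htt hC h8

/-- **Case I.b**: `|S : T| = 2` and some involution outside `T` fixes a point -/
theorem case_Ib (hfix3 : Fix3 G Ω) (S : Subgroup G) (hS : IsPGroup 2 S) (α β : Ω) (hαβ : α ≠ β)
    (hS2 : ∀ s ∈ S, (s • α = α ∧ s • β = β) ∨ (s • α = β ∧ s • β = α))
    (ht : ∃ t ∈ S, t ≠ 1 ∧ t • α = α)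
    (ω : Ω) (hωα : ω ≠ α) (hωβ : ω ≠ β) (s : G) (hsS : s ∈ S) (hs1 : s ≠ 1) (hsω : s • ω = ω) :
    (∃ n : ℕ, Nonempty (↥S ≃* DihedralGroup n)) ∨ Cfsg.IsQuasiDihedral ↥S := by
  haveI : Fact (Nat.Prime 2) := ⟨Nat.prime_two⟩
  obtain ⟨t, htS, ht1, htα⟩ := ht
  have htβ : t • β = β := by
    rcases hS2 t htS with h | h
    · exact h.2
    · exact absurd (htα.symm.trans h.1) hαβ
  have hmove : ∀ u ∈ S, u ≠ 1 → u • ω = ω → u • α = β := by
    intro u huS hu1 huω
    rcases hS2 u huS with h | h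
    · exact (hfix3 u hu1 α β ω hαβ (Ne.symm hωα) (Ne.symm hωβ) h.1 h.2 huω).elim
    · exact h.1
  have hsα : s • α = β := hmove s hsS hs1 hsω
  set U := S ⊓ stabilizer G ω with hUdef
  have hmemU : ∀ x : G, x ∈ U ↔ x ∈ S ∧ x • ω = ω := by
    intro x; rw [hUdef, mem_inf, mem_stabilizer_iff]
  have hsU : s ∈ U := (hmemU s).mpr ⟨hsS, hsω⟩
  have hUel : ∀ u ∈ U, u = 1 ∨ u = s := by
    intro u hu
    obtain ⟨huS, huω⟩ := (hmemU u).mp hu
    by_cases hu1 : u = 1
    · exact Or.inl hu1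
    · right
      have huα := hmove u huS hu1 huω
      have hw : (u⁻¹ * s) • α = α := by
        rw [mul_smul, hsα, inv_smul_eq_iff, huα]
      have hwω : (u⁻¹ * s) • ω = ω := by
        rw [mul_smul, hsω, inv_smul_eq_iff, huω]
      have hwS : u⁻¹ * s ∈ S := S.mul_mem (S.inv_mem huS) hsS
      have hwβ : (u⁻¹ * s) • β = β := by
        rcases hS2 _ hwS with h | h
        · exact h.2
        · exact absurd (hw.symm.trans h.1) hαβ
      have hw1 : u⁻¹ * s = 1 := by
        by_contra hne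
        exact hfix3 _ hne α β ω hαβ (Ne.symm hωα) (Ne.symm hωβ) hw hwβ hwω
      exact inv_mul_eq_one.mp hw1
  have hcU : Nat.card U = 2 := card_eq_two_of U hsU hs1 hUel
  have hU1 : U ≠ ⊥ := fun h => hs1 (by rw [h, mem_bot] at hsU; exact hsU)
  have hU2 : ¬ S ≤ stabilizer G ω := by
    intro h
    have htω : t • ω = ω := mem_stabilizer_iff.mp (h htS)
    exact hfix3 t ht1 α β ω hαβ (Ne.symm hωα) (Ne.symm hωβ) htα htβ htω
  obtain ⟨y, hyS, hyω, hyy, ha, hb, hd, hyN⟩ := point_struct hfix3 S hS ω hU1 hU2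
  have hrel : U.relIndex (S ⊓ normalizer (U : Set G)) = 2 := relIndex_two S ω y hyS hyω hyN hd
  have hUM : U ≤ S ⊓ normalizer (U : Set G) := le_inf inf_le_left le_normalizer
  have hcM : Nat.card (S ⊓ normalizer (U : Set G) : Subgroup G) = 4 := by
    have e1 := relIndex_mul_card' hUM
    rw [hrel, hcU] at e1
    omega
  have hcent := centralizer_eq_normalizer_of_card_two U hcU hsU hs1
  have hC : Nat.card (S ⊓ centralizer ({s} : Set G) : Subgroup G) = 4 := by
    rw [hcent]; exact hcM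
  have hss : s * s = 1 := by
    rcases hUel _ (U.mul_mem hsU hsU) with h | h
    · exact h
    · exact absurd (mul_left_cancel (a := s) (by rw [mul_one]; exact h)) hs1
  by_cases h8 : 8 ≤ Nat.card S
  · exact L1' S hS hsS hs1 hss hC h8
  · left
    have h4 : Nat.card S = 4 := by
      have hdvd : Nat.card (S ⊓ normalizer (U : Set G) : Subgroup G) ∣ Nat.card S :=
        card_dvd_of_le inf_le_left
      rw [hcM] at hdvd
      have hpos : 0 < Nat.card S := Nat.card_pos
      obtain ⟨c, hc⟩ := hdvd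
      push Not at h8
      have : c = 1 := by omega
      omega
    refine ⟨2, ?_⟩
    refine klein_of_two_invol (K := ↥S) h4 (s := ⟨s, hsS⟩) (t := ⟨t, htS⟩) (Subtype.ext hss)
      ?_ ?_ ?_ ?_
    · exact fun h => hs1 (congrArg Subtype.val h)
    · exact fun h => ht1 (congrArg Subtype.val h)
    · intro h
      have : s = t := congrArg Subtype.val h
      rw [this, htα] at hsα
      exact hαβ hsα
    · intro h
      have h' : t * t = s := congrArg Subtype.val h
      have : (t * t) • α = α := by rw [mul_smul, htα, htα]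
      rw [h', hsα] at this
      exact hαβ this.symm

end Main

end Cfsg.Agent.Lib.Helper17.Fix2
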