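import Mathlib
import Cfsg.Prelude.Def_Solvable
import Cfsg.Prelude.Def_CaseTheorems
import Cfsg.Agent.Lib.Helper17.Fix2Perm

/-!
# Fixity two, the semiregular case: an index-two subgroup which is a Frobenius group
-/

set_option autoImplicit false
set_option linter.unusedVariables false
set_option linter.unusedSectionVars false
set_option linter.style.haveILetI false
set_option linter.deprecated false

namespace Cfsg.Agent.Lib.Helper17.Fix2

open Subgroup MulAction
open scoped Pointwise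

section Frob

variable {G : Type*} [Group G] [Finite G] {Ω : Type*} [Fintype Ω] [MulAction G Ω]

/-- a sign character which is `-1` on the elements of `S` swapping `α` and `β` -/
theorem exists_sign_hom (S : Sylow 2 G) (α β : Ω) (hαβ : α ≠ β)
    (ht : ∃ t ∈ (S : Subgroup G), t ≠ 1 ∧ t • α = α)
    (hS2 : ∀ s ∈ (S : Subgroup G), (s • α = α ∧ s • β = β) ∨ (s • α = β ∧ s • β = α))
    (hfree : ∀ s ∈ (S : Subgroup G), ∀ q : Ω, q ≠ α → q ≠ β → s • q = q → s = 1) :
    ∃ f : G →* ℤˣ, ∀ s ∈ (S : Subgroup G), s • α = β → f s = -1 := by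
  classical
  haveI : Fact (Nat.Prime 2) := ⟨Nat.prime_two⟩
  have hSp : IsPGroup 2 (S : Subgroup G) := S.isPGroup'
  by_cases hcyc : ∃ x ∈ (S : Subgroup G), ∀ s ∈ (S : Subgroup G), s ∈ zpowers x
  · obtain ⟨x, hxS, hx⟩ := hcyc
    have hSx : (S : Subgroup G) = zpowers x :=
      le_antisymm (fun s hs => hx s hs) (zpowers_le.mpr hxS)
    obtain ⟨k, hk⟩ := IsPGroup.iff_card.mp hSp
    have hox : orderOf x = 2 ^ k := by
      rw [← hk, ← Nat.card_zpowers, ← hSx]
    have hk1 : 1 ≤ k := by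
      obtain ⟨t, htS, ht1, -⟩ := ht
      rcases Nat.eq_zero_or_pos k with h0 | h
      · exfalso
        rw [h0, pow_zero, orderOf_eq_one_iff] at hox
        apply ht1
        have := hx t htS
        rw [hox, zpowers_one_eq_bot, mem_bot] at this
        exact this
      · exact h
    have hodd : Odd (S : Subgroup G).index := by
      rw [← Nat.not_even_iff_odd, even_iff_two_dvd]; exact S.not_dvd_index
    have hidx : (⊥ : Subgroup G).index = 2 ^ k * (S : Subgroup G).index := by
      rw [index_bot, ← hk]; exact ((S : Subgroup G).card_mul_index).symm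
    have hfx : sgnHom (⊥ : Subgroup G) x = -1 :=
      sgnHom_eq_neg_one ⊥ x k _ hk1 hox (fun g j h => by
        rw [mem_bot] at h
        have e : x ^ j = g * (g⁻¹ * x ^ j * g) * g⁻¹ := by group
        rw [e, h]; group) hidx hodd
    refine ⟨sgnHom ⊥, ?_⟩
    intro s hsS hsα
    have hs := hx s hsS
    rw [← mem_powers_iff_mem_zpowers] at hs
    obtain ⟨j, rfl⟩ := (Submonoid.mem_powers_iff _ _).mp hs
    rw [map_pow, hfx]
    rcases Nat.even_or_odd j with ⟨i, hi⟩ | hj
    · exfalso
      have hxi : x ^ i ∈ (S : Subgroup G) := (S : Subgroup G).pow_mem hxS i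
      have : (x ^ j) • α = α := by
        rw [hi, pow_add, mul_smul]
        rcases hS2 _ hxi with h | h
        · rw [h.1, h.1]
        · rw [h.1, h.2]
      exact hαβ (this.symm.trans hsα)
    · exact hj.neg_one_pow
  · push Not at hcyc
    refine ⟨(Equiv.Perm.sign).comp (MulAction.toPermHom G Ω), ?_⟩
    intro s hsS hsα
    have hsβ : s • β = α := by
      rcases hS2 s hsS with h | h
      · exact absurd (h.1.symm.trans hsα) hαβ
      · exact h.2
    obtain ⟨k, hk⟩ : ∃ k, orderOf s = 2 ^ k := by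
      obtain ⟨k, hk⟩ := (IsPGroup.iff_orderOf.mp hSp) ⟨s, hsS⟩
      exact ⟨k, by rw [← hk, Subgroup.orderOf_mk]⟩
    have hk1 : 1 ≤ k := by
      rcases Nat.eq_zero_or_pos k with h0 | h
      · exfalso
        rw [h0, pow_zero, orderOf_eq_one_iff] at hk
        rw [hk, one_smul] at hsα
        exact hαβ hsα
      · exact h
    obtain ⟨e, he⟩ := IsPGroup.iff_card.mp hSp
    have hke : k + 1 ≤ e := by
      have hdvd : 2 ^ k ∣ 2 ^ e := by
        rw [← hk, ← he]
        exact Subgroup.orderOf_dvd_natCard (S : Subgroup G) hsS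
      have hle : k ≤ e := (Nat.pow_dvd_pow_iff_le_right (by norm_num)).mp hdvd
      rcases Nat.lt_or_ge k e with h | h
      · exact h
      · exfalso
        have hek : e = k := le_antisymm h hle
        obtain ⟨s', hs'S, hs'⟩ := hcyc s hsS
        apply hs'
        have hz : zpowers s = (S : Subgroup G) := by
          apply Subgroup.eq_of_le_of_card_ge (zpowers_le.mpr hsS)
          rw [Nat.card_zpowers, hk, he, hek]
        rw [hz]; exact hs'S
    have hdv : Nat.card (S : Subgroup G) ∣ Fintype.card Ω - 2 := by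
      apply free_card_dvd (H := ↥(S : Subgroup G)) α β hαβ
      · intro h
        rcases hS2 h.1 h.2 with h1 | h1
        · exact ⟨Or.inl h1.1, Or.inr h1.2⟩
        · exact ⟨Or.inr h1.1, Or.inl h1.2⟩
      · intro h q hq1 hq2 hh
        exact Subtype.ext (hfree h.1 h.2 q hq1 hq2 hh)
    have hdiv : 2 ^ (k + 1) ∣ Fintype.card Ω - 2 :=
      (pow_dvd_pow 2 hke).trans (he ▸ hdv)
    show Equiv.Perm.sign (MulAction.toPermHom G Ω s) = -1
    exact sign_swap_semireg s α β hαβ hsα hsβ k hk1 hk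
      (fun q hqa hqb j hj => hfree _ ((S : Subgroup G).pow_mem hsS j) q hqa hqb hj) hdiv

/-- the semiregular case: an index-two normal subgroup containing a Frobenius complement -/
theorem exists_frob (htr : IsPretransitive G Ω) [FaithfulSMul G Ω] (hfix3 : Fix3 G Ω)
    (S : Sylow 2 G) (α β : Ω) (hαβ : α ≠ β)
    (ht : ∃ t ∈ (S : Subgroup G), t ≠ 1 ∧ t • α = α)
    (hS2 : ∀ s ∈ (S : Subgroup G), (s • α = α ∧ s • β = β) ∨ (s • α = β ∧ s • β = α))
    (hy : ∃ y ∈ (S : Subgroup G), y • α = β)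
    (hfree : ∀ s ∈ (S : Subgroup G), ∀ q : Ω, q ≠ α → q ≠ β → s • q = q → s = 1) :
    ∃ N : Subgroup G, N.Normal ∧ N.index = 2 ∧
      ∃ H : Subgroup ↥N, Cfsg.IsFrobeniusComplement H := by
  classical
  haveI : Fact (Nat.Prime 2) := ⟨Nat.prime_two⟩
  obtain ⟨f, hf⟩ := exists_sign_hom S α β hαβ ht hS2 hfree
  obtain ⟨y, hyS, hyα⟩ := hy
  have hfy : f y = -1 := hf y hyS hyα
  have hindex : f.ker.index = 2 := index_ker_of_eq_neg_one hfy
  have hT1 : ∀ t ∈ (S : Subgroup G), t • α = α → f t = 1 := by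
    intro t htS htα
    have h1 : f (y * t) = -1 :=
      hf (y * t) ((S : Subgroup G).mul_mem hyS htS) (by rw [mul_smul, htα, hyα])
    rw [map_mul, hfy] at h1
    have : (-1 : ℤˣ) * f t = -1 * 1 := by rw [h1, mul_one]
    exact mul_left_cancel this
  have hSK : (S : Subgroup G) ≤ pairStab (G := G) α β := fun s hs => hS2 s hs
  have hnoswap : ∀ g : G, f g = 1 → g • α = β → g • β = α → False := by
    intro g hfg hgα hgβ
    have hn0 : orderOf g ≠ 0 := (orderOf_pos g).ne'
    obtain ⟨e, m, hm, hem⟩ := Nat.exists_eq_two_pow_mul_odd hn0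
    have hg2pow : (g ^ m) ^ 2 ^ e = 1 := by
      rw [← pow_mul, mul_comm, ← hem, pow_orderOf_eq_one]
    have hsq : ∀ i : ℕ, (g ^ (2 * i)) • α = α ∧ (g ^ (2 * i)) • β = β := by
      intro i
      induction i with
      | zero => simp
      | succ i ih =>
        have e1 : g ^ (2 * (i + 1)) = g ^ (2 * i) * g * g := by
          rw [mul_add, mul_one, pow_add, pow_two, ← mul_assoc]
        rw [e1]
        constructor
        · rw [mul_smul, mul_smul, hgα, hgβ]; exact ih.1
        · rw [mul_smul, mul_smul, hgβ, hgα]; exact ih.2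
    have hg2α : (g ^ m) • α = β ∧ (g ^ m) • β = α := by
      obtain ⟨i, hi⟩ := hm
      have e1 : g ^ m = g ^ (2 * i) * g := by rw [hi, pow_succ]
      rw [e1]
      constructor
      · rw [mul_smul, hgα]; exact (hsq i).2
      · rw [mul_smul, hgβ]; exact (hsq i).1
    have hfg2 : f (g ^ m) = 1 := by rw [map_pow, hfg, one_pow]
    have hP : IsPGroup 2 (zpowers (g ^ m)) := by
      obtain ⟨j, -, hj⟩ := (Nat.dvd_prime_pow Nat.prime_two).mp (orderOf_dvd_of_pow_eq_one hg2pow)
      exact IsPGroup.of_card (n := j) (by rw [Nat.card_zpowers, hj])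
    have hPK : zpowers (g ^ m) ≤ pairStab (G := G) α β := by
      rw [zpowers_le]; exact Or.inr hg2α
    obtain ⟨d, hdK, hd⟩ := exists_conj_mem hP hPK S hSK
    have hg' := hd (g ^ m) (mem_zpowers _)
    have hswap : (d⁻¹ * g ^ m * d) • α = β := by
      rw [mul_smul, mul_smul]
      rcases hdK with h | h
      · rw [h.1, hg2α.1, inv_smul_eq_iff, h.2]
      · rw [h.1, hg2α.2, inv_smul_eq_iff, h.2]
    have h1 := hf _ hg' hswap
    rw [map_mul, map_mul, map_inv, hfg2, mul_one, inv_mul_cancel] at h1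
    exact absurd h1 (by decide)
  refine ⟨f.ker, MonoidHom.normal_ker f, hindex, ?_⟩
  refine ⟨(stabilizer G α ⊓ stabilizer G β).subgroupOf f.ker, ?_, ?_, ?_⟩
  · obtain ⟨t, htS, ht1, htα⟩ := ht
    have htβ : t • β = β := by
      rcases hS2 t htS with h | h
      · exact h.2
      · exact absurd (htα.symm.trans h.1) hαβ
    intro hbot
    have hmem : (⟨t, MonoidHom.mem_ker.mpr (hT1 t htS htα)⟩ : f.ker) ∈
        (stabilizer G α ⊓ stabilizer G β).subgroupOf f.ker := by
      rw [mem_subgroupOf, mem_inf, mem_stabilizer_iff, mem_stabilizer_iff]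
      exact ⟨htα, htβ⟩
    rw [hbot, mem_bot] at hmem
    exact ht1 (congrArg Subtype.val hmem)
  · intro htop
    obtain ⟨t, htS, ht1, htα⟩ := ht
    have htN : t ∈ f.ker := MonoidHom.mem_ker.mpr (hT1 t htS htα)
    apply ht1
    apply FaithfulSMul.eq_of_smul_eq_smul (α := Ω)
    intro ω
    obtain ⟨g, rfl⟩ := MulAction.exists_smul_eq G α ω
    have hconjN : g⁻¹ * t * g ∈ f.ker := by
      have := (MonoidHom.normal_ker f).conj_mem t htN g⁻¹
      simpa using this
    have hmem : (⟨g⁻¹ * t * g, hconjN⟩ : f.ker) ∈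
        (stabilizer G α ⊓ stabilizer G β).subgroupOf f.ker := by
      rw [htop]; exact mem_top _
    rw [mem_subgroupOf, mem_inf, mem_stabilizer_iff] at hmem
    have h1 := hmem.1
    rw [one_smul]
    simp only [mul_smul, inv_smul_eq_iff] at h1
    exact h1
  · intro g hg
    rw [eq_bot_iff]
    intro h hh
    rw [mem_bot]
    by_contra hne
    obtain ⟨hh1, hh2⟩ := mem_inf.mp hh
    rw [mem_pointwise_smul_iff_inv_smul_mem, MulAut.smul_def, MulAut.conj_inv_apply] at hh2
    rw [mem_subgroupOf, mem_inf, mem_stabilizer_iff, mem_stabilizer_iff] at hh1 hh2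
    have hh3 : (h : G) • ((g : G) • α) = (g : G) • α ∧
        (h : G) • ((g : G) • β) = (g : G) • β := by
      obtain ⟨h3a, h3b⟩ := hh2
      simp only [Subgroup.coe_mul, Subgroup.coe_inv, mul_smul, inv_smul_eq_iff] at h3a h3b
      exact ⟨h3a, h3b⟩
    have hh1' : (h : G) ≠ 1 := fun e => hne (Subtype.ext e)
    have hgα : (g : G) • α = α ∨ (g : G) • α = β := by
      by_contra hno
      push Not at hno
      exact hfix3 _ hh1' α β ((g : G) • α) hαβ (Ne.symm hno.1) (Ne.symm hno.2) hh1.1 hh1.2 hh3.1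
    have hgβ : (g : G) • β = α ∨ (g : G) • β = β := by
      by_contra hno
      push Not at hno
      exact hfix3 _ hh1' α β ((g : G) • β) hαβ (Ne.symm hno.1) (Ne.symm hno.2) hh1.1 hh1.2 hh3.2
    rcases hgα with h1 | h1
    · rcases hgβ with h2 | h2
      · exact hαβ (smul_left_cancel (g : G) (h1.trans h2.symm))
      · apply hg
        rw [mem_subgroupOf, mem_inf, mem_stabilizer_iff, mem_stabilizer_iff]
        exact ⟨h1, h2⟩
    · rcases hgβ with h2 | h2
      · exact hnoswap (g : G) (MonoidHom.mem_ker.mp g.2) h1 h2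
      · exact hαβ (smul_left_cancel (g : G) (h1.trans h2.symm))

/-- **Case I.a** -/
theorem case_Ia (htr : IsPretransitive G Ω) [FaithfulSMul G Ω] (hfix3 : Fix3 G Ω)
    (S : Sylow 2 G) (α β : Ω) (hαβ : α ≠ β)
    (ht : ∃ t ∈ (S : Subgroup G), t ≠ 1 ∧ t • α = α)
    (hS2 : ∀ s ∈ (S : Subgroup G), (s • α = α ∧ s • β = β) ∨ (s • α = β ∧ s • β = α))
    (hy : ∃ y ∈ (S : Subgroup G), y • α = β)
    (hrel : ((S : Subgroup G) ⊓ stabilizer G α).relIndex (S : Subgroup G) = 2)
    (hfree : ∀ s ∈ (S : Subgroup G), ∀ q : Ω, q ≠ α → q ≠ β → s • q = q → s = 1) :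
    4 ≤ Nat.card (S : Subgroup G) ∧
      (∃ ω : Ω, Nat.card (MulAction.orbit ↥(S : Subgroup G) ω) = 2 ∧
        ∀ ω' : Ω, ω' ∉ MulAction.orbit ↥(S : Subgroup G) ω →
          Nat.card (MulAction.orbit ↥(S : Subgroup G) ω') = Nat.card (S : Subgroup G)) ∧
      ∃ N : Subgroup G, N.Normal ∧ (N.index = 2 ∨ N.index = Nat.card (S : Subgroup G)) ∧
        (∃ H : Subgroup ↥N, Cfsg.IsFrobeniusComplement H) := by
  refine ⟨?_, ⟨α, ?_, ?_⟩, ?_⟩
  · have e1 := relIndex_mul_card' (inf_le_left :
      (S : Subgroup G) ⊓ stabilizer G α ≤ (S : Subgroup G))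
    rw [hrel] at e1
    have h1 : 1 < Nat.card ((S : Subgroup G) ⊓ stabilizer G α : Subgroup G) := by
      rw [Subgroup.one_lt_card_iff_ne_bot]
      obtain ⟨t, htS, ht1, htα⟩ := ht
      intro hbot
      have : t ∈ ((S : Subgroup G) ⊓ stabilizer G α : Subgroup G) :=
        mem_inf.mpr ⟨htS, mem_stabilizer_iff.mpr htα⟩
      rw [hbot, mem_bot] at this
      exact ht1 this
    omega
  · have hstab : stabilizer ↥(S : Subgroup G) α = (stabilizer G α).subgroupOf (S : Subgroup G) := by
      ext x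
      rw [mem_stabilizer_iff, mem_subgroupOf, mem_stabilizer_iff]
      rfl
    have h1 := MulAction.index_stabilizer ↥(S : Subgroup G) α
    rw [hstab] at h1
    rw [Nat.card_coe_set_eq, ← h1]
    rw [inf_relIndex_left] at hrel
    exact hrel
  · intro ω' hω'
    have hω'α : ω' ≠ α := by
      intro h; apply hω'; rw [h]; exact mem_orbit_self α
    have hω'β : ω' ≠ β := by
      intro h; apply hω'
      obtain ⟨y, hyS, hyα⟩ := hy
      rw [h, ← hyα]
      exact ⟨⟨y, hyS⟩, rfl⟩
    have hstab : stabilizer ↥(S : Subgroup G) ω' = ⊥ := by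
      rw [eq_bot_iff]
      intro x hx
      rw [mem_stabilizer_iff] at hx
      rw [mem_bot]
      exact Subtype.ext (hfree x.1 x.2 ω' hω'α hω'β hx)
    have h1 := MulAction.index_stabilizer ↥(S : Subgroup G) ω'
    rw [hstab, index_bot] at h1
    rw [Nat.card_coe_set_eq, ← h1]
  · obtain ⟨N, hNn, hNi, hH⟩ := exists_frob htr hfix3 S α β hαβ ht hS2 hy hfree
    exact ⟨N, hNn, Or.inl hNi, hH⟩

end Frob

end Cfsg.Agent.Lib.Helper17.Fix2
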