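import Mathlib

/-! # S2863 (non-`p`-elements of `L ∈ 𝔏_G(Y_M)` act fixed-point-freely on `O_p(L)/C_{Y_M}(L)`)

The quotient-level property `TwoRootProp` used by the farm-out of S2863. -/

set_option autoImplicit false

namespace Cfsg.Agent.Lib.Helper17.Fpf

/-- `TwoRootProp p Y` (for a subgroup `Y` of a group `X`; in use `X = L/O_p(L)` and `Y` the image of
`Y_M`): every element `x` of `X` whose order is not a power of `p` has a power `x ^ n` such that
`x ^ n * y₀` (with `y₀ ∈ Y`, and `y₀ = 1` unless `x ^ n` is central) is conjugate to a product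
`y * (g * y' * g⁻¹)` of two nontrivial elements of two *different* conjugates `Y`, `g Y g⁻¹` of `Y`. -/
def TwoRootProp (p : ℕ) {X : Type*} [Group X] (Y : Subgroup X) : Prop :=
  ∀ x : X, (¬ ∃ k : ℕ, orderOf x = p ^ k) →
    ∃ (n : ℕ) (y₀ s g y y' : X), y₀ ∈ Y ∧ (y₀ = 1 ∨ x ^ n ∈ Subgroup.center X) ∧
      y ∈ Y ∧ y ≠ 1 ∧ y' ∈ Y ∧ y' ≠ 1 ∧ g ∉ Subgroup.normalizer (Y : Set X) ∧
      x ^ n * y₀ = s * (y * (g * y' * g⁻¹)) * s⁻¹

end Cfsg.Agent.Lib.Helper17.Fpf
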