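import Mathlib
import Cfsg.Agent.Lib.Helper17.Conj
import Cfsg.Agent.Lib.Helper17.FpfDefs

/-! # S2863: the abstract core

`Λ` a finite group, `Y` an abelian `p`-subgroup, `A = O_p(Λ)`, with the `𝔏`-axioms. For two different
conjugates `Y`, `Y' = gYg⁻¹`: `A = (Y ∩ A)(Y' ∩ A)`, and products `y * y'` of elements of `Y ∖ A`,
`Y' ∖ A` act fixed-point-freely on `A / (Y ∩ Z(Λ))`. -/

set_option autoImplicit false
set_option linter.unusedSectionVars false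
set_option linter.style.haveILetI false

namespace Cfsg.Agent.Lib.Helper17.Fpf

open Cfsg.Agent.Lib.Helper17

variable {Λ : Type*} [Group Λ]

/-- the conjugate subgroup `l Y l⁻¹` -/
abbrev cj (l : Λ) (Y : Subgroup Λ) : Subgroup Λ := Y.map (MulAut.conj l).toMonoidHom

theorem mem_cj {Y : Subgroup Λ} {l x : Λ} : x ∈ cj l Y ↔ l⁻¹ * x * l ∈ Y := mem_map_conj

theorem conj_mem_cj {Y : Subgroup Λ} {l y : Λ} (hy : y ∈ Y) : l * y * l⁻¹ ∈ cj l Y :=
  conj_mem_map_conj hy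

theorem cj_cj (a b : Λ) (Y : Subgroup Λ) : cj a (cj b Y) = cj (a * b) Y := by
  ext x
  rw [mem_cj, mem_cj, mem_cj]
  have : b⁻¹ * (a⁻¹ * x * a) * b = (a * b)⁻¹ * x * (a * b) := by group
  rw [this]

theorem cj_one (Y : Subgroup Λ) : cj 1 Y = Y := by
  ext x
  rw [mem_cj]
  simp

theorem cj_mono {Y Y' : Subgroup Λ} (h : Y ≤ Y') (l : Λ) : cj l Y ≤ cj l Y' :=
  Subgroup.map_mono h

theorem cj_normal (N : Subgroup Λ) [hN : N.Normal] (l : Λ) : cj l N = N := by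
  ext x
  rw [mem_cj]
  constructor
  · intro h
    have := hN.conj_mem _ h l
    have e : l * (l⁻¹ * x * l) * l⁻¹ = x := by group
    rwa [e] at this
  · intro h
    have := hN.conj_mem _ h l⁻¹
    rwa [inv_inv] at this

theorem cj_inf (l : Λ) (Y N : Subgroup Λ) : cj l (Y ⊓ N) = cj l Y ⊓ cj l N := by
  ext x
  simp only [mem_cj, Subgroup.mem_inf]

theorem normalizer_cj (l : Λ) (Y : Subgroup Λ) :
    Subgroup.normalizer ((cj l Y : Subgroup Λ) : Set Λ) = cj l (Subgroup.normalizer (Y : Set Λ)) :=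
  (Subgroup.map_equiv_normalizer_eq Y (MulAut.conj l)).symm

theorem cj_top (l : Λ) : cj l (⊤ : Subgroup Λ) = ⊤ := by
  ext x
  rw [mem_cj]
  simp

theorem cj_inv_cj (l : Λ) (Y : Subgroup Λ) : cj l⁻¹ (cj l Y) = Y := by
  rw [cj_cj, inv_mul_cancel, cj_one]

theorem cj_cj_inv (l : Λ) (Y : Subgroup Λ) : cj l (cj l⁻¹ Y) = Y := by
  rw [cj_cj, mul_inv_cancel, cj_one]

theorem cj_le_iff {l : Λ} {Y X : Subgroup Λ} : cj l Y ≤ X ↔ Y ≤ cj l⁻¹ X := by
  constructor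
  · intro h
    have := cj_mono h l⁻¹
    rwa [cj_inv_cj] at this
  · intro h
    have := cj_mono h l
    rwa [cj_cj_inv] at this

theorem le_cj_iff {l : Λ} {Y X : Subgroup Λ} : X ≤ cj l Y ↔ cj l⁻¹ X ≤ Y := by
  rw [cj_le_iff, inv_inv]

theorem normalClosure_cj (l : Λ) (Y : Subgroup Λ) :
    Subgroup.normalClosure ((cj l Y : Subgroup Λ) : Set Λ) = Subgroup.normalClosure (Y : Set Λ) := by
  apply le_antisymm
  · apply Subgroup.normalClosure_le_normal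
    intro x hx
    rw [SetLike.mem_coe, mem_cj] at hx
    have h1 : l⁻¹ * x * l ∈ Subgroup.normalClosure (Y : Set Λ) := Subgroup.subset_normalClosure hx
    have h2 := (Subgroup.normalClosure_normal (s := (Y : Set Λ))).conj_mem _ h1 l
    have e : l * (l⁻¹ * x * l) * l⁻¹ = x := by group
    rwa [e] at h2
  · apply Subgroup.normalClosure_le_normal
    intro y hy
    have h1 : l * y * l⁻¹ ∈ Subgroup.normalClosure ((cj l Y : Subgroup Λ) : Set Λ) :=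
      Subgroup.subset_normalClosure (conj_mem_cj hy)
    have h2 := (Subgroup.normalClosure_normal (s := ((cj l Y : Subgroup Λ) : Set Λ))).conj_mem _ h1 l⁻¹
    have e : l⁻¹ * (l * y * l⁻¹) * l⁻¹⁻¹ = y := by group
    rwa [e] at h2

/-- the commutator `x a x⁻¹ a⁻¹` -/
abbrev cm (x a : Λ) : Λ := x * a * x⁻¹ * a⁻¹

theorem cm_eq_one_of_commute {x a : Λ} (h : x * a = a * x) : cm x a = 1 := by
  unfold cm
  rw [h]; group

theorem cm_mul_left (x y a : Λ) : cm (x * y) a = x * cm y a * x⁻¹ * cm x a := by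
  unfold cm; group

theorem cm_inv_left (x a : Λ) : cm x⁻¹ a = x⁻¹ * (cm x a)⁻¹ * x := by
  unfold cm; group

theorem cm_mul_right (x a b : Λ) : cm x (a * b) = cm x a * a * cm x b * a⁻¹ := by
  unfold cm; group

theorem cm_conj (l x a : Λ) : cm (l * x * l⁻¹) a = l * cm x (l⁻¹ * a * l) * l⁻¹ := by
  unfold cm; group

/-- for a central subgroup `C` and a set `S`: the subgroup of all `x` with `[x, a] ∈ C` for `a ∈ S` -/
def commSub (C : Subgroup Λ) (hC : C ≤ Subgroup.center Λ) (S : Set Λ) : Subgroup Λ where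
  carrier := {x | ∀ a ∈ S, cm x a ∈ C}
  one_mem' := by
    intro a _
    have : cm (1 : Λ) a = 1 := by unfold cm; group
    rw [this]; exact C.one_mem
  mul_mem' := by
    intro x y hx hy a ha
    rw [cm_mul_left]
    have h1 := hy a ha
    have h2 : x * cm y a * x⁻¹ = cm y a := by
      have := (Subgroup.mem_center_iff.1 (hC h1)) x
      rw [this]; group
    rw [h2]
    exact C.mul_mem h1 (hx a ha)
  inv_mem' := by
    intro x hx a ha
    rw [cm_inv_left]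
    have h1 := C.inv_mem (hx a ha)
    have h2 : x⁻¹ * (cm x a)⁻¹ * x = (cm x a)⁻¹ := by
      have := (Subgroup.mem_center_iff.1 (hC h1)) x⁻¹
      rw [this]; group
    rw [h2]
    exact h1

theorem mem_commSub {C : Subgroup Λ} {hC : C ≤ Subgroup.center Λ} {S : Set Λ} {x : Λ} :
    x ∈ commSub C hC S ↔ ∀ a ∈ S, cm x a ∈ C := Iff.rfl

/-- the `𝔏`-axioms -/
structure Setup (p : ℕ) (Y A : Subgroup Λ) : Prop where
  hYc : ∀ a ∈ Y, ∀ b ∈ Y, a * b = b * a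
  hYp : IsPGroup p Y
  hAn : A.Normal
  hAp : IsPGroup p A
  hAmax : ∀ N : Subgroup Λ, N.Normal → IsPGroup p N → N ≤ A
  hCA : Subgroup.centralizer (A : Set Λ) ≤ A
  hAY : A ≤ Subgroup.normalizer (Y : Set Λ)
  hgen : Subgroup.normalClosure ((Y ⊓ A : Subgroup Λ) : Set Λ) = A
  hYgen : Subgroup.normalClosure (Y : Set Λ) = ⊤
  hmax : ∀ X : Subgroup Λ, Y ≤ X → X ≠ ⊤ → X ≤ Subgroup.normalizer (Y : Set Λ)
  hYA : ¬ Y ≤ A

namespace Setup

variable {p : ℕ} {Y A : Subgroup Λ}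

theorem conj (S : Setup p Y A) (l : Λ) : Setup p (cj l Y) A := by
  haveI := S.hAn
  refine ⟨?_, ?_, S.hAn, S.hAp, S.hAmax, S.hCA, ?_, ?_, ?_, ?_, ?_⟩
  · rintro _ ⟨a, ha, rfl⟩ _ ⟨b, hb, rfl⟩
    simp only [MulEquiv.coe_toMonoidHom]
    rw [← map_mul, ← map_mul, S.hYc a ha b hb]
  · exact S.hYp.map _
  · rw [normalizer_cj]
    have := cj_mono S.hAY l
    rwa [cj_normal A l] at this
  · have : (cj l Y ⊓ A : Subgroup Λ) = cj l (Y ⊓ A) := by
      rw [cj_inf, cj_normal A l]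
    rw [this, normalClosure_cj, S.hgen]
  · rw [normalClosure_cj, S.hYgen]
  · intro X hYX hX
    rw [normalizer_cj, le_cj_iff]
    apply S.hmax
    · have := cj_mono hYX l⁻¹
      rwa [cj_inv_cj] at this
    · intro h
      apply hX
      have := congrArg (cj l) h
      rwa [cj_cj_inv, cj_top] at this
  · intro h
    apply S.hYA
    have := cj_le_iff.1 h
    rwa [cj_normal A l⁻¹] at this

/-- `C = Y ∩ Z(Λ)` -/
abbrev C (_S : Setup p Y A) : Subgroup Λ := Y ⊓ Subgroup.center Λ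

theorem C_le_center (S : Setup p Y A) : S.C ≤ Subgroup.center Λ := inf_le_right

theorem C_le_A (S : Setup p Y A) : S.C ≤ A := by
  apply S.hAmax
  · constructor
    intro n hn g
    have : g * n * g⁻¹ = n := by
      have := (Subgroup.mem_center_iff.1 hn.2) g
      rw [this]; group
    rw [this]; exact hn
  · exact S.hYp.to_le inf_le_left

theorem C_conj (S : Setup p Y A) (l : Λ) : (S.conj l).C = S.C := by
  ext x
  simp only [Subgroup.mem_inf]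
  constructor
  · rintro ⟨h1, h2⟩
    refine ⟨?_, h2⟩
    rw [mem_cj] at h1
    have : l⁻¹ * x * l = x := by
      have := (Subgroup.mem_center_iff.1 h2) l⁻¹
      rw [this]; group
    rwa [this] at h1
  · rintro ⟨h1, h2⟩
    refine ⟨?_, h2⟩
    rw [mem_cj]
    have : l⁻¹ * x * l = x := by
      have := (Subgroup.mem_center_iff.1 h2) l⁻¹
      rw [this]; group
    rwa [this]

theorem C_le_cj (S : Setup p Y A) (l : Λ) : S.C ≤ cj l Y := by
  rw [← S.C_conj l]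
  exact inf_le_left

variable [Finite Λ]

theorem normalizer_ne_top (S : Setup p Y A) : Subgroup.normalizer (Y : Set Λ) ≠ ⊤ := by
  intro h
  apply S.hYA
  apply S.hAmax _ _ S.hYp
  exact Subgroup.normalizer_eq_top_iff.1 h

/-- two different conjugates generate `Λ` -/
theorem sup_eq_top (S : Setup p Y A) {g : Λ} (hg : g ∉ Subgroup.normalizer (Y : Set Λ)) :
    Y ⊔ cj g Y = ⊤ := by
  by_contra hne
  have h1 : Y ⊔ cj g Y ≤ Subgroup.normalizer (Y : Set Λ) := S.hmax _ le_sup_left hne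
  have h2 : Y ⊔ cj g Y ≤ Subgroup.normalizer ((cj g Y : Subgroup Λ) : Set Λ) :=
    (S.conj g).hmax _ le_sup_right hne
  -- N(Y) ≤ N(gYg⁻¹) and conversely
  have h3 : Subgroup.normalizer (Y : Set Λ) ≤ Subgroup.normalizer ((cj g Y : Subgroup Λ) : Set Λ) :=
    (S.conj g).hmax _ (le_sup_right.trans h1) S.normalizer_ne_top
  have h4 : Subgroup.normalizer ((cj g Y : Subgroup Λ) : Set Λ) ≤ Subgroup.normalizer (Y : Set Λ) :=
    S.hmax _ (le_sup_left.trans h2) (S.conj g).normalizer_ne_top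
  have h5 : cj g (Subgroup.normalizer (Y : Set Λ)) = Subgroup.normalizer (Y : Set Λ) := by
    rw [← normalizer_cj]
    exact le_antisymm h4 h3
  have h6 : g ∈ Subgroup.normalizer ((Subgroup.normalizer (Y : Set Λ) : Subgroup Λ) : Set Λ) :=
    mem_normalizer_of_map_conj_eq h5
  -- N(N(Y)) is proper or everything
  by_cases h7 : Subgroup.normalizer ((Subgroup.normalizer (Y : Set Λ) : Subgroup Λ) : Set Λ) = ⊤
  · have hn : (Subgroup.normalizer (Y : Set Λ)).Normal := Subgroup.normalizer_eq_top_iff.1 h7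
    have : Subgroup.normalClosure (Y : Set Λ) ≤ Subgroup.normalizer (Y : Set Λ) :=
      Subgroup.normalClosure_le_normal (fun y hy => Subgroup.le_normalizer hy)
    rw [S.hYgen] at this
    exact S.normalizer_ne_top (top_le_iff.1 this)
  · exact hg (S.hmax _ (Subgroup.le_normalizer.trans Subgroup.le_normalizer) h7 h6)

/-- `Y ∩ gYg⁻¹ ≤ Z(Λ)` -/
theorem inf_cj_le_C (S : Setup p Y A) {g : Λ} (hg : g ∉ Subgroup.normalizer (Y : Set Λ)) :
    Y ⊓ cj g Y ≤ S.C := by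
  intro x hx
  refine ⟨hx.1, ?_⟩
  have h1 : Y ⊔ cj g Y ≤ Subgroup.centralizer ({x} : Set Λ) := by
    apply sup_le
    · intro y hy
      rw [Subgroup.mem_centralizer_singleton_iff]
      exact S.hYc y hy x hx.1
    · intro y hy
      rw [Subgroup.mem_centralizer_singleton_iff]
      exact (S.conj g).hYc y hy x hx.2
  rw [S.sup_eq_top hg] at h1
  show x ∈ Subgroup.center Λ
  rw [Subgroup.mem_center_iff]
  intro l
  have := h1 (Subgroup.mem_top l)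
  rw [Subgroup.mem_centralizer_singleton_iff] at this
  exact this

/-- `[A, Y] ≤ Y ∩ A` -/
theorem cm_mem_D (S : Setup p Y A) {y a : Λ} (hy : y ∈ Y) (ha : a ∈ A) : cm y a ∈ Y ⊓ A := by
  haveI := S.hAn
  constructor
  · have h1 : a * y⁻¹ * a⁻¹ ∈ Y := by
      have := (Subgroup.mem_normalizer_iff.1 (S.hAY ha)) y⁻¹
      exact this.1 (Y.inv_mem hy)
    have : cm y a = y * (a * y⁻¹ * a⁻¹) := by unfold cm; group
    rw [this]
    exact Y.mul_mem hy h1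
  · have h1 : y * a * y⁻¹ ∈ A := S.hAn.conj_mem a ha y
    exact A.mul_mem h1 (A.inv_mem ha)

theorem cm_mem_D' (S : Setup p Y A) {y a : Λ} (hy : y ∈ Y) (ha : a ∈ A) : cm a y ∈ Y ⊓ A := by
  have h := S.cm_mem_D hy ha
  have : cm a y = (cm y a)⁻¹ := by unfold cm; group
  rw [this]
  exact (Y ⊓ A).inv_mem h


theorem le_normalizer_sup (S : Setup p Y A) {E : Subgroup Λ} (hE : E ≤ A) :
    Y ≤ Subgroup.normalizer (((Y ⊓ A) ⊔ E : Subgroup Λ) : Set Λ) := by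
  haveI := S.hAn
  intro y hy
  apply mem_normalizer_of_map_conj_le
  rw [Subgroup.map_sup]
  apply sup_le
  · intro x hx
    have hx' : y⁻¹ * x * y ∈ Y ⊓ A := mem_cj.1 hx
    apply Subgroup.mem_sup_left
    have e : x = y * (y⁻¹ * x * y) * y⁻¹ := by group
    rw [e]
    exact ⟨Y.mul_mem (Y.mul_mem hy hx'.1) (Y.inv_mem hy), S.hAn.conj_mem _ hx'.2 y⟩
  · intro x hx
    have hx' : y⁻¹ * x * y ∈ E := mem_cj.1 hx
    have e : x = cm y (y⁻¹ * x * y) * (y⁻¹ * x * y) := by unfold cm; group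
    rw [e]
    exact Subgroup.mul_mem _ (Subgroup.mem_sup_left (S.cm_mem_D hy (hE hx')))
      (Subgroup.mem_sup_right hx')

end Setup

/-- two "opposite" conjugates -/
structure Pair (p : ℕ) (Y Y' A : Subgroup Λ) : Prop where
  S : Setup p Y A
  S' : Setup p Y' A
  hsup : Y ⊔ Y' = ⊤
  hinf : Y ⊓ Y' ≤ Y ⊓ Subgroup.center Λ
  hCeq : Y ⊓ Subgroup.center Λ = Y' ⊓ Subgroup.center Λ

namespace Pair

variable {p : ℕ} {Y Y' A : Subgroup Λ}

theorem symm (P : Pair p Y Y' A) : Pair p Y' Y A where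
  S := P.S'
  S' := P.S
  hsup := by rw [sup_comm]; exact P.hsup
  hinf := by rw [inf_comm, ← P.hCeq]; exact P.hinf
  hCeq := P.hCeq.symm

theorem of_setup [Finite Λ] (S : Setup p Y A) {g : Λ}
    (hg : g ∉ Subgroup.normalizer (Y : Set Λ)) : Pair p Y (cj g Y) A where
  S := S
  S' := S.conj g
  hsup := S.sup_eq_top hg
  hinf := S.inf_cj_le_C hg
  hCeq := (S.C_conj g).symm

/-- `C` -/
abbrev C (_P : Pair p Y Y' A) : Subgroup Λ := Y ⊓ Subgroup.center Λ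

theorem C_le_center (P : Pair p Y Y' A) : P.C ≤ Subgroup.center Λ := inf_le_right

theorem C_comm (P : Pair p Y Y' A) {c : Λ} (hc : c ∈ P.C) (x : Λ) : x * c = c * x :=
  (Subgroup.mem_center_iff.1 hc.2) x

theorem C_conj_eq (P : Pair p Y Y' A) {c : Λ} (hc : c ∈ P.C) (x : Λ) : x * c * x⁻¹ = c := by
  rw [P.C_comm hc x]; group

theorem C_conj_eq' (P : Pair p Y Y' A) {c : Λ} (hc : c ∈ P.C) (x : Λ) : c * x * c⁻¹ = x := by
  rw [← P.C_comm hc x]; group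

theorem C_le_A (P : Pair p Y Y' A) : P.C ≤ A := P.S.C_le_A

theorem C_le_D (P : Pair p Y Y' A) : P.C ≤ Y ⊓ A := le_inf inf_le_left P.C_le_A

theorem C_le_D' (P : Pair p Y Y' A) : P.C ≤ Y' ⊓ A := by
  refine le_inf ?_ P.C_le_A
  show Y ⊓ Subgroup.center Λ ≤ Y'
  rw [P.hCeq]; exact inf_le_left

theorem D_inf_D' (P : Pair p Y Y' A) : (Y ⊓ A) ⊓ (Y' ⊓ A) ≤ P.C := by
  intro x hx
  exact P.hinf ⟨hx.1.1, hx.2.1⟩

variable [Finite Λ]

theorem A_le_sup (P : Pair p Y Y' A) : A ≤ (Y ⊓ A) ⊔ (Y' ⊓ A) := by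
  have h1 : Y ≤ Subgroup.normalizer ((((Y ⊓ A) ⊔ (Y' ⊓ A) : Subgroup Λ)) : Set Λ) :=
    P.S.le_normalizer_sup inf_le_right
  have h2 : Y' ≤ Subgroup.normalizer ((((Y ⊓ A) ⊔ (Y' ⊓ A) : Subgroup Λ)) : Set Λ) := by
    have := P.S'.le_normalizer_sup (E := Y ⊓ A) inf_le_right
    rwa [sup_comm] at this
  haveI hn : ((Y ⊓ A) ⊔ (Y' ⊓ A) : Subgroup Λ).Normal :=
    normal_of_le_normalizer_of_sup_eq_top h1 h2 P.hsup
  have h3 : Subgroup.normalClosure ((Y ⊓ A : Subgroup Λ) : Set Λ) ≤ (Y ⊓ A) ⊔ (Y' ⊓ A) :=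
    Subgroup.normalClosure_le_normal (fun x hx => Subgroup.mem_sup_left hx)
  rwa [P.S.hgen] at h3

/-- `A = D D'` -/
theorem dec (P : Pair p Y Y' A) {a : Λ} (ha : a ∈ A) :
    ∃ d ∈ Y ⊓ A, ∃ d' ∈ Y' ⊓ A, a = d * d' := by
  have key : ∀ x ∈ (Y ⊓ A) ⊔ (Y' ⊓ A), ∃ d ∈ Y ⊓ A, ∃ d' ∈ Y' ⊓ A, x = d * d' := by
    intro x hx
    rw [Subgroup.sup_eq_closure] at hx
    induction hx using Subgroup.closure_induction with
    | mem x hx =>
      rcases hx with hx | hx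
      · exact ⟨x, hx, 1, Subgroup.one_mem _, (mul_one x).symm⟩
      · exact ⟨1, Subgroup.one_mem _, x, hx, (one_mul x).symm⟩
    | one => exact ⟨1, Subgroup.one_mem _, 1, Subgroup.one_mem _, (mul_one 1).symm⟩
    | mul x y _ _ hx hy =>
      obtain ⟨d₁, hd₁, d₁', hd₁', rfl⟩ := hx
      obtain ⟨d₂, hd₂, d₂', hd₂', rfl⟩ := hy
      refine ⟨d₁ * (cm d₁' d₂ * d₂), ?_, d₁' * d₂', Subgroup.mul_mem _ hd₁' hd₂', ?_⟩
      · exact Subgroup.mul_mem _ hd₁ (Subgroup.mul_mem _ (P.S.cm_mem_D' hd₂.1 hd₁'.2) hd₂)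
      · unfold cm; group
    | inv x _ hx =>
      obtain ⟨d, hd, d', hd', rfl⟩ := hx
      refine ⟨cm d'⁻¹ d⁻¹ * d⁻¹, ?_, d'⁻¹, Subgroup.inv_mem _ hd', ?_⟩
      · exact Subgroup.mul_mem _ (P.S.cm_mem_D' (Y.inv_mem hd.1) (A.inv_mem hd'.2))
          (Subgroup.inv_mem _ hd)
      · unfold cm; group
  exact key a (P.A_le_sup ha)

/-- `[D, A] ≤ C` -/
theorem cm_D_A (P : Pair p Y Y' A) {d b : Λ} (hd : d ∈ Y ⊓ A) (hb : b ∈ A) : cm d b ∈ P.C := by
  obtain ⟨d₂, hd₂, d₂', hd₂', rfl⟩ := P.dec hb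
  rw [cm_mul_right]
  have h1 : cm d d₂ = 1 := by
    unfold cm
    rw [P.S.hYc d hd.1 d₂ hd₂.1]; group
  have h2 : cm d d₂' ∈ P.C := by
    apply P.D_inf_D'
    exact ⟨P.S.cm_mem_D hd.1 hd₂'.2, P.S'.cm_mem_D' hd₂'.1 hd.2⟩
  rw [h1, one_mul, P.C_conj_eq h2]
  exact h2

/-- `A / C` is abelian -/
theorem cm_A_A (P : Pair p Y Y' A) {a b : Λ} (ha : a ∈ A) (hb : b ∈ A) : cm a b ∈ P.C := by
  obtain ⟨d, hd, d', hd', rfl⟩ := P.dec ha
  rw [cm_mul_left]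
  have h1 : cm d' b ∈ P.C := by
    have := P.symm.cm_D_A hd' hb
    show cm d' b ∈ Y ⊓ Subgroup.center Λ
    rw [P.hCeq]; exact this
  rw [P.C_conj_eq h1]
  exact Subgroup.mul_mem _ h1 (P.cm_D_A hd hb)

/-- the kernel of the action on `A / C` lies in `A` -/
theorem commSub_le_A (P : Pair p Y Y' A) [Fact p.Prime] :
    commSub P.C P.C_le_center (A : Set Λ) ≤ A := by
  haveI := P.S.hAn
  have hp : p.Prime := Fact.out
  apply P.S.hAmax
  · constructor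
    intro x hx l a ha
    rw [cm_conj]
    have h1 : cm x (l⁻¹ * a * l) ∈ P.C := by
      apply hx
      have := P.S.hAn.conj_mem a ha l⁻¹
      rwa [inv_inv] at this
    rw [P.C_conj_eq h1]
    exact h1
  · rintro ⟨x, hx⟩
    have hn : orderOf x ≠ 0 := (orderOf_pos x).ne'
    obtain ⟨k, n', hpn', hn'⟩ := Nat.exists_eq_pow_mul_and_not_dvd hn p hp.ne_one
    -- x' = x ^ (p ^ k) centralizes A
    have hx' : x ^ (p ^ k) ∈ commSub P.C P.C_le_center (A : Set Λ) := Subgroup.pow_mem _ hx _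
    have hcent : x ^ (p ^ k) ∈ Subgroup.centralizer (A : Set Λ) := by
      rw [Subgroup.mem_centralizer_iff]
      intro a ha
      have hc : cm (x ^ (p ^ k)) a ∈ P.C := hx' a ha
      have key : ∀ j : ℕ, (x ^ (p ^ k)) ^ j * a * ((x ^ (p ^ k)) ^ j)⁻¹ =
          (cm (x ^ (p ^ k)) a) ^ j * a := by
        intro j
        induction j with
        | zero => simp
        | succ j ih =>
          have e1 : (x ^ (p ^ k)) ^ (j + 1) * a * ((x ^ (p ^ k)) ^ (j + 1))⁻¹ =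
              x ^ (p ^ k) * ((x ^ (p ^ k)) ^ j * a * ((x ^ (p ^ k)) ^ j)⁻¹) * (x ^ (p ^ k))⁻¹ := by
            rw [pow_succ']; group
          rw [e1, ih]
          have hcj : (cm (x ^ (p ^ k)) a) ^ j ∈ P.C := Subgroup.pow_mem _ hc j
          have e2 : x ^ (p ^ k) * ((cm (x ^ (p ^ k)) a) ^ j * a) * (x ^ (p ^ k))⁻¹ =
              (x ^ (p ^ k) * (cm (x ^ (p ^ k)) a) ^ j) * a * (x ^ (p ^ k))⁻¹ := by group
          rw [e2, P.C_comm hcj, pow_succ]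
          unfold cm; group
      have h1 : (cm (x ^ (p ^ k)) a) ^ n' = 1 := by
        have := key n'
        rw [← pow_mul, ← hn', pow_orderOf_eq_one] at this
        simp only [one_mul, inv_one, mul_one] at this
        have h2 : (cm (x ^ (p ^ k)) a) ^ n' * a = 1 * a := by rw [one_mul]; exact this.symm
        exact mul_right_cancel h2
      obtain ⟨i, hi⟩ := (P.S.hAp.to_le P.C_le_A) ⟨_, hc⟩
      have h3 : orderOf (cm (x ^ (p ^ k)) a) ∣ n' := orderOf_dvd_of_pow_eq_one h1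
      have h4 : orderOf (cm (x ^ (p ^ k)) a) ∣ p ^ i := by
        apply orderOf_dvd_of_pow_eq_one
        have := congrArg Subtype.val hi
        simpa using this
      have hcop : Nat.Coprime (p ^ i) n' :=
        Nat.Coprime.pow_left i ((Nat.Prime.coprime_iff_not_dvd hp).2 hpn')
      have h5 : cm (x ^ (p ^ k)) a = 1 := by
        rw [← orderOf_eq_one_iff]
        exact Nat.eq_one_of_dvd_coprimes hcop h4 h3
      have : x ^ (p ^ k) * a * (x ^ (p ^ k))⁻¹ * a⁻¹ = 1 := h5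
      have e3 : a * x ^ (p ^ k) = (x ^ (p ^ k) * a * (x ^ (p ^ k))⁻¹ * a⁻¹)⁻¹ * (x ^ (p ^ k) * a) := by
        group
      rw [e3, this, inv_one, one_mul]
    have hA : x ^ (p ^ k) ∈ A := P.S.hCA hcent
    obtain ⟨i, hi⟩ := P.S.hAp ⟨_, hA⟩
    refine ⟨k + i, ?_⟩
    apply Subtype.ext
    have : (x ^ (p ^ k)) ^ (p ^ i) = 1 := by
      have := congrArg Subtype.val hi
      simpa using this
    simp only [Subgroup.coe_pow, Subgroup.coe_one]
    rw [pow_add, pow_mul, this]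


/-- an element of `Y'` normalizing `Y` lies in `A` -/
theorem mem_A_of_mem_normalizer (P : Pair p Y Y' A) [Fact p.Prime] {y' : Λ} (hy' : y' ∈ Y')
    (hn : y' ∈ Subgroup.normalizer (Y : Set Λ)) : y' ∈ A := by
  haveI := P.S.hAn
  apply P.commSub_le_A
  intro a ha
  obtain ⟨d, hd, d', hd', rfl⟩ := P.dec ha
  rw [cm_mul_right]
  have h1 : cm y' d' = 1 := by
    unfold cm
    rw [P.S'.hYc y' hy' d' hd'.1]; group
  rw [h1]
  have h2 : cm y' d * d * 1 * d⁻¹ = cm y' d := by group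
  rw [h2]
  apply P.D_inf_D'
  refine ⟨⟨?_, ?_⟩, P.S'.cm_mem_D hy' hd.2⟩
  · have h3 : y' * d * y'⁻¹ ∈ Y := ((Subgroup.mem_normalizer_iff.1 hn) d).1 hd.1
    exact Y.mul_mem h3 (Y.inv_mem hd.1)
  · exact A.mul_mem (P.S.hAn.conj_mem d hd.2 y') (A.inv_mem hd.2)

/-- single root elements act faithfully on the opposite `D` modulo `C` -/
theorem mem_C_of_cm_mem (P : Pair p Y Y' A) [Fact p.Prime] {y' d : Λ} (hy' : y' ∈ Y')
    (hy'A : y' ∉ A) (hd : d ∈ Y ⊓ A) (hc : cm y' d ∈ P.C) : d ∈ P.C := by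
  have hYK : Y ≤ commSub P.C P.C_le_center ({d} : Set Λ) := by
    intro y hy a ha
    rw [Set.mem_singleton_iff] at ha
    subst ha
    have : cm y a = 1 := by
      unfold cm
      rw [P.S.hYc y hy a hd.1]; group
    rw [this]; exact Subgroup.one_mem _
  have hy'K : y' ∈ commSub P.C P.C_le_center ({d} : Set Λ) := by
    intro a ha
    rw [Set.mem_singleton_iff] at ha
    subst ha
    exact hc
  by_cases hK : commSub P.C P.C_le_center ({d} : Set Λ) = ⊤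
  · -- `d` is central
    have hall : ∀ l : Λ, cm l d ∈ P.C := by
      intro l
      have : l ∈ commSub P.C P.C_le_center ({d} : Set Λ) := by rw [hK]; exact Subgroup.mem_top l
      exact this d rfl
    have hnorm : (Subgroup.centralizer ({d} : Set Λ)).Normal := by
      constructor
      intro x hx l
      rw [Subgroup.mem_centralizer_singleton_iff] at hx ⊢
      obtain ⟨c, hcC, hcdef⟩ : ∃ c ∈ P.C, l⁻¹ * d * l = c * d :=
        ⟨cm l⁻¹ d, hall l⁻¹, by unfold cm; group⟩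
      have h2 := P.C_comm hcC x
      have e2 : l * x * l⁻¹ * d = l * (x * (l⁻¹ * d * l)) * l⁻¹ := by group
      have e3 : d * (l * x * l⁻¹) = l * ((l⁻¹ * d * l) * x) * l⁻¹ := by group
      rw [e2, e3, hcdef]
      have e4 : x * (c * d) = c * d * x := by
        rw [← mul_assoc, h2, mul_assoc, hx, mul_assoc]
      rw [e4]
    have hle : Subgroup.normalClosure (Y : Set Λ) ≤ Subgroup.centralizer ({d} : Set Λ) := by
      apply Subgroup.normalClosure_le_normal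
      intro y hy
      rw [SetLike.mem_coe, Subgroup.mem_centralizer_singleton_iff]
      exact P.S.hYc y hy d hd.1
    rw [P.S.hYgen] at hle
    refine ⟨hd.1, ?_⟩
    show d ∈ Subgroup.center Λ
    rw [Subgroup.mem_center_iff]
    intro l
    have := hle (Subgroup.mem_top l)
    rwa [Subgroup.mem_centralizer_singleton_iff] at this
  · exfalso
    apply hy'A
    exact P.mem_A_of_mem_normalizer hy' (P.S.hmax _ hYK hK hy'K)

/-- products of two opposite root elements act fixed-point-freely on `A / C` -/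
theorem mem_C_of_cm_mul_mem (P : Pair p Y Y' A) [Fact p.Prime] {y y' a : Λ} (hy : y ∈ Y)
    (hyA : y ∉ A) (hy' : y' ∈ Y') (hy'A : y' ∉ A) (ha : a ∈ A) (hc : cm (y * y') a ∈ P.C) :
    a ∈ P.C := by
  obtain ⟨d, hd, d', hd', rfl⟩ := P.dec ha
  have he'' : cm y' d ∈ Y' ⊓ A := P.S'.cm_mem_D hy' hd.2
  have he : cm y⁻¹ d' ∈ Y ⊓ A := P.S.cm_mem_D (Y.inv_mem hy) hd'.2
  have h1 : y' * (d * d') * y'⁻¹ = cm y' d * d * d' := by
    have hcomm : y' * d' = d' * y' := P.S'.hYc y' hy' d' hd'.1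
    have hd'c : y' * d' * y'⁻¹ = d' := by rw [hcomm]; group
    have e : y' * (d * d') * y'⁻¹ = (y' * d * y'⁻¹) * (y' * d' * y'⁻¹) := by group
    rw [e, hd'c]; unfold cm; group
  have h2 : y⁻¹ * (d * d') * y = d * cm y⁻¹ d' * d' := by
    have hcomm : y⁻¹ * d = d * y⁻¹ := P.S.hYc y⁻¹ (Y.inv_mem hy) d hd.1
    have hdc : y⁻¹ * d * y = d := by rw [hcomm]; group
    have e : y⁻¹ * (d * d') * y = (y⁻¹ * d * y) * (y⁻¹ * d' * y) := by group
    rw [e, hdc]; unfold cm; group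
  have h3 : y' * (d * d') * y'⁻¹ = cm (y * y') (d * d') * (y⁻¹ * (d * d') * y) := by
    have e : y' * (d * d') * y'⁻¹ = y⁻¹ * (cm (y * y') (d * d') * (d * d')) * y := by
      unfold cm; group
    rw [e]
    have := P.C_comm hc y⁻¹
    rw [← mul_assoc, this]; group
  rw [h1, h2] at h3
  -- e'' = c * e
  have h4 : cm y' d = cm (y * y') (d * d') * cm y⁻¹ d' := by
    have hde : d * cm y⁻¹ d' = cm y⁻¹ d' * d := P.S.hYc d hd.1 _ he.1
    have e : cm y' d = (cm y' d * d * d') * d'⁻¹ * d⁻¹ := by group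
    rw [e, h3]
    have e2 : cm (y * y') (d * d') * (d * cm y⁻¹ d' * d') * d'⁻¹ * d⁻¹ =
        cm (y * y') (d * d') * (d * cm y⁻¹ d') * d⁻¹ := by group
    rw [e2, hde]; group
  have h5 : cm y' d ∈ P.C := by
    apply P.D_inf_D'
    refine ⟨?_, he''⟩
    rw [h4]
    exact Subgroup.mul_mem _ (P.C_le_D hc) he
  have h6 : cm y⁻¹ d' ∈ P.C := by
    have e : cm y⁻¹ d' = (cm (y * y') (d * d'))⁻¹ * cm y' d := by
      rw [h4, inv_mul_cancel_left]
    rw [e]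
    exact Subgroup.mul_mem _ (Subgroup.inv_mem _ hc) h5
  have hdC : d ∈ P.C := P.mem_C_of_cm_mem hy' hy'A hd h5
  have hd'C : d' ∈ P.C := by
    have hyinv : y⁻¹ ∉ A := fun h => hyA (by simpa using A.inv_mem h)
    have h7 : cm y⁻¹ d' ∈ P.symm.C := by
      show cm y⁻¹ d' ∈ Y' ⊓ Subgroup.center Λ
      rw [← P.hCeq]; exact h6
    have := P.symm.mem_C_of_cm_mem (Y.inv_mem hy) hyinv hd' h7
    show d' ∈ Y ⊓ Subgroup.center Λ
    rw [P.hCeq]; exact this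
  exact Subgroup.mul_mem _ hdC hd'C

/-- the same for conjugates, up to `A` -/
theorem mem_C_of_cm_conj_mem (P : Pair p Y Y' A) [Fact p.Prime] {y y' s a₀ a : Λ} (hy : y ∈ Y)
    (hyA : y ∉ A) (hy' : y' ∈ Y') (hy'A : y' ∉ A) (ha₀ : a₀ ∈ A) (ha : a ∈ A)
    (hc : cm (s * (y * y') * s⁻¹ * a₀) a ∈ P.C) : a ∈ P.C := by
  haveI := P.S.hAn
  rw [cm_mul_left] at hc
  have h1 : cm a₀ a ∈ P.C := P.cm_A_A ha₀ ha
  rw [P.C_conj_eq h1] at hc
  have h2 : cm (s * (y * y') * s⁻¹) a ∈ P.C := by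
    have e : cm (s * (y * y') * s⁻¹) a = (cm a₀ a)⁻¹ * (cm a₀ a * cm (s * (y * y') * s⁻¹) a) :=
      (inv_mul_cancel_left _ _).symm
    rw [e]
    exact Subgroup.mul_mem _ (Subgroup.inv_mem _ h1) hc
  rw [cm_conj] at h2
  have h3 : cm (y * y') (s⁻¹ * a * s) ∈ P.C := by
    have e : ∀ w : Λ, w = s⁻¹ * (s * w * s⁻¹) * s⁻¹⁻¹ := by intro w; group
    rw [e (cm (y * y') (s⁻¹ * a * s)), P.C_conj_eq h2]
    exact h2
  have h4 : s⁻¹ * a * s ∈ A := by
    have := P.S.hAn.conj_mem a ha s⁻¹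
    rwa [inv_inv] at this
  have h5 := P.mem_C_of_cm_mul_mem hy hyA hy' hy'A h4 h3
  have e : a = s * (s⁻¹ * a * s) * s⁻¹ := by group
  rw [e, P.C_conj_eq h5]
  exact h5

/-- if `z` centralizes `a` modulo `C` and `y₀` modulo `A`, it centralizes `[y₀, a]` modulo `C` -/
theorem cm_cm_mem (P : Pair p Y Y' A) {z y₀ a : Λ} (ha : a ∈ A) (hza : cm z a ∈ P.C)
    (hzy : cm z y₀ ∈ A) (he₁ : cm y₀ a ∈ A) : cm z (cm y₀ a) ∈ P.C := by
  obtain ⟨c, hc, hcdef⟩ : ∃ c ∈ P.C, z * a * z⁻¹ = c * a := ⟨cm z a, hza, by unfold cm; group⟩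
  obtain ⟨a₁, ha₁, ha₁def⟩ : ∃ a₁ ∈ A, z * y₀ * z⁻¹ = a₁ * y₀ := ⟨cm z y₀, hzy, by unfold cm; group⟩
  obtain ⟨e₁, he₁A, he₁def⟩ : ∃ e₁ ∈ A, e₁ = y₀ * a * y₀⁻¹ * a⁻¹ := ⟨cm y₀ a, he₁, rfl⟩
  show z * (y₀ * a * y₀⁻¹ * a⁻¹) * z⁻¹ * (y₀ * a * y₀⁻¹ * a⁻¹)⁻¹ ∈ P.C
  rw [← he₁def]
  have s1 : z * e₁ * z⁻¹ =
      (z * y₀ * z⁻¹) * (z * a * z⁻¹) * (z * y₀ * z⁻¹)⁻¹ * (z * a * z⁻¹)⁻¹ := by
    rw [he₁def]; group
  rw [hcdef, ha₁def] at s1
  have s2 : (a₁ * y₀) * (c * a) * (a₁ * y₀)⁻¹ * (c * a)⁻¹ =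
      (a₁ * y₀) * a * (a₁ * y₀)⁻¹ * a⁻¹ := by
    have e : (a₁ * y₀) * (c * a) * (a₁ * y₀)⁻¹ * (c * a)⁻¹ =
        ((a₁ * y₀) * c) * (a * (a₁ * y₀)⁻¹ * a⁻¹) * c⁻¹ := by group
    rw [e, P.C_comm hc (a₁ * y₀)]
    have e' : c * (a₁ * y₀) * (a * (a₁ * y₀)⁻¹ * a⁻¹) * c⁻¹ =
        c * ((a₁ * y₀) * a * (a₁ * y₀)⁻¹ * a⁻¹) * c⁻¹ := by group
    rw [e', P.C_conj_eq' hc]
  have s3 : (a₁ * y₀) * a * (a₁ * y₀)⁻¹ * a⁻¹ = a₁ * e₁ * a₁⁻¹ * (a₁ * a * a₁⁻¹ * a⁻¹) := by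
    rw [he₁def]; group
  have hc₂ : a₁ * a * a₁⁻¹ * a⁻¹ ∈ P.C := P.cm_A_A ha₁ ha
  have hc₃ : a₁ * e₁ * a₁⁻¹ * e₁⁻¹ ∈ P.C := P.cm_A_A ha₁ he₁A
  rw [s1, s2, s3]
  have e : a₁ * e₁ * a₁⁻¹ * (a₁ * a * a₁⁻¹ * a⁻¹) * e₁⁻¹ =
      (a₁ * e₁ * a₁⁻¹ * e₁⁻¹) * (e₁ * (a₁ * a * a₁⁻¹ * a⁻¹) * e₁⁻¹) := by group
  rw [e, P.C_conj_eq hc₂]
  exact Subgroup.mul_mem _ hc₃ hc₂

end Pair

namespace Setup

variable {p : ℕ} {Y A : Subgroup Λ} [Finite Λ] [Fact p.Prime]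

/-- **Core theorem.** -/
theorem fpf_of_twoRoot (S : Setup p Y A) (h : Λ)
    (hh : ∃ (n : ℕ) (y₀ s g y y₁ a₀ : Λ), y₀ ∈ Y ∧ (y₀ = 1 ∨ ∀ l : Λ, cm l (h ^ n) ∈ A) ∧
      y ∈ Y ∧ y ∉ A ∧ y₁ ∈ Y ∧ y₁ ∉ A ∧ g ∉ Subgroup.normalizer (Y : Set Λ) ∧ a₀ ∈ A ∧
      h ^ n * y₀ = s * (y * (g * y₁ * g⁻¹)) * s⁻¹ * a₀) :
    ∀ a ∈ A, h * a * h⁻¹ * a⁻¹ ∈ Y ⊓ Subgroup.center Λ → a ∈ Y ⊓ Subgroup.center Λ := by
  haveI := S.hAn
  obtain ⟨n, y₀, s, g, y, y₁, a₀, hy₀, hcase, hy, hyA, hy₁, hy₁A, hg, ha₀, heq⟩ := hh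
  have P := Pair.of_setup S hg
  have hy' : g * y₁ * g⁻¹ ∈ cj g Y := conj_mem_cj hy₁
  have hy'A : g * y₁ * g⁻¹ ∉ A := by
    intro hmem
    apply hy₁A
    have := S.hAn.conj_mem _ hmem g⁻¹
    have e : g⁻¹ * (g * y₁ * g⁻¹) * g⁻¹⁻¹ = y₁ := by group
    rwa [e] at this
  -- powers
  have hpow : ∀ a ∈ A, cm h a ∈ P.C → cm (h ^ n) a ∈ P.C := by
    intro a _ hc
    have : h ^ n ∈ commSub P.C P.C_le_center ({a} : Set Λ) := by
      apply Subgroup.pow_mem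
      intro b hb
      rw [Set.mem_singleton_iff] at hb
      subst hb
      exact hc
    exact this a rfl
  intro a ha hc
  have hcn : cm (h ^ n) a ∈ P.C := hpow a ha hc
  -- the main dichotomy
  have hmain : ∀ b ∈ A, cm (h ^ n * y₀) b ∈ P.C → b ∈ P.C := by
    intro b hb hcb
    rw [heq] at hcb
    exact P.mem_C_of_cm_conj_mem hy hyA hy' hy'A ha₀ hb hcb
  rcases hcase with h1 | hcent
  · subst h1
    rw [mul_one] at hmain
    exact hmain a ha hcn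
  · -- `z = h ^ n` is central modulo `A`
    obtain ⟨d, hd, d', hd', rfl⟩ := P.dec ha
    -- e₁ = [y₀, a] = [y₀, d'] ∈ D
    have he₁ : cm y₀ (d * d') = cm y₀ d' := by
      rw [cm_mul_right]
      have h1 : cm y₀ d = 1 := by
        unfold cm
        rw [S.hYc y₀ hy₀ d hd.1]; group
      rw [h1, one_mul]
      have h2 : d * cm y₀ d' = cm y₀ d' * d := S.hYc d hd.1 _ (S.cm_mem_D hy₀ hd'.2).1
      rw [h2]; group
    have he₁D : cm y₀ d' ∈ Y ⊓ A := S.cm_mem_D hy₀ hd'.2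
    -- [z, e₁] ∈ C
    have hze₁ : cm (h ^ n) (cm y₀ d') ∈ P.C := by
      have ha₁ : cm (h ^ n) y₀ ∈ A := by
        have e : cm (h ^ n) y₀ = (cm y₀ (h ^ n))⁻¹ := by unfold cm; group
        rw [e]
        exact A.inv_mem (hcent y₀)
      have := P.cm_cm_mem (z := h ^ n) (y₀ := y₀) ha hcn ha₁ (by rw [he₁]; exact he₁D.2)
      rwa [he₁] at this
    by_cases he₁C : cm y₀ d' ∈ P.C
    · -- `a` itself is fixed by `y₀`
      apply hmain _ ha
      rw [cm_mul_left, he₁, P.C_conj_eq he₁C]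
      exact Subgroup.mul_mem _ he₁C hcn
    · -- `e₁` is fixed by `z` and `y₀`
      exfalso
      apply he₁C
      apply hmain _ he₁D.2
      rw [cm_mul_left]
      have h1 : cm y₀ (cm y₀ d') = 1 := cm_eq_one_of_commute (S.hYc y₀ hy₀ _ he₁D.1)
      rw [h1, mul_one, mul_inv_cancel, one_mul]
      exact hze₁

end Setup

end Cfsg.Agent.Lib.Helper17.Fpf
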