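import Mathlib
import Cfsg.Prelude.Def_LocalStructure
import Cfsg.Agent.Lib.Helper17.FpfCore
import Cfsg.Agent.Lib.Helper17.YL
import Cfsg.Agent.Lib.Helper27.FrakLQuot
import Cfsg.Agent.Lib.Helper29.S2863FO4
import Cfsg.Agent.Lib.Helper22.S2863FO3

/-! # S2863: lifting from `L / O_p(L)` and the glue from `IsInFrakL` -/

set_option autoImplicit false
set_option linter.unusedSectionVars false
set_option linter.style.haveILetI false

namespace Cfsg.Agent.Lib.Helper17.Fpf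

open Cfsg Cfsg.Agent.Lib.Helper17

section Lift

variable {Λ : Type*} [Group Λ] [Finite Λ] {p : ℕ} [Fact p.Prime]

/-- lifting `TwoRootProp` from `Λ / A` to the hypothesis of `Setup.fpf_of_twoRoot` -/
theorem lift_twoRoot {Y A : Subgroup Λ} [hA : A.Normal] (S : Setup p Y A)
    (hTR : TwoRootProp p (Y.map (QuotientGroup.mk' A))) (h : Λ)
    (hnp : ¬ ∃ k : ℕ, orderOf h = p ^ k) :
    ∃ (n : ℕ) (y₀ s g y y₁ a₀ : Λ), y₀ ∈ Y ∧ (y₀ = 1 ∨ ∀ l : Λ, cm l (h ^ n) ∈ A) ∧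
      y ∈ Y ∧ y ∉ A ∧ y₁ ∈ Y ∧ y₁ ∉ A ∧ g ∉ Subgroup.normalizer (Y : Set Λ) ∧ a₀ ∈ A ∧
      h ^ n * y₀ = s * (y * (g * y₁ * g⁻¹)) * s⁻¹ * a₀ := by
  have hp : p.Prime := Fact.out
  have hx : ¬ ∃ k : ℕ, orderOf (QuotientGroup.mk' A h) = p ^ k := by
    rintro ⟨k, hk⟩
    apply hnp
    have h1 : (QuotientGroup.mk' A h) ^ (p ^ k) = 1 := by rw [← hk]; exact pow_orderOf_eq_one _
    rw [← map_pow] at h1
    have h2 : h ^ (p ^ k) ∈ A := by
      rw [← QuotientGroup.eq_one_iff]; exact h1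
    obtain ⟨i, hi⟩ := S.hAp ⟨_, h2⟩
    have h3 : (h ^ (p ^ k)) ^ (p ^ i) = 1 := by
      have := congrArg Subtype.val hi
      simpa using this
    rw [← pow_mul, ← pow_add] at h3
    obtain ⟨j, -, hj⟩ := (Nat.dvd_prime_pow hp).1 (orderOf_dvd_of_pow_eq_one h3)
    exact ⟨j, hj⟩
  obtain ⟨n, yb0, sb, gb, yb, yb', hyb0, hcase, hyb, hyb1, hyb', hyb'1, hgb, heq⟩ := hTR _ hx
  obtain ⟨s, rfl⟩ := QuotientGroup.mk'_surjective A sb
  obtain ⟨g, rfl⟩ := QuotientGroup.mk'_surjective A gb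
  obtain ⟨y, hy, rfl⟩ := hyb
  obtain ⟨y₁, hy₁, rfl⟩ := hyb'
  have hyA : y ∉ A := by
    intro hmem
    apply hyb1
    exact (QuotientGroup.eq_one_iff y).2 hmem
  have hy₁A : y₁ ∉ A := by
    intro hmem
    apply hyb'1
    exact (QuotientGroup.eq_one_iff y₁).2 hmem
  have hg : g ∉ Subgroup.normalizer (Y : Set Λ) := by
    intro hmem
    apply hgb
    exact Subgroup.le_normalizer_map _ ⟨g, hmem, rfl⟩
  -- the lift of `y₀`
  obtain ⟨y₀, hy₀, hy₀eq, hcase'⟩ : ∃ y₀ ∈ Y, QuotientGroup.mk' A y₀ = yb0 ∧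
      (y₀ = 1 ∨ ∀ l : Λ, cm l (h ^ n) ∈ A) := by
    rcases hcase with h1 | hc
    · exact ⟨1, Y.one_mem, by rw [map_one, h1], Or.inl rfl⟩
    · obtain ⟨y₀, hy₀, hy₀eq⟩ := hyb0
      refine ⟨y₀, hy₀, hy₀eq, Or.inr ?_⟩
      intro l
      rw [← QuotientGroup.eq_one_iff]
      have h1 := (Subgroup.mem_center_iff.1 hc) (QuotientGroup.mk' A l)
      have h2 : ((cm l (h ^ n) : Λ) : Λ ⧸ A) =
          QuotientGroup.mk' A l * (QuotientGroup.mk' A h) ^ n * (QuotientGroup.mk' A l)⁻¹ *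
            ((QuotientGroup.mk' A h) ^ n)⁻¹ := by
        simp [cm]
      rw [h2, h1]; group
  subst hy₀eq
  have h4 : QuotientGroup.mk' A (h ^ n * y₀) =
      QuotientGroup.mk' A (s * (y * (g * y₁ * g⁻¹)) * s⁻¹) := by
    simp only [map_mul, map_pow, map_inv]
    simpa using heq
  have h5 : (s * (y * (g * y₁ * g⁻¹)) * s⁻¹)⁻¹ * (h ^ n * y₀) ∈ A := by
    have := h4.symm
    exact QuotientGroup.eq.1 this
  refine ⟨n, y₀, s, g, y, y₁, _, hy₀, hcase', hy, hyA, hy₁, hy₁A, hg, h5, ?_⟩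
  group

end Lift

section Glue

variable {G : Type*} [Group G] [Finite G] {p : ℕ} [Fact p.Prime]

/-- FO-1 as a proposition. -/
def SL2TR (p : ℕ) : Prop :=
  ∀ (F : Type) [Field F] [Fintype F] (Y : Subgroup (Matrix.SpecialLinearGroup (Fin 2) F)),
    IsPGroup p Y → Nat.card Y = Fintype.card F → TwoRootProp p Y

/-- FO-2 as a proposition. -/
def SzTR : Prop :=
  ∀ (F : Type) [Field F] [Fintype F] (m : ℕ), Fintype.card F = 2 ^ (2 * m + 1) →
    ∀ (Y : Subgroup ↥(Cfsg.Lie.Sz F (2 ^ (m + 1)))),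
    (∀ a ∈ Y, a ^ 2 = 1) → Nat.card Y = Fintype.card F →
    Subgroup.normalClosure (Y : Set ↥(Cfsg.Lie.Sz F (2 ^ (m + 1)))) = ⊤ →
    (∀ P : Subgroup ↥(Cfsg.Lie.Sz F (2 ^ (m + 1))), Y ≤ P → P ≠ ⊤ →
      P ≤ Subgroup.normalizer (Y : Set ↥(Cfsg.Lie.Sz F (2 ^ (m + 1))))) →
    Subgroup.normalizer (Y : Set ↥(Cfsg.Lie.Sz F (2 ^ (m + 1)))) ≠ ⊤ → TwoRootProp 2 Y

/-- the `𝔏`-axioms give a `Setup` in `↥L` -/
theorem setup_of_frakL (M L : Subgroup G) (hL : Cfsg.IsInFrakL p M L) :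
    Setup p ((Cfsg.largestPReducedOf p M).subgroupOf L) (pCore p ↥L) := by
  obtain ⟨hYL, hAgen, hAN, ⟨hgenL, -⟩, hCA, ⟨hlt, hNLmax⟩, -⟩ := hL
  obtain ⟨Y, hYdef⟩ : ∃ Y : Subgroup G, Y = Cfsg.largestPReducedOf p M := ⟨_, rfl⟩
  rw [← hYdef] at hYL hAgen hAN hgenL hlt hNLmax ⊢
  obtain ⟨hYO, hYC, hYe⟩ := Cfsg.Agent.Lib.Helper17.largestPReducedOf_props (p := p) M
  rw [← hYdef] at hYO hYC hYe
  have hYc : ∀ a ∈ Y, ∀ b ∈ Y, a * b = b * a := by
    intro a ha b hb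
    exact (Subgroup.mem_centralizer_iff.1 (hYC hb)) a (hYO ha)
  have hAsub : pCore p ↥L ≤ (Cfsg.pCoreOf p L).subgroupOf L := by
    intro a ha
    exact ⟨a, ha, rfl⟩
  have hAY : pCore p ↥L ≤ Subgroup.normalizer ((Y.subgroupOf L : Subgroup ↥L) : Set ↥L) :=
    hAsub.trans (Cfsg.Agent.Lib.Helper27.FrakLQuot.subgroupOf_le_normalizer_subgroupOf hAN)
  have hinfeq : (Y.subgroupOf L ⊓ pCore p ↥L : Subgroup ↥L) = (Y ⊓ Cfsg.pCoreOf p L).subgroupOf L := by
    ext x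
    simp only [Subgroup.mem_inf, Subgroup.mem_subgroupOf]
    constructor
    · rintro ⟨h1, h2⟩
      exact ⟨h1, ⟨x, h2, rfl⟩⟩
    · rintro ⟨h1, ⟨x', hx', hxx'⟩⟩
      refine ⟨h1, ?_⟩
      have : x' = x := Subtype.ext hxx'
      rwa [← this]
  have hgen : Subgroup.normalClosure (((Y.subgroupOf L ⊓ pCore p ↥L : Subgroup ↥L)) : Set ↥L) =
      pCore p ↥L := by
    rw [hinfeq]
    have h1 : (pCore p ↥L).map L.subtype = (Subgroup.normalClosure
        (((Y ⊓ Cfsg.pCoreOf p L).subgroupOf L : Subgroup ↥L) : Set ↥L)).map L.subtype := hAgen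
    exact (Subgroup.map_injective L.subtype_injective h1).symm
  have hmax : ∀ X : Subgroup ↥L, Y.subgroupOf L ≤ X → X ≠ ⊤ →
      X ≤ Subgroup.normalizer ((Y.subgroupOf L : Subgroup ↥L) : Set ↥L) := by
    intro X hYX hX
    have h3 : Y ≤ X.map L.subtype := by
      intro y hy
      exact ⟨⟨y, hYL hy⟩, hYX (Subgroup.mem_subgroupOf.2 hy), rfl⟩
    have h4 : X.map L.subtype < L := by
      refine lt_of_le_of_ne (Subgroup.map_subtype_le _) ?_
      intro heq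
      apply hX
      rw [eq_top_iff]
      intro x _
      have hx : (x : G) ∈ X.map L.subtype := by rw [heq]; exact x.2
      obtain ⟨x', hx', hxx⟩ := hx
      have : x' = x := Subtype.ext hxx
      rw [← this]; exact hx'
    have h5 := hNLmax _ h3 h4
    have h6 : X ≤ (L ⊓ Subgroup.normalizer (Y : Set G)).subgroupOf L := by
      intro x hx
      exact h5 ⟨x, hx, rfl⟩
    exact h6.trans
      (Cfsg.Agent.Lib.Helper27.FrakLQuot.subgroupOf_le_normalizer_subgroupOf inf_le_right)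
  have hAn : (pCore p ↥L).Normal := Cfsg.Agent.Lib.Helper17.pCore_normal
  refine ⟨?_, ?_, hAn, Cfsg.Agent.Lib.Helper17.pCore_isPGroup,
    fun N hN hNp => Cfsg.Agent.Lib.Helper17.le_pCore hN hNp, hCA, hAY, hgen, hgenL, hmax, ?_⟩
  · rintro a ha b hb
    apply Subtype.ext
    exact hYc a ha b hb
  · rintro ⟨y, hy⟩
    refine ⟨1, ?_⟩
    apply Subtype.ext
    apply Subtype.ext
    simp only [pow_one, Subgroup.coe_pow, Subgroup.coe_one]
    exact hYe _ hy
  · intro hle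
    -- then `A = ⊤` normalizes `Y`
    have h1 : (Y.subgroupOf L ⊓ pCore p ↥L : Subgroup ↥L) = Y.subgroupOf L := inf_eq_left.2 hle
    rw [h1, hgenL] at hgen
    have h2 : (⊤ : Subgroup ↥L) ≤ Subgroup.normalizer ((Y.subgroupOf L : Subgroup ↥L) : Set ↥L) := by
      rw [hgen]; exact hAY
    have h3 : L ≤ Subgroup.normalizer (Y : Set G) := by
      intro l hl
      have := h2 (Subgroup.mem_top (⟨l, hl⟩ : ↥L))
      rw [Subgroup.mem_normalizer_iff] at this ⊢
      intro x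
      constructor
      · intro hx
        have := (this ⟨x, hYL hx⟩).1 (Subgroup.mem_subgroupOf.2 hx)
        exact Subgroup.mem_subgroupOf.1 this
      · intro hx
        have hxL : x ∈ L := by
          have h4 : l * x * l⁻¹ ∈ L := hYL hx
          have e : x = l⁻¹ * (l * x * l⁻¹) * l := by group
          rw [e]
          exact L.mul_mem (L.mul_mem (L.inv_mem hl) h4) hl
        have := (this ⟨x, hxL⟩).2 (Subgroup.mem_subgroupOf.2 hx)
        exact Subgroup.mem_subgroupOf.1 this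
    exact (ne_of_lt hlt) (inf_eq_left.2 h3)


theorem mem_C_iff (Y L : Subgroup G) (x : ↥L) :
    x ∈ (Y.subgroupOf L ⊓ Subgroup.center ↥L : Subgroup ↥L) ↔
      (x : G) ∈ Y ⊓ Subgroup.centralizer (L : Set G) := by
  simp only [Subgroup.mem_inf, Subgroup.mem_subgroupOf]
  constructor
  · rintro ⟨h1, h2⟩
    refine ⟨h1, ?_⟩
    rw [Subgroup.mem_centralizer_iff]
    intro l hl
    have := (Subgroup.mem_center_iff.1 h2) ⟨l, hl⟩
    exact congrArg Subtype.val this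
  · rintro ⟨h1, h2⟩
    refine ⟨h1, ?_⟩
    rw [Subgroup.mem_center_iff]
    intro l
    apply Subtype.ext
    exact (Subgroup.mem_centralizer_iff.1 h2) l l.2

theorem map_eq_top_aux {X X' : Type*} [Group X] [Group X'] (e : X ≃* X') {P : Subgroup X}
    (h : P.map e.toMonoidHom = ⊤) : P = ⊤ := by
  rw [eq_top_iff]
  intro x _
  have : e x ∈ P.map e.toMonoidHom := by rw [h]; exact Subgroup.mem_top _
  obtain ⟨y, hy, hyx⟩ := this
  have : y = x := e.injective hyx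
  rwa [← this]

/-- the quotient-level property from the three model lemmas -/
theorem twoRoot_of_frakL (hSL : SL2TR p) (hSz : SzTR) (M L : Subgroup G)
    (hL : Cfsg.IsInFrakL p M L) :
    TwoRootProp p (((Cfsg.largestPReducedOf p M).subgroupOf L).map
      (QuotientGroup.mk' (pCore p ↥L))) := by
  have S := setup_of_frakL M L hL
  haveI hKn : (pCore p ↥L).Normal := Cfsg.Agent.Lib.Helper17.pCore_normal
  obtain ⟨hYL, -, -, ⟨hgenL, -⟩, -, ⟨-, hNLmax⟩, hcases⟩ := hL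
  obtain ⟨Y, hYdef⟩ : ∃ Y : Subgroup G, Y = Cfsg.largestPReducedOf p M := ⟨_, rfl⟩
  rw [← hYdef] at hYL hgenL hNLmax hcases S ⊢
  obtain ⟨-, -, hYe⟩ := Cfsg.Agent.Lib.Helper17.largestPReducedOf_props (p := p) M
  rw [← hYdef] at hYe
  have hMH := Cfsg.Agent.Lib.Helper27.FrakLQuot.modelHyp_of_frakL L
    (L ⊓ Subgroup.normalizer (Y : Set G)) Y hYL rfl hgenL hNLmax (pCore p ↥L)
  have hcard := Cfsg.Agent.Lib.Helper27.FrakLQuot.card_map_mk_eq_relIndex L Y hYL (pCore p ↥L)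
  have hYXp := Cfsg.Agent.Lib.Helper27.FrakLQuot.isPGroup_map_of_exp (p := p) L Y hYe (pCore p ↥L)
  have hYXe := Cfsg.Agent.Lib.Helper27.FrakLQuot.exp_map_of_exp (p := p) L Y hYe (pCore p ↥L)
  have hne : Subgroup.normalizer ((((Y.subgroupOf L).map (QuotientGroup.mk' (pCore p ↥L)) :
      Subgroup (↥L ⧸ pCore p ↥L))) : Set (↥L ⧸ pCore p ↥L)) ≠ ⊤ := by
    intro htop
    have hn : ((Y.subgroupOf L).map (QuotientGroup.mk' (pCore p ↥L))).Normal :=
      Subgroup.normalizer_eq_top_iff.1 htop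
    have hcN : (((Y.subgroupOf L).map (QuotientGroup.mk' (pCore p ↥L))).comap
        (QuotientGroup.mk' (pCore p ↥L))).Normal := hn.comap _
    have hcP : IsPGroup p (((Y.subgroupOf L).map (QuotientGroup.mk' (pCore p ↥L))).comap
        (QuotientGroup.mk' (pCore p ↥L))) := by
      apply hYXp.comap_of_ker_isPGroup
      rw [QuotientGroup.ker_mk']
      exact S.hAp
    exact S.hYA ((Subgroup.le_comap_map _ _).trans (S.hAmax _ hcN hcP))
  rcases hcases with ⟨F, hFf, hFt, hFcard, ⟨e⟩⟩ | ⟨hp2, F, hFf, hFt, m, hF, hFcard, ⟨e⟩⟩ |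
    ⟨hp2, r, hr, hr2, ⟨e⟩⟩
  · -- SL₂
    apply Cfsg.Agent.Lib.Helper29.S2863.FO4_twoRootProp_of_map e
    apply hSL F
    · exact hYXp.map e.toMonoidHom
    · rw [Subgroup.card_map_of_injective e.injective, hcard, hFcard]
      congr 1
  · -- Suzuki
    subst hp2
    apply Cfsg.Agent.Lib.Helper29.S2863.FO4_twoRootProp_of_map e
    have hM' := hMH.map e
    refine hSz F m hF _ ?_ ?_ hM'.hgen (fun P h1 h2 => (hM'.hmax P h1 h2).trans hM'.hBN) ?_
    · rintro _ ⟨a, ha, rfl⟩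
      rw [← map_pow, hYXe a ha, map_one]
    · rw [Subgroup.card_map_of_injective e.injective, hcard, hFcard]
      congr 1
    · intro htop
      rw [← Subgroup.map_equiv_normalizer_eq] at htop
      exact hne (map_eq_top_aux e htop)
  · -- dihedral
    subst hp2
    have hM' := hMH.map e
    haveI : Nontrivial (DihedralGroup r) := by
      haveI : NeZero r := ⟨hr.ne_zero⟩
      rw [← Finite.one_lt_card_iff_nontrivial, DihedralGroup.nat_card]
      have := hr.two_le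
      omega
    have hY1' := Cfsg.Agent.Lib.Helper27.FrakLQuot.ne_bot_of_normalClosure _ hM'.hgen
    have hY1 : (Y.subgroupOf L).map (QuotientGroup.mk' (pCore 2 ↥L)) ≠ ⊥ := by
      intro hbot
      apply hY1'
      rw [hbot, Subgroup.map_bot]
    have hcard2 : Nat.card ((Y.subgroupOf L).map (QuotientGroup.mk' (pCore 2 ↥L))) = 2 := by
      obtain ⟨j, hj⟩ := hYXp.exists_card_eq
      have hdvd : Nat.card ((Y.subgroupOf L).map (QuotientGroup.mk' (pCore 2 ↥L))) ∣ 2 * r := by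
        have h1 := Subgroup.card_subgroup_dvd_card
          ((Y.subgroupOf L).map (QuotientGroup.mk' (pCore 2 ↥L)))
        have h2 : Nat.card (↥L ⧸ pCore 2 ↥L) = 2 * r := by
          rw [Nat.card_congr e.toEquiv, DihedralGroup.nat_card]
        rwa [h2] at h1
      rw [hj] at hdvd ⊢
      match j, hj, hdvd with
      | 0, hj, _ =>
        exfalso
        apply hY1
        rw [pow_zero] at hj
        exact Subgroup.eq_bot_of_card_eq _ hj
      | 1, _, _ => rfl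
      | (j + 2), _, hdvd =>
        exfalso
        have h4 : 4 ∣ 2 * r := (Dvd.intro_left (2 ^ j) (by ring)).trans hdvd
        have h5 : 2 ∣ r := by omega
        exact hr2 ((Nat.prime_dvd_prime_iff_eq Nat.prime_two hr).1 h5).symm
    exact Cfsg.Agent.Lib.Helper22.S2863.FO3_card_two_twoRoot _ hcard2 hMH.hgen
      (fun P h1 h2 => (hMH.hmax P h1 h2).trans hMH.hBN) hne

/-- **S2863**, modulo the two model lemmas. -/
theorem frakL_fpf_main (hSL : SL2TR p) (hSz : SzTR) (M L : Subgroup G)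
    (hL : Cfsg.IsInFrakL p M L) (h : G) (hh : h ∈ L) (hnp : ¬ ∃ k : ℕ, orderOf h = p ^ k) :
    ∀ a ∈ (Cfsg.pCoreOf p L), h * a * h⁻¹ * a⁻¹ ∈
        (Cfsg.largestPReducedOf p M) ⊓ Subgroup.centralizer ((L : Subgroup G) : Set G) →
      a ∈ (Cfsg.largestPReducedOf p M) ⊓ Subgroup.centralizer ((L : Subgroup G) : Set G) := by
  have S := setup_of_frakL M L hL
  haveI hKn : (pCore p ↥L).Normal := Cfsg.Agent.Lib.Helper17.pCore_normal
  have hTR := twoRoot_of_frakL hSL hSz M L hL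
  have hnp' : ¬ ∃ k : ℕ, orderOf (⟨h, hh⟩ : ↥L) = p ^ k := by
    rw [Subgroup.orderOf_mk]; exact hnp
  have hlift := lift_twoRoot S hTR ⟨h, hh⟩ hnp'
  have hcore := S.fpf_of_twoRoot ⟨h, hh⟩ hlift
  rintro _ ⟨a', ha', rfl⟩ hc
  have hc' : (⟨h, hh⟩ : ↥L) * a' * (⟨h, hh⟩ : ↥L)⁻¹ * a'⁻¹ ∈
      ((Cfsg.largestPReducedOf p M).subgroupOf L ⊓ Subgroup.center ↥L : Subgroup ↥L) := by
    rw [mem_C_iff]
    exact hc
  have := hcore a' ha' hc'
  rw [mem_C_iff] at this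
  exact this

end Glue

end Cfsg.Agent.Lib.Helper17.Fpf
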