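import Mathlib
import Cfsg.Prelude
import Cfsg.Agent.Lib.Helper16.PReduced4
import Cfsg.Agent.Lib.Helper17.AxBAbelian
import Cfsg.Agent.Lib.Helper17.GfsAction3
import Cfsg.Agent.Lib.Helper17.Conj

/-!
Relative `p`-reduced subgroups (`Helper16.RelPReduced`): transport to/from `IsPReducedNormal`, the largest
one, behaviour under passage to normal subgroups.
-/

set_option autoImplicit false

namespace Cfsg.Agent.Lib.Helper17

open Cfsg Cfsg.Agent.Lib.Helper16
open scoped commutatorElement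

section

variable {G : Type*} [Group G] {p : ℕ}

/-- From the intrinsic notion in `↥K` to the relative one. -/
theorem rel_of_isPReducedNormal_subtype (K : Subgroup G) (V' : Subgroup ↥K)
    (hV : IsPReducedNormal p V') : RelPReduced p K (V'.map K.subtype) := by
  obtain ⟨hVn, hVe, hCn, hcore⟩ := hV
  refine ⟨Subgroup.map_subtype_le _, ?_, ?_, ?_, ?_⟩
  · intro k hk
    rw [Subgroup.mem_normalizer_iff]
    intro x
    constructor
    · rintro ⟨v, hv, rfl⟩
      exact ⟨⟨k, hk⟩ * v * ⟨k, hk⟩⁻¹, hVn.conj_mem v hv _, rfl⟩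
    · rintro ⟨v, hv, hvx⟩
      have h1 := hVn.conj_mem v hv ⟨k, hk⟩⁻¹
      refine ⟨⟨k, hk⟩⁻¹ * v * ⟨k, hk⟩⁻¹⁻¹, h1, ?_⟩
      have : (v : G) = k * x * k⁻¹ := hvx
      simp only [Subgroup.subtype_apply, Subgroup.coe_mul, Subgroup.coe_inv, this]
      group
  · rintro _ ⟨a, ha, rfl⟩ _ ⟨b, hb, rfl⟩
    have := hVe.1.is_comm.comm (⟨a, ha⟩ : ↥V') ⟨b, hb⟩
    have h2 := congrArg (fun z : ↥V' => ((z : ↥K) : G)) this
    exact h2
  · rintro _ ⟨a, ha, rfl⟩
    have := hVe.2 a ha
    have h2 := congrArg Subtype.val this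
    simpa using h2
  · intro D hDK hKD hDp
    haveI := hCn
    have hDn : (D.subgroupOf K).Normal := (Subgroup.normal_subgroupOf_iff_le_normalizer hDK).mpr hKD
    have h1 := le_of_pCore_quotient_eq_bot _ hcore (D.subgroupOf K) hDn (by
      intro d hd
      obtain ⟨k, hk⟩ := hDp (d : G) (Subgroup.mem_subgroupOf.mp hd)
      refine ⟨k, ?_⟩
      rw [Subgroup.mem_centralizer_iff]
      intro v hv
      apply Subtype.ext
      have := Subgroup.mem_centralizer_iff.mp hk (v : G) ⟨v, hv, rfl⟩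
      simpa using this)
    intro d hd
    rw [Subgroup.mem_centralizer_iff]
    rintro _ ⟨v, hv, rfl⟩
    have h2 := h1 (show (⟨d, hDK hd⟩ : ↥K) ∈ D.subgroupOf K from Subgroup.mem_subgroupOf.mpr hd)
    have h3 := Subgroup.mem_centralizer_iff.mp h2 v hv
    exact congrArg Subtype.val h3

variable [Finite G] [Fact p.Prime]

theorem relPReduced_largestPReducedOf (K : Subgroup G) : RelPReduced p K (largestPReducedOf p K) := by
  obtain ⟨Y, hY, hmax⟩ := exists_largest_pReduced (L := ↥K) (p := p)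
  have : largestPReduced p ↥K = Y := by
    apply le_antisymm
    · exact sSup_le (fun V hV => hmax V hV)
    · exact le_sSup hY
  unfold largestPReducedOf
  rw [this]
  exact rel_of_isPReducedNormal_subtype K Y hY

theorem le_largestPReducedOf_of_rel {K V : Subgroup G} (h : RelPReduced p K V) :
    V ≤ largestPReducedOf p K := by
  have h1 := isPReducedNormal_of_rel K V h
  have h2 : V.subgroupOf K ≤ largestPReduced p ↥K := le_sSup h1
  have h3 := Subgroup.map_mono (f := K.subtype) h2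
  rwa [Subgroup.map_subgroupOf_eq_of_le h.1] at h3

/-- `RelPReduced p ⊤ W` is the absolute notion. -/
theorem isPReducedNormal_of_rel_top {W : Subgroup G} (h : RelPReduced p ⊤ W) :
    IsPReducedNormal p W := by
  obtain ⟨-, hKW, hcomm, hexp, hD⟩ := h
  have hWn : W.Normal := Subgroup.normalizer_eq_top_iff.mp (top_le_iff.mp hKW)
  haveI := hWn
  have hCn : (Subgroup.centralizer (W : Set G)).Normal := Subgroup.normal_centralizer
  refine ⟨hWn, ⟨⟨⟨?_⟩⟩, hexp⟩, hCn, ?_⟩
  · rintro ⟨a, ha⟩ ⟨b, hb⟩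
    exact Subtype.ext (hcomm a ha b hb)
  · apply pCore_quotient_eq_bot_of
    intro D hDn hDp
    exact hD D le_top (by rw [Subgroup.normalizer_eq_top_iff.mpr hDn]) hDp

theorem largestPReducedOf_top : largestPReducedOf p (⊤ : Subgroup G) = largestPReduced p G := by
  apply le_antisymm
  · exact le_sSup (isPReducedNormal_of_rel_top (relPReduced_largestPReducedOf ⊤))
  · apply sSup_le
    intro V hV
    exact le_largestPReducedOf_of_rel (rel_of_isPReducedNormal_top V hV)

theorem relPReduced_largestPReduced : RelPReduced p ⊤ (largestPReduced p G) := by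
  rw [← largestPReducedOf_top]
  exact relPReduced_largestPReducedOf ⊤

/-- If `e` centralizes `W ⊓ L` and `[W, e] ≤ W ⊓ L`, then `e ^ p` centralizes `W` (exponent `p`). -/
theorem pow_mem_centralizer_of_chain {W L : Subgroup G} (hexp : ∀ a ∈ W, a ^ p = 1)
    {e : G} (heL : e ∈ L) (heW : e ∈ Subgroup.normalizer (W : Set G))
    (hWL : W ≤ Subgroup.normalizer (L : Set G))
    (hec : e ∈ Subgroup.centralizer ((W ⊓ L : Subgroup G) : Set G)) :
    e ^ p ∈ Subgroup.centralizer (W : Set G) := by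
  rw [Subgroup.mem_centralizer_iff]
  intro w hw
  -- `v = w⁻¹ (e w e⁻¹) ∈ W ⊓ L`
  have hv : w⁻¹ * (e * w * e⁻¹) ∈ W ⊓ L := by
    refine Subgroup.mem_inf.mpr ⟨W.mul_mem (W.inv_mem hw) ((Subgroup.mem_normalizer_iff.mp heW w).mp hw), ?_⟩
    have h1 : w⁻¹ * e * w⁻¹⁻¹ ∈ L :=
      (Subgroup.mem_normalizer_iff.mp (hWL (W.inv_mem hw)) e).mp heL
    have e1 : w⁻¹ * (e * w * e⁻¹) = (w⁻¹ * e * w⁻¹⁻¹) * e⁻¹ := by group
    rw [e1]
    exact L.mul_mem h1 (L.inv_mem heL)
  have hcv := Subgroup.mem_centralizer_iff.mp hec _ hv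
  obtain ⟨v, hvdef⟩ : ∃ v, v = w⁻¹ * (e * w * e⁻¹) := ⟨_, rfl⟩
  rw [← hvdef] at hv hcv
  have hew : e * w = w * v * e := by rw [hvdef]; group
  have key : ∀ n : ℕ, e ^ n * w = w * v ^ n * e ^ n := by
    intro n
    induction n with
    | zero => simp
    | succ k ih =>
      calc e ^ (k + 1) * w = e ^ k * (e * w) := by rw [pow_succ]; group
        _ = e ^ k * (w * v * e) := by rw [hew]
        _ = (e ^ k * w) * v * e := by group
        _ = (w * v ^ k * e ^ k) * v * e := by rw [ih]
        _ = w * v ^ k * (e ^ k * v) * e := by group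
        _ = w * v ^ k * (v * e ^ k) * e := by
          have : e ^ k * v = v * e ^ k := by
            have hc : Commute v e := hcv
            exact ((hc.pow_right k).eq).symm
          rw [this]
        _ = w * (v ^ k * v) * (e ^ k * e) := by group
        _ = w * v ^ (k + 1) * e ^ (k + 1) := by rw [← pow_succ, ← pow_succ]
  have h2 := key p
  rw [hexp v hv.1, mul_one] at h2
  exact h2.symm

/-- **(N-a)** Passage to a normal subgroup: `W ∩ L` is `p`-reduced in `L`. -/
theorem RelPReduced.inf_of_normal {K W L : Subgroup G} (h : RelPReduced p K W) (hLK : L ≤ K)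
    (hKL : K ≤ Subgroup.normalizer (L : Set G)) : RelPReduced p L (W ⊓ L) := by
  have hWK := h.1
  have hKW := h.2.1
  refine ⟨inf_le_right, ?_, ?_, ?_, ?_⟩
  · intro l hl
    exact mem_normalizer_inf (hKW (hLK hl)) (Subgroup.le_normalizer hl)
  · intro a ha b hb
    exact h.2.2.1 a ha.1 b hb.1
  · intro a ha
    exact h.2.2.2.1 a ha.1
  · intro D hDL hLD hDp
    have h1 : ∀ d ∈ D, ∃ k : ℕ, d ^ (p ^ k) ∈ Subgroup.centralizer (W : Set G) := by
      intro d hd
      obtain ⟨k, hk⟩ := hDp d hd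
      refine ⟨k + 1, ?_⟩
      rw [pow_succ, pow_mul]
      have hdL : d ^ p ^ k ∈ L := L.pow_mem (hDL hd) _
      exact pow_mem_centralizer_of_chain h.2.2.2.1 hdL (hKW (hLK hdL)) (hWK.trans hKL) hk
    have h2 := h.le_centralizer_of_subnormal L hLK hKL D hDL hLD h1
    exact h2.trans (Subgroup.centralizer_le (by exact_mod_cast (inf_le_left : W ⊓ L ≤ W)))

/-- **(N-b)** `C_L(W) = C_L(W ∩ L)`. -/
theorem RelPReduced.inf_centralizer_eq {K W L : Subgroup G} (h : RelPReduced p K W) (hLK : L ≤ K)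
    (hKL : K ≤ Subgroup.normalizer (L : Set G)) :
    L ⊓ Subgroup.centralizer (W : Set G) =
      L ⊓ Subgroup.centralizer ((W ⊓ L : Subgroup G) : Set G) := by
  have hWK := h.1
  have hKW := h.2.1
  apply le_antisymm
  · exact inf_le_inf le_rfl
      (Subgroup.centralizer_le (by exact_mod_cast (inf_le_left : W ⊓ L ≤ W)))
  · refine le_inf inf_le_left ?_
    have hLD : L ≤ Subgroup.normalizer
        ((L ⊓ Subgroup.centralizer ((W ⊓ L : Subgroup G) : Set G) : Subgroup G) : Set G) := by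
      intro l hl
      apply mem_normalizer_inf (Subgroup.le_normalizer hl)
      apply mem_normalizer_centralizer
      exact mem_normalizer_inf (hKW (hLK hl)) (Subgroup.le_normalizer hl)
    have h1 : ∀ d ∈ L ⊓ Subgroup.centralizer ((W ⊓ L : Subgroup G) : Set G),
        ∃ k : ℕ, d ^ (p ^ k) ∈ Subgroup.centralizer (W : Set G) := by
      intro d hd
      refine ⟨1, ?_⟩
      rw [pow_one]
      exact pow_mem_centralizer_of_chain h.2.2.2.1 hd.1 (hKW (hLK hd.1)) (hWK.trans hKL) hd.2
    exact h.le_centralizer_of_subnormal L hLK hKL _ inf_le_left hLD h1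

omit [Finite G] [Fact p.Prime] in
theorem mem_centralizer_map_conj {W : Subgroup G} {g x : G} :
    x ∈ Subgroup.centralizer ((W.map (MulAut.conj g).toMonoidHom : Subgroup G) : Set G) ↔
      g⁻¹ * x * g ∈ Subgroup.centralizer (W : Set G) := by
  rw [Subgroup.mem_centralizer_iff, Subgroup.mem_centralizer_iff]
  constructor
  · intro h w hw
    have h1 := h (g * w * g⁻¹) ⟨w, hw, by simp [MulAut.conj_apply]⟩
    calc w * (g⁻¹ * x * g) = g⁻¹ * ((g * w * g⁻¹) * x) * g := by group
      _ = g⁻¹ * (x * (g * w * g⁻¹)) * g := by rw [h1]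
      _ = g⁻¹ * x * g * w := by group
  · rintro h _ ⟨w, hw, rfl⟩
    have h1 := h w hw
    simp only [MulEquiv.coe_toMonoidHom, MulAut.conj_apply]
    calc g * w * g⁻¹ * x = g * (w * (g⁻¹ * x * g)) * g⁻¹ := by group
      _ = g * ((g⁻¹ * x * g) * w) * g⁻¹ := by rw [h1]
      _ = x * (g * w * g⁻¹) := by group

/-- Conjugation by an element normalizing `L` preserves relative `p`-reducedness. -/
theorem RelPReduced.map_conj {L W : Subgroup G} (h : RelPReduced p L W) {g : G}
    (hg : g ∈ Subgroup.normalizer (L : Set G)) :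
    RelPReduced p L (W.map (MulAut.conj g).toMonoidHom) := by
  obtain ⟨hWL, hLW, hcomm, hexp, hD⟩ := h
  have hg' : g⁻¹ ∈ Subgroup.normalizer (L : Set G) := Subgroup.inv_mem _ hg
  have hconjL : ∀ l ∈ L, g * l * g⁻¹ ∈ L := fun l hl => (Subgroup.mem_normalizer_iff.mp hg l).mp hl
  have hconjL' : ∀ l ∈ L, g⁻¹ * l * g ∈ L := fun l hl => by
    have := (Subgroup.mem_normalizer_iff.mp hg' l).mp hl
    simpa using this
  refine ⟨?_, ?_, ?_, ?_, ?_⟩
  · rintro _ ⟨w, hw, rfl⟩
    exact hconjL w (hWL hw)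
  · intro l hl
    apply mem_normalizer_of_map_conj_le
    rintro _ ⟨_, ⟨w, hw, rfl⟩, rfl⟩
    refine ⟨(g⁻¹ * l * g) * w * (g⁻¹ * l * g)⁻¹, ?_, ?_⟩
    · exact (Subgroup.mem_normalizer_iff.mp (hLW (hconjL' l hl)) w).mp hw
    · simp only [MulEquiv.coe_toMonoidHom, MulAut.conj_apply]; group
  · rintro _ ⟨a, ha, rfl⟩ _ ⟨b, hb, rfl⟩
    rw [← map_mul, ← map_mul, hcomm a ha b hb]
  · rintro _ ⟨a, ha, rfl⟩
    rw [← map_pow, hexp a ha, map_one]
  · intro D hDL hLD hDp
    have h1 : D.map (MulAut.conj g⁻¹).toMonoidHom ≤ L := by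
      rintro _ ⟨d, hd, rfl⟩
      have := hconjL' d (hDL hd)
      simpa [MulAut.conj_apply] using this
    have h2 : L ≤ Subgroup.normalizer ((D.map (MulAut.conj g⁻¹).toMonoidHom : Subgroup G) : Set G) := by
      intro l hl
      apply mem_normalizer_of_map_conj_le
      rintro _ ⟨_, ⟨d, hd, rfl⟩, rfl⟩
      refine ⟨(g * l * g⁻¹) * d * (g * l * g⁻¹)⁻¹, ?_, ?_⟩
      · exact (Subgroup.mem_normalizer_iff.mp (hLD (hconjL l hl)) d).mp hd
      · simp only [MulEquiv.coe_toMonoidHom, MulAut.conj_apply]; group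
    have h3 : ∀ d ∈ D.map (MulAut.conj g⁻¹).toMonoidHom,
        ∃ k : ℕ, d ^ (p ^ k) ∈ Subgroup.centralizer (W : Set G) := by
      rintro _ ⟨d, hd, rfl⟩
      obtain ⟨k, hk⟩ := hDp d hd
      refine ⟨k, ?_⟩
      rw [mem_centralizer_map_conj] at hk
      rw [← map_pow]
      simpa [MulAut.conj_apply] using hk
    have h4 := hD _ h1 h2 h3
    intro d hd
    rw [mem_centralizer_map_conj]
    apply h4
    exact ⟨d, hd, by simp [MulAut.conj_apply]⟩

/-- `Y_L` is normalized by `N(L)`. -/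
theorem normalizer_le_normalizer_largestPReducedOf (L : Subgroup G) :
    Subgroup.normalizer (L : Set G) ≤
      Subgroup.normalizer ((largestPReducedOf p L : Subgroup G) : Set G) := by
  intro g hg
  apply mem_normalizer_of_map_conj_le
  exact le_largestPReducedOf_of_rel
    (RelPReduced.map_conj (relPReduced_largestPReducedOf (p := p) L) hg)

/-- A subgroup all of whose `p'`-elements centralize `V` acts as a `p`-group on `V`. -/
theorem exists_pow_mem_centralizer_of_pPrime {V D : Subgroup G}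
    (h : ∀ y ∈ D, (orderOf y).Coprime p → y ∈ Subgroup.centralizer (V : Set G)) :
    ∀ d ∈ D, ∃ k : ℕ, d ^ (p ^ k) ∈ Subgroup.centralizer (V : Set G) := by
  have hp : p.Prime := Fact.out
  intro d hd
  have hd0 : orderOf d ≠ 0 := (orderOf_pos d).ne'
  obtain ⟨e, m, hm, hn⟩ := Nat.exists_eq_pow_mul_and_not_dvd hd0 p hp.ne_one
  refine ⟨e, h _ (D.pow_mem hd _) ?_⟩
  have h1 : orderOf (d ^ p ^ e) = m := by
    rw [orderOf_pow' d (pow_ne_zero e hp.ne_zero), hn, Nat.gcd_eq_right (dvd_mul_right _ _)]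
    exact Nat.mul_div_cancel_left m (pow_pos hp.pos e)
  rw [h1, Nat.coprime_comm, Nat.Prime.coprime_iff_not_dvd hp]
  exact hm

/-- A `p'`-element acting as a `p`-element on `V` centralizes `V`. -/
theorem mem_centralizer_of_coprime_of_pow_mem {V : Subgroup G} {y : G}
    (hy : (orderOf y).Coprime p) {k : ℕ} (hk : y ^ (p ^ k) ∈ Subgroup.centralizer (V : Set G)) :
    y ∈ Subgroup.centralizer (V : Set G) := by
  have hcop : (p ^ k).Coprime (orderOf y) := (Nat.Coprime.pow_right _ hy).symm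
  obtain ⟨m, hm⟩ := exists_pow_eq_self_of_coprime hcop
  rw [← hm]
  exact Subgroup.pow_mem _ hk m

omit [Finite G] [Fact p.Prime] in
theorem isPGroup_of_exponent {V : Subgroup G} (hexp : ∀ a ∈ V, a ^ p = 1) : IsPGroup p ↥V := by
  intro v
  refine ⟨1, ?_⟩
  rw [pow_one]
  apply Subtype.ext
  have := hexp v v.2
  simpa using this

/-- **(N-c), inductive core.** `L ⊴ K`; `x ∈ L` a `p'`-element centralizing every `p`-reduced normal
subgroup of `K` inside `L`. Then `x` centralizes every `K`-invariant `p`-reduced normal subgroup of `L`. -/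
theorem mem_centralizer_of_rel_aux {K L : Subgroup G} (hLK : L ≤ K)
    (hKL : K ≤ Subgroup.normalizer (L : Set G)) {x : G} (hxL : x ∈ L) (hx : (orderOf x).Coprime p)
    (hxW : ∀ W : Subgroup G, RelPReduced p K W → W ≤ L → x ∈ Subgroup.centralizer (W : Set G)) :
    ∀ (n : ℕ) (V : Subgroup G), Nat.card ↥V = n → RelPReduced p L V →
      K ≤ Subgroup.normalizer (V : Set G) → x ∈ Subgroup.centralizer (V : Set G) := by
  intro n
  induction n using Nat.strong_induction_on with
  | _ n ih =>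
  intro V hn hV hKV
  by_cases hrel : RelPReduced p K V
  · exact hxW V hrel hV.1
  obtain ⟨hVL, hLV, hcomm, hexp, hDL⟩ := hV
  have hVp : IsPGroup p ↥V := isPGroup_of_exponent hexp
  have hex : ¬ ∀ D : Subgroup G, D ≤ K → K ≤ Subgroup.normalizer (D : Set G) →
      (∀ d ∈ D, ∃ k : ℕ, d ^ (p ^ k) ∈ Subgroup.centralizer (V : Set G)) →
        D ≤ Subgroup.centralizer (V : Set G) :=
    fun h => hrel ⟨hVL.trans hLK, hKV, hcomm, hexp, h⟩
  push Not at hex
  obtain ⟨D, hDK, hKD, hDp, hDnot⟩ := hex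
  have hV'V : V ⊓ Subgroup.centralizer (D : Set G) ≤ V := inf_le_left
  have hV'lt : V ⊓ Subgroup.centralizer (D : Set G) < V := by
    refine lt_of_le_of_ne hV'V ?_
    intro h
    apply hDnot
    rw [Subgroup.le_centralizer_iff, ← h]
    exact inf_le_right
  have hcard : Nat.card ↥(V ⊓ Subgroup.centralizer (D : Set G)) < n := by
    rw [← hn]
    exact Set.Finite.card_lt_card (Set.toFinite _) (by exact_mod_cast hV'lt)
  have hKV' : K ≤ Subgroup.normalizer ((V ⊓ Subgroup.centralizer (D : Set G) : Subgroup G) : Set G) := by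
    intro k hk
    exact mem_normalizer_inf (hKV hk) (mem_normalizer_centralizer (hKD hk))
  have hDLc : D ⊓ L ≤ Subgroup.centralizer (V : Set G) := by
    apply hDL (D ⊓ L) inf_le_right
    · intro l hl
      exact mem_normalizer_inf (hKD (hLK hl)) (Subgroup.le_normalizer hl)
    · intro d hd
      exact hDp d hd.1
  have hcommDL : ∀ l ∈ L, ∀ d ∈ D, ⁅l, d⁆ ∈ Subgroup.centralizer (V : Set G) := by
    intro l hl d hd
    apply hDLc
    refine Subgroup.mem_inf.mpr ⟨?_, ?_⟩
    · have h1 : l * d * l⁻¹ ∈ D := (Subgroup.mem_normalizer_iff.mp (hKD (hLK hl)) d).mp hd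
      have e : ⁅l, d⁆ = (l * d * l⁻¹) * d⁻¹ := by rw [commutatorElement_def]
      rw [e]
      exact D.mul_mem h1 (D.inv_mem hd)
    · have h1 : d * l⁻¹ * d⁻¹ ∈ L :=
        (Subgroup.mem_normalizer_iff.mp (hKL (hDK hd)) l⁻¹).mp (L.inv_mem hl)
      have e : ⁅l, d⁆ = l * (d * l⁻¹ * d⁻¹) := by rw [commutatorElement_def]; group
      rw [e]
      exact L.mul_mem hl h1
  have hDV : D ≤ Subgroup.normalizer (V : Set G) := hDK.trans hKV
  -- `A × B` for elements of `L`
  have hAxB : ∀ y ∈ L, (orderOf y).Coprime p →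
      y ∈ Subgroup.centralizer ((V ⊓ Subgroup.centralizer (D : Set G) : Subgroup G) : Set G) →
      y ∈ Subgroup.centralizer (V : Set G) := by
    intro y hyL hy hyc
    apply mem_centralizer_of_AxB_abelian hVp hcomm hy (hLV hyL) hDV hDp
      (fun b hb => hcommDL y hyL b hb)
    intro z hz
    rw [Subgroup.mem_centralizer_singleton_iff]
    exact Subgroup.mem_centralizer_iff.mp hyc z hz
  have hV'rel : RelPReduced p L (V ⊓ Subgroup.centralizer (D : Set G)) := by
    refine ⟨hV'V.trans hVL, hLK.trans hKV', fun a ha b hb => hcomm a ha.1 b hb.1,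
      fun a ha => hexp a ha.1, ?_⟩
    intro E hEL hLE hEp
    have h1 : ∀ y ∈ E, (orderOf y).Coprime p → y ∈ Subgroup.centralizer (V : Set G) := by
      intro y hy hyc
      obtain ⟨k, hk⟩ := hEp y hy
      exact hAxB y (hEL hy) hyc (mem_centralizer_of_coprime_of_pow_mem hyc hk)
    have h2 := hDL E hEL hLE (exists_pow_mem_centralizer_of_pPrime h1)
    exact h2.trans (Subgroup.centralizer_le (by exact_mod_cast hV'V))
  have hxV' := ih _ hcard _ rfl hV'rel hKV'
  exact hAxB x hxL hx hxV'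

/-- **(N-c)** For `L ⊴ K`: `C_L(Y_K ∩ L) ≤ C_L(Y_L)`. -/
theorem inf_centralizer_le_of_normal {K L : Subgroup G} (hLK : L ≤ K)
    (hKL : K ≤ Subgroup.normalizer (L : Set G)) :
    L ⊓ Subgroup.centralizer ((largestPReducedOf p K ⊓ L : Subgroup G) : Set G) ≤
      Subgroup.centralizer ((largestPReducedOf p L : Subgroup G) : Set G) := by
  have hYL := relPReduced_largestPReducedOf (p := p) L
  have hKY : K ≤ Subgroup.normalizer ((largestPReducedOf p L : Subgroup G) : Set G) :=
    hKL.trans (normalizer_le_normalizer_largestPReducedOf L)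
  have hLD : L ≤ Subgroup.normalizer
      ((L ⊓ Subgroup.centralizer ((largestPReducedOf p K ⊓ L : Subgroup G) : Set G) : Subgroup G) :
        Set G) := by
    intro l hl
    apply mem_normalizer_inf (Subgroup.le_normalizer hl)
    apply mem_normalizer_centralizer
    have hKYK := (relPReduced_largestPReducedOf (p := p) K).2.1
    exact mem_normalizer_inf (hKYK (hLK hl)) (Subgroup.le_normalizer hl)
  apply hYL.2.2.2.2 _ inf_le_left hLD
  apply exists_pow_mem_centralizer_of_pPrime
  intro y hy hyc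
  apply mem_centralizer_of_rel_aux hLK hKL hy.1 hyc _ _ _ rfl hYL hKY
  intro W hW hWL
  exact Subgroup.centralizer_le (by exact_mod_cast le_inf (le_largestPReducedOf_of_rel hW) hWL) hy.2

end

end Cfsg.Agent.Lib.Helper17
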