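import Cfsg.Agent.Lib.Helper17.SylowNormal2
import Cfsg.Agent.Lib.Helper17.SylowLemmas
import Cfsg.Agent.Lib.Helper17.CharP3
import Cfsg.Agent.Lib.Helper17.PReducedRel
import Cfsg.Agent.Lib.Helper17.Conj
import Cfsg.Agent.Lib.Helper9.Misc
import Cfsg.Agent.Lib.Helper1.ThreeSolvable

set_option autoImplicit false

namespace Cfsg.Agent.Lib.Helper17

open Cfsg Cfsg.Agent.Lib.Helper16 Cfsg.Agent.Lib.Helper9

section FrakM1

variable {H : Type*} [Group H] {p : ℕ}

/-- `O_p(L) ≤ S` for a Sylow `p`-subgroup `S` of the ambient group inside `L`. -/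
theorem pCoreOf_le_sylow [Finite H] [Fact p.Prime] (S : Sylow p H) {L : Subgroup H}
    (hSL : (S : Subgroup H) ≤ L) : pCoreOf p L ≤ S := by
  have hp := pCoreOf_isPGroup (p := p) L
  have hn : (S : Subgroup H) ≤ Subgroup.normalizer (pCoreOf p L : Set H) :=
    hSL.trans (le_normalizer_pCoreOf L)
  have h1 : IsPGroup p ((S : Subgroup H) ⊔ pCoreOf p L : Subgroup H) :=
    S.2.to_sup_of_normal_right' hp hn
  have h2 := S.is_maximal' h1 le_sup_left
  rw [← h2]; exact le_sup_right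

/-- `Ω₁(Z(P))` as an explicit subgroup: central elements of `P` killed by `p`. -/
def omegaZ (p : ℕ) (P : Subgroup H) : Subgroup H where
  carrier := {z | z ∈ P ∧ z ∈ Subgroup.centralizer (P : Set H) ∧ z ^ p = 1}
  one_mem' := ⟨P.one_mem, Subgroup.one_mem _, one_pow _⟩
  mul_mem' := by
    rintro a b ⟨ha, hac, hap⟩ ⟨hb, hbc, hbp⟩
    refine ⟨P.mul_mem ha hb, Subgroup.mul_mem _ hac hbc, ?_⟩
    have hcomm : Commute a b := (Subgroup.mem_centralizer_iff.mp hbc a ha)
    rw [hcomm.mul_pow, hap, hbp, one_mul]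
  inv_mem' := by
    rintro a ⟨ha, hac, hap⟩
    exact ⟨P.inv_mem ha, Subgroup.inv_mem _ hac, by rw [inv_pow, hap, inv_one]⟩

theorem mem_omegaZ {P : Subgroup H} {z : H} :
    z ∈ omegaZ p P ↔ z ∈ P ∧ z ∈ Subgroup.centralizer (P : Set H) ∧ z ^ p = 1 := Iff.rfl

theorem omegaZ_le (P : Subgroup H) : omegaZ p P ≤ P := fun _ hz => hz.1

theorem omegaZ_le_centralizer (P : Subgroup H) :
    omegaZ p P ≤ Subgroup.centralizer (P : Set H) := fun _ hz => hz.2.1

theorem omegaZ_comm (P : Subgroup H) : ∀ a ∈ omegaZ p P, ∀ b ∈ omegaZ p P, a * b = b * a := by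
  intro a ha b hb
  exact (Subgroup.mem_centralizer_iff.mp hb.2.1 a ha.1)

theorem omegaZ_exp (P : Subgroup H) : ∀ a ∈ omegaZ p P, a ^ p = 1 := fun _ ha => ha.2.2

theorem normalizer_le_normalizer_omegaZ [Finite H] (P : Subgroup H) :
    Subgroup.normalizer (P : Set H) ≤ Subgroup.normalizer (omegaZ p P : Set H) := by
  intro g hg
  apply mem_normalizer_of_map_conj_le
  rintro _ ⟨z, hz, rfl⟩
  simp only [MulEquiv.coe_toMonoidHom, MulAut.conj_apply]
  obtain ⟨hzP, hzC, hzp⟩ := hz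
  refine ⟨(Subgroup.mem_normalizer_iff.mp hg z).mp hzP, ?_, ?_⟩
  · have := normalizer_le_normalizer_centralizer' P hg
    exact (Subgroup.mem_normalizer_iff.mp this z).mp hzC
  · have : g * z * g⁻¹ = MulAut.conj g z := by simp [MulAut.conj_apply]
    rw [this, ← map_pow, hzp, map_one]

/-- Conjugating into a normalized subgroup. -/
theorem conj_mem_of_mem_normalizer' {A : Subgroup H} {g a : H}
    (hg : g ∈ Subgroup.normalizer (A : Set H)) (ha : a ∈ A) : g * a * g⁻¹ ∈ A :=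
  (Subgroup.mem_normalizer_iff.mp hg a).mp ha

theorem conj_inv_mem_of_mem_normalizer' {A : Subgroup H} {g a : H}
    (hg : g ∈ Subgroup.normalizer (A : Set H)) (ha : a ∈ A) : g⁻¹ * a * g ∈ A := by
  have := conj_mem_of_mem_normalizer' (Subgroup.inv_mem _ hg) ha
  simpa using this

/-- Powers modulo a normalized subgroup. -/
theorem inv_pow_mul_mul_pow_mem {Cn : Subgroup H} {d c : H}
    (hd : d ∈ Subgroup.normalizer (Cn : Set H)) (hc : c ∈ Cn) (n : ℕ) :
    (d ^ n)⁻¹ * (d * c) ^ n ∈ Cn := by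
  induction n with
  | zero => simp
  | succ n ih =>
    have e : (d ^ (n + 1))⁻¹ * (d * c) ^ (n + 1) = (d⁻¹ * ((d ^ n)⁻¹ * (d * c) ^ n) * d) * c := by
      rw [pow_succ, pow_succ]; group
    rw [e]
    exact Cn.mul_mem (conj_inv_mem_of_mem_normalizer' hd ih) hc

/-- If `D` acts as a `p`-group modulo `Cn` and a Sylow `p`-subgroup `S` of the ambient group
normalizes `D`, then `D = (S ∩ D)(D ∩ Cn)` elementwise. -/
theorem exists_mul_of_pcond [Finite H] [Fact p.Prime] (S : Sylow p H) {D Cn : Subgroup H}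
    (hSD : (S : Subgroup H) ≤ Subgroup.normalizer (D : Set H))
    (hDC : D ≤ Subgroup.normalizer (Cn : Set H))
    (hpc : ∀ d ∈ D, ∃ k : ℕ, d ^ (p ^ k) ∈ Cn) :
    ∀ d ∈ D, ∃ s ∈ (S : Subgroup H) ⊓ D, ∃ c ∈ D ⊓ Cn, d = s * c := by
  have hp : p.Prime := Fact.out
  set P := (S : Subgroup H) ⊓ D with hP
  set N₀ := D ⊓ Cn with hN₀
  have hN₀D : N₀ ≤ D := inf_le_left
  have hDN₀ : D ≤ Subgroup.normalizer (N₀ : Set H) := fun d hd =>
    mem_normalizer_inf (Subgroup.le_normalizer hd) (hDC hd)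
  have hPN₀ : P ≤ Subgroup.normalizer (N₀ : Set H) := inf_le_right.trans hDN₀
  set E := N₀ ⊔ P with hE
  have hED : E ≤ D := sup_le hN₀D inf_le_right
  -- index computation
  have h1 : ¬ p ∣ E.relIndex D := by
    intro hd
    have h2 : E.relIndex D ∣ P.relIndex D := Subgroup.relIndex_dvd_of_le_left D le_sup_right
    have h3 : P.relIndex D = (S : Subgroup H).relIndex D := Subgroup.inf_relIndex_right _ _
    have h4 := relIndex_dvd_index_of_le_normalizer (S : Subgroup H) D hSD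
    exact S.not_dvd_index (dvd_trans hd (dvd_trans h2 (h3 ▸ h4)))
  have h2 : ∃ n : ℕ, N₀.relIndex D = p ^ n := by
    haveI : (N₀.subgroupOf D).Normal :=
      (Subgroup.normal_subgroupOf_iff_le_normalizer hN₀D).mpr hDN₀
    have hq : IsPGroup p (↥D ⧸ N₀.subgroupOf D) := by
      intro x
      induction x using QuotientGroup.induction_on with
      | H x =>
        obtain ⟨k, hk⟩ := hpc x x.2
        refine ⟨k, ?_⟩
        rw [← QuotientGroup.mk_pow, QuotientGroup.eq_one_iff, Subgroup.mem_subgroupOf]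
        refine Subgroup.mem_inf.mpr ⟨?_, ?_⟩
        · exact (x ^ p ^ k).2
        · simpa using hk
    obtain ⟨n, hn⟩ := IsPGroup.iff_card.mp hq
    refine ⟨n, ?_⟩
    rw [Subgroup.relIndex, Subgroup.index_eq_card]
    exact hn
  obtain ⟨n, hn⟩ := h2
  have h3 : E.relIndex D ∣ p ^ n := by
    rw [← hn]
    exact Subgroup.relIndex_dvd_of_le_left D le_sup_left
  have h4 : E.relIndex D = 1 := by
    obtain ⟨j, -, hj⟩ := (Nat.dvd_prime_pow hp).mp h3
    rcases Nat.eq_zero_or_pos j with h0 | hpos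
    · rw [hj, h0, pow_zero]
    · exfalso; apply h1; rw [hj]; exact dvd_pow_self p hpos.ne'
  have hDE : D ≤ E := Subgroup.relIndex_eq_one.mp h4
  intro d hd
  obtain ⟨c, hc, s, hs, hcs⟩ := (mem_sup_of_le_normalizer hPN₀).mp (hDE hd)
  refine ⟨s, hs, s⁻¹ * c * s, conj_inv_mem_of_mem_normalizer' (hPN₀ hs) hc, ?_⟩
  rw [← hcs]; group

/-- Transfer of `p`-reducedness between two subgroups with the same image modulo `C(W)`. -/
theorem RelPReduced.transfer [Finite H] [Fact p.Prime] {K K' W : Subgroup H}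
    (h : RelPReduced p K W) (hWK' : W ≤ K') (hK'W : K' ≤ Subgroup.normalizer (W : Set H))
    (h1 : ∀ k ∈ K, ∃ x ∈ K', ∃ c ∈ Subgroup.centralizer (W : Set H), k = x * c)
    (h2 : ∀ x ∈ K', ∃ k ∈ K, ∃ c ∈ Subgroup.centralizer (W : Set H), x = k * c) :
    RelPReduced p K' W := by
  refine ⟨hWK', hK'W, h.2.2.1, h.2.2.2.1, ?_⟩
  intro D hDK' hK'D hpc
  set Cn := Subgroup.centralizer (W : Set H) with hCn
  have hK'Cn : K' ≤ Subgroup.normalizer (Cn : Set H) :=
    hK'W.trans (normalizer_le_normalizer_centralizer' W)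
  have hDCn : D ≤ Subgroup.normalizer (Cn : Set H) := hDK'.trans hK'Cn
  set D' := (D ⊔ Cn) ⊓ K with hD'
  have hD'K : D' ≤ K := inf_le_right
  have hKD' : K ≤ Subgroup.normalizer (D' : Set H) := by
    intro k hk
    obtain ⟨x, hx, c, hc, rfl⟩ := h1 k hk
    refine mem_normalizer_inf ?_ (Subgroup.le_normalizer hk)
    refine Subgroup.mul_mem _ (mem_normalizer_sup (hK'D hx) (hK'Cn hx)) ?_
    exact Subgroup.le_normalizer (show c ∈ D ⊔ Cn from Subgroup.mem_sup_right hc)
  have hpc' : ∀ e ∈ D', ∃ k : ℕ, e ^ (p ^ k) ∈ Subgroup.centralizer (W : Set H) := by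
    intro e he
    obtain ⟨c, hc, d, hd, hcd⟩ :=
      (mem_sup_of_le_normalizer (A := Cn) (B := D) hDCn).mp
        (by rw [sup_comm]; exact (Subgroup.mem_inf.mp he).1)
    obtain ⟨k, hk⟩ := hpc d hd
    refine ⟨k, ?_⟩
    have hc' : d⁻¹ * c * d ∈ Cn := conj_inv_mem_of_mem_normalizer' (hDCn hd) hc
    have e1 : e = d * (d⁻¹ * c * d) := by rw [← hcd]; group
    have h3 := inv_pow_mul_mul_pow_mem (hDCn hd) hc' (p ^ k)
    rw [← e1] at h3
    have e2 : e ^ p ^ k = d ^ p ^ k * ((d ^ p ^ k)⁻¹ * e ^ p ^ k) := by group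
    rw [e2]
    exact Cn.mul_mem hk h3
  have hD'C := h.2.2.2.2 D' hD'K hKD' hpc'
  intro d hd
  obtain ⟨k, hk, c, hc, hdk⟩ := h2 d (hDK' hd)
  have hkD : k ∈ D ⊔ Cn := by
    have : k = d * c⁻¹ := by rw [hdk]; group
    rw [this]
    exact Subgroup.mul_mem _ (Subgroup.mem_sup_left hd) (Subgroup.mem_sup_right (Cn.inv_mem hc))
  have hkC : k ∈ Cn := hD'C (Subgroup.mem_inf.mpr ⟨hkD, hk⟩)
  rw [hdk]
  exact Cn.mul_mem hkC hc

theorem RelPReduced.le_pCoreOf' [Finite H] [Fact p.Prime] {K W : Subgroup H}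
    (h : RelPReduced p K W) : W ≤ pCoreOf p K :=
  le_pCoreOf h.1 h.2.1 (isPGroup_of_exponent h.2.2.2.1)

theorem RelPReduced.pCoreOf_le_centralizer [Finite H] [Fact p.Prime] {K W : Subgroup H}
    (h : RelPReduced p K W) : pCoreOf p K ≤ Subgroup.centralizer (W : Set H) := by
  apply h.2.2.2.2 _ (pCoreOf_le K) (le_normalizer_pCoreOf K)
  intro d hd
  obtain ⟨k, hk⟩ := (pCoreOf_isPGroup (p := p) K) ⟨d, hd⟩
  refine ⟨k, ?_⟩
  have : d ^ p ^ k = 1 := by simpa using congrArg Subtype.val hk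
  rw [this]; exact Subgroup.one_mem _

theorem RelPReduced.le_centralizer_self {K W : Subgroup H}
    (h : RelPReduced p K W) : W ≤ Subgroup.centralizer (W : Set H) := by
  intro w hw
  rw [Subgroup.mem_centralizer_iff]
  intro v hv
  exact h.2.2.1 v hv w hw

/-- The subgroup generated by the `X`-conjugates of `W`. -/
def conjClosure (X W : Subgroup H) : Subgroup H :=
  ⨆ x : ↥X, W.map (MulAut.conj (x : H)).toMonoidHom

theorem le_conjClosure (X W : Subgroup H) : W ≤ conjClosure X W := by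
  have h := le_iSup (fun x : ↥X => W.map (MulAut.conj (x : H)).toMonoidHom) (1 : ↥X)
  have e : W.map (MulAut.conj ((1 : ↥X) : H)).toMonoidHom = W := by
    ext w; rw [mem_map_conj]; simp
  rw [e] at h
  exact h

theorem conjClosure_le {X W Z : Subgroup H} (hWZ : W ≤ Z)
    (hXZ : X ≤ Subgroup.normalizer (Z : Set H)) : conjClosure X W ≤ Z := by
  apply iSup_le
  rintro ⟨x, hx⟩ _ ⟨w, hw, rfl⟩
  simp only [MulEquiv.coe_toMonoidHom, MulAut.conj_apply]
  exact conj_mem_of_mem_normalizer' (hXZ hx) (hWZ hw)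

theorem le_normalizer_conjClosure [Finite H] (X W : Subgroup H) :
    X ≤ Subgroup.normalizer (conjClosure X W : Set H) := by
  intro x hx
  apply mem_normalizer_of_map_conj_le
  unfold conjClosure
  rw [Subgroup.map_iSup]
  apply iSup_le
  rintro ⟨y, hy⟩
  refine le_trans ?_ (le_iSup _ (⟨x * y, X.mul_mem hx hy⟩ : ↥X))
  rintro _ ⟨_, ⟨w, hw, rfl⟩, rfl⟩
  exact ⟨w, hw, by simp [MulAut.conj_apply, mul_assoc]⟩

theorem le_centralizer_conjClosure {X W D : Subgroup H}
    (hD : D ≤ Subgroup.centralizer (W : Set H)) (hXD : X ≤ Subgroup.normalizer (D : Set H)) :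
    D ≤ Subgroup.centralizer (conjClosure X W : Set H) := by
  rw [Subgroup.le_centralizer_iff]
  apply iSup_le
  rintro ⟨x, hx⟩ _ ⟨w, hw, rfl⟩
  simp only [MulEquiv.coe_toMonoidHom, MulAut.conj_apply, Subgroup.mem_centralizer_iff]
  intro d hd
  have h1 : x⁻¹ * d * x ∈ D := conj_inv_mem_of_mem_normalizer' (hXD hx) hd
  have h2 := Subgroup.mem_centralizer_iff.mp (hD h1) w hw
  have e1 : d * (x * w * x⁻¹) = x * ((x⁻¹ * d * x) * w) * x⁻¹ := by group
  have e2 : x * w * x⁻¹ * d = x * (w * (x⁻¹ * d * x)) * x⁻¹ := by group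
  rw [e1, e2, h2]

/-- MSS 1.24(b): `p`-reduced normal subgroups of a parabolic subgroup `R` of a group `X` of
characteristic `p` generate `p`-reduced normal subgroups of `X`. -/
theorem RelPReduced.conjClosure_of_charP [Finite H] [Fact p.Prime] (S : Sylow p H)
    {R X W : Subgroup H} (hSR : (S : Subgroup H) ≤ R) (hRX : R ≤ X) (hX : IsCharPSub p X)
    (h : RelPReduced p R W) : RelPReduced p X (conjClosure X W) := by
  set P := pCoreOf p X with hP
  have hSX : (S : Subgroup H) ≤ X := hSR.trans hRX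
  have hPS : P ≤ S := pCoreOf_le_sylow S hSX
  have hXP : X ≤ Subgroup.normalizer (P : Set H) := le_normalizer_pCoreOf X
  have hPR : P ≤ pCoreOf p R :=
    le_pCoreOf (hPS.trans hSR) (hRX.trans hXP) (pCoreOf_isPGroup X)
  have hPW : P ≤ Subgroup.centralizer (W : Set H) :=
    hPR.trans (RelPReduced.pCoreOf_le_centralizer h)
  have hWC : W ≤ Subgroup.centralizer (P : Set H) := Subgroup.le_centralizer_iff.mp hPW
  have hWP : W ≤ P := fun w hw => hX (Subgroup.mem_inf.mpr ⟨hRX (h.1 hw), hWC hw⟩)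
  have hWZ : W ≤ omegaZ p P := fun w hw => ⟨hWP hw, hWC hw, h.2.2.2.1 w hw⟩
  have hV : conjClosure X W ≤ omegaZ p P :=
    conjClosure_le hWZ (hXP.trans (normalizer_le_normalizer_omegaZ P))
  have hXV : X ≤ Subgroup.normalizer (conjClosure X W : Set H) := le_normalizer_conjClosure X W
  refine ⟨hV.trans ((omegaZ_le P).trans (pCoreOf_le X)), hXV,
    fun a ha b hb => omegaZ_comm P a (hV ha) b (hV hb), fun a ha => omegaZ_exp P a (hV ha), ?_⟩
  intro D hDX hXD hpc
  have hcc : Subgroup.centralizer (conjClosure X W : Set H) ≤ Subgroup.centralizer (W : Set H) :=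
    Subgroup.centralizer_le (by exact_mod_cast le_conjClosure X W)
  suffices hDW : D ≤ Subgroup.centralizer (W : Set H) from le_centralizer_conjClosure hDW hXD
  have hDR : D ⊓ R ≤ Subgroup.centralizer (W : Set H) := by
    apply h.2.2.2.2 (D ⊓ R) inf_le_right
    · intro r hr
      exact mem_normalizer_inf (hXD (hRX hr)) (Subgroup.le_normalizer hr)
    · intro d hd
      obtain ⟨k, hk⟩ := hpc d (Subgroup.mem_inf.mp hd).1
      exact ⟨k, hcc hk⟩
  intro d hd
  obtain ⟨s, hs, c, hc, rfl⟩ := exists_mul_of_pcond S (hSX.trans hXD)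
    (hDX.trans (hXV.trans (normalizer_le_normalizer_centralizer' _))) hpc d hd
  obtain ⟨hsS, hsD⟩ := Subgroup.mem_inf.mp hs
  exact Subgroup.mul_mem _ (hDR (Subgroup.mem_inf.mpr ⟨hsD, hSR hsS⟩))
    (hcc (Subgroup.mem_inf.mp hc).2)

/-- `Y_R ≤ Y_X` for parabolic `R ≤ X` with `X` of characteristic `p`. -/
theorem largestPReducedOf_mono_of_charP [Finite H] [Fact p.Prime] (S : Sylow p H)
    {R X : Subgroup H} (hSR : (S : Subgroup H) ≤ R) (hRX : R ≤ X) (hX : IsCharPSub p X) :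
    largestPReducedOf p R ≤ largestPReducedOf p X :=
  (le_conjClosure X _).trans (le_largestPReducedOf_of_rel
    (RelPReduced.conjClosure_of_charP S hSR hRX hX (relPReduced_largestPReducedOf R)))

end FrakM1

end Cfsg.Agent.Lib.Helper17
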