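import Cfsg.Agent.Lib.Helper17.FrakM1

set_option autoImplicit false

namespace Cfsg.Agent.Lib.Helper17

open Cfsg Cfsg.Agent.Lib.Helper16 Cfsg.Agent.Lib.Helper9

section FrakM2

variable {H : Type*} [Group H] {p : ℕ}

/-- A subgroup of order `p` in the centre of a nontrivial Sylow subgroup. -/
theorem exists_central_orderOf_eq [Finite H] [Fact p.Prime] (S : Sylow p H)
    (hS : (S : Subgroup H) ≠ ⊥) :
    ∃ z : H, z ∈ (S : Subgroup H) ∧ z ∈ Subgroup.centralizer ((S : Subgroup H) : Set H) ∧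
      orderOf z = p := by
  haveI : Nontrivial ↥(S : Subgroup H) := (Subgroup.nontrivial_iff_ne_bot _).mpr hS
  have hSp : IsPGroup p ↥(S : Subgroup H) := S.2
  haveI := hSp.center_nontrivial
  have hZp : IsPGroup p ↥(Subgroup.center ↥(S : Subgroup H)) := hSp.to_subgroup _
  obtain ⟨n, hn⟩ := IsPGroup.iff_card.mp hZp
  have hn0 : n ≠ 0 := by
    rintro rfl
    rw [pow_zero] at hn
    have := Finite.one_lt_card (α := ↥(Subgroup.center ↥(S : Subgroup H)))
    omega
  have hdvd : p ∣ Nat.card ↥(Subgroup.center ↥(S : Subgroup H)) := by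
    rw [hn]; exact dvd_pow_self p hn0
  obtain ⟨z, hz⟩ := exists_prime_orderOf_dvd_card' p hdvd
  refine ⟨((z : ↥(S : Subgroup H)) : H), (z : ↥(S : Subgroup H)).2, ?_, ?_⟩
  · rw [Subgroup.mem_centralizer_iff]
    intro s hs
    have := Subgroup.mem_center_iff.mp z.2 ⟨s, hs⟩
    exact congrArg Subtype.val this
  · have e1 : orderOf ((z : ↥(S : Subgroup H)) : H) = orderOf (z : ↥(S : Subgroup H)) :=
      Subgroup.orderOf_coe _
    have e2 : orderOf (z : ↥(S : Subgroup H)) = orderOf z := Subgroup.orderOf_coe _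
    rw [e1, e2, hz]

/-- `Y_L ≠ 1` for a parabolic subgroup of characteristic `p` with `O_p(L) ≠ 1`. -/
theorem largestPReducedOf_ne_bot [Finite H] [Fact p.Prime] (S : Sylow p H) {L : Subgroup H}
    (hSL : (S : Subgroup H) ≤ L) (hL : IsCharPSub p L) (hO : pCoreOf p L ≠ ⊥) :
    largestPReducedOf p L ≠ ⊥ := by
  have hS : (S : Subgroup H) ≠ ⊥ := by
    intro h
    apply hO
    rw [eq_bot_iff, ← h]
    exact pCoreOf_le_sylow S hSL
  obtain ⟨z, hzS, hzC, hzo⟩ := exists_central_orderOf_eq S hS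
  set W := Subgroup.zpowers z with hW
  have hSCW : (S : Subgroup H) ≤ Subgroup.centralizer (W : Set H) := by
    intro s hs
    rw [Subgroup.mem_centralizer_iff]
    rintro _ ⟨k, rfl⟩
    have h1 : Commute z s := (Subgroup.mem_centralizer_iff.mp hzC s hs).symm
    exact (h1.zpow_left k).eq
  have hrel : RelPReduced p (S : Subgroup H) W := by
    refine ⟨?_, hSCW.trans (Subgroup.centralizer_le_normalizer _), ?_, ?_, ?_⟩
    · rw [hW, Subgroup.zpowers_le]; exact hzS
    · rintro _ ⟨k, rfl⟩ _ ⟨l, rfl⟩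
      exact ((Commute.refl z).zpow_zpow k l).eq
    · rintro _ ⟨k, rfl⟩
      have : z ^ p = 1 := by rw [← hzo]; exact pow_orderOf_eq_one z
      change (z ^ k) ^ p = 1
      rw [← zpow_natCast, ← zpow_mul, mul_comm, zpow_mul, zpow_natCast, this, one_zpow]
    · intro D hDS _ _
      exact hDS.trans hSCW
  have h2 := RelPReduced.conjClosure_of_charP S le_rfl hSL hL hrel
  have h3 : W ≤ largestPReducedOf p L :=
    (le_conjClosure L W).trans (le_largestPReducedOf_of_rel h2)
  intro hbot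
  have hz1 : z ∈ (⊥ : Subgroup H) := hbot ▸ h3 (Subgroup.mem_zpowers z)
  rw [Subgroup.mem_bot] at hz1
  rw [hz1, orderOf_one] at hzo
  exact (Fact.out : p.Prime).one_lt.ne hzo

/-- Frattini argument for `K` with normal subgroup `K ⊓ Cn` and its Sylow subgroup `S ⊓ Cn`. -/
theorem frattini_sylow_inf [Finite H] [Fact p.Prime] (S : Sylow p H) {K Cn : Subgroup H}
    (hSK : (S : Subgroup H) ≤ K) (hKC : K ≤ Subgroup.normalizer (Cn : Set H)) :
    ∀ k ∈ K, ∃ x ∈ K ⊓ Subgroup.normalizer (((S : Subgroup H) ⊓ Cn : Subgroup H) : Set H),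
      ∃ c ∈ K ⊓ Cn, k = x * c := by
  set N := K ⊓ Cn with hN
  have hKN : K ≤ Subgroup.normalizer (N : Set H) := fun k hk =>
    mem_normalizer_inf (Subgroup.le_normalizer hk) (hKC hk)
  have hSN : (S : Subgroup H) ≤ Subgroup.normalizer (N : Set H) := hSK.trans hKN
  set P := sylowInfOfLeNormalizer S N hSN with hP
  have hmap : ((P : Sylow p N) : Subgroup N).map N.subtype = (S : Subgroup H) ⊓ Cn := by
    rw [hP, coe_sylowInfOfLeNormalizer, Subgroup.subgroupOf_map_subtype, hN, ← inf_assoc,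
      inf_eq_left.mpr hSK]
  intro k hk
  obtain ⟨n, hn, hnk⟩ := frattini_internal P k (hKN hk)
  rw [hmap] at hnk
  have hnK : n ∈ K := (Subgroup.mem_inf.mp hn).1
  have hxK : n⁻¹ * k ∈ K := K.mul_mem (K.inv_mem hnK) hk
  refine ⟨n⁻¹ * k, Subgroup.mem_inf.mpr ⟨hxK, hnk⟩, (n⁻¹ * k)⁻¹ * n * (n⁻¹ * k),
    conj_inv_mem_of_mem_normalizer' (hKN hxK) hn, by group⟩

/-- MSS 1.24(c): `Ω₁(Z(C_S(Y_L))) ≤ Y_L` for parabolic `L` of characteristic `p`. -/
theorem omegaZ_le_largestPReducedOf [Finite H] [Fact p.Prime] (S : Sylow p H) {L : Subgroup H}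
    (hSL : (S : Subgroup H) ≤ L) (hL : IsCharPSub p L) :
    omegaZ p ((S : Subgroup H) ⊓ Subgroup.centralizer (largestPReducedOf p L : Set H)) ≤
      largestPReducedOf p L := by
  set Y := largestPReducedOf p L with hYdef
  have hY : RelPReduced p L Y := relPReduced_largestPReducedOf L
  set Cn := Subgroup.centralizer (Y : Set H) with hCn
  set T := (S : Subgroup H) ⊓ Cn with hT
  set LT := L ⊓ Subgroup.normalizer (T : Set H) with hLT
  set V := omegaZ p T with hV
  have hLCn : L ≤ Subgroup.normalizer (Cn : Set H) :=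
    hY.2.1.trans (normalizer_le_normalizer_centralizer' Y)
  have hYS : Y ≤ S := (RelPReduced.le_pCoreOf' hY).trans (pCoreOf_le_sylow S hSL)
  have hYT : Y ≤ T := le_inf hYS (RelPReduced.le_centralizer_self hY)
  have hST : (S : Subgroup H) ≤ Subgroup.normalizer (T : Set H) := fun s hs =>
    mem_normalizer_inf (Subgroup.le_normalizer hs) (hLCn (hSL hs))
  have hSLT : (S : Subgroup H) ≤ LT := le_inf hSL hST
  have hfr := frattini_sylow_inf S hSL hLCn
  have hrelLT : RelPReduced p LT Y := by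
    apply RelPReduced.transfer hY (hYS.trans hSLT) (inf_le_left.trans hY.2.1)
    · intro l hl
      obtain ⟨x, hx, c, hc, hlc⟩ := hfr l hl
      exact ⟨x, hx, c, (Subgroup.mem_inf.mp hc).2, hlc⟩
    · intro x hx
      exact ⟨x, (Subgroup.mem_inf.mp hx).1, 1, Subgroup.one_mem _, by simp⟩
  have hTCV : T ≤ Subgroup.centralizer (V : Set H) :=
    Subgroup.le_centralizer_iff.mp (omegaZ_le_centralizer T)
  have hYV : Y ≤ V := by
    intro y hy
    refine ⟨hYT hy, ?_, hY.2.2.2.1 y hy⟩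
    have h1 : T ≤ Subgroup.centralizer (Y : Set H) := inf_le_right
    exact Subgroup.le_centralizer_iff.mp h1 hy
  have hLTV : LT ≤ Subgroup.normalizer (V : Set H) :=
    inf_le_right.trans (normalizer_le_normalizer_omegaZ T)
  have hrelV : RelPReduced p LT V := by
    refine ⟨((omegaZ_le T).trans inf_le_left).trans hSLT, hLTV, omegaZ_comm T, omegaZ_exp T, ?_⟩
    intro D hDLT hLTD hpc
    have hcc : Subgroup.centralizer (V : Set H) ≤ Subgroup.centralizer (Y : Set H) :=
      Subgroup.centralizer_le (by exact_mod_cast hYV)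
    have hDCn : D ≤ Cn := by
      apply hrelLT.2.2.2.2 D hDLT hLTD
      intro d hd
      obtain ⟨k, hk⟩ := hpc d hd
      exact ⟨k, hcc hk⟩
    intro d hd
    obtain ⟨s, hs, c, hc, rfl⟩ := exists_mul_of_pcond S (hSLT.trans hLTD)
      (hDLT.trans (hLTV.trans (normalizer_le_normalizer_centralizer' _))) hpc d hd
    obtain ⟨hsS, hsD⟩ := Subgroup.mem_inf.mp hs
    exact Subgroup.mul_mem _ (hTCV (Subgroup.mem_inf.mpr ⟨hsS, hDCn hsD⟩))
      (Subgroup.mem_inf.mp hc).2
  have h2 := RelPReduced.conjClosure_of_charP S hSLT inf_le_left hL hrelV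
  exact (le_conjClosure L V).trans (le_largestPReducedOf_of_rel h2)

/-- A subgroup with a normal `p`-subgroup of index prime to `p` is `p`-closed. -/
theorem isPClosed_of_normal_sylow [Finite H] [Fact p.Prime] {K T : Subgroup H} (hTK : T ≤ K)
    (hKT : K ≤ Subgroup.normalizer (T : Set H)) (hT : IsPGroup p T) (hidx : ¬ p ∣ T.relIndex K) :
    IsPClosed p ↥K := by
  haveI hn : (T.subgroupOf K).Normal := (Subgroup.normal_subgroupOf_iff_le_normalizer hTK).mpr hKT
  have hTp : IsPGroup p (T.subgroupOf K) := hT.comap_subtype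
  let P₀ : Sylow p ↥K := hTp.toSylow hidx
  have hP₀ : ((P₀ : Sylow p ↥K) : Subgroup ↥K).Normal := hn
  haveI := Sylow.unique_of_normal P₀ hP₀
  intro P
  have : P = P₀ := Subsingleton.elim _ _
  rw [this]
  exact hP₀

end FrakM2

end Cfsg.Agent.Lib.Helper17
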