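import Cfsg.Agent.Lib.Helper18.HSMultDefs
import Cfsg.Agent.Lib.Helper18.HSMultTab

/-!
# S2046-[ORB] (helper18's HS multiplier front): the coset table of `U = ⟨x, y⟩` in `Kab` is a table of
cosets: `U` is the stabiliser of the 50-set `setF 0`, and the 352 sets `setF c` are its images
-/

set_option autoImplicit false
set_option maxRecDepth 100000

namespace Cfsg.Agent.Lib.Helper18.HSMult

open Cfsg.Agent.Lib.Helper28.BSGS Cfsg.Agent.Lib.Helper28.HSAData Cfsg.Agent.Lib.Helper28.HSA
open Cfsg.H5.TCk Cfsg.Agent.Lib.Helper18.Holo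

namespace Helper17

/-! ### kernel checks -/

/-- the table `t` maps the mask `m` to the mask `m'` -/
def mapsOK (t m m' : ℕ) : Bool :=
  (List.range 100).all fun a => m.testBit a == m'.testBit (look 7 t a)

theorem nxt_chk : ((List.range 352).all fun c => (List.range 6).all fun l =>
    decide (nxtF c l < 352)) = true := by decide +kernel

theorem maps_chk : ((List.range 352).all fun c => (List.range 6).all fun l =>
    mapsOK (ltab l) (setF c) (setF (nxtF c l))) = true := by decide +kernel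

theorem rep_chk : ((List.range 352).all fun c =>
    (wrdF c).all (fun l => decide (l < 6)) && (traceL nxtF 0 (wrdF c) == c)) = true := by
  decide +kernel

theorem dist_chk : ((List.range 352).all fun c => (List.range 352).all fun c' =>
    (c == c') || (setF c != setF c')) = true := by decide +kernel

theorem base_chk : nxtF 0 0 = 0 ∧ nxtF 0 2 = 0 := by decide +kernel

/-! ### masks -/

/-- the permutation `g` maps the mask `m` to the mask `m'` -/
def MapsB (g : P100) (m m' : ℕ) : Prop := ∀ a : Fin 100, m.testBit a.val = m'.testBit (g a).val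

theorem mapsB_of_ok {g : P100} {t m m' : ℕ} (hg : ActsT g t) (h : mapsOK t m m' = true) :
    MapsB g m m' := by
  intro a
  unfold mapsOK at h
  rw [List.all_eq_true] at h
  have := h a.val (List.mem_range.mpr a.isLt)
  rw [beq_iff_eq] at this
  rw [this, hg a]

theorem MapsB.mul {g h : P100} {m m' m'' : ℕ} (hh : MapsB h m' m'') (hg : MapsB g m m') :
    MapsB (h * g) m m'' := by
  intro a
  rw [hg a, hh (g a)]
  rfl

theorem MapsB.one (m : ℕ) : MapsB 1 m m := fun _ => rfl

theorem MapsB.inv {g : P100} {m m' : ℕ} (hg : MapsB g m m') : MapsB g⁻¹ m' m := by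
  intro a
  have := hg (g⁻¹ a)
  rw [this]
  congr 2
  exact (Equiv.apply_symm_apply g a).symm

theorem mask_eq {m m' : ℕ} (hm : m < 2 ^ 100) (hm' : m' < 2 ^ 100)
    (h : ∀ b : Fin 100, m.testBit b.val = m'.testBit b.val) : m = m' := by
  apply Nat.eq_of_testBit_eq
  intro i
  by_cases hi : i < 100
  · exact h ⟨i, hi⟩
  · have h1 : (2 : ℕ) ^ 100 ≤ 2 ^ i := Nat.pow_le_pow_right (by norm_num) (by omega)
    rw [Nat.testBit_eq_false_of_lt (lt_of_lt_of_le hm h1),
      Nat.testBit_eq_false_of_lt (lt_of_lt_of_le hm' h1)]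

theorem MapsB.unique {g : P100} {m m' m'' : ℕ} (hm' : m' < 2 ^ 100) (hm'' : m'' < 2 ^ 100)
    (h1 : MapsB g m m') (h2 : MapsB g m m'') : m' = m'' := by
  apply mask_eq hm' hm''
  intro b
  have e1 := h1 (g⁻¹ b)
  have e2 := h2 (g⁻¹ b)
  have hb : g (g⁻¹ b) = b := Equiv.apply_symm_apply g b
  rw [hb] at e1 e2
  rw [← e1, e2]

theorem setF_lt (c : ℕ) : setF c < 2 ^ 100 := Nat.mod_lt _ (by positivity)

theorem nxtF_lt' {c l : ℕ} (hc : c < 352) (hl : l < 6) : nxtF c l < 352 := by
  have h := nxt_chk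
  rw [List.all_eq_true] at h
  have h1 := h c (List.mem_range.mpr hc)
  rw [List.all_eq_true] at h1
  exact of_decide_eq_true (h1 l (List.mem_range.mpr hl))

theorem letter_maps {c l : ℕ} (hc : c < 352) (hl : l < 6) :
    MapsB (gl gP l) (setF c) (setF (nxtF c l)) := by
  have h := maps_chk
  rw [List.all_eq_true] at h
  have h1 := h c (List.mem_range.mpr hc)
  rw [List.all_eq_true] at h1
  exact mapsB_of_ok (gl_acts l hl) (h1 l (List.mem_range.mpr hl))

theorem ev_maps (w : List ℕ) (hw : ∀ l ∈ w, l < 6) {c : ℕ} (hc : c < 352) :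
    traceL nxtF c w < 352 ∧ MapsB (ev gP w) (setF c) (setF (traceL nxtF c w)) := by
  induction w with
  | nil => exact ⟨hc, MapsB.one _⟩
  | cons l w ih =>
    have hl := hw l List.mem_cons_self
    obtain ⟨h1, h2⟩ := ih fun l' hl' => hw l' (List.mem_cons_of_mem _ hl')
    refine ⟨nxtF_lt' h1 hl, ?_⟩
    show MapsB (gl gP l * ev gP w) (setF c) (setF (nxtF (traceL nxtF c w) l))
    exact MapsB.mul (letter_maps h1 hl) h2

theorem rep_maps {c : ℕ} (hc : c < 352) : MapsB (ev gP (wrdF c)) (setF 0) (setF c) := by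
  have h := rep_chk
  rw [List.all_eq_true] at h
  have h1 := h c (List.mem_range.mpr hc)
  rw [Bool.and_eq_true, List.all_eq_true, beq_iff_eq] at h1
  have hw : ∀ l ∈ wrdF c, l < 6 := fun l hl => of_decide_eq_true (h1.1 l hl)
  have := (ev_maps (wrdF c) hw (show 0 < 352 by norm_num)).2
  rwa [h1.2] at this

theorem setF_inj {c c' : ℕ} (hc : c < 352) (hc' : c' < 352) (h : setF c = setF c') : c = c' := by
  have hd := dist_chk
  rw [List.all_eq_true] at hd
  have h1 := hd c (List.mem_range.mpr hc)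
  rw [List.all_eq_true] at h1
  have h2 := h1 c' (List.mem_range.mpr hc')
  rw [Bool.or_eq_true, beq_iff_eq, bne_iff_ne] at h2
  rcases h2 with h2 | h2
  · exact h2
  · exact absurd h h2

/-! ### the stabiliser of the base set -/

/-- the stabiliser of the 50-set `setF 0` in `Kab` -/
def TK : Subgroup ↥Kab where
  carrier := {g | MapsB (g : P100) (setF 0) (setF 0)}
  mul_mem' := by
    intro g h hg hh
    show MapsB ((g : P100) * (h : P100)) _ _
    exact MapsB.mul hg hh
  one_mem' := MapsB.one _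
  inv_mem' := by
    intro g hg
    show MapsB ((g : P100)⁻¹) _ _
    exact MapsB.inv hg

theorem mem_TK {g : ↥Kab} : g ∈ TK ↔ MapsB (g : P100) (setF 0) (setF 0) := Iff.rfl

theorem UK_le_TK : UK ≤ TK := by
  unfold UK
  rw [Subgroup.closure_le]
  intro g hg
  rcases hg with rfl | rfl
  · have := letter_maps (c := 0) (l := 0) (by norm_num) (by norm_num)
    rw [base_chk.1] at this
    exact this
  · have := letter_maps (c := 0) (l := 2) (by norm_num) (by norm_num)
    rw [base_chk.2] at this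
    exact this

theorem card_TK_le : Nat.card TK ≤ 126000 := by
  haveI : Finite ↥Kab := finite_K
  let f : Fin 352 × TK → ↥Kab := fun p => ev gK (wrdF p.1.val) * (p.2 : ↥Kab)
  have hf : Function.Injective f := by
    rintro ⟨c, t⟩ ⟨c', t'⟩ h
    have h' : (ev gK (wrdF c.val) * (t : ↥Kab) : ↥Kab) = ev gK (wrdF c'.val) * (t' : ↥Kab) := h
    have hP : ev gP (wrdF c.val) * ((t : ↥Kab) : P100) = ev gP (wrdF c'.val) * ((t' : ↥Kab) : P100) := by
      have := congrArg (fun z : ↥Kab => (z : P100)) h'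
      simpa only [Subgroup.coe_mul, coe_ev] using this
    have m1 : MapsB (ev gP (wrdF c.val) * ((t : ↥Kab) : P100)) (setF 0) (setF c.val) :=
      MapsB.mul (rep_maps c.isLt) t.2
    have m2 : MapsB (ev gP (wrdF c.val) * ((t : ↥Kab) : P100)) (setF 0) (setF c'.val) := by
      rw [hP]
      exact MapsB.mul (rep_maps c'.isLt) t'.2
    have hcc : c = c' :=
      Fin.ext (setF_inj c.isLt c'.isLt (MapsB.unique (setF_lt _) (setF_lt _) m1 m2))
    subst hcc
    have htt : (t : ↥Kab) = t' := mul_left_cancel h'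
    exact Prod.ext rfl (Subtype.ext htt)
  have h1 := Nat.card_le_card_of_injective f hf
  rw [Nat.card_prod, Nat.card_fin, card_Kab] at h1
  omega

theorem UK_eq_TK (hU : Nat.card UK = 126000) : UK = TK := by
  haveI : Finite ↥Kab := finite_K
  exact Subgroup.eq_of_le_of_card_ge UK_le_TK (by rw [hU]; exact card_TK_le)

end Helper17

open Helper17 in
theorem mem_UK_of_table (hU : Nat.card UK = 126000) : ∀ c < 352, ∀ l < 2 * 3,
    (ev gK (wrdF (nxtF c l)))⁻¹ * gl gK l * ev gK (wrdF c) ∈ UK := by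
  intro c hc l hl
  have hl6 : l < 6 := hl
  rw [UK_eq_TK hU, mem_TK]
  have hn := nxtF_lt' hc hl6
  have e : (((ev gK (wrdF (nxtF c l)))⁻¹ * gl gK l * ev gK (wrdF c) : ↥Kab) : P100) =
      (ev gP (wrdF (nxtF c l)))⁻¹ * (gl gP l * ev gP (wrdF c)) := by
    rw [Subgroup.coe_mul, Subgroup.coe_mul, Subgroup.coe_inv, coe_ev, coe_ev, coe_gl, mul_assoc]
  rw [e]
  exact MapsB.mul (MapsB.inv (rep_maps hn)) (MapsB.mul (letter_maps hc hl6) (rep_maps hc))

open Helper17 in
theorem nxtF_lt : ∀ c < 352, ∀ l < 2 * 3, nxtF c l < 352 :=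
  fun _ hc _ hl => nxtF_lt' hc hl

end Cfsg.Agent.Lib.Helper18.HSMult
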