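import Cfsg.Agent.Lib.Helper9.StemTwoGen
import Cfsg.Agent.H5.StemLift

/-!
# S2046 piece [T3]: the `p`-part of the kernel of a stem extension is trivial when a Sylow
`p`-subgroup `⟨u, v⟩` is abelian and some element centralises `u` and inverts `v`
-/

set_option autoImplicit false

namespace Cfsg.Agent.Lib.Helper18.HSMult

open Cfsg
open scoped commutatorElement

/-- [T3] `p`-part of the kernel is trivial: abelian Sylow `⟨u, v⟩`, an element `s` centralising `u` and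
inverting `v`.  (In `H = σ⁻¹⟨u,v⟩`: `c = ⁅ũ,ṽ⁆` is central, `H' ≤ ⟨c⟩`, `c^p = 1`, and conjugation by `s̃` gives
`c = c⁻¹`; transfer `Helper12.Schur.pow_index_mem_commutator`.) -/
theorem not_dvd_card_ker_of_abelian_inverted {Γ G : Type*} [Group Γ] [Group G] [Finite Γ] (σ : Γ →* G)
    (hσ : IsStemExtension σ) (p : ℕ) [Fact p.Prime] (hp2 : p ≠ 2) (u v s : G)
    (huv : u * v = v * u) (hu : u ^ p = 1) (hsu : s * u * s⁻¹ = u) (hsv : s * v * s⁻¹ = v⁻¹)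
    (hidx : ¬ p ∣ (Subgroup.closure {u, v}).index) : ¬ p ∣ Nat.card σ.ker := by
  intro hdvd
  have hp : p.Prime := Fact.out
  obtain ⟨x, hx⟩ := hσ.1 u
  obtain ⟨y, hy⟩ := hσ.1 v
  obtain ⟨w, hw⟩ := hσ.1 s
  have hcen := hσ.2.1
  have hcp : ⁅x, y⁆ ^ p = 1 :=
    Cfsg.Agent.Lib.Helper9.StemTwoGen.comm_pow_eq_one σ hcen u v huv p hu x y hx hy
  have hcker : ⁅x, y⁆ ∈ σ.ker := by
    rw [MonoidHom.mem_ker, commutatorElement_def, map_mul, map_mul, map_mul, map_inv, map_inv, hx,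
      hy, huv]
    group
  have hccen : ⁅x, y⁆ ∈ Subgroup.center Γ := hcen hcker
  -- conjugation by the lift of `s`
  have hk1 : x⁻¹ * (w * x * w⁻¹) ∈ Subgroup.center Γ := by
    apply hcen
    rw [MonoidHom.mem_ker, map_mul, map_inv, map_mul, map_mul, map_inv, hx, hw, hsu, inv_mul_cancel]
  have hk2 : y * (w * y * w⁻¹) ∈ Subgroup.center Γ := by
    apply hcen
    rw [MonoidHom.mem_ker, map_mul, map_mul, map_mul, map_inv, hy, hw, hsv, mul_inv_cancel]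
  have h1 : w * ⁅x, y⁆ * w⁻¹ = ⁅x, y⁆ := by
    have := Subgroup.mem_center_iff.mp hccen w
    rw [this, mul_inv_cancel_right]
  have h2 : w * ⁅x, y⁆ * w⁻¹ = ⁅x * (x⁻¹ * (w * x * w⁻¹)), y⁻¹ * (y * (w * y * w⁻¹))⁆ := by
    rw [commutatorElement_def, commutatorElement_def]
    group
  have h3 : ⁅x, y⁻¹⁆ = y⁻¹ * (⁅x, y⁆)⁻¹ * y := by
    rw [commutatorElement_def, commutatorElement_def]
    group
  have h4 : y⁻¹ * (⁅x, y⁆)⁻¹ * y = (⁅x, y⁆)⁻¹ := by
    have := Subgroup.mem_center_iff.mp (Subgroup.inv_mem _ hccen) y⁻¹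
    rw [this, inv_mul_cancel_right]
  have hcinv : ⁅x, y⁆ = (⁅x, y⁆)⁻¹ := by
    calc ⁅x, y⁆ = w * ⁅x, y⁆ * w⁻¹ := h1.symm
      _ = ⁅x * (x⁻¹ * (w * x * w⁻¹)), y⁻¹ * (y * (w * y * w⁻¹))⁆ := h2
      _ = ⁅x, y⁻¹⁆ := Cfsg.H5.StemLift.comm_central_mul hk1 hk2 x y⁻¹
      _ = y⁻¹ * (⁅x, y⁆)⁻¹ * y := h3
      _ = (⁅x, y⁆)⁻¹ := h4
  have hc2 : ⁅x, y⁆ ^ 2 = 1 := by
    rw [pow_two]
    nth_rewrite 1 [hcinv]
    exact inv_mul_cancel _
  have hc1 : ⁅x, y⁆ = 1 := by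
    have hd2 : orderOf ⁅x, y⁆ ∣ 2 := orderOf_dvd_of_pow_eq_one hc2
    have hdp : orderOf ⁅x, y⁆ ∣ p := orderOf_dvd_of_pow_eq_one hcp
    have hcop : Nat.Coprime 2 p := (Nat.coprime_primes Nat.prime_two hp).mpr (Ne.symm hp2)
    have hd1 : orderOf ⁅x, y⁆ ∣ 1 := by
      have := Nat.dvd_gcd hd2 hdp
      rwa [hcop.gcd_eq_one] at this
    exact orderOf_eq_one_iff.mp (Nat.dvd_one.mp hd1)
  -- transfer
  set H := (Subgroup.closure {u, v}).comap σ with hH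
  have hHidx : H.index = (Subgroup.closure {u, v}).index :=
    Subgroup.index_comap_of_surjective _ hσ.1
  have hpow : ∀ z ∈ σ.ker, z ^ H.index = 1 := by
    intro z hz
    obtain ⟨hzH, hzc⟩ := Cfsg.Agent.Lib.Helper12.Schur.pow_index_mem_commutator H (hcen hz)
      (hσ.2.2 hz)
    have hle : commutator H ≤ (Subgroup.zpowers ⁅x, y⁆).comap H.subtype := by
      rw [commutator_def, Subgroup.commutator_le]
      intro g _ h _
      rw [Subgroup.mem_comap]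
      exact Cfsg.Agent.Lib.Helper9.StemTwoGen.comm_mem_zpowers σ hcen u v huv x y hx hy g.1 h.1
        g.2 h.2
    have hmem : z ^ H.index ∈ Subgroup.zpowers ⁅x, y⁆ := hle hzc
    rw [hc1, Subgroup.zpowers_one_eq_bot, Subgroup.mem_bot] at hmem
    exact hmem
  obtain ⟨z, hz⟩ := exists_prime_orderOf_dvd_card' (G := σ.ker) p hdvd
  have hzo : orderOf (z : Γ) = p := by rw [Subgroup.orderOf_coe]; exact hz
  have hdv : orderOf (z : Γ) ∣ H.index := orderOf_dvd_of_pow_eq_one (hpow _ z.2)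
  rw [hzo, hHidx] at hdv
  exact hidx hdv

end Cfsg.Agent.Lib.Helper18.HSMult
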