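import Mathlib
import Cfsg.Agent.Lib.Helper10.UniqueOrderP

/-!
Half-transitive linear p-groups (Isaacs-Passman), part A: basic vocabulary
(stabilisers, fixed spaces, norm maps), the "decomposable implies semiregular"
argument and the two-commuting-elements lemma.
-/

set_option autoImplicit false

namespace Cfsg.Agent.Lib.Helper17.HalfTr

open Cfsg.Agent.Lib.Helper10

section Basic
variable {q : ℕ} [Fact q.Prime] {V : Type*} [AddCommGroup V] [Module (ZMod q) V]
  {G : Type*} [Group G] (ρ : G →* (V ≃ₗ[ZMod q] V))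

theorem rmul (g h : G) (v : V) : ρ (g * h) v = ρ g (ρ h v) := by
  rw [map_mul]; rfl

theorem rone (v : V) : ρ 1 v = v := by
  rw [map_one]; rfl

theorem rinv_apply (g : G) (v : V) : ρ g⁻¹ (ρ g v) = v := by
  rw [← rmul, inv_mul_cancel, rone]

theorem rapply_inv (g : G) (v : V) : ρ g (ρ g⁻¹ v) = v := by
  rw [← rmul, mul_inv_cancel, rone]

theorem rinv_of_eq {g : G} {v w : V} (h : ρ g v = w) : ρ g⁻¹ w = v := by
  rw [← h, rinv_apply]

theorem rne_zero (g : G) {v : V} (hv : v ≠ 0) : ρ g v ≠ 0 := by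
  intro h; exact hv ((ρ g).map_eq_zero_iff.mp h)

/-- stabiliser of a vector -/
def stab (v : V) : Subgroup G where
  carrier := {g | ρ g v = v}
  mul_mem' := by
    intro a b ha hb
    simp only [Set.mem_ofPred_eq] at ha hb ⊢
    rw [rmul, hb, ha]
  one_mem' := by
    simp only [Set.mem_ofPred_eq]
    exact rone ρ v
  inv_mem' := by
    intro a ha
    simp only [Set.mem_ofPred_eq] at ha ⊢
    exact rinv_of_eq ρ ha

theorem mem_stab {v : V} {g : G} : g ∈ stab ρ v ↔ ρ g v = v := Iff.rfl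

/-- fixed space of a group element -/
def Fx (g : G) : Submodule (ZMod q) V where
  carrier := {v | ρ g v = v}
  add_mem' := by
    intro a b ha hb
    simp only [Set.mem_ofPred_eq] at ha hb ⊢
    rw [map_add, ha, hb]
  zero_mem' := by
    simp only [Set.mem_ofPred_eq]
    exact map_zero _
  smul_mem' := by
    intro c a ha
    simp only [Set.mem_ofPred_eq] at ha ⊢
    rw [map_smul, ha]

theorem mem_Fx {g : G} {v : V} : v ∈ Fx ρ g ↔ ρ g v = v := Iff.rfl

/-- fixed-point-free on nonzero vectors -/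
def FPF (g : G) : Prop := ∀ v : V, ρ g v = v → v = 0

theorem rpow_of_fixed {g : G} {v : V} (h : ρ g v = v) (n : ℕ) : ρ (g ^ n) v = v := by
  induction n with
  | zero => rw [pow_zero, rone]
  | succ n ih => rw [pow_succ, rmul, h, ih]

theorem FPF_of_pow {g : G} {n : ℕ} (h : FPF ρ (g ^ n)) : FPF ρ g :=
  fun v hv => h v (rpow_of_fixed ρ hv n)

theorem FPF_inv {g : G} (h : FPF ρ g) : FPF ρ g⁻¹ := by
  intro v hv
  apply h v
  have := rinv_of_eq ρ hv
  rwa [inv_inv] at this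

theorem conj_fixed (g : G) {h : G} {v : V} (hv : ρ h v = v) :
    ρ (g * h * g⁻¹) (ρ g v) = ρ g v := by
  rw [rmul, rmul, rinv_apply, hv]

theorem eq_one_of_fix_all (hρ : Function.Injective ρ) (g : G) (h : ∀ v : V, ρ g v = v) :
    g = 1 := by
  apply hρ
  rw [map_one]
  ext v
  rw [h v]; rfl

/-- the norm map `1 + g + ... + g^(n-1)` -/
def NmL (g : G) (n : ℕ) : V →ₗ[ZMod q] V :=
  ∑ i ∈ Finset.range n, ((ρ (g ^ i)).toLinearMap)

theorem NmL_apply (g : G) (n : ℕ) (v : V) :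
    NmL ρ g n v = ∑ i ∈ Finset.range n, ρ (g ^ i) v := by
  unfold NmL
  rw [LinearMap.sum_apply]
  rfl

theorem NmL_of_fixed {g : G} {v : V} (h : ρ g v = v) (n : ℕ) : NmL ρ g n v = n • v := by
  rw [NmL_apply, Finset.sum_congr rfl (fun i _ => rpow_of_fixed ρ h i), Finset.sum_const,
    Finset.card_range]

theorem NmL_fixed {g : G} {n : ℕ} (hg : g ^ n = 1) (v : V) :
    ρ g (NmL ρ g n v) = NmL ρ g n v := by
  rw [NmL_apply, map_sum]
  have h1 : ∀ i ∈ Finset.range n, ρ g (ρ (g ^ i) v) = ρ (g ^ (i + 1)) v := by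
    intro i _
    rw [pow_succ', rmul]
  rw [Finset.sum_congr rfl h1]
  have h2 : ∑ i ∈ Finset.range (n + 1), ρ (g ^ i) v
      = ∑ i ∈ Finset.range n, ρ (g ^ (i + 1)) v + ρ (g ^ 0) v :=
    Finset.sum_range_succ' (fun i => ρ (g ^ i) v) n
  have h3 : ∑ i ∈ Finset.range (n + 1), ρ (g ^ i) v
      = ∑ i ∈ Finset.range n, ρ (g ^ i) v + ρ (g ^ n) v :=
    Finset.sum_range_succ (fun i => ρ (g ^ i) v) n
  have h4 : ρ (g ^ n) v = ρ (g ^ 0) v := by rw [hg, pow_zero]
  rw [h4] at h3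
  rw [h3] at h2
  exact (add_right_cancel h2).symm

theorem NmL_eq_zero {g : G} {n : ℕ} (hg : g ^ n = 1) (hf : FPF ρ g) (v : V) :
    NmL ρ g n v = 0 :=
  hf _ (NmL_fixed ρ hg v)

theorem NmL_comm {g h : G} (hc : Commute h g) (n : ℕ) (v : V) :
    ρ h (NmL ρ g n v) = NmL ρ g n (ρ h v) := by
  rw [NmL_apply, NmL_apply, map_sum]
  refine Finset.sum_congr rfl fun i _ => ?_
  rw [← rmul, ← rmul, (hc.pow_right i).eq]

theorem natCast_ne_zero {p : ℕ} [Fact p.Prime] (hpq : p ≠ q) : (p : ZMod q) ≠ 0 := by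
  intro h0
  rw [ZMod.natCast_eq_zero_iff] at h0
  have := (Nat.prime_dvd_prime_iff_eq (Fact.out : q.Prime) (Fact.out : p.Prime)).mp h0
  exact hpq this.symm

theorem eq_zero_of_nsmul {p : ℕ} [Fact p.Prime] (hpq : p ≠ q) {v : V} (h : p • v = 0) :
    v = 0 := by
  rw [← Nat.cast_smul_eq_nsmul (ZMod q)] at h
  exact (smul_eq_zero.mp h).resolve_left (natCast_ne_zero hpq)

/-- equal orbit sizes give equal stabiliser orders -/
theorem card_stab_eq [Finite G]
    (hhalf : ∀ v w : V, v ≠ 0 → w ≠ 0 → Nat.card {u : V | ∃ g : G, ρ g v = u}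
      = Nat.card {u : V | ∃ g : G, ρ g w = u})
    {v w : V} (hv : v ≠ 0) (hw : w ≠ 0) : Nat.card (stab ρ v) = Nat.card (stab ρ w) := by
  letI : MulAction G V := MulAction.compHom V ρ
  have key : ∀ x : V, (stab ρ x).index = Nat.card {u : V | ∃ g : G, ρ g x = u} := by
    intro x
    have h1 : MulAction.stabilizer G x = stab ρ x := by
      ext g; rfl
    have h2 : MulAction.orbit G x = {u : V | ∃ g : G, ρ g x = u} := by
      ext u; rfl
    rw [← h1, MulAction.index_stabilizer, h2, Nat.card_coe_set_eq]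
  have h3 := hhalf v w hv hw
  rw [← key v, ← key w] at h3
  have h4 := (stab ρ v).card_mul_index
  have h5 := (stab ρ w).card_mul_index
  have hpos : 0 < (stab ρ w).index := Nat.pos_of_ne_zero Subgroup.index_ne_zero_of_finite
  rw [h3] at h4
  exact Nat.eq_of_mul_eq_mul_right hpos (h4.trans h5.symm)

theorem stab_add_eq {U W : Submodule (ZMod q) V} (hU : ∀ g : G, ∀ u ∈ U, ρ g u ∈ U)
    (hW : ∀ g : G, ∀ w ∈ W, ρ g w ∈ W) (hUW : ∀ v, v ∈ U → v ∈ W → v = 0) {u w : V}
    (hu : u ∈ U) (hw : w ∈ W) : stab ρ (u + w) = stab ρ u ⊓ stab ρ w := by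
  ext g
  simp only [Subgroup.mem_inf, mem_stab]
  constructor
  · intro h
    rw [map_add] at h
    have h1 : ρ g u - u = w - ρ g w := by
      rw [sub_eq_sub_iff_add_eq_add, h, add_comm]
    have h2 : ρ g u - u ∈ U := U.sub_mem (hU g u hu) hu
    have h3 : ρ g u - u ∈ W := by
      rw [h1]; exact W.sub_mem hw (hW g w hw)
    have h4 := hUW _ h2 h3
    refine ⟨sub_eq_zero.mp h4, ?_⟩
    have h5 : w - ρ g w = 0 := by rw [← h1]; exact h4
    exact (sub_eq_zero.mp h5).symm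
  · rintro ⟨h1, h2⟩
    rw [map_add, h1, h2]

/-- an invariant direct decomposition forces semiregularity -/
theorem semireg_of_decomp [Finite G] (hρ : Function.Injective ρ)
    (hs : ∀ v w : V, v ≠ 0 → w ≠ 0 → Nat.card (stab ρ v) = Nat.card (stab ρ w))
    (U W : Submodule (ZMod q) V) (hU : ∀ g : G, ∀ u ∈ U, ρ g u ∈ U)
    (hW : ∀ g : G, ∀ w ∈ W, ρ g w ∈ W) (hUW : ∀ v, v ∈ U → v ∈ W → v = 0)
    (hsum : ∀ v : V, ∃ u ∈ U, ∃ w ∈ W, v = u + w)
    (hU0 : ∃ u ∈ U, u ≠ 0) (hW0 : ∃ w ∈ W, w ≠ 0) :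
    ∀ v : V, v ≠ 0 → ∀ g : G, ρ g v = v → g = 1 := by
  obtain ⟨u0, hu0, hu0n⟩ := hU0
  obtain ⟨w0, hw0, hw0n⟩ := hW0
  have key : ∀ u ∈ U, u ≠ 0 → ∀ w ∈ W, w ≠ 0 →
      stab ρ u = stab ρ w ∧ stab ρ (u + w) = stab ρ u := by
    intro u hu hun w hw hwn
    have hne : u + w ≠ 0 := by
      intro h
      have : u = -w := eq_neg_of_add_eq_zero_left h
      exact hun (hUW u hu (by rw [this]; exact W.neg_mem hw))
    have he := stab_add_eq ρ hU hW hUW hu hw
    have h1 : stab ρ u ⊓ stab ρ w = stab ρ u :=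
      Subgroup.eq_of_le_of_card_ge inf_le_left (by rw [← he]; exact (hs _ _ hun hne).le)
    have h2 : stab ρ u ⊓ stab ρ w = stab ρ w :=
      Subgroup.eq_of_le_of_card_ge inf_le_right (by rw [← he]; exact (hs _ _ hwn hne).le)
    exact ⟨h1.symm.trans h2, he.trans h1⟩
  have hall : ∀ v : V, v ≠ 0 → stab ρ v = stab ρ u0 := by
    intro v hv
    obtain ⟨u, hu, w, hw, rfl⟩ := hsum v
    by_cases hun : u = 0
    · subst hun
      rw [zero_add] at hv ⊢
      exact ((key u0 hu0 hu0n w hw hv).1).symm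
    · by_cases hwn : w = 0
      · subst hwn
        rw [add_zero]
        exact ((key u hu hun w0 hw0 hw0n).1).trans ((key u0 hu0 hu0n w0 hw0 hw0n).1).symm
      · obtain ⟨_, h2⟩ := key u hu hun w hw hwn
        rw [h2]
        exact ((key u hu hun w0 hw0 hw0n).1).trans ((key u0 hu0 hu0n w0 hw0 hw0n).1).symm
  have hKbot : ∀ g ∈ stab ρ u0, g = 1 := by
    intro g hg
    apply eq_one_of_fix_all ρ hρ
    intro v
    by_cases hv : v = 0
    · rw [hv, map_zero]
    · have : g ∈ stab ρ v := by rw [hall v hv]; exact hg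
      exact this
  intro v hv g hg
  apply hKbot
  rw [← hall v hv]; exact hg

/-- a central element of order `p` with a nonzero fixed vector forces semiregularity -/
theorem semireg_of_central_fixed [Finite G] {p : ℕ} [Fact p.Prime] (hpq : p ≠ q)
    (hρ : Function.Injective ρ)
    (hs : ∀ v w : V, v ≠ 0 → w ≠ 0 → Nat.card (stab ρ v) = Nat.card (stab ρ w))
    {c : G} (hc : c ∈ Subgroup.center G) (hcp : c ^ p = 1) (hc1 : c ≠ 1) (hfix : ¬ FPF ρ c) :
    ∀ v : V, v ≠ 0 → ∀ g : G, ρ g v = v → g = 1 := by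
  have hcomm : ∀ g : G, Commute g c := fun g => (Subgroup.mem_center_iff.mp hc g)
  have hne := natCast_ne_zero (q := q) hpq
  have hdec : ∀ v : V, ∃ u ∈ Fx ρ c, ∃ w ∈ LinearMap.ker (NmL ρ c p), v = u + w := by
    intro v
    refine ⟨(p : ZMod q)⁻¹ • NmL ρ c p v, (Fx ρ c).smul_mem _ (NmL_fixed ρ hcp v),
      (p : ZMod q)⁻¹ • (p • v - NmL ρ c p v), Submodule.smul_mem _ _ ?_, ?_⟩
    · rw [LinearMap.mem_ker, map_sub, map_nsmul, NmL_of_fixed ρ (NmL_fixed ρ hcp v), sub_self]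
    · rw [← smul_add, add_sub_cancel, ← Nat.cast_smul_eq_nsmul (ZMod q), smul_smul,
        inv_mul_cancel₀ hne, one_smul]
  refine semireg_of_decomp ρ hρ hs (Fx ρ c) (LinearMap.ker (NmL ρ c p)) ?_ ?_ ?_ hdec ?_ ?_
  · intro g u hu
    show ρ c (ρ g u) = ρ g u
    rw [← rmul, ← (hcomm g).eq, rmul, (show ρ c u = u from hu)]
  · intro g w hw
    rw [LinearMap.mem_ker] at hw ⊢
    rw [← NmL_comm ρ (hcomm g) p w, hw, map_zero]
  · intro v hv hw
    have h1 : NmL ρ c p v = p • v := NmL_of_fixed ρ hv p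
    have h2 : NmL ρ c p v = 0 := hw
    exact eq_zero_of_nsmul hpq (h1.symm.trans h2)
  · unfold FPF at hfix
    push Not at hfix
    obtain ⟨v, hv, hv0⟩ := hfix
    exact ⟨v, hv, hv0⟩
  · by_contra hW
    push Not at hW
    apply hc1
    apply eq_one_of_fix_all ρ hρ
    intro v
    obtain ⟨u, hu, w, hw, rfl⟩ := hdec v
    rw [hW w hw, add_zero]
    exact hu

/-- two commuting elements of order `p` generating a fixed-point-free `C_p × C_p`: impossible -/
theorem L1 {p : ℕ} [Fact p.Prime] (hpq : p ≠ q) {x z : G} (hxz : Commute x z) (hx : x ^ p = 1)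
    (hz : z ^ p = 1) (h1 : ∀ k, k < p → FPF ρ (x * z ^ k))
    (h2 : ∀ i, 0 < i → i < p → FPF ρ (z ^ i)) (v : V) : v = 0 := by
  apply eq_zero_of_nsmul hpq
  have hS : ∑ k ∈ Finset.range p, NmL ρ (x * z ^ k) p v = 0 := by
    apply Finset.sum_eq_zero
    intro k hk
    refine NmL_eq_zero ρ ?_ (h1 k (Finset.mem_range.mp hk)) v
    rw [(hxz.pow_right k).mul_pow, hx, ← pow_mul, mul_comm, pow_mul, hz, one_pow, one_mul]
  have hS2 : ∑ k ∈ Finset.range p, NmL ρ (x * z ^ k) p v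
      = ∑ i ∈ Finset.range p, ρ (x ^ i) (NmL ρ (z ^ i) p v) := by
    simp only [NmL_apply, map_sum]
    rw [Finset.sum_comm]
    refine Finset.sum_congr rfl fun i _ => Finset.sum_congr rfl fun k _ => ?_
    rw [← rmul, (hxz.pow_right k).mul_pow, ← pow_mul, ← pow_mul, mul_comm k i]
  rw [hS2] at hS
  obtain ⟨p', rfl⟩ : ∃ p', p = p' + 1 :=
    ⟨p - 1, by have := (Fact.out : p.Prime).pos; omega⟩
  rw [Finset.sum_range_succ'] at hS
  have h0 : ∑ i ∈ Finset.range p', ρ (x ^ (i + 1)) (NmL ρ (z ^ (i + 1)) (p' + 1) v) = 0 := by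
    apply Finset.sum_eq_zero
    intro i hi
    have hi' := Finset.mem_range.mp hi
    have : NmL ρ (z ^ (i + 1)) (p' + 1) v = 0 :=
      NmL_eq_zero ρ (by rw [← pow_mul, mul_comm, pow_mul, hz, one_pow])
        (h2 (i + 1) (by omega) (by omega)) v
    rw [this, map_zero]
  rw [h0, zero_add, pow_zero, pow_zero, rone, NmL_of_fixed ρ (rone ρ v)] at hS
  exact hS

theorem exists_central_order_p [Finite G] [Nontrivial G] {p : ℕ} [Fact p.Prime]
    (hG : IsPGroup p G) :
    ∃ z ∈ Subgroup.center G, z ^ p = 1 ∧ z ≠ 1 ∧ orderOf z = p := by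
  haveI := hG.center_nontrivial
  have hCp : IsPGroup p (Subgroup.center G) := hG.to_subgroup _
  have hdvd : p ∣ Nat.card (Subgroup.center G) := by
    rcases hCp.card_eq_or_dvd with h | h
    · have := Finite.one_lt_card (α := Subgroup.center G)
      omega
    · exact h
  obtain ⟨⟨z, hz⟩, hzo⟩ := exists_prime_orderOf_dvd_card' (G := Subgroup.center G) p hdvd
  have hzo' : orderOf z = p := by rw [← hzo, Subgroup.orderOf_mk]
  refine ⟨z, hz, ?_, ?_, hzo'⟩
  · rw [← hzo']; exact pow_orderOf_eq_one z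
  · intro h
    rw [h, orderOf_one] at hzo'
    exact (Fact.out : p.Prime).one_lt.ne hzo'

/-- a semiregular `p`-group (`p ≠ q`) has at most one subgroup of order `p` -/
theorem uniqueOrderP_of_semireg [Finite G] [Nontrivial V] {p : ℕ} [Fact p.Prime]
    (hG : IsPGroup p G) (hpq : p ≠ q) (hsr : ∀ g : G, g ≠ 1 → FPF ρ g) : UniqueOrderP p G := by
  have hp : p.Prime := Fact.out
  intro x y hx hx1 hy
  haveI : Nontrivial G := ⟨⟨x, 1, hx1⟩⟩
  obtain ⟨z, hzc, hzp, hz1, hzo⟩ := exists_central_order_p hG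
  have hcomm : ∀ g : G, Commute g z := fun g => Subgroup.mem_center_iff.mp hzc g
  have hmem : ∀ y : G, y ^ p = 1 → y ∈ Subgroup.zpowers z := by
    intro y hy
    by_contra hyn
    obtain ⟨v, hv⟩ := exists_ne (0 : V)
    apply hv
    refine L1 ρ hpq (hcomm y) hy hzp ?_ ?_ v
    · intro k _
      apply hsr
      intro h
      apply hyn
      have : y = (z ^ k)⁻¹ := eq_inv_of_mul_eq_one_left h
      rw [this]
      exact Subgroup.inv_mem _ (Subgroup.pow_mem _ (Subgroup.mem_zpowers z) k)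
    · intro i hi0 hip
      apply hsr
      apply pow_ne_one_of_lt_orderOf hi0.ne'
      rw [hzo]; exact hip
  have hxz := hmem x hx
  have hox : orderOf x = p := orderOf_eq_prime hx hx1
  have heq : Subgroup.zpowers x = Subgroup.zpowers z := by
    apply Subgroup.eq_of_le_of_card_ge (Subgroup.zpowers_le.mpr hxz)
    rw [Nat.card_zpowers, Nat.card_zpowers, hox, hzo]
  rw [heq]; exact hmem y hy

/-- if `p = q` the group fixes every vector -/
theorem fix_all_of_eq [Finite G] [Finite V] [Nontrivial V] {p : ℕ} [Fact p.Prime]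
    (hG : IsPGroup p G) (hpq : p = q)
    (hs : ∀ v w : V, v ≠ 0 → w ≠ 0 → Nat.card (stab ρ v) = Nat.card (stab ρ w)) :
    ∀ (g : G) (v : V), ρ g v = v := by
  letI : MulAction G V := MulAction.compHom V ρ
  have hdvd : p ∣ Nat.card V := by
    obtain ⟨v, hv⟩ := exists_ne (0 : V)
    have h1 : addOrderOf v = q := by
      apply addOrderOf_eq_prime
      · rw [← Nat.cast_smul_eq_nsmul (ZMod q), ZMod.natCast_self, zero_smul]
      · exact hv
    rw [hpq, ← h1]; exact addOrderOf_dvd_natCard v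
  have h0 : (0 : V) ∈ MulAction.fixedPoints G V := by
    intro g; exact map_zero (ρ g)
  obtain ⟨b, hb, hb0⟩ := hG.exists_fixed_point_of_prime_dvd_card_of_fixed_point V hdvd h0
  have hbtop : stab ρ b = ⊤ := by
    ext g
    simp only [Subgroup.mem_top, iff_true]
    exact hb g
  intro g v
  by_cases hv : v = 0
  · rw [hv, map_zero]
  · have h2 : stab ρ v = ⊤ := by
      apply Subgroup.eq_top_of_card_eq
      rw [hs v b hv (Ne.symm hb0), hbtop]; exact Subgroup.card_top
    have : g ∈ stab ρ v := by rw [h2]; trivial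
    exact this

end Basic

end Cfsg.Agent.Lib.Helper17.HalfTr
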