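import Mathlib
import Cfsg.Agent.Lib.Helper17.HalfTrA
import Cfsg.Agent.Lib.Helper10.PGroup

/-!
Half-transitive linear p-groups, part B: a normal noncyclic abelian subgroup
gives a "second-centre" element `x`; for odd `p` this is contradictory.
-/

set_option autoImplicit false

namespace Cfsg.Agent.Lib.Helper17.HalfTr

open Cfsg.Agent.Lib.Helper10

section GroupSide
variable {G : Type*} [Group G]

/-- `Ω₁` of an abelian subgroup -/
def omega1 (p : ℕ) (A : Subgroup G) (hA : ∀ a ∈ A, ∀ b ∈ A, a * b = b * a) : Subgroup G where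
  carrier := {a | a ∈ A ∧ a ^ p = 1}
  mul_mem' := by
    rintro a b ⟨ha, hap⟩ ⟨hb, hbp⟩
    refine ⟨A.mul_mem ha hb, ?_⟩
    rw [(show Commute a b from hA a ha b hb).mul_pow, hap, hbp, one_mul]
  one_mem' := ⟨A.one_mem, one_pow _⟩
  inv_mem' := by
    rintro a ⟨ha, hap⟩
    exact ⟨A.inv_mem ha, by rw [inv_pow, hap, inv_one]⟩

theorem exists_x [Finite G] {p : ℕ} [Fact p.Prime] (hG : IsPGroup p G) {z : G}
    (hzc : z ∈ Subgroup.center G) (hzo : orderOf z = p)
    (A : Subgroup G) [hAn : A.Normal] (hA : ∀ a ∈ A, ∀ b ∈ A, a * b = b * a)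
    (hAc : ¬ IsCyclic A) :
    ∃ x ∈ A, x ^ p = 1 ∧ x ∉ Subgroup.zpowers z ∧
      ∀ g : G, ∃ k : ℕ, g * x * g⁻¹ = x * z ^ k := by
  have hp : p.Prime := Fact.out
  set N := omega1 p A hA with hN
  have hNn : N.Normal := by
    constructor
    rintro a ⟨ha, hap⟩ g
    exact ⟨hAn.conj_mem a ha g, by rw [conj_pow, hap, mul_one, mul_inv_cancel]⟩
  have hZn : (Subgroup.zpowers z).Normal := by
    constructor
    intro n hn g
    have hnc : n ∈ Subgroup.center G := (Subgroup.zpowers_le.mpr hzc) hn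
    have : g * n * g⁻¹ = n := by
      rw [Subgroup.mem_center_iff] at hnc
      rw [hnc g, mul_inv_cancel_right]
    rw [this]; exact hn
  have hnle : ¬ N ≤ Subgroup.zpowers z := by
    intro hle
    apply hAc
    refine isCyclic_of_comm_of_uniqueOrderP (hG.to_subgroup A)
      (fun a b => Subtype.ext (hA a a.2 b b.2)) ?_
    intro a b ha ha1 hb
    have ha' : (a : G) ^ p = 1 := by
      have := congrArg Subtype.val ha
      simpa using this
    have hb' : (b : G) ^ p = 1 := by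
      have := congrArg Subtype.val hb
      simpa using this
    have ha1' : (a : G) ≠ 1 := fun h0 => ha1 (Subtype.ext h0)
    have haz : (a : G) ∈ Subgroup.zpowers z := hle ⟨a.2, ha'⟩
    have hbz : (b : G) ∈ Subgroup.zpowers z := hle ⟨b.2, hb'⟩
    have hoa : orderOf (a : G) = p := orderOf_eq_prime ha' ha1'
    have heq : Subgroup.zpowers (a : G) = Subgroup.zpowers z := by
      apply Subgroup.eq_of_le_of_card_ge (Subgroup.zpowers_le.mpr haz)
      rw [Nat.card_zpowers, Nat.card_zpowers, hoa, hzo]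
    rw [← heq] at hbz
    obtain ⟨k, hk⟩ := Subgroup.mem_zpowers_iff.mp hbz
    refine Subgroup.mem_zpowers_iff.mpr ⟨k, ?_⟩
    apply Subtype.ext
    rw [Subgroup.coe_zpow]
    exact hk
  have hQ : IsPGroup p (G ⧸ Subgroup.zpowers z) := hG.to_quotient _
  have hsurj := QuotientGroup.mk'_surjective (Subgroup.zpowers z)
  haveI hNbn : (N.map (QuotientGroup.mk' (Subgroup.zpowers z))).Normal := hNn.map _ hsurj
  have hNb1 : N.map (QuotientGroup.mk' (Subgroup.zpowers z)) ≠ ⊥ := by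
    intro h
    rw [Subgroup.map_eq_bot_iff, QuotientGroup.ker_mk'] at h
    exact hnle h
  have hD := normal_inf_center_ne_bot hQ (N.map (QuotientGroup.mk' (Subgroup.zpowers z))) hNb1
  obtain ⟨⟨yb, hyb⟩, hyb1⟩ := (Subgroup.ne_bot_iff_exists_ne_one).mp hD
  have hyb1' : yb ≠ 1 := fun h => hyb1 (Subtype.ext h)
  obtain ⟨x, hxN, hxy⟩ := Subgroup.mem_map.mp hyb.1
  have hcen := Subgroup.mem_center_iff.mp hyb.2
  refine ⟨x, hxN.1, hxN.2, ?_, ?_⟩
  · intro hxz
    apply hyb1'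
    rw [← hxy]
    exact (QuotientGroup.eq_one_iff x).mpr hxz
  · intro g
    have h1 : (QuotientGroup.mk' (Subgroup.zpowers z)) (x * g)
        = (QuotientGroup.mk' (Subgroup.zpowers z)) (g * x) := by
      rw [map_mul, map_mul, hxy]
      exact (hcen _).symm
    have h2 : (x * g)⁻¹ * (g * x) ∈ Subgroup.zpowers z := QuotientGroup.eq.mp h1
    set c := (x * g)⁻¹ * (g * x) with hc
    have hcc : c ∈ Subgroup.center G := (Subgroup.zpowers_le.mpr hzc) h2
    obtain ⟨k, hk⟩ := (Submonoid.mem_powers_iff _ _).mp (mem_powers_iff_mem_zpowers.mpr h2)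
    refine ⟨k, ?_⟩
    rw [hk]
    have h3 : g * x = x * g * c := by
      rw [hc, mul_inv_cancel_left]
    have hcg : c * g⁻¹ = g⁻¹ * c := (Subgroup.mem_center_iff.mp hcc g⁻¹).symm
    rw [h3, mul_assoc (x * g) c g⁻¹, hcg, ← mul_assoc, mul_inv_cancel_right]

end GroupSide

section Rep
variable {q : ℕ} [Fact q.Prime] {V : Type*} [AddCommGroup V] [Module (ZMod q) V]
  {G : Type*} [Group G] (ρ : G →* (V ≃ₗ[ZMod q] V))

theorem rpow_eig {x c : G} (hxc : Commute x c) {w : V} (hw : ρ (x * c) w = w) (i : ℕ) :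
    ρ (x ^ i) w = ρ (c⁻¹ ^ i) w := by
  have h1 : ρ x w = ρ c⁻¹ w := by
    have : ρ c (ρ x w) = w := by rw [← rmul, ← hxc.eq, hw]
    exact (rinv_of_eq ρ this).symm
  induction i with
  | zero => rw [pow_zero, pow_zero]
  | succ i ih =>
    rw [pow_succ, rmul, h1, ← rmul, ((hxc.inv_right).pow_left i).eq, rmul, ih, ← rmul,
      ← pow_succ']

theorem NmL_eig {p : ℕ} {x c : G} (hxc : Commute x c) (hcp : c ^ p = 1) (hcf : FPF ρ c) {w : V}
    (hw : ρ (x * c) w = w) : NmL ρ x p w = 0 := by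
  have : NmL ρ x p w = NmL ρ c⁻¹ p w := by
    rw [NmL_apply, NmL_apply]
    exact Finset.sum_congr rfl fun i _ => rpow_eig ρ hxc hw i
  rw [this]
  exact NmL_eq_zero ρ (by rw [inv_pow, hcp, inv_one]) (FPF_inv ρ hcf) w

/-- the odd case is contradictory -/
theorem odd_contra [Finite G] {p : ℕ} [Fact p.Prime] (hp2 : p ≠ 2) (hpq : p ≠ q)
    (hs : ∀ v w : V, v ≠ 0 → w ≠ 0 → Nat.card (stab ρ v) = Nat.card (stab ρ w))
    (hfpf : ∀ c ∈ Subgroup.center G, c ^ p = 1 → c ≠ 1 → FPF ρ c)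
    {z x : G} (hzc : z ∈ Subgroup.center G) (hzp : z ^ p = 1)
    (hconj : ∀ g : G, ∃ k : ℕ, g * x * g⁻¹ = x * z ^ k)
    {u : V} (hu0 : u ≠ 0) (hu : ρ x u = u) {g0 : G} {k0 : ℕ}
    (hg0 : g0 * x * g0⁻¹ = x * z ^ k0) (hk0 : z ^ k0 ≠ 1) : False := by
  set y := z ^ k0 with hy
  have hyc : y ∈ Subgroup.center G := Subgroup.pow_mem _ hzc k0
  have hyp : y ^ p = 1 := by rw [hy, ← pow_mul, mul_comm, pow_mul, hzp, one_pow]
  have hyf : FPF ρ y := hfpf y hyc hyp hk0
  have hcm : ∀ (c : G), c ∈ Subgroup.center G → ∀ g : G, Commute g c :=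
    fun c hc g => Subgroup.mem_center_iff.mp hc g
  set w := ρ g0 u with hw
  have hw0 : w ≠ 0 := rne_zero ρ g0 hu0
  have hwf : ρ (x * y) w = w := by
    have := conj_fixed ρ g0 hu
    rwa [hg0] at this
  have hxw : ρ x w ≠ w := by
    intro h
    apply hw0
    apply hyf w
    have h2 : ρ (x * y) w = ρ y w := by
      rw [(hcm y hyc x).eq, rmul, h]
    rw [← h2]; exact hwf
  have hNu : NmL ρ x p u = p • u := NmL_of_fixed ρ hu p
  have hNw : NmL ρ x p w = 0 := NmL_eig ρ (hcm y hyc x) hyp hyf hwf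
  have hkey : ∀ g : G, ρ g (u + w) = u + w → ρ g u = u ∧ ρ g w = w := by
    intro g hg
    obtain ⟨k, hk⟩ := hconj g
    have hzkc : z ^ k ∈ Subgroup.center G := Subgroup.pow_mem _ hzc k
    have hzkp : (z ^ k) ^ p = 1 := by rw [← pow_mul, mul_comm, pow_mul, hzp, one_pow]
    have ha : ρ (x * z ^ k) (ρ g u) = ρ g u := by
      have := conj_fixed ρ g hu
      rwa [hk] at this
    have hb : ρ (x * (y * z ^ k)) (ρ g w) = ρ g w := by
      have h0 := conj_fixed ρ g hwf
      have e1 : g * (x * y) * g⁻¹ = x * (y * z ^ k) := by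
        have e2 : g * (x * y) * g⁻¹ = (g * x * g⁻¹) * (g * y * g⁻¹) := by group
        rw [e2, hk]
        have e3 : g * y * g⁻¹ = y := by rw [(hcm y hyc g).eq, mul_inv_cancel_right]
        rw [e3, mul_assoc, (hcm y hyc (z ^ k)).eq]
      rwa [e1] at h0
    have hsum : ρ g u + ρ g w = u + w := by rw [← map_add]; exact hg
    have hN : NmL ρ x p (ρ g u) + NmL ρ x p (ρ g w) = p • u := by
      rw [← map_add, hsum, map_add, hNu, hNw, add_zero]
    have hykc : y * z ^ k ∈ Subgroup.center G := Subgroup.mul_mem _ hyc hzkc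
    have hykp : (y * z ^ k) ^ p = 1 := by
      rw [(hcm (z ^ k) hzkc y).mul_pow, hyp, hzkp, one_mul]
    by_cases h1 : z ^ k = 1
    · rw [h1, mul_one] at ha
      have hyk : y * z ^ k ≠ 1 := by rw [h1, mul_one]; exact hk0
      have hNb : NmL ρ x p (ρ g w) = 0 :=
        NmL_eig ρ (hcm _ hykc x) hykp (hfpf _ hykc hykp hyk) hb
      rw [hNb, add_zero, NmL_of_fixed ρ ha p] at hN
      have h3 : p • (ρ g u - u) = 0 := by rw [smul_sub, hN, sub_self]
      have hgu : ρ g u = u := sub_eq_zero.mp (eq_zero_of_nsmul hpq h3)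
      refine ⟨hgu, ?_⟩
      rw [hgu] at hsum
      exact add_left_cancel hsum
    · have hNa : NmL ρ x p (ρ g u) = 0 :=
        NmL_eig ρ (hcm _ hzkc x) hzkp (hfpf _ hzkc hzkp h1) ha
      by_cases h2 : y * z ^ k = 1
      · exfalso
        rw [h2, mul_one] at hb
        rw [hNa, zero_add, NmL_of_fixed ρ hb p] at hN
        have h3 : p • (ρ g w - u) = 0 := by rw [smul_sub, hN, sub_self]
        have hgw : ρ g w = u := sub_eq_zero.mp (eq_zero_of_nsmul hpq h3)
        have hgu : ρ g u = w := by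
          rw [hgw, add_comm] at hsum
          exact add_left_cancel hsum
        rw [hgu] at ha
        have hzk : z ^ k = y⁻¹ := eq_inv_of_mul_eq_one_right h2
        rw [hzk] at ha
        have e1 : ρ y (ρ x w) = w := by rw [← rmul, ← (hcm y hyc x).eq]; exact hwf
        have e2 : ρ y⁻¹ (ρ x w) = w := by
          rw [← rmul, ← ((hcm y hyc x).inv_right).eq]; exact ha
        have e3 : ρ x w = ρ y⁻¹ w := (rinv_of_eq ρ e1).symm
        have e4 : ρ x w = ρ y w := by
          have := rinv_of_eq ρ e2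
          rw [inv_inv] at this
          exact this.symm
        have e5 : ρ (y * y) w = w := by
          rw [rmul, ← e4, e3, rapply_inv]
        have hyy : y * y ≠ 1 := by
          intro h
          have h2' : y ^ 2 = 1 := by rw [pow_two]; exact h
          have ho : orderOf y = p := orderOf_eq_prime hyp hk0
          have hd := orderOf_dvd_of_pow_eq_one h2'
          rw [ho] at hd
          exact hp2 ((Nat.prime_dvd_prime_iff_eq (Fact.out) Nat.prime_two).mp hd)
        have hyyc : y * y ∈ Subgroup.center G := Subgroup.mul_mem _ hyc hyc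
        have hyyp : (y * y) ^ p = 1 := by rw [(Commute.refl y).mul_pow, hyp, one_mul]
        exact hw0 (hfpf _ hyyc hyyp hyy w e5)
      · exfalso
        have hNb : NmL ρ x p (ρ g w) = 0 :=
          NmL_eig ρ (hcm _ hykc x) hykp (hfpf _ hykc hykp h2) hb
        rw [hNa, hNb, add_zero] at hN
        exact hu0 (eq_zero_of_nsmul hpq hN.symm)
  have hne : u + w ≠ 0 := by
    intro h
    apply hxw
    have : w = -u := eq_neg_of_add_eq_zero_right h
    rw [this, map_neg, hu]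
  have hle : stab ρ (u + w) ≤ stab ρ u := fun g hg => (hkey g hg).1
  have heq : stab ρ (u + w) = stab ρ u :=
    Subgroup.eq_of_le_of_card_ge hle (hs _ _ hu0 hne).le
  have hx : x ∈ stab ρ (u + w) := by rw [heq]; exact hu
  exact hxw (hkey x hx).2

/-- normalising the second-centre element: it has fixed vectors and is not central -/
theorem exists_setup [Finite G] [Nontrivial V] {p : ℕ} [Fact p.Prime] (hpq : p ≠ q)
    (hfpf : ∀ c ∈ Subgroup.center G, c ^ p = 1 → c ≠ 1 → FPF ρ c)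
    {z x : G} (hzc : z ∈ Subgroup.center G) (hzo : orderOf z = p) (hxp : x ^ p = 1)
    (hxz : x ∉ Subgroup.zpowers z) (hconj : ∀ g : G, ∃ k : ℕ, g * x * g⁻¹ = x * z ^ k) :
    ∃ x' : G, x' ^ p = 1 ∧ (∀ g : G, ∃ k : ℕ, g * x' * g⁻¹ = x' * z ^ k) ∧
      (∃ u : V, u ≠ 0 ∧ ρ x' u = u) ∧
      ∃ (g0 : G) (k0 : ℕ), g0 * x' * g0⁻¹ = x' * z ^ k0 ∧ z ^ k0 ≠ 1 := by
  have hzp : z ^ p = 1 := by rw [← hzo]; exact pow_orderOf_eq_one z
  have hcm : ∀ g : G, Commute g z := fun g => Subgroup.mem_center_iff.mp hzc g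
  have hA : ∃ k1, k1 < p ∧ ¬ FPF ρ (x * z ^ k1) := by
    by_contra hcon
    push Not at hcon
    obtain ⟨v, hv⟩ := exists_ne (0 : V)
    apply hv
    refine L1 ρ hpq (hcm x) hxp hzp hcon ?_ v
    intro i hi0 hip
    apply hfpf _ (Subgroup.pow_mem _ hzc i) (by rw [← pow_mul, mul_comm, pow_mul, hzp, one_pow])
    apply pow_ne_one_of_lt_orderOf hi0.ne'
    rw [hzo]; exact hip
  obtain ⟨k1, _, hk1⟩ := hA
  set x' := x * z ^ k1 with hx'
  have hzk1c : z ^ k1 ∈ Subgroup.center G := Subgroup.pow_mem _ hzc k1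
  have hx'p : x' ^ p = 1 := by
    rw [hx', ((hcm x).pow_right k1).mul_pow, hxp, ← pow_mul, mul_comm, pow_mul, hzp, one_pow,
      one_mul]
  have hx'conj : ∀ g : G, ∃ k : ℕ, g * x' * g⁻¹ = x' * z ^ k := by
    intro g
    obtain ⟨k, hk⟩ := hconj g
    refine ⟨k, ?_⟩
    have h1 : g * x' * g⁻¹ = (g * x * g⁻¹) * (g * z ^ k1 * g⁻¹) := by rw [hx']; group
    have h2 : g * z ^ k1 * g⁻¹ = z ^ k1 := by
      rw [(Subgroup.mem_center_iff.mp hzk1c g), mul_inv_cancel_right]
    rw [h1, hk, h2, hx', mul_assoc, mul_assoc, ← pow_add, ← pow_add, add_comm]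
  have hfix : ∃ u : V, u ≠ 0 ∧ ρ x' u = u := by
    unfold FPF at hk1
    push Not at hk1
    obtain ⟨u, hu, hu0⟩ := hk1
    exact ⟨u, hu0, hu⟩
  have hx'1 : x' ≠ 1 := by
    intro h
    apply hxz
    have : x = (z ^ k1)⁻¹ := eq_inv_of_mul_eq_one_left h
    rw [this]
    exact Subgroup.inv_mem _ (Subgroup.pow_mem _ (Subgroup.mem_zpowers z) k1)
  have hx'nc : x' ∉ Subgroup.center G := by
    intro h
    exact hk1 (hfpf x' h hx'p hx'1)
  rw [Subgroup.mem_center_iff] at hx'nc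
  push Not at hx'nc
  obtain ⟨g0, hg0⟩ := hx'nc
  obtain ⟨k0, hk0⟩ := hx'conj g0
  refine ⟨x', hx'p, hx'conj, hfix, g0, k0, hk0, ?_⟩
  intro h
  rw [h, mul_one] at hk0
  apply hg0
  calc g0 * x' = g0 * x' * g0⁻¹ * g0 := by group
    _ = x' * g0 := by rw [hk0]

end Rep

end Cfsg.Agent.Lib.Helper17.HalfTr
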