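import Mathlib
import Cfsg.Agent.Lib.Helper17.HalfTrA
import Cfsg.Agent.S3370

/-!
Half-transitive linear p-groups, part C: the case `p = 2` with a normal four-group.
-/

set_option autoImplicit false

namespace Cfsg.Agent.Lib.Helper17.HalfTr

section Even
variable {q : ℕ} [Fact q.Prime] {V : Type*} [AddCommGroup V] [Module (ZMod q) V]
  {G : Type*} [Group G] (ρ : G →* (V ≃ₗ[ZMod q] V))

/-- data of the even case -/
structure ES (x z : G) : Prop where
  hq2 : (2 : ℕ) ≠ q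
  hρ : Function.Injective ρ
  hs : ∀ v w : V, v ≠ 0 → w ≠ 0 → Nat.card (stab ρ v) = Nat.card (stab ρ w)
  hneg : ∀ v : V, ρ z v = -v
  hzc : z ∈ Subgroup.center G
  hz1 : z ≠ 1
  hxx : x * x = 1
  hdi : ∀ g : G, g * x * g⁻¹ = x ∨ g * x * g⁻¹ = x * z

/-- the `(-1)`-eigenspace of `x` -/
def Vm (x : G) : Submodule (ZMod q) V where
  carrier := {w | ρ x w = -w}
  add_mem' := by
    intro a b ha hb
    simp only [Set.mem_ofPred_eq] at ha hb ⊢
    rw [map_add, ha, hb, neg_add]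
  zero_mem' := by
    simp only [Set.mem_ofPred_eq]
    rw [map_zero, neg_zero]
  smul_mem' := by
    intro c a ha
    simp only [Set.mem_ofPred_eq] at ha ⊢
    rw [map_smul, ha, smul_neg]

theorem mem_Vm {x : G} {w : V} : w ∈ Vm ρ x ↔ ρ x w = -w := Iff.rfl

/-- the centraliser of `x`, in conjugation form -/
def Cx (x : G) : Subgroup G where
  carrier := {g | g * x * g⁻¹ = x}
  mul_mem' := by
    intro a b ha hb
    simp only [Set.mem_ofPred_eq] at ha hb ⊢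
    calc a * b * x * (a * b)⁻¹ = a * (b * x * b⁻¹) * a⁻¹ := by group
      _ = x := by rw [hb, ha]
  one_mem' := by
    simp only [Set.mem_ofPred_eq]
    group
  inv_mem' := by
    intro a ha
    simp only [Set.mem_ofPred_eq] at ha ⊢
    calc a⁻¹ * x * a⁻¹⁻¹ = a⁻¹ * (a * x * a⁻¹) * a := by rw [ha, inv_inv]
      _ = x := by group

theorem mem_Cx {x g : G} : g ∈ Cx x ↔ g * x * g⁻¹ = x := Iff.rfl

theorem act_conj (x g : G) (v : V) : ρ (g * x * g⁻¹) (ρ g v) = ρ g (ρ x v) := by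
  rw [rmul, rmul, rinv_apply]

theorem actC {x g : G} (hg : g * x * g⁻¹ = x) (v : V) : ρ x (ρ g v) = ρ g (ρ x v) := by
  have := act_conj ρ x g v
  rwa [hg] at this

theorem Vm_inv {x g : G} (hg : g * x * g⁻¹ = x) {w : V} (hw : w ∈ Vm ρ x) : ρ g w ∈ Vm ρ x := by
  rw [mem_Vm] at hw ⊢
  rw [actC ρ hg, hw, map_neg]

/-- the action of an element of `C(x)` on the `(-1)`-eigenspace -/
noncomputable def resE {x : G} (c : G) (hc : c * x * c⁻¹ = x) :
    (Vm ρ x) ≃ₗ[ZMod q] (Vm ρ x) :=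
  LinearEquiv.ofLinearMap
    ((ρ c).toLinearMap.restrict (p := Vm ρ x) (q := Vm ρ x) (fun _ hw => Vm_inv ρ hc hw))
    ((ρ c⁻¹).toLinearMap.restrict (p := Vm ρ x) (q := Vm ρ x)
      (fun _ hw => Vm_inv ρ ((Cx x).inv_mem hc) hw))
    (by
      apply LinearMap.ext
      intro w
      apply Subtype.ext
      exact rapply_inv ρ c w.1)
    (by
      apply LinearMap.ext
      intro w
      apply Subtype.ext
      exact rinv_apply ρ c w.1)

theorem resE_coe {x : G} (c : G) (hc : c * x * c⁻¹ = x) (w : Vm ρ x) :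
    ((resE ρ c hc w : Vm ρ x) : V) = ρ c w.1 := rfl

/-- the restricted representation of `C(x)` -/
noncomputable def resV (x : G) : ↥(Cx x) →* ((Vm ρ x) ≃ₗ[ZMod q] (Vm ρ x)) where
  toFun c := resE ρ c.1 c.2
  map_one' := by
    apply LinearEquiv.ext
    intro w
    apply Subtype.ext
    show ρ ((1 : ↥(Cx x)) : G) w.1 = w.1
    exact rone ρ w.1
  map_mul' := by
    intro a b
    apply LinearEquiv.ext
    intro w
    apply Subtype.ext
    show ρ ((a * b : ↥(Cx x)) : G) w.1 = ρ a.1 (ρ b.1 w.1)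
    exact rmul ρ a.1 b.1 w.1

theorem resV_coe (x : G) (c : ↥(Cx x)) (w : Vm ρ x) : ((resV ρ x c w : Vm ρ x) : V) = ρ c.1 w.1 :=
  rfl

variable {ρ}
variable {x z : G}

theorem ES.two_ne (h : ES ρ x z) : (2 : ZMod q) ≠ 0 := by
  have := natCast_ne_zero (q := q) (p := 2) h.hq2
  simpa using this

theorem ES.inter (h : ES ρ x z) {v : V} (h1 : ρ x v = v) (h2 : ρ x v = -v) : v = 0 := by
  have e : v = -v := h1.symm.trans h2
  have : (2 : ℕ) • v = 0 := by
    rw [two_smul]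
    exact add_eq_zero_iff_eq_neg.mpr e
  exact eq_zero_of_nsmul (p := 2) h.hq2 this

theorem ES.xz_apply (h : ES ρ x z) (v : V) : ρ (x * z) v = -ρ x v := by
  rw [rmul, h.hneg, map_neg]

theorem ES.actN (h : ES ρ x z) {g : G} (hg : g * x * g⁻¹ = x * z) (v : V) :
    ρ x (ρ g v) = -ρ g (ρ x v) := by
  have := act_conj ρ x g v
  rw [hg, h.xz_apply] at this
  rw [← this, neg_neg]

theorem ES.xx_apply (h : ES ρ x z) (v : V) : ρ x (ρ x v) = v := by
  rw [← rmul, h.hxx, rone]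

theorem ES.decomp (h : ES ρ x z) (v : V) :
    ∃ u w : V, ρ x u = u ∧ ρ x w = -w ∧ v = u + w := by
  have h2 := h.two_ne
  refine ⟨(2 : ZMod q)⁻¹ • (v + ρ x v), (2 : ZMod q)⁻¹ • (v - ρ x v), ?_, ?_, ?_⟩
  · rw [map_smul, map_add, h.xx_apply, add_comm]
  · rw [map_smul, map_sub, h.xx_apply, ← smul_neg, neg_sub]
  · rw [← smul_add, add_add_sub_cancel, ← two_smul (ZMod q) v, smul_smul, inv_mul_cancel₀ h2,
      one_smul]

theorem ES.fix_of_C (h : ES ρ x z) {g : G} (hc : g * x * g⁻¹ = x) {u w : V} (hu : ρ x u = u)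
    (hw : ρ x w = -w) (hg : ρ g (u + w) = u + w) : ρ g u = u ∧ ρ g w = w := by
  rw [map_add] at hg
  have h1 : ρ x (ρ g u) = ρ g u := by rw [actC ρ hc, hu]
  have h2 : ρ x (ρ g w) = -ρ g w := by rw [actC ρ hc, hw, map_neg]
  have e1 : ρ g u - u = w - ρ g w := by rw [sub_eq_sub_iff_add_eq_add, hg, add_comm]
  have e2 : ρ x (ρ g u - u) = ρ g u - u := by rw [map_sub, h1, hu]
  have e3 : ρ x (ρ g u - u) = -(ρ g u - u) := by
    rw [e1, map_sub, hw, h2]; abel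
  have e4 := h.inter e2 e3
  have e5 : w - ρ g w = 0 := by rw [← e1]; exact e4
  exact ⟨sub_eq_zero.mp e4, (sub_eq_zero.mp e5).symm⟩

theorem ES.swap_of_N (h : ES ρ x z) {g : G} (hn : g * x * g⁻¹ = x * z) {u w : V}
    (hu : ρ x u = u) (hw : ρ x w = -w) (hg : ρ g (u + w) = u + w) : ρ g u = w ∧ ρ g w = u := by
  rw [map_add] at hg
  have h1 : ρ x (ρ g u) = -ρ g u := by rw [h.actN hn, hu]
  have h2 : ρ x (ρ g w) = ρ g w := by rw [h.actN hn, hw, map_neg, neg_neg]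
  have e1 : ρ g u - w = u - ρ g w := by rw [sub_eq_sub_iff_add_eq_add, hg]
  have e2 : ρ x (ρ g u - w) = -(ρ g u - w) := by
    rw [map_sub, h1, hw]; abel
  have e3 : ρ x (ρ g u - w) = ρ g u - w := by rw [e1, map_sub, hu, h2]
  have e4 := h.inter e3 e2
  have e5 : u - ρ g w = 0 := by rw [← e1]; exact e4
  exact ⟨sub_eq_zero.mp e4, (sub_eq_zero.mp e5).symm⟩

theorem ES.T (h : ES ρ x z) [Finite G] {u w : V} (hu : ρ x u = u) (hu0 : u ≠ 0)
    (hw : ρ x w = -w) (hw0 : w ≠ 0) :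
    ∃ y : G, y * x * y⁻¹ = x * z ∧ ρ y u = w ∧ ρ y w = u := by
  have hne : u + w ≠ 0 := by
    intro h0
    have e : w = -u := eq_neg_of_add_eq_zero_right h0
    apply hw0
    apply h.inter _ hw
    rw [e, map_neg, hu]
  by_contra hcon
  push Not at hcon
  have hkey : ∀ g : G, ρ g (u + w) = u + w → ρ g u = u ∧ ρ g w = w := by
    intro g hg
    rcases h.hdi g with hc | hn
    · exact h.fix_of_C hc hu hw hg
    · exfalso
      obtain ⟨e5, e6⟩ := h.swap_of_N hn hu hw hg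
      exact hcon g hn e5 e6
  have hle : stab ρ (u + w) ≤ stab ρ u := fun g hg => (hkey g hg).1
  have heq : stab ρ (u + w) = stab ρ u :=
    Subgroup.eq_of_le_of_card_ge hle (h.hs _ _ hu0 hne).le
  have hx : x ∈ stab ρ (u + w) := by rw [heq]; exact hu
  have := (hkey x hx).2
  exact hw0 (h.inter this hw)

theorem ES.transC (h : ES ρ x z) [Finite G] {u : V} (hu : ρ x u = u) (hu0 : u ≠ 0) {w w' : V}
    (hw : ρ x w = -w) (hw0 : w ≠ 0) (hw' : ρ x w' = -w') (hw'0 : w' ≠ 0) :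
    ∃ c : G, c * x * c⁻¹ = x ∧ ρ c w = w' := by
  obtain ⟨y, _, hyu, _⟩ := h.T hu hu0 hw hw0
  obtain ⟨y', _, hy'u, _⟩ := h.T hu hu0 hw' hw'0
  have hcw : ρ (y' * y⁻¹) w = w' := by rw [rmul, rinv_of_eq ρ hyu, hy'u]
  rcases h.hdi (y' * y⁻¹) with hc | hn
  · exact ⟨_, hc, hcw⟩
  · exfalso
    have := h.actN hn w
    rw [hcw, hw, map_neg, hcw, neg_neg] at this
    exact hw'0 (h.inter this hw')

/-- cardinalities of the eigenspaces via the landed transitive theorem -/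
theorem ES.card_cases (h : ES ρ x z) [Finite G] [Finite V] (hG : IsPGroup 2 G) {u w0 : V}
    (hu : ρ x u = u) (hu0 : u ≠ 0) (hw : ρ x w0 = -w0) (hw0 : w0 ≠ 0) :
    (Nat.card ↥(Vm ρ x) = q ∧ ∃ m : ℕ, q = 2 ^ m + 1) ∨ (q = 3 ∧ Nat.card ↥(Vm ρ x) = 9) := by
  have hxC : x * x * x⁻¹ = x := by group
  haveI : Nontrivial ↥(Vm ρ x) := ⟨⟨⟨w0, hw⟩, 0, fun h0 => hw0 (congrArg Subtype.val h0)⟩⟩
  set G' := (resV ρ x).range with hG'
  haveI : Finite ↥G' :=
    Finite.of_surjective (resV ρ x).rangeRestrict (resV ρ x).rangeRestrict_surjective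
  have hG'p : IsPGroup 2 ↥G' :=
    (hG.to_subgroup (Cx x)).of_surjective (resV ρ x).rangeRestrict
      (resV ρ x).rangeRestrict_surjective
  haveI : Nontrivial ↥G' := by
    refine ⟨⟨⟨resV ρ x ⟨x, hxC⟩, MonoidHom.mem_range.mpr ⟨_, rfl⟩⟩, 1, ?_⟩⟩
    intro h0
    have h1 : resV ρ x ⟨x, hxC⟩ = 1 := congrArg Subtype.val h0
    have h2 : ((resV ρ x ⟨x, hxC⟩ ⟨w0, hw⟩ : Vm ρ x) : V) = w0 := by rw [h1]; rfl
    rw [resV_coe] at h2
    exact hw0 (h.inter h2 hw)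
  have htrans : ∀ v w : ↥(Vm ρ x), v ≠ 0 → w ≠ 0 → ∃ g : ↥G', (G'.subtype g) v = w := by
    intro v w hv hw'
    have hv0 : v.1 ≠ 0 := fun h0 => hv (Subtype.ext h0)
    have hw0' : w.1 ≠ 0 := fun h0 => hw' (Subtype.ext h0)
    obtain ⟨c, hc, hcv⟩ := h.transC hu hu0 v.2 hv0 w.2 hw0'
    refine ⟨⟨resV ρ x ⟨c, hc⟩, MonoidHom.mem_range.mpr ⟨_, rfl⟩⟩, ?_⟩
    apply Subtype.ext
    exact hcv
  have hres := Cfsg.Agent.S3370.result q (V := ↥(Vm ρ x)) (G := ↥G') 2 hG'p G'.subtype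
    (Subgroup.subtype_injective _) htrans
  rcases hres with ⟨hq, _⟩ | ⟨_, hc, ⟨m, hm, _⟩, _⟩ | ⟨_, hq3, hc, _⟩
  · exact absurd hq.symm h.hq2
  · exact Or.inl ⟨hc, m, hm⟩
  · exact Or.inr ⟨hq3, hc⟩

/-- `|V| = |V₋|²` -/
theorem ES.card_V (h : ES ρ x z) [Finite V] {g0 : G} (hg0 : g0 * x * g0⁻¹ = x * z) :
    Nat.card V = Nat.card ↥(Vm ρ x) * Nat.card ↥(Vm ρ x) ∧
      Nat.card ↥(Fx ρ x) = Nat.card ↥(Vm ρ x) := by
  have hg0' : g0⁻¹ * x * g0⁻¹⁻¹ = x * z := by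
    rcases h.hdi g0⁻¹ with hc | hn
    · exfalso
      have h1 : g0⁻¹⁻¹ * x * g0⁻¹⁻¹⁻¹ = x := (Cx x).inv_mem hc
      rw [inv_inv] at h1
      rw [h1] at hg0
      apply h.hz1
      have h2 : x * 1 = x * z := by rw [mul_one]; exact hg0
      exact (mul_left_cancel h2).symm
    · exact hn
  let φ : ↥(Fx ρ x) → ↥(Vm ρ x) := fun u =>
    ⟨ρ g0 u.1, by rw [mem_Vm, h.actN hg0, (show ρ x u.1 = u.1 from u.2)]⟩
  let ψ : ↥(Vm ρ x) → ↥(Fx ρ x) := fun w =>
    ⟨ρ g0⁻¹ w.1, by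
      rw [mem_Fx, h.actN hg0', (show ρ x w.1 = -w.1 from w.2), map_neg, neg_neg]⟩
  have e : ↥(Fx ρ x) ≃ ↥(Vm ρ x) :=
    ⟨φ, ψ, fun u => Subtype.ext (rinv_apply ρ g0 u.1), fun w => Subtype.ext (rapply_inv ρ g0 w.1)⟩
  have hcard := Nat.card_congr e
  let f : ↥(Fx ρ x) × ↥(Vm ρ x) → V := fun p => p.1.1 + p.2.1
  have hinj : Function.Injective f := by
    rintro ⟨u, w⟩ ⟨u', w'⟩ hf
    have hf' : u.1 + w.1 = u'.1 + w'.1 := hf
    have e1 : u.1 - u'.1 = w'.1 - w.1 := by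
      rw [sub_eq_sub_iff_add_eq_add, hf', add_comm]
    have e2 : ρ x (u.1 - u'.1) = u.1 - u'.1 := by
      rw [map_sub, (show ρ x u.1 = u.1 from u.2), (show ρ x u'.1 = u'.1 from u'.2)]
    have e3 : ρ x (u.1 - u'.1) = -(u.1 - u'.1) := by
      rw [e1, map_sub, (show ρ x w'.1 = -w'.1 from w'.2), (show ρ x w.1 = -w.1 from w.2)]
      abel
    have e4 := h.inter e2 e3
    have e5 : w'.1 - w.1 = 0 := by rw [← e1]; exact e4
    exact Prod.ext (Subtype.ext (sub_eq_zero.mp e4)) (Subtype.ext (sub_eq_zero.mp e5).symm)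
  have hsurj : Function.Surjective f := by
    intro v
    obtain ⟨u, w, hu, hw, rfl⟩ := h.decomp v
    exact ⟨(⟨u, hu⟩, ⟨w, hw⟩), rfl⟩
  have hc2 := Nat.card_congr (Equiv.ofBijective f ⟨hinj, hsurj⟩)
  rw [Nat.card_prod] at hc2
  exact ⟨by rw [← hc2, hcard], hcard⟩

open Cfsg.Agent.Lib.Helper10 in
/-- the explicit monomial group when the eigenspaces are lines -/
theorem ES.caseC (h : ES ρ x z) [Finite G] [Finite V] (hcp : Nat.card ↥(Fx ρ x) = q)
    (hcm : Nat.card ↥(Vm ρ x) = q) {u0 w0 : V} (hu : ρ x u0 = u0) (hu0 : u0 ≠ 0)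
    (hw : ρ x w0 = -w0) (hw0 : w0 ≠ 0) :
    ∃ e : V ≃ₗ[ZMod q] (Fin 2 → ZMod q),
      ∀ f : (Fin 2 → ZMod q) ≃ₗ[ZMod q] (Fin 2 → ZMod q),
        (∃ g : G, f = e.symm.trans ((ρ g).trans e)) ↔
        ∃ a s : ZMod q, a ≠ 0 ∧ (s = 1 ∨ s = -1) ∧
          ((∀ v, f v = ![a * v 0, s * a⁻¹ * v 1]) ∨
            (∀ v, f v = ![s * a⁻¹ * v 1, a * v 0])) := by
  classical
  have hspan_p : ∀ u : V, ρ x u = u → ∃ a : ZMod q, u = a • u0 := by
    intro u hu'
    let φ : ZMod q → ↥(Fx ρ x) := fun a => ⟨a • u0, (Fx ρ x).smul_mem a hu⟩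
    have hinj : Function.Injective φ := by
      intro a b hab
      have : a • u0 = b • u0 := congrArg Subtype.val hab
      exact smul_left_injective (ZMod q) hu0 this
    have hbij := hinj.bijective_of_nat_card_le (by rw [hcp, Nat.card_zmod])
    obtain ⟨a, ha⟩ := hbij.2 ⟨u, hu'⟩
    exact ⟨a, (congrArg Subtype.val ha).symm⟩
  have hspan_m : ∀ w : V, ρ x w = -w → ∃ b : ZMod q, w = b • w0 := by
    intro w hw'
    let φ : ZMod q → ↥(Vm ρ x) := fun a => ⟨a • w0, (Vm ρ x).smul_mem a hw⟩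
    have hinj : Function.Injective φ := by
      intro a b hab
      have : a • w0 = b • w0 := congrArg Subtype.val hab
      exact smul_left_injective (ZMod q) hw0 this
    have hbij := hinj.bijective_of_nat_card_le (by rw [hcm, Nat.card_zmod])
    obtain ⟨a, ha⟩ := hbij.2 ⟨w, hw'⟩
    exact ⟨a, (congrArg Subtype.val ha).symm⟩
  let L : (Fin 2 → ZMod q) →ₗ[ZMod q] V :=
    { toFun := fun c => c 0 • u0 + c 1 • w0
      map_add' := by
        intro c d
        simp only [Pi.add_apply, add_smul]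
        abel
      map_smul' := by
        intro r c
        simp only [Pi.smul_apply, smul_eq_mul, RingHom.id_apply, smul_add, mul_smul] }
  have hL : ∀ c : Fin 2 → ZMod q, L c = c 0 • u0 + c 1 • w0 := fun c => rfl
  have hLinj : Function.Injective L := by
    rw [injective_iff_map_eq_zero]
    intro c hc
    rw [hL] at hc
    have e1 : c 0 • u0 = -(c 1 • w0) := eq_neg_of_add_eq_zero_left hc
    have e2 : ρ x (c 0 • u0) = c 0 • u0 := by rw [map_smul, hu]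
    have e3 : ρ x (c 0 • u0) = -(c 0 • u0) := by
      rw [e1, map_neg, map_smul, hw, smul_neg]
    have e4 := h.inter e2 e3
    have c0 : c 0 = 0 := (smul_eq_zero.mp e4).resolve_right hu0
    have e5 : c 1 • w0 = 0 := by
      rw [e4] at e1
      exact neg_eq_zero.mp e1.symm
    have c1 : c 1 = 0 := (smul_eq_zero.mp e5).resolve_right hw0
    funext i
    fin_cases i
    · exact c0
    · exact c1
  have hLsurj : Function.Surjective L := by
    intro v
    obtain ⟨u, w, hu', hw', rfl⟩ := h.decomp v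
    obtain ⟨a, rfl⟩ := hspan_p u hu'
    obtain ⟨b, rfl⟩ := hspan_m w hw'
    exact ⟨![a, b], by rw [hL]; simp⟩
  set E := LinearEquiv.ofBijective L ⟨hLinj, hLsurj⟩ with hE
  have hEL : ∀ c, E c = L c := fun c => rfl
  have hkey : ∀ (g : G) (c c' : Fin 2 → ZMod q), ρ g (L c) = L c' →
      (E.symm.symm.trans ((ρ g).trans E.symm)) c = c' := by
    intro g c c' hc
    show E.symm (ρ g (E.symm.symm c)) = c'
    rw [LinearEquiv.symm_symm, hEL, hc, ← hEL, LinearEquiv.symm_apply_apply]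
  have hdiag : ∀ (g : G) (a b : ZMod q), ρ g u0 = a • u0 → ρ g w0 = b • w0 →
      ∀ c : Fin 2 → ZMod q, ρ g (L c) = L ![a * c 0, b * c 1] := by
    intro g a b h1 h2 c
    rw [hL, hL, map_add, map_smul, map_smul, h1, h2, smul_smul, smul_smul]
    simp [mul_comm]
  have hswap : ∀ (g : G) (α β : ZMod q), ρ g u0 = α • w0 → ρ g w0 = β • u0 →
      ∀ c : Fin 2 → ZMod q, ρ g (L c) = L ![β * c 1, α * c 0] := by
    intro g α β h1 h2 c
    rw [hL, hL, map_add, map_smul, map_smul, h1, h2, smul_smul, smul_smul, add_comm]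
    simp [mul_comm]
  have hy : ∀ t : ZMod q, t ≠ 0 → ∃ y : G, ρ y u0 = t • w0 ∧ ρ y w0 = t⁻¹ • u0 := by
    intro t ht
    have hw' : ρ x (t • w0) = -(t • w0) := by rw [map_smul, hw, smul_neg]
    have hw'0 : t • w0 ≠ 0 := smul_ne_zero ht hw0
    obtain ⟨y, _, hyu, hyw⟩ := h.T hu hu0 hw' hw'0
    refine ⟨y, hyu, ?_⟩
    rw [map_smul] at hyw
    rw [← hyw, smul_smul, inv_mul_cancel₀ ht, one_smul]
  have hd : ∀ t : ZMod q, t ≠ 0 → ∃ d : G, ρ d u0 = t • u0 ∧ ρ d w0 = t⁻¹ • w0 := by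
    intro t ht
    obtain ⟨y1, h1u, h1w⟩ := hy 1 one_ne_zero
    obtain ⟨ys, hsu, hsw⟩ := hy t⁻¹ (inv_ne_zero ht)
    refine ⟨ys * y1, ?_, ?_⟩
    · rw [rmul, h1u, one_smul, hsw, inv_inv]
    · rw [rmul, h1w, inv_one, one_smul, hsu]
  have hfix2 : ∀ g : G, ρ g u0 = u0 → ρ g w0 = w0 → g = 1 := by
    intro g h1 h2
    apply eq_one_of_fix_all ρ h.hρ
    intro v
    obtain ⟨c, rfl⟩ := hLsurj v
    rw [hL, map_add, map_smul, map_smul, h1, h2]
  have hx1 : x ≠ 1 := by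
    intro hx
    have : ρ x w0 = w0 := by rw [hx, rone]
    exact hw0 (h.inter this hw)
  have hne : u0 + w0 ≠ 0 := by
    intro h0
    have e : w0 = -u0 := eq_neg_of_add_eq_zero_right h0
    apply hw0
    apply h.inter _ hw
    rw [e, map_neg, hu]
  have hS2 : ∀ g g' : G, ρ g (u0 + w0) = u0 + w0 → ρ g' (u0 + w0) = u0 + w0 → g ≠ 1 →
      g' ≠ 1 → g = g' := by
    intro g g' hg hg' hg1 hg'1
    have hN : ∀ k : G, ρ k (u0 + w0) = u0 + w0 → k ≠ 1 → ρ k u0 = w0 ∧ ρ k w0 = u0 := by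
      intro k hk hk1
      rcases h.hdi k with hc | hn
      · obtain ⟨e1, e2⟩ := h.fix_of_C hc hu hw hk
        exact absurd (hfix2 k e1 e2) hk1
      · exact h.swap_of_N hn hu hw hk
    obtain ⟨a1, a2⟩ := hN g hg hg1
    obtain ⟨b1, b2⟩ := hN g' hg' hg'1
    have : g'⁻¹ * g = 1 := by
      apply hfix2
      · rw [rmul, a1, rinv_of_eq ρ b1]
      · rw [rmul, a2, rinv_of_eq ρ b2]
    exact (inv_mul_eq_one.mp this).symm
  have hcard2 : Nat.card (stab ρ (u0 + w0)) ≤ 2 := by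
    let f : ↥(stab ρ (u0 + w0)) → Bool := fun g => decide (g.1 = 1)
    have hf : Function.Injective f := by
      intro a b hab
      have hab' : decide (a.1 = 1) = decide (b.1 = 1) := hab
      by_cases ha : a.1 = 1
      · have hb : b.1 = 1 := by simpa [ha] using hab'
        exact Subtype.ext (ha.trans hb.symm)
      · have hb : b.1 ≠ 1 := by
          intro hb
          simp [ha, hb] at hab'
        exact Subtype.ext (hS2 a.1 b.1 a.2 b.2 ha hb)
    have := Nat.card_le_card_of_injective f hf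
    simpa using this
  have hx2 : x ^ 2 = 1 := by rw [pow_two]; exact h.hxx
  have hst : ∀ g : G, ρ g u0 = u0 → g = 1 ∨ g = x := by
    intro g hg
    have hc : Nat.card (stab ρ u0) ≤ 2 := by
      rw [h.hs u0 (u0 + w0) hu0 hne]; exact hcard2
    have hle : Subgroup.zpowers x ≤ stab ρ u0 := Subgroup.zpowers_le.mpr hu
    have hox : orderOf x = 2 := orderOf_eq_prime hx2 hx1
    have heq : Subgroup.zpowers x = stab ρ u0 :=
      Subgroup.eq_of_le_of_card_ge hle (by rw [Nat.card_zpowers, hox]; exact hc)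
    have : g ∈ Subgroup.zpowers x := by rw [heq]; exact hg
    exact eq_one_or_eq_of_mem_zpowers_of_sq hx2 this
  have hCtype : ∀ (g : G) (a b : ZMod q), ρ g u0 = a • u0 → ρ g w0 = b • w0 → a ≠ 0 →
      (b = 1 * a⁻¹ ∨ b = -1 * a⁻¹) := by
    intro g a b ha hb ha0
    obtain ⟨d, hdu, hdw⟩ := hd a⁻¹ (inv_ne_zero ha0)
    have e1 : ρ (g * d) u0 = u0 := by
      rw [rmul, hdu, map_smul, ha, smul_smul, inv_mul_cancel₀ ha0, one_smul]
    have e2 : ρ (g * d) w0 = (a * b) • w0 := by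
      rw [rmul, hdw, inv_inv, map_smul, hb, smul_smul]
    rcases hst _ e1 with h1 | h1
    · left
      rw [h1, rone] at e2
      have hab : a * b = 1 := by
        have : (1 : ZMod q) • w0 = (a * b) • w0 := by rw [one_smul]; exact e2
        exact (smul_left_injective (ZMod q) hw0 this).symm
      rw [one_mul]
      calc b = a⁻¹ * (a * b) := by rw [← mul_assoc, inv_mul_cancel₀ ha0, one_mul]
        _ = a⁻¹ := by rw [hab, mul_one]
    · right
      rw [h1, hw] at e2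
      have hab : a * b = -1 := by
        have : (-1 : ZMod q) • w0 = (a * b) • w0 := by rw [neg_smul, one_smul]; exact e2
        exact (smul_left_injective (ZMod q) hw0 this).symm
      calc b = a⁻¹ * (a * b) := by rw [← mul_assoc, inv_mul_cancel₀ ha0, one_mul]
        _ = -1 * a⁻¹ := by rw [hab]; ring
  refine ⟨E.symm, fun f => ⟨?_, ?_⟩⟩
  · rintro ⟨g, rfl⟩
    rcases h.hdi g with hc | hn
    · have hgu : ρ x (ρ g u0) = ρ g u0 := by rw [actC ρ hc, hu]
      have hgw : ρ x (ρ g w0) = -ρ g w0 := by rw [actC ρ hc, hw, map_neg]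
      obtain ⟨a, ha⟩ := hspan_p _ hgu
      obtain ⟨b, hb⟩ := hspan_m _ hgw
      have ha0 : a ≠ 0 := by
        rintro rfl
        rw [zero_smul] at ha
        exact rne_zero ρ g hu0 ha
      rcases hCtype g a b ha hb ha0 with hb' | hb'
      · refine ⟨a, 1, ha0, Or.inl rfl, Or.inl fun v => ?_⟩
        rw [hkey g v _ (hdiag g a b ha hb v), hb']
      · refine ⟨a, -1, ha0, Or.inr rfl, Or.inl fun v => ?_⟩
        rw [hkey g v _ (hdiag g a b ha hb v), hb']
    · have hgu : ρ x (ρ g u0) = -ρ g u0 := by rw [h.actN hn, hu]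
      have hgw : ρ x (ρ g w0) = ρ g w0 := by rw [h.actN hn, hw, map_neg, neg_neg]
      obtain ⟨α, hα⟩ := hspan_m _ hgu
      obtain ⟨β, hβ⟩ := hspan_p _ hgw
      have hα0 : α ≠ 0 := by
        rintro rfl
        rw [zero_smul] at hα
        exact rne_zero ρ g hu0 hα
      have hβ0 : β ≠ 0 := by
        rintro rfl
        rw [zero_smul] at hβ
        exact rne_zero ρ g hw0 hβ
      obtain ⟨y1, h1u, h1w⟩ := hy 1 one_ne_zero
      rw [one_smul] at h1u
      rw [inv_one, one_smul] at h1w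
      have e1 : ρ (g * y1) u0 = β • u0 := by rw [rmul, h1u, hβ]
      have e2 : ρ (g * y1) w0 = α • w0 := by rw [rmul, h1w, hα]
      rcases hCtype (g * y1) β α e1 e2 hβ0 with h' | h'
      · refine ⟨α, 1, hα0, Or.inl rfl, Or.inr fun v => ?_⟩
        rw [hkey g v _ (hswap g α β hα hβ v)]
        have : β = 1 * α⁻¹ := by rw [h', one_mul, one_mul, inv_inv]
        rw [this]
      · refine ⟨α, -1, hα0, Or.inr rfl, Or.inr fun v => ?_⟩
        rw [hkey g v _ (hswap g α β hα hβ v)]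
        have : β = -1 * α⁻¹ := by
          rw [h', neg_one_mul, neg_one_mul, inv_neg, inv_inv, neg_neg]
        rw [this]
  · rintro ⟨a, s, ha0, hs, hf⟩
    have hgd : ∃ g : G, ρ g u0 = a • u0 ∧ ρ g w0 = (s * a⁻¹) • w0 := by
      obtain ⟨d, hdu, hdw⟩ := hd a ha0
      rcases hs with rfl | rfl
      · exact ⟨d, hdu, by rw [one_mul]; exact hdw⟩
      · exact ⟨d * x, by rw [rmul, hu, hdu],
          by rw [rmul, hw, map_neg, hdw, neg_one_mul, neg_smul]⟩
    have hgs : ∃ g : G, ρ g u0 = a • w0 ∧ ρ g w0 = (s * a⁻¹) • u0 := by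
      obtain ⟨y, hyu, hyw⟩ := hy a ha0
      rcases hs with rfl | rfl
      · exact ⟨y, hyu, by rw [one_mul]; exact hyw⟩
      · exact ⟨y * x, by rw [rmul, hu, hyu],
          by rw [rmul, hw, map_neg, hyw, neg_one_mul, neg_smul]⟩
    rcases hf with hf | hf
    · obtain ⟨g, h1, h2⟩ := hgd
      refine ⟨g, LinearEquiv.ext fun v => ?_⟩
      rw [hf v, hkey g v _ (hdiag g _ _ h1 h2 v)]
    · obtain ⟨g, h1, h2⟩ := hgs
      refine ⟨g, LinearEquiv.ext fun v => ?_⟩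
      rw [hf v, hkey g v _ (hswap g _ _ h1 h2 v)]

/-- the even case with a normal four-group: conclusion (C) or (D) -/
theorem even_case [Finite G] [Finite V] (hG : IsPGroup 2 G) (h : ES ρ x z) {u : V}
    (hu0 : u ≠ 0) (hu : ρ x u = u) {g0 : G} (hg0 : g0 * x * g0⁻¹ = x * z) :
    (Nat.card V = q ^ 2 ∧ (∃ m : ℕ, q = 2 ^ m + 1) ∧
      ∃ e : V ≃ₗ[ZMod q] (Fin 2 → ZMod q),
        ∀ f : (Fin 2 → ZMod q) ≃ₗ[ZMod q] (Fin 2 → ZMod q),
          (∃ g : G, f = e.symm.trans ((ρ g).trans e)) ↔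
          ∃ a s : ZMod q, a ≠ 0 ∧ (s = 1 ∨ s = -1) ∧
            ((∀ v, f v = ![a * v 0, s * a⁻¹ * v 1]) ∨
              (∀ v, f v = ![s * a⁻¹ * v 1, a * v 0]))) ∨
    (Nat.card V = 81 ∧ q = 3) := by
  have hw : ρ x (ρ g0 u) = -ρ g0 u := by rw [h.actN hg0, hu]
  have hw0 : ρ g0 u ≠ 0 := rne_zero ρ g0 hu0
  obtain ⟨hV, hFx⟩ := h.card_V hg0
  rcases h.card_cases hG hu hu0 hw hw0 with ⟨hc, m, hm⟩ | ⟨hq3, hc⟩
  · left
    exact ⟨by rw [hV, hc, pow_two], ⟨m, hm⟩, h.caseC (by rw [hFx, hc]) hc hu hu0 hw hw0⟩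
  · right
    exact ⟨by rw [hV, hc], hq3⟩

end Even


end Cfsg.Agent.Lib.Helper17.HalfTr
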