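import Mathlib
import Cfsg.Agent.Lib.Helper17.HalfTrA
import Cfsg.Agent.Lib.Helper17.HalfTrC
import Cfsg.Agent.S3370

/-!
Half-transitive linear p-groups, part D: the counting lemma for 2-groups with a
cyclic subgroup of index two all of whose outer involutions `t` are conjugate to `tz`.
-/

set_option autoImplicit false

namespace Cfsg.Agent.Lib.Helper17.HalfTr

section Count
variable {q : ℕ} [Fact q.Prime] {V : Type*} [AddCommGroup V] [Module (ZMod q) V]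
  {G : Type*} [Group G]

/-- hypotheses of the counting lemma -/
structure CS (ρ : G →* (V ≃ₗ[ZMod q] V)) (R : Subgroup G) (z : G) : Prop where
  hq2 : (2 : ℕ) ≠ q
  hG : IsPGroup 2 G
  hs : ∀ v w : V, v ≠ 0 → w ≠ 0 → Nat.card (stab ρ v) = Nat.card (stab ρ w)
  hnsr : ∃ (v : V) (g : G), v ≠ 0 ∧ g ≠ 1 ∧ ρ g v = v
  hneg : ∀ v : V, ρ z v = -v
  hi : ∀ g h : G, g ∉ R → h ∉ R → g * h ∈ R
  hii : ∀ g ∈ R, g ^ 2 = 1 → g = 1 ∨ g = z
  hiv : ∀ t : G, t ∉ R → t ^ 2 = 1 → ∃ k : G, k * t * k⁻¹ = t * z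

variable {ρ : G →* (V ≃ₗ[ZMod q] V)} {R : Subgroup G} {z : G}

theorem CS.eq_zero_of_neg (h : CS ρ R z) {v : V} (e : v = -v) : v = 0 := by
  have : (2 : ℕ) • v = 0 := by
    rw [two_smul]
    exact add_eq_zero_iff_eq_neg.mpr e
  exact eq_zero_of_nsmul (p := 2) h.hq2 this

theorem CS.stab_inf (h : CS ρ R z) {v : V} (hv : v ≠ 0) {g : G} (hg : ρ g v = v)
    (hgR : g ∈ R) : g = 1 := by
  by_contra hg1
  obtain ⟨k, hk⟩ := (IsPGroup.iff_orderOf.mp h.hG) g
  have hk0 : k ≠ 0 := by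
    rintro rfl
    rw [pow_zero, orderOf_eq_one_iff] at hk
    exact hg1 hk
  obtain ⟨k', rfl⟩ : ∃ k', k = k' + 1 := ⟨k - 1, by omega⟩
  have h1 : (g ^ 2 ^ k') ^ 2 = 1 := by
    rw [← pow_mul, ← pow_succ, ← hk]
    exact pow_orderOf_eq_one g
  have h2 : g ^ 2 ^ k' ≠ 1 := by
    apply pow_ne_one_of_lt_orderOf (by positivity)
    rw [hk]
    exact Nat.pow_lt_pow_right (by norm_num) (by omega)
  rcases h.hii _ (R.pow_mem hgR _) h1 with h3 | h3
  · exact h2 h3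
  · have h4 : ρ z v = v := by rw [← h3]; exact rpow_of_fixed ρ hg _
    rw [h.hneg] at h4
    exact hv (h.eq_zero_of_neg h4.symm)

theorem CS.stab_unique (h : CS ρ R z) {v : V} (hv : v ≠ 0) {g g' : G} (hg : ρ g v = v)
    (hg' : ρ g' v = v) (hg1 : g ≠ 1) (hg'1 : g' ≠ 1) : g = g' := by
  have hgR : g ∉ R := fun hR => hg1 (h.stab_inf hv hg hR)
  have hg'R : g' ∉ R := fun hR => hg'1 (h.stab_inf hv hg' hR)
  have hgiR : g⁻¹ ∉ R := fun hR => hgR (by simpa using R.inv_mem hR)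
  have h1 : g⁻¹ * g' ∈ R := h.hi _ _ hgiR hg'R
  have h2 : ρ (g⁻¹ * g') v = v := by rw [rmul, hg', rinv_of_eq ρ hg]
  have h3 := h.stab_inf hv h2 h1
  exact inv_mul_eq_one.mp h3

theorem CS.exists_T (h : CS ρ R z) [Finite G] {v : V} (hv : v ≠ 0) :
    ∃ t : G, t ∉ R ∧ t ^ 2 = 1 ∧ ρ t v = v := by
  obtain ⟨v0, g0, hv0, hg0, hf⟩ := h.hnsr
  have hne : stab ρ v ≠ ⊥ := by
    intro hbot
    have h1 : Nat.card (stab ρ v) = 1 := Subgroup.card_eq_one.mpr hbot
    rw [h.hs v v0 hv hv0] at h1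
    have h2 : stab ρ v0 = ⊥ := Subgroup.card_eq_one.mp h1
    have : g0 ∈ stab ρ v0 := hf
    rw [h2, Subgroup.mem_bot] at this
    exact hg0 this
  obtain ⟨⟨t, ht⟩, ht1⟩ := (Subgroup.ne_bot_iff_exists_ne_one).mp hne
  have ht1' : t ≠ 1 := fun h0 => ht1 (Subtype.ext h0)
  have htv : ρ t v = v := ht
  have htR : t ∉ R := fun hR => ht1' (h.stab_inf hv htv hR)
  have h1 : t * t ∈ R := h.hi _ _ htR htR
  have h2 : ρ (t * t) v = v := by rw [rmul, htv, htv]
  have h3 := h.stab_inf hv h2 h1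
  exact ⟨t, htR, by rw [pow_two]; exact h3, htv⟩

/-- for an outer involution `t`, `|V| = |C_V(t)|²` -/
theorem CS.card_sq (h : CS ρ R z) [Finite V] {t : G} (htR : t ∉ R) (ht2 : t ^ 2 = 1) :
    Nat.card V = Nat.card ↥(Fx ρ t) * Nat.card ↥(Fx ρ t) := by
  have htt : t * t = 1 := by rw [← pow_two]; exact ht2
  have hxx : ∀ v : V, ρ t (ρ t v) = v := fun v => by rw [← rmul, htt, rone]
  have hinter : ∀ v : V, ρ t v = v → ρ t v = -v → v = 0 :=
    fun v h1 h2 => h.eq_zero_of_neg (h1.symm.trans h2)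
  have h2ne : (2 : ZMod q) ≠ 0 := by
    have := natCast_ne_zero (q := q) (p := 2) h.hq2
    simpa using this
  obtain ⟨k, hk⟩ := h.hiv t htR ht2
  have hactN : ∀ v : V, ρ t (ρ k v) = -ρ k (ρ t v) := by
    intro v
    have := act_conj ρ t k v
    rw [hk, rmul, h.hneg, map_neg] at this
    rw [← this, neg_neg]
  -- the two eigenspaces have the same size
  have hle1 : Nat.card ↥(Fx ρ t) ≤ Nat.card ↥(Vm ρ t) := by
    let φ : ↥(Fx ρ t) → ↥(Vm ρ t) := fun u =>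
      ⟨ρ k u.1, by rw [mem_Vm, hactN, (show ρ t u.1 = u.1 from u.2)]⟩
    refine Nat.card_le_card_of_injective φ ?_
    intro a b hab
    have : ρ k a.1 = ρ k b.1 := congrArg Subtype.val hab
    exact Subtype.ext ((ρ k).injective this)
  have hle2 : Nat.card ↥(Vm ρ t) ≤ Nat.card ↥(Fx ρ t) := by
    let φ : ↥(Vm ρ t) → ↥(Fx ρ t) := fun w =>
      ⟨ρ k w.1, by
        rw [mem_Fx, hactN, (show ρ t w.1 = -w.1 from w.2), map_neg, neg_neg]⟩
    refine Nat.card_le_card_of_injective φ ?_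
    intro a b hab
    have : ρ k a.1 = ρ k b.1 := congrArg Subtype.val hab
    exact Subtype.ext ((ρ k).injective this)
  have hcard : Nat.card ↥(Fx ρ t) = Nat.card ↥(Vm ρ t) := le_antisymm hle1 hle2
  let f : ↥(Fx ρ t) × ↥(Vm ρ t) → V := fun p => p.1.1 + p.2.1
  have hinj : Function.Injective f := by
    rintro ⟨u, w⟩ ⟨u', w'⟩ hf
    have hf' : u.1 + w.1 = u'.1 + w'.1 := hf
    have e1 : u.1 - u'.1 = w'.1 - w.1 := by
      rw [sub_eq_sub_iff_add_eq_add, hf', add_comm]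
    have e2 : ρ t (u.1 - u'.1) = u.1 - u'.1 := by
      rw [map_sub, (show ρ t u.1 = u.1 from u.2), (show ρ t u'.1 = u'.1 from u'.2)]
    have e3 : ρ t (u.1 - u'.1) = -(u.1 - u'.1) := by
      rw [e1, map_sub, (show ρ t w'.1 = -w'.1 from w'.2), (show ρ t w.1 = -w.1 from w.2)]
      abel
    have e4 := hinter _ e2 e3
    have e5 : w'.1 - w.1 = 0 := by rw [← e1]; exact e4
    exact Prod.ext (Subtype.ext (sub_eq_zero.mp e4)) (Subtype.ext (sub_eq_zero.mp e5).symm)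
  have hsurj : Function.Surjective f := by
    intro v
    refine ⟨(⟨(2 : ZMod q)⁻¹ • (v + ρ t v), ?_⟩, ⟨(2 : ZMod q)⁻¹ • (v - ρ t v), ?_⟩), ?_⟩
    · rw [mem_Fx, map_smul, map_add, hxx, add_comm]
    · rw [mem_Vm, map_smul, map_sub, hxx, ← smul_neg, neg_sub]
    · show (2 : ZMod q)⁻¹ • (v + ρ t v) + (2 : ZMod q)⁻¹ • (v - ρ t v) = v
      rw [← smul_add, add_add_sub_cancel, ← two_smul (ZMod q) v, smul_smul,
        inv_mul_cancel₀ h2ne, one_smul]
  have hc2 := Nat.card_congr (Equiv.ofBijective f ⟨hinj, hsurj⟩)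
  rw [Nat.card_prod] at hc2
  rw [← hc2, hcard]

/-- the counting lemma -/
theorem CS.count (h : CS ρ R z) [Finite G] [Finite V] [Nontrivial V] :
    ∃ e : ℕ, 2 ≤ q ^ e ∧ Nat.card V = q ^ e * q ^ e ∧
      q ^ e + 1 = Nat.card {t : G // t ∉ R ∧ t ^ 2 = 1} := by
  classical
  obtain ⟨v1, hv1⟩ := exists_ne (0 : V)
  obtain ⟨t0, ht0R, ht02, _⟩ := h.exists_T hv1
  set Q := Nat.card ↥(Fx ρ t0) with hQ
  have hVQ : Nat.card V = Q * Q := h.card_sq ht0R ht02
  have hQt : ∀ t : G, t ∉ R → t ^ 2 = 1 → Nat.card ↥(Fx ρ t) = Q := by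
    intro t htR ht2
    have := h.card_sq htR ht2
    rw [hVQ] at this
    exact (Nat.mul_self_inj.mp this).symm
  have hV2 : 2 ≤ Nat.card V := Finite.one_lt_card
  have hQ2 : 2 ≤ Q := by
    by_contra hlt
    push Not at hlt
    have : Q * Q ≤ 1 := by
      have : Q ≤ 1 := by omega
      calc Q * Q ≤ 1 * 1 := Nat.mul_le_mul this this
        _ = 1 := by norm_num
    omega
  -- the bijection between nonzero vectors and pairs (t, v)
  let T := {t : G // t ∉ R ∧ t ^ 2 = 1}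
  let S : T → Type _ := fun t => {v : V // v ≠ 0 ∧ ρ t.1 v = v}
  let F : (Σ t : T, S t) → {v : V // v ≠ 0} := fun p => ⟨p.2.1, p.2.2.1⟩
  have hFinj : Function.Injective F := by
    rintro ⟨t, v⟩ ⟨t', v'⟩ hF
    have hv : v.1 = v'.1 := congrArg Subtype.val hF
    have ht1 : t.1 ≠ 1 := fun h0 => t.2.1 (by rw [h0]; exact R.one_mem)
    have ht'1 : t'.1 ≠ 1 := fun h0 => t'.2.1 (by rw [h0]; exact R.one_mem)
    have hfix' : ρ t'.1 v.1 = v.1 := by rw [hv]; exact v'.2.2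
    have htt : t = t' := Subtype.ext (h.stab_unique v.2.1 v.2.2 hfix' ht1 ht'1)
    subst htt
    have : v = v' := Subtype.ext hv
    rw [this]
  have hFsurj : Function.Surjective F := by
    rintro ⟨v, hv⟩
    obtain ⟨t, htR, ht2, htv⟩ := h.exists_T hv
    exact ⟨⟨⟨t, htR, ht2⟩, ⟨v, hv, htv⟩⟩, rfl⟩
  have hcard1 := Nat.card_congr (Equiv.ofBijective F ⟨hFinj, hFsurj⟩)
  haveI : Fintype T := Fintype.ofFinite T
  have hS : ∀ t : T, Nat.card (S t) = Q - 1 := by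
    intro t
    have e : S t ≃ {u : ↥(Fx ρ t.1) // u ≠ 0} :=
      { toFun := fun v => ⟨⟨v.1, v.2.2⟩, fun h0 => v.2.1 (congrArg Subtype.val h0)⟩
        invFun := fun u => ⟨u.1.1, fun h0 => u.2 (Subtype.ext h0), u.1.2⟩
        left_inv := fun v => rfl
        right_inv := fun u => rfl }
    rw [Nat.card_congr e, Cfsg.Agent.S3370.card_NZ, hQt t.1 t.2.1 t.2.2]
  rw [Nat.card_sigma, Cfsg.Agent.S3370.card_NZ] at hcard1
  simp only [hS, Finset.sum_const, Finset.card_univ, smul_eq_mul] at hcard1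
  rw [← Nat.card_eq_fintype_card] at hcard1
  -- arithmetic
  have hT : Q + 1 = Nat.card T := by
    rw [hVQ] at hcard1
    clear_value Q
    obtain ⟨k, rfl⟩ : ∃ k, Q = k + 1 := ⟨Q - 1, by omega⟩
    have hk : 1 ≤ k := by omega
    rw [Nat.add_sub_cancel] at hcard1
    have e1 : (k + 1) * (k + 1) - 1 = k * (k + 2) := by
      have : (k + 1) * (k + 1) = k * (k + 2) + 1 := by ring
      omega
    have e2 : Nat.card T * k = (k + 2) * k := by rw [hcard1, e1, mul_comm]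
    have e3 := Nat.eq_of_mul_eq_mul_right (by omega : 0 < k) e2
    omega
  -- Q is a power of q
  have hpow : Q = q ^ Module.finrank (ZMod q) ↥(Fx ρ t0) := by
    rw [hQ, Module.natCard_eq_pow_finrank (K := ZMod q), Nat.card_zmod]
  refine ⟨Module.finrank (ZMod q) ↥(Fx ρ t0), ?_, ?_, ?_⟩
  · rw [← hpow]; exact hQ2
  · rw [← hpow]; exact hVQ
  · rw [← hpow]; exact hT

end Count

end Cfsg.Agent.Lib.Helper17.HalfTr
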