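import Mathlib
import Cfsg.Agent.Lib.Helper17.HalfTrA
import Cfsg.Agent.Lib.Helper17.HalfTrD
import Cfsg.Agent.S3370
import Cfsg.Agent.Lib.Helper10.UniqueOrderP

/-!
Half-transitive linear p-groups, part E: 2-groups with a cyclic subgroup of index two
(dihedral and quasi-dihedral), the quaternion case, and small auxiliary facts.
-/

set_option autoImplicit false

namespace Cfsg.Agent.Lib.Helper17.HalfTr

section GroupWords
variable {G : Type*} [Group G]

theorem grp_aux1 (c y : G) (h : y * c * y⁻¹ = c⁻¹) : c * y = y * c⁻¹ := by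
  have h1 : y * c = c⁻¹ * y := mul_inv_eq_iff_eq_mul.mp h
  calc c * y = c * (y * c) * c⁻¹ := by group
    _ = c * (c⁻¹ * y) * c⁻¹ := by rw [h1]
    _ = y * c⁻¹ := by group

theorem grp_aux2 (a c y z : G) (hca : c * a = a * c) (hcy : c * y = y * c⁻¹) (hcc : c * c = z)
    (hzz : z * z = 1) : c * (a * y) * c⁻¹ = a * y * z := by
  calc c * (a * y) * c⁻¹ = (c * a) * y * c⁻¹ := by group
    _ = a * (c * y) * c⁻¹ := by rw [hca]; group
    _ = a * (y * c⁻¹) * c⁻¹ := by rw [hcy]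
    _ = a * y * (c * c)⁻¹ := by group
    _ = a * y * z := by rw [hcc, inv_eq_of_mul_eq_one_right hzz]

theorem grp_aux3 (a y : G) : a * y * (a * y) = a * (y * a * y⁻¹) * (y * y) := by group

theorem pow_of_sq_one {z : G} (hz : z ^ 2 = 1) (k : ℕ) : z ^ k = 1 ∨ z ^ k = z := by
  rcases Nat.even_or_odd' k with ⟨c, rfl | rfl⟩
  · left; rw [pow_mul, hz, one_pow]
  · right; rw [pow_succ, pow_mul, hz, one_pow, one_mul]

end GroupWords

section QSsec
variable {G : Type*} [Group G]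

/-- a 2-group of order `2^(m+4)` with a cyclic subgroup `⟨x⟩` of index two and an outer
involution `y` acting on it as the `r`-th power, `r ≡ -1 (mod 2^(m+2))` -/
structure QS (x y : G) (m r s : ℕ) : Prop where
  hx : orderOf x = 2 ^ (m + 3)
  hcard : Nat.card G = 2 ^ (m + 4)
  hy : y * y = 1
  hyx : y * x * y⁻¹ = x ^ r
  hr : r + 1 = 2 ^ (m + 2) * s

variable {x y : G} {m r s : ℕ}

theorem QS.index (h : QS x y m r s) : (Subgroup.zpowers x).index = 2 := by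
  have h1 := Subgroup.card_mul_index (Subgroup.zpowers x)
  rw [Nat.card_zpowers, h.hx, h.hcard, show (2 : ℕ) ^ (m + 4) = 2 ^ (m + 3) * 2 by ring] at h1
  exact Nat.eq_of_mul_eq_mul_left (by positivity) h1

theorem QS.conj_pow (h : QS x y m r s) (j : ℕ) : y * x ^ j * y⁻¹ = x ^ (r * j) := by
  rw [← _root_.conj_pow, h.hyx, pow_mul]

theorem QS.r_odd (h : QS x y m r s) : ∃ k, r = 2 * k + 1 := by
  have h1 : r + 1 = 4 * (2 ^ m * s) := by rw [h.hr]; ring
  generalize 2 ^ m * s = A at h1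
  exact ⟨2 * A - 1, by omega⟩

theorem QS.z_sq (h : QS x y m r s) : x ^ 2 ^ (m + 2) * x ^ 2 ^ (m + 2) = 1 := by
  rw [← pow_add, show 2 ^ (m + 2) + 2 ^ (m + 2) = 2 ^ (m + 3) by ring, ← h.hx,
    pow_orderOf_eq_one]

theorem QS.z_ne (h : QS x y m r s) : x ^ 2 ^ (m + 2) ≠ 1 := by
  apply pow_ne_one_of_lt_orderOf (by positivity)
  rw [h.hx]
  exact Nat.pow_lt_pow_right (by norm_num) (by omega)

theorem QS.z_pow_odd (h : QS x y m r s) (k : ℕ) :
    (x ^ 2 ^ (m + 2)) ^ (2 * k + 1) = x ^ 2 ^ (m + 2) := by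
  rw [pow_succ, pow_mul, pow_two, h.z_sq, one_pow, one_mul]

theorem QS.z_pow_even (h : QS x y m r s) (k : ℕ) : (x ^ 2 ^ (m + 2)) ^ (2 * k) = 1 := by
  rw [pow_mul, pow_two, h.z_sq, one_pow]

theorem QS.conj_z (h : QS x y m r s) : y * x ^ 2 ^ (m + 2) * y⁻¹ = x ^ 2 ^ (m + 2) := by
  obtain ⟨k, hk⟩ := h.r_odd
  rw [h.conj_pow, mul_comm r, pow_mul, hk, h.z_pow_odd]

theorem QS.y_notMem (h : QS x y m r s) : y ∉ Subgroup.zpowers x := by
  intro hy
  obtain ⟨k, hk⟩ := Subgroup.mem_zpowers_iff.mp hy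
  have h1 : y * x * y⁻¹ = x := by
    rw [← hk, ((Commute.refl x).zpow_left k).eq, mul_inv_cancel_right]
  have h2 : x ^ r = x ^ 1 := by rw [← h.hyx, h1, pow_one]
  have h3 : r ≡ 1 [MOD 2 ^ (m + 3)] := by
    rw [← h.hx]; exact pow_eq_pow_iff_modEq.mp h2
  have h4 : r ≡ 1 [MOD 4] := Nat.ModEq.of_dvd ⟨2 ^ (m + 1), by ring⟩ h3
  have h5 : r % 4 = 1 := h4
  have h6 : r + 1 = 4 * (2 ^ m * s) := by rw [h.hr]; ring
  generalize 2 ^ m * s = A at h6
  omega

theorem QS.exists_form [Finite G] (h : QS x y m r s) {g : G} (hg : g ∉ Subgroup.zpowers x) :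
    ∃ j : ℕ, g = x ^ j * y := by
  have hgy : g * y⁻¹ ∈ Subgroup.zpowers x := by
    rw [Subgroup.mul_mem_iff_of_index_two h.index]
    constructor
    · intro h1; exact absurd h1 hg
    · intro h1; exact absurd (inv_mem_iff.mp h1) h.y_notMem
  rw [← mem_powers_iff_mem_zpowers] at hgy
  obtain ⟨j, hj⟩ := (Submonoid.mem_powers_iff _ _).mp hgy
  exact ⟨j, by rw [hj, inv_mul_cancel_right]⟩

theorem QS.z_central [Finite G] (h : QS x y m r s) : x ^ 2 ^ (m + 2) ∈ Subgroup.center G := by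
  rw [Subgroup.mem_center_iff]
  intro g
  have hyz : Commute y (x ^ 2 ^ (m + 2)) := mul_inv_eq_iff_eq_mul.mp h.conj_z
  by_cases hg : g ∈ Subgroup.zpowers x
  · obtain ⟨k, rfl⟩ := Subgroup.mem_zpowers_iff.mp hg
    exact (((Commute.refl x).zpow_left k).pow_right _).eq
  · obtain ⟨j, rfl⟩ := h.exists_form hg
    exact ((((Commute.refl x).pow_left j).pow_right _).mul_left hyz).eq

theorem QS.hii [Finite G] (h : QS x y m r s) {g : G} (hg : g ∈ Subgroup.zpowers x)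
    (hg2 : g ^ 2 = 1) : g = 1 ∨ g = x ^ 2 ^ (m + 2) := by
  rw [← mem_powers_iff_mem_zpowers] at hg
  obtain ⟨j, rfl⟩ := (Submonoid.mem_powers_iff _ _).mp hg
  rw [← pow_mul] at hg2
  have h1 : 2 ^ (m + 3) ∣ j * 2 := by rw [← h.hx]; exact orderOf_dvd_of_pow_eq_one hg2
  have h2 : 2 ^ (m + 2) ∣ j := by
    rw [show 2 ^ (m + 3) = 2 ^ (m + 2) * 2 by ring] at h1
    exact Nat.dvd_of_mul_dvd_mul_right (by norm_num) h1
  obtain ⟨k, rfl⟩ := h2
  rw [pow_mul]
  apply Cfsg.Agent.Lib.Helper10.eq_one_or_eq_of_mem_zpowers_of_sq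
  · rw [pow_two]; exact h.z_sq
  · exact Subgroup.npow_mem_zpowers _ _

theorem QS.c_sq (_h : QS x y m r s) :
    x ^ 2 ^ (m + 1) * x ^ 2 ^ (m + 1) = x ^ 2 ^ (m + 2) := by
  rw [← pow_add, show 2 ^ (m + 1) + 2 ^ (m + 1) = 2 ^ (m + 2) by ring]

theorem QS.conj_c (h : QS x y m r s) :
    y * x ^ 2 ^ (m + 1) * y⁻¹ = (x ^ 2 ^ (m + 1))⁻¹ := by
  rw [h.conj_pow]
  apply eq_inv_of_mul_eq_one_right
  rw [← pow_add]
  have e : 2 ^ (m + 1) + r * 2 ^ (m + 1) = 2 ^ (m + 3) * (s * 2 ^ m) := by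
    calc 2 ^ (m + 1) + r * 2 ^ (m + 1) = (r + 1) * 2 ^ (m + 1) := by ring
      _ = 2 ^ (m + 3) * (s * 2 ^ m) := by rw [h.hr]; ring
  rw [e, pow_mul, ← h.hx, pow_orderOf_eq_one, one_pow]

theorem QS.hiv [Finite G] (h : QS x y m r s) {t : G} (ht : t ∉ Subgroup.zpowers x) :
    x ^ 2 ^ (m + 1) * t * (x ^ 2 ^ (m + 1))⁻¹ = t * x ^ 2 ^ (m + 2) := by
  obtain ⟨j, rfl⟩ := h.exists_form ht
  exact grp_aux2 (x ^ j) (x ^ 2 ^ (m + 1)) y (x ^ 2 ^ (m + 2))
    (((Commute.refl x).pow_left _).pow_right j).eq (grp_aux1 _ _ h.conj_c) h.c_sq h.z_sq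

theorem QS.sq_form (h : QS x y m r s) (j : ℕ) :
    (x ^ j * y) ^ 2 = (x ^ 2 ^ (m + 2)) ^ (s * j) := by
  have e : j + r * j = 2 ^ (m + 2) * (s * j) := by
    calc j + r * j = (r + 1) * j := by ring
      _ = 2 ^ (m + 2) * (s * j) := by rw [h.hr]; ring
  rw [pow_two, grp_aux3, h.conj_pow, h.hy, mul_one, ← pow_add, e, pow_mul]

theorem QS.count [Finite G] (h : QS x y m r s) (d N : ℕ) (hdN : d * N = 2 ^ (m + 3))
    (hd : ∀ k : ℕ, (x ^ 2 ^ (m + 2)) ^ (s * k) = 1 ↔ d ∣ k) :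
    Nat.card {t : G // t ∉ Subgroup.zpowers x ∧ t ^ 2 = 1} = N := by
  have hd0 : 0 < d := by
    rcases Nat.eq_zero_or_pos d with h0 | h0
    · rw [h0, zero_mul] at hdN
      exact absurd hdN.symm (by positivity)
    · exact h0
  have hnm : ∀ j : ℕ, x ^ j * y ∉ Subgroup.zpowers x := by
    intro j hj
    exact h.y_notMem ((mul_mem_cancel_left (Subgroup.npow_mem_zpowers x j)).mp hj)
  let f : Fin N → {t : G // t ∉ Subgroup.zpowers x ∧ t ^ 2 = 1} := fun i =>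
    ⟨x ^ (d * i.val) * y, hnm _, by rw [h.sq_form]; exact (hd _).mpr (dvd_mul_right d i.val)⟩
  have hlt : ∀ i : Fin N, d * i.val ∈ Set.Iio (orderOf x) := by
    intro i
    rw [Set.mem_Iio, h.hx, ← hdN]
    exact mul_lt_mul_of_pos_left i.isLt hd0
  have hinj : Function.Injective f := by
    intro i i' hii
    have h1 : x ^ (d * i.val) * y = x ^ (d * i'.val) * y := congrArg Subtype.val hii
    have h2 : x ^ (d * i.val) = x ^ (d * i'.val) := mul_right_cancel h1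
    have h3 : d * i.val = d * i'.val := pow_injOn_Iio_orderOf (hlt i) (hlt i') h2
    exact Fin.ext (Nat.eq_of_mul_eq_mul_left hd0 h3)
  have hsurj : Function.Surjective f := by
    rintro ⟨t, ht, ht2⟩
    obtain ⟨j, rfl⟩ := h.exists_form ht
    have hmod : x ^ (j % 2 ^ (m + 3)) = x ^ j := by rw [← h.hx]; exact pow_mod_orderOf x j
    have hjlt : j % 2 ^ (m + 3) < 2 ^ (m + 3) := Nat.mod_lt _ (by positivity)
    have ht2' : (x ^ (j % 2 ^ (m + 3)) * y) ^ 2 = 1 := by rw [hmod]; exact ht2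
    rw [h.sq_form, hd] at ht2'
    obtain ⟨i, hi⟩ := ht2'
    have hiN : i < N := by
      rw [hi, ← hdN] at hjlt
      exact lt_of_mul_lt_mul_left hjlt (Nat.zero_le d)
    refine ⟨⟨i, hiN⟩, Subtype.ext ?_⟩
    show x ^ (d * i) * y = x ^ j * y
    rw [← hi, hmod]
  have hc := Nat.card_congr (Equiv.ofBijective f ⟨hinj, hsurj⟩)
  rw [Nat.card_fin] at hc
  exact hc.symm

end QSsec

section RepSide
variable {q : ℕ} [Fact q.Prime] {V : Type*} [AddCommGroup V] [Module (ZMod q) V]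
  {G : Type*} [Group G] (ρ : G →* (V ≃ₗ[ZMod q] V))

theorem neg_of_fpf_invol {z : G} (hzz : z * z = 1) (hf : FPF ρ z) (v : V) : ρ z v = -v := by
  have h1 : ρ z (v + ρ z v) = v + ρ z v := by
    rw [map_add, ← rmul, hzz, rone, add_comm]
  exact eq_neg_of_add_eq_zero_right (hf _ h1)

theorem exists_order_p_fixing {p : ℕ} (hG : IsPGroup p G) {g : G} (hg1 : g ≠ 1)
    {v : V} (hgv : ρ g v = v) : ∃ t : G, t ^ p = 1 ∧ t ≠ 1 ∧ ρ t v = v := by
  have key : ∀ k : ℕ, ∀ g : G, g ≠ 1 → ρ g v = v → g ^ p ^ k = 1 →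
      ∃ t : G, t ^ p = 1 ∧ t ≠ 1 ∧ ρ t v = v := by
    intro k
    induction k with
    | zero =>
      intro g hg1 _ hk
      rw [pow_zero, pow_one] at hk
      exact absurd hk hg1
    | succ k ih =>
      intro g hg1 hgv hk
      by_cases hgp : g ^ p = 1
      · exact ⟨g, hgp, hg1, hgv⟩
      · exact ih (g ^ p) hgp (rpow_of_fixed ρ hgv p) (by rw [← pow_mul, ← pow_succ']; exact hk)
  obtain ⟨k, hk⟩ := hG g
  exact key k g hg1 hgv hk

theorem QS.final [Finite G] [Finite V] [Nontrivial V] {x y : G} {m r s : ℕ}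
    (h : QS x y m r s) (hq2 : (2 : ℕ) ≠ q) (hG : IsPGroup 2 G)
    (hs : ∀ v w : V, v ≠ 0 → w ≠ 0 → Nat.card (stab ρ v) = Nat.card (stab ρ w))
    (hnsr : ∃ (v : V) (g : G), v ≠ 0 ∧ g ≠ 1 ∧ ρ g v = v)
    (hfpf : ∀ c ∈ Subgroup.center G, c ^ 2 = 1 → c ≠ 1 → FPF ρ c)
    (d M : ℕ) (hdN : d * 2 ^ M = 2 ^ (m + 3))
    (hd : ∀ k : ℕ, (x ^ 2 ^ (m + 2)) ^ (s * k) = 1 ↔ d ∣ k) :
    Nat.card V = q ^ 2 ∧ q = 2 ^ M - 1 := by
  have hzf : FPF ρ (x ^ 2 ^ (m + 2)) :=
    hfpf _ h.z_central (by rw [pow_two]; exact h.z_sq) h.z_ne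
  have hCS : CS ρ (Subgroup.zpowers x) (x ^ 2 ^ (m + 2)) :=
    { hq2 := hq2
      hG := hG
      hs := hs
      hnsr := hnsr
      hneg := neg_of_fpf_invol ρ h.z_sq hzf
      hi := fun g k hg hk => (Subgroup.mul_mem_iff_of_index_two h.index).mpr
        ⟨fun a => absurd a hg, fun b => absurd b hk⟩
      hii := fun g hg hg2 => h.hii hg hg2
      hiv := fun t ht _ => ⟨x ^ 2 ^ (m + 1), h.hiv ht⟩ }
  obtain ⟨e, he2, hV, hcnt⟩ := hCS.count
  rw [h.count d (2 ^ M) hdN hd] at hcnt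
  have he1 : 1 ≤ e := by
    rcases Nat.eq_zero_or_pos e with h0 | h0
    · rw [h0, pow_zero] at he2; omega
    · exact h0
  have he : e = 1 := Cfsg.Agent.S3370.nt_mersenne M q e Fact.out he1 hcnt.symm
  rw [he, pow_one] at hV hcnt
  exact ⟨by rw [hV, pow_two], by omega⟩

end RepSide

section Dihedral

theorem two_pow_of_dihedral {n k : ℕ} (hn : 8 ≤ n) (h : 2 * n = 2 ^ k) :
    ∃ m, n = 2 ^ (m + 3) := by
  have hk : 4 ≤ k := by
    by_contra hlt
    push Not at hlt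
    have h1 : 2 ^ k ≤ 2 ^ 3 := Nat.pow_le_pow_right (by norm_num) (by omega)
    have h2 : (2 : ℕ) ^ 3 = 8 := by norm_num
    omega
  obtain ⟨m, rfl⟩ : ∃ m, k = m + 4 := ⟨k - 4, by omega⟩
  refine ⟨m, ?_⟩
  have h3 : 2 ^ (m + 4) = 2 * 2 ^ (m + 3) := by ring
  omega

theorem dihedral_QS {G : Type*} [Group G] (m : ℕ) (e : G ≃* DihedralGroup (2 ^ (m + 3))) :
    QS (e.symm (DihedralGroup.r 1)) (e.symm (DihedralGroup.sr 0)) m (2 ^ (m + 3) - 1) 2 where
  hx := by rw [MulEquiv.orderOf_eq, DihedralGroup.orderOf_r_one]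
  hcard := by rw [Nat.card_congr e.toEquiv, DihedralGroup.nat_card]; ring
  hy := by rw [← map_mul, DihedralGroup.sr_mul_self, map_one]
  hyx := by
    rw [← map_inv, ← map_mul, ← map_mul, ← map_pow]
    congr 1
    rw [DihedralGroup.inv_sr, DihedralGroup.sr_mul_r, DihedralGroup.sr_mul_sr,
      DihedralGroup.r_one_pow]
    congr 1
    rw [Nat.cast_sub Nat.one_le_two_pow, ZMod.natCast_self, Nat.cast_one]
    ring
  hr := by rw [Nat.sub_add_cancel Nat.one_le_two_pow]; ring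

end Dihedral

section Quaternion

theorem zmod_double {n : ℕ} [NeZero n] (i : ZMod (2 * n)) (h : i + i = 0) (hi : i ≠ 0) :
    i = (n : ZMod (2 * n)) := by
  have hn := NeZero.ne n
  haveI : NeZero (2 * n) := ⟨by omega⟩
  have hlt := ZMod.val_lt i
  have hcast := ZMod.natCast_zmod_val i
  have h1 : ((i.val + i.val : ℕ) : ZMod (2 * n)) = 0 := by
    rw [Nat.cast_add, hcast]; exact h
  rw [ZMod.natCast_eq_zero_iff] at h1
  obtain ⟨c, hc⟩ := h1
  have hc2 : c < 2 := by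
    by_contra hge
    push Not at hge
    have h2 : 2 * n * 2 ≤ 2 * n * c := Nat.mul_le_mul_left _ hge
    omega
  interval_cases c
  · exfalso; apply hi
    have h3 : i.val = 0 := by omega
    rw [← hcast, h3, Nat.cast_zero]
  · have h3 : i.val = n := by omega
    rw [← hcast, h3]

theorem quaternion_invol {n : ℕ} [NeZero n] (g : QuaternionGroup n) (hg : g * g = 1)
    (hg1 : g ≠ 1) : g = QuaternionGroup.a n := by
  cases g with
  | a i =>
    rw [QuaternionGroup.a_mul_a, QuaternionGroup.one_def] at hg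
    have h0 : i + i = 0 := QuaternionGroup.a.inj hg
    have hi : i ≠ 0 := by
      intro h; apply hg1; rw [h, QuaternionGroup.one_def]
    rw [zmod_double i h0 hi]
  | xa i =>
    exfalso
    rw [QuaternionGroup.xa_mul_xa, QuaternionGroup.one_def] at hg
    have h0 : (n : ZMod (2 * n)) + i - i = 0 := QuaternionGroup.a.inj hg
    rw [add_sub_cancel_right, ZMod.natCast_eq_zero_iff] at h0
    have h1 := Nat.le_of_dvd (Nat.pos_of_ne_zero (NeZero.ne n)) h0
    have h2 := NeZero.ne n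
    omega

theorem quaternion_unique_invol {G : Type*} [Group G] [Finite G] {n : ℕ}
    (e : G ≃* QuaternionGroup n) {t z : G} (ht : t * t = 1) (ht1 : t ≠ 1) (hz : z * z = 1)
    (hz1 : z ≠ 1) : t = z := by
  have hn : n ≠ 0 := by
    rintro rfl
    haveI : Finite (QuaternionGroup 0) := Finite.of_equiv G e.toEquiv
    have hinj : Function.Injective
        (fun i : ZMod (2 * 0) => (QuaternionGroup.a i : QuaternionGroup 0)) :=
      fun _ _ h => QuaternionGroup.a.inj h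
    haveI : Finite (ZMod (2 * 0)) := Finite.of_injective _ hinj
    haveI : Infinite (ZMod (2 * 0)) := (inferInstance : Infinite ℤ)
    exact not_finite (ZMod (2 * 0))
  haveI : NeZero n := ⟨hn⟩
  apply e.injective
  rw [quaternion_invol (e t) (by rw [← map_mul, ht, map_one])
      (fun h => ht1 (e.map_eq_one_iff.mp h)),
    quaternion_invol (e z) (by rw [← map_mul, hz, map_one])
      (fun h => hz1 (e.map_eq_one_iff.mp h))]

end Quaternion

end Cfsg.Agent.Lib.Helper17.HalfTr
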