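import Mathlib

/-!
# S2134 piece [G2]: counting the conjugates of `z` that fix a point

If `G` acts transitively on `Fin n` through `φ`, `z` has at most `f` fixed points and `S` is a set of
conjugates of `z` fixing `p0`, then `|C(z)| * n * |S| ≤ |G| * f` (double counting of the pairs
(`g`, fixed point of `g z g⁻¹`)).
-/

set_option autoImplicit false

namespace Cfsg.Agent.Lib.Helper22.HeCent

/-- [G2] counting the conjugates of `z` that fix a point -/
theorem card_centralizer_mul_le {G : Type*} [Group G] [Finite G] {n : ℕ}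
    (φ : G →* Equiv.Perm (Fin n)) (p0 : Fin n) (htrans : ∀ y : Fin n, ∃ g : G, φ g p0 = y)
    (z : G) (f : ℕ) (hf : (Finset.univ.filter fun k : Fin n => φ z k = k).card ≤ f)
    (S : Finset G) (hS : ∀ c ∈ S, (∃ g : G, c = g * z * g⁻¹) ∧ φ c p0 = p0) :
    Nat.card ↥(Subgroup.centralizer ({z} : Set G)) * (n * S.card) ≤ Nat.card G * f := by
  classical
  haveI : Fintype G := Fintype.ofFinite G
  have hconj : ∀ g : G, ∀ k : Fin n, φ (g * z * g⁻¹) k = φ g (φ z ((φ g)⁻¹ k)) := by
    intro g k
    rw [map_mul, map_mul, map_inv]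
    rfl
  -- every conjugate has as many fixed points as `z`
  have h1 : ∀ g : G, (Finset.univ.filter fun k : Fin n => φ (g * z * g⁻¹) k = k).card =
      (Finset.univ.filter fun k : Fin n => φ z k = k).card := by
    intro g
    symm
    apply Finset.card_equiv (φ g)
    intro i
    simp only [Finset.mem_filter, Finset.mem_univ, true_and]
    have hi : (φ g)⁻¹ (φ g i) = i := (φ g).symm_apply_apply i
    rw [hconj, hi]
    exact (φ g).injective.eq_iff.symm
  -- every point is fixed by as many conjugates as `p0`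
  have h2 : ∀ k : Fin n, (Finset.univ.filter fun g : G => φ (g * z * g⁻¹) k = k).card =
      (Finset.univ.filter fun g : G => φ (g * z * g⁻¹) p0 = p0).card := by
    intro k
    obtain ⟨h, rfl⟩ := htrans k
    apply Finset.card_equiv (Equiv.mulLeft h⁻¹)
    intro g
    simp only [Finset.mem_filter, Finset.mem_univ, true_and, Equiv.coe_mulLeft]
    have e : h⁻¹ * g * z * (h⁻¹ * g)⁻¹ = h⁻¹ * (g * z * g⁻¹) * h := by group
    have e2 : φ (h⁻¹ * g * z * (h⁻¹ * g)⁻¹) p0 = (φ h)⁻¹ (φ (g * z * g⁻¹) (φ h p0)) := by
      rw [e, map_mul, map_mul, map_inv]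
      rfl
    rw [e2, Equiv.Perm.inv_eq_iff_eq]
  -- double counting
  have hT : Fintype.card G * (Finset.univ.filter fun k : Fin n => φ z k = k).card =
      n * (Finset.univ.filter fun g : G => φ (g * z * g⁻¹) p0 = p0).card := by
    have e1 : ∑ g : G, ∑ k : Fin n, (if φ (g * z * g⁻¹) k = k then 1 else 0) =
        Fintype.card G * (Finset.univ.filter fun k : Fin n => φ z k = k).card := by
      simp_rw [← Finset.card_filter, h1]
      rw [Finset.sum_const, Finset.card_univ, smul_eq_mul]
    have e2 : ∑ k : Fin n, ∑ g : G, (if φ (g * z * g⁻¹) k = k then 1 else 0) =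
        n * (Finset.univ.filter fun g : G => φ (g * z * g⁻¹) p0 = p0).card := by
      simp_rw [← Finset.card_filter, h2]
      rw [Finset.sum_const, Finset.card_univ, smul_eq_mul, Fintype.card_fin]
    rw [← e1, Finset.sum_comm, e2]
  -- the conjugates in `S` give `|S| * |C(z)|` elements `g` with `g z g⁻¹` fixing `p0`
  have h3 : S.card * Nat.card (Subgroup.centralizer ({z} : Set G)) ≤
      (Finset.univ.filter fun g : G => φ (g * z * g⁻¹) p0 = p0).card := by
    choose γ hγ using (fun c : S => (hS c.1 c.2).1)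
    have hconjx : ∀ (c : S) (x : Subgroup.centralizer ({z} : Set G)),
        γ c * x.1 * z * (γ c * x.1)⁻¹ = c.1 := by
      intro c x
      have hx : z * x.1 = x.1 * z := Subgroup.mem_centralizer_iff.mp x.2 z rfl
      rw [hγ c]
      calc γ c * x.1 * z * (γ c * x.1)⁻¹ = γ c * (x.1 * z) * x.1⁻¹ * (γ c)⁻¹ := by group
        _ = γ c * (z * x.1) * x.1⁻¹ * (γ c)⁻¹ := by rw [hx]
        _ = γ c * z * (γ c)⁻¹ := by group
    have hmemU : ∀ (c : S) (x : Subgroup.centralizer ({z} : Set G)),
        γ c * x.1 ∈ (Finset.univ.filter fun g : G => φ (g * z * g⁻¹) p0 = p0) := by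
      intro c x
      rw [Finset.mem_filter]
      refine ⟨Finset.mem_univ _, ?_⟩
      rw [hconjx c x]
      exact (hS c.1 c.2).2
    have hinj : Function.Injective (fun q : S × Subgroup.centralizer ({z} : Set G) =>
        (⟨γ q.1 * q.2.1, hmemU q.1 q.2⟩ :
          {g // g ∈ (Finset.univ.filter fun g : G => φ (g * z * g⁻¹) p0 = p0)})) := by
      intro q q' hqq
      have h0 : γ q.1 * q.2.1 = γ q'.1 * q'.2.1 := congrArg Subtype.val hqq
      have hc : q.1 = q'.1 := by
        apply Subtype.ext
        rw [← hconjx q.1 q.2, ← hconjx q'.1 q'.2, h0]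
      have hx : q.2 = q'.2 := by
        apply Subtype.ext
        rw [hc] at h0
        exact mul_left_cancel h0
      exact Prod.ext hc hx
    have := Nat.card_le_card_of_injective _ hinj
    rw [Nat.card_prod, Nat.card_eq_fintype_card (α := S), Fintype.card_coe,
      Nat.card_eq_fintype_card
        (α := {g // g ∈ (Finset.univ.filter fun g : G => φ (g * z * g⁻¹) p0 = p0)}),
      Fintype.card_coe] at this
    exact this
  rw [Nat.card_eq_fintype_card (α := G)]
  calc Nat.card ↥(Subgroup.centralizer ({z} : Set G)) * (n * S.card)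
      = n * (S.card * Nat.card ↥(Subgroup.centralizer ({z} : Set G))) := by ring
    _ ≤ n * (Finset.univ.filter fun g : G => φ (g * z * g⁻¹) p0 = p0).card :=
        Nat.mul_le_mul_left _ h3
    _ = Fintype.card G * (Finset.univ.filter fun k : Fin n => φ z k = k).card := hT.symm
    _ ≤ Fintype.card G * f := Nat.mul_le_mul_left _ hf

end Cfsg.Agent.Lib.Helper22.HeCent
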