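import Mathlib
import Cfsg.Agent.H5.StemTC

/-!
# S2134 piece [ISO]: two triples satisfying relators that bound the order, each generating at least
that many elements, generate isomorphic groups (diagonal subgroup of `A × B`)

NOTE: compared with the skeleton the hypothesis `hl` (all letters of the relators are `< 6`) has been
added; without it the statement is false (the values `a 3, b 3, …` would be free parameters).
-/

set_option autoImplicit false

namespace Cfsg.Agent.Lib.Helper22.HeCent

open Cfsg.H5.TCk

namespace Helper17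

theorem gl_congr_lt' {Γ : Type*} [Group Γ] (g g' : ℕ → Γ) (t : ℕ) (h : ∀ i < t, g i = g' i) (l : ℕ)
    (hl : l < 2 * t) : gl g l = gl g' l := by
  unfold gl
  have h2 : l / 2 < t := by omega
  rw [h _ h2]

/-- words only see the generators whose letters occur -/
theorem ev_congr_lt' {Γ : Type*} [Group Γ] (g g' : ℕ → Γ) (t : ℕ) (h : ∀ i < t, g i = g' i)
    (w : List ℕ) (hw : w.all (fun l => decide (l < 2 * t)) = true) : ev g w = ev g' w := by
  induction w with
  | nil => rfl
  | cons l w ih =>
    rw [List.all_cons, Bool.and_eq_true] at hw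
    simp only [ev]
    rw [gl_congr_lt' g g' t h l (of_decide_eq_true hw.1), ih hw.2]

/-- a surjective homomorphism onto a subgroup at least as large is an isomorphism onto it -/
theorem nonempty_equiv_of_range {D A : Type*} [Group D] [Group A] [Finite D] (f : D →* A)
    (A' : Subgroup A) (hr : f.range = A') (hcard : Nat.card D ≤ Nat.card A') :
    Nonempty (D ≃* A') := by
  subst hr
  have hs : Function.Surjective f.rangeRestrict := f.rangeRestrict_surjective
  have hb : Function.Bijective f.rangeRestrict := hs.bijective_of_nat_card_le hcard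
  exact ⟨MulEquiv.ofBijective f.rangeRestrict hb⟩

end Helper17

open Helper17

/-- [ISO] two triples satisfying relators (in the letters `< 6`) that bound the order by `N`, each
generating at least `N` elements, generate isomorphic groups. -/
theorem iso_of_card_bound (rels : List (List ℕ)) (N : ℕ)
    (hl : ∀ r ∈ rels, r.all (fun l => decide (l < 2 * 3)) = true)
    (hbound : ∀ (Q : Type) [Group Q] (q : ℕ → Q),
      Subgroup.closure (Set.range fun i : Fin 3 => q i.val) = ⊤ →
      (∀ r ∈ rels, ev q r = 1) → Finite Q ∧ Nat.card Q ≤ N)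
    {A B : Type} [Group A] [Group B] [Finite A] [Finite B] (a : ℕ → A) (b : ℕ → B)
    (ha : ∀ r ∈ rels, ev a r = 1) (hb : ∀ r ∈ rels, ev b r = 1)
    (hA : N ≤ Nat.card ↥(Subgroup.closure (Set.range fun i : Fin 3 => a i.val)))
    (hB : N ≤ Nat.card ↥(Subgroup.closure (Set.range fun i : Fin 3 => b i.val))) :
    Nonempty (↥(Subgroup.closure (Set.range fun i : Fin 3 => a i.val)) ≃*
      ↥(Subgroup.closure (Set.range fun i : Fin 3 => b i.val))) := by
  classical
  -- the diagonal subgroup
  generalize hDdef : Subgroup.closure (Set.range fun i : Fin 3 => ((a i.val, b i.val) : A × B)) = D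
  have hcD : ∀ i < 3, ((a i, b i) : A × B) ∈ D := by
    intro i hi
    rw [← hDdef]
    exact Subgroup.subset_closure ⟨⟨i, hi⟩, rfl⟩
  let q : ℕ → D := fun i => if h : i < 3 then ⟨(a i, b i), hcD i h⟩ else 1
  have hq : ∀ i < 3, ((q i : D) : A × B) = (a i, b i) := by
    intro i hi
    simp only [q, dif_pos hi]
  have hev : ∀ w : List ℕ, w.all (fun l => decide (l < 2 * 3)) = true →
      ((ev q w : D) : A × B) = (ev a w, ev b w) := by
    intro w hw
    have h1 : ((ev q w : D) : A × B) = ev (fun i => ((q i : D) : A × B)) w :=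
      Cfsg.H5.StemTC.map_ev D.subtype q w
    have h2 : ev (fun i => ((q i : D) : A × B)) w = ev (fun i => ((a i, b i) : A × B)) w :=
      ev_congr_lt' _ _ 3 (fun i hi => hq i hi) w hw
    have h3 : (ev (fun i => ((a i, b i) : A × B)) w).1 = ev a w :=
      Cfsg.H5.StemTC.map_ev (MonoidHom.fst A B) (fun i => ((a i, b i) : A × B)) w
    have h4 : (ev (fun i => ((a i, b i) : A × B)) w).2 = ev b w :=
      Cfsg.H5.StemTC.map_ev (MonoidHom.snd A B) (fun i => ((a i, b i) : A × B)) w
    rw [h1, h2]
    exact Prod.ext h3 h4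
  have hgenD : Subgroup.closure (Set.range fun i : Fin 3 => q i.val) = ⊤ := by
    apply Subgroup.map_injective D.subtype_injective
    have h1 : (⊤ : Subgroup D).map D.subtype = D := by
      rw [← MonoidHom.range_eq_map, Subgroup.range_subtype]
    rw [h1, MonoidHom.map_closure]
    have himg : (⇑D.subtype '' Set.range fun i : Fin 3 => q i.val) =
        Set.range fun i : Fin 3 => ((a i.val, b i.val) : A × B) := by
      ext x
      constructor
      · rintro ⟨_, ⟨i, rfl⟩, rfl⟩
        exact ⟨i, (hq i.val i.isLt).symm⟩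
      · rintro ⟨i, rfl⟩
        exact ⟨q i.val, ⟨i, rfl⟩, hq i.val i.isLt⟩
    rw [himg]
    exact hDdef
  have hrelD : ∀ r ∈ rels, ev q r = 1 := by
    intro r hr
    apply Subtype.ext
    rw [hev r (hl r hr), ha r hr, hb r hr]
    rfl
  obtain ⟨hfin, hcard⟩ := hbound D q hgenD hrelD
  haveI : Finite D := hfin
  -- the two projections
  have hr1 : ((MonoidHom.fst A B).comp D.subtype).range =
      Subgroup.closure (Set.range fun i : Fin 3 => a i.val) := by
    rw [← MonoidHom.map_range, Subgroup.range_subtype, ← hDdef, MonoidHom.map_closure]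
    congr 1
    ext x
    constructor
    · rintro ⟨_, ⟨i, rfl⟩, rfl⟩
      exact ⟨i, rfl⟩
    · rintro ⟨i, rfl⟩
      exact ⟨(a i.val, b i.val), ⟨i, rfl⟩, rfl⟩
  have hr2 : ((MonoidHom.snd A B).comp D.subtype).range =
      Subgroup.closure (Set.range fun i : Fin 3 => b i.val) := by
    rw [← MonoidHom.map_range, Subgroup.range_subtype, ← hDdef, MonoidHom.map_closure]
    congr 1
    ext x
    constructor
    · rintro ⟨_, ⟨i, rfl⟩, rfl⟩
      exact ⟨i, rfl⟩
    · rintro ⟨i, rfl⟩
      exact ⟨(a i.val, b i.val), ⟨i, rfl⟩, rfl⟩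
  obtain ⟨e1⟩ := nonempty_equiv_of_range _ _ hr1 (le_trans hcard hA)
  obtain ⟨e2⟩ := nonempty_equiv_of_range _ _ hr2 (le_trans hcard hB)
  exact ⟨e1.symm.trans e2⟩

end Cfsg.Agent.Lib.Helper22.HeCent
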