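import Mathlib
import Cfsg.Prelude.Def_KGroupFacts

/-!
# A rigidity criterion for an outer automorphism group of order two

`G = ⟨a, d, y⟩` finite, `⟨a⟩` a Sylow `p`-subgroup of order `p`, self-centralizing, `d a d⁻¹ = a ^ r`
with `r ≢ 1`, the powers of `r` reach `1` or `t` from every unit, automorphisms fixing `a` and `d`
fix `y`, no inner automorphism maps `a` to `a ^ t` but some automorphism does: then `|Out G| = 2`.
(Generalises `Helper28.OutTwo.out_card_two`.)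
-/

set_option autoImplicit false

namespace Cfsg.Agent.Lib.Helper29.HeOut

namespace Helper17

variable {G : Type*} [Group G]

theorem conj_pow_pow_aux {m a : G} {r : ℕ} (h : m * a * m⁻¹ = a ^ r) (i : ℕ) :
    m ^ i * a * (m ^ i)⁻¹ = a ^ r ^ i := by
  induction i with
  | zero => simp
  | succ i ih =>
    have h1 : m ^ (i + 1) * a * (m ^ (i + 1))⁻¹ = m * (m ^ i * a * (m ^ i)⁻¹) * m⁻¹ := by
      rw [pow_succ']; group
    rw [h1, ih]
    have h2 : m * a ^ r ^ i * m⁻¹ = (m * a * m⁻¹) ^ r ^ i := by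
      rw [conj_pow]
    rw [h2, h, ← pow_mul, pow_succ, mul_comm]

theorem pow_eq_of_mod_aux {a : G} {p : ℕ} (ha : a ^ p = 1) (k : ℕ) : a ^ k = a ^ (k % p) := by
  conv_lhs => rw [← Nat.div_add_mod k p]
  rw [pow_add, pow_mul, ha, one_pow, one_mul]

/-- every automorphism is, modulo inner automorphisms, one that maps `a` to `a` or to `a ^ t` -/
theorem exists_fix_or_pow [Finite G] {p : ℕ} [hp : Fact p.Prime] {a m : G} {r t : ℕ}
    (ha : orderOf a = p) (hfac : (Nat.card G).factorization p = 1)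
    (hm : m * a * m⁻¹ = a ^ r)
    (hr : ∀ k : ℕ, 1 ≤ k → k < p → ∃ i : ℕ, k * r ^ i % p = 1 ∨ k * r ^ i % p = t)
    (φ : MulAut G) : ∃ c : G, (MulAut.conj c * φ) a = a ∨ (MulAut.conj c * φ) a = a ^ t := by
  have hp1 : 1 < p := hp.out.one_lt
  have hap : a ^ p = 1 := by rw [← ha]; exact pow_orderOf_eq_one a
  have ha1 : a ≠ 1 := by
    intro h
    rw [h, orderOf_one] at ha
    omega
  have hP : Nat.card (Subgroup.zpowers a) = p ^ (Nat.card G).factorization p := by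
    rw [hfac, pow_one, Nat.card_zpowers, ha]
  have hQ : Nat.card ((Subgroup.zpowers a).map φ.toMonoidHom) =
      p ^ (Nat.card G).factorization p := by
    rw [Subgroup.card_map_of_injective φ.injective]; exact hP
  obtain ⟨g, hg⟩ := MulAction.exists_smul_eq G (Sylow.ofCard _ hP) (Sylow.ofCard _ hQ)
  have h1 : φ a ∈ ((Sylow.ofCard _ hQ : Sylow p G) : Subgroup G) := by
    rw [Sylow.coe_ofCard]
    exact Subgroup.mem_map_of_mem _ (Subgroup.mem_zpowers a)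
  rw [← hg, Sylow.coe_subgroup_smul, Subgroup.mem_smul_pointwise_iff_exists] at h1
  obtain ⟨s, hs, hsx⟩ := h1
  rw [Sylow.coe_ofCard] at hs
  rw [MulAut.smul_def, MulAut.conj_apply] at hsx
  obtain ⟨k, hk⟩ := Subgroup.mem_zpowers_iff.mp hs
  have hpz : (0 : ℤ) < p := by exact_mod_cast hp.out.pos
  have hkp : a ^ (k % p) = s := by
    have := zpow_mod_orderOf a k
    rw [ha] at this
    rw [← hk]
    exact this
  have hjk : (((k % p).toNat : ℕ) : ℤ) = k % p :=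
    Int.toNat_of_nonneg (Int.emod_nonneg _ (ne_of_gt hpz))
  have hjp : (k % p).toNat < p := by
    have := Int.emod_lt_of_pos k hpz
    omega
  have hsj : a ^ (k % p).toNat = s := by
    rw [← zpow_natCast, hjk]; exact hkp
  have hj1 : 1 ≤ (k % p).toNat := by
    rcases Nat.eq_zero_or_pos (k % p).toNat with h0 | h0
    · exfalso
      rw [h0, pow_zero] at hsj
      rw [← hsj, mul_one, mul_inv_cancel] at hsx
      exact ha1 (φ.injective (by rw [← hsx, map_one]))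
    · exact h0
  obtain ⟨i, hi⟩ := hr _ hj1 hjp
  refine ⟨m ^ i * g⁻¹, ?_⟩
  have hval : (MulAut.conj (m ^ i * g⁻¹) * φ) a = a ^ ((k % p).toNat * r ^ i % p) := by
    rw [MulAut.mul_apply, MulAut.conj_apply, ← hsx, ← hsj]
    have h2 : m ^ i * g⁻¹ * (g * a ^ (k % p).toNat * g⁻¹) * (m ^ i * g⁻¹)⁻¹ =
        m ^ i * a ^ (k % p).toNat * (m ^ i)⁻¹ := by group
    rw [h2, ← conj_pow, conj_pow_pow_aux hm, ← pow_mul, mul_comm, ← pow_eq_of_mod_aux hap]
  rcases hi with hi | hi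
  · left
    rw [hval, hi, pow_one]
  · right
    rw [hval, hi]

/-- an automorphism fixing `a` is inner -/
theorem inner_of_fix {p : ℕ} [hp : Fact p.Prime] {a d y : G} {r : ℕ}
    (ha : orderOf a = p) (hd : d * a * d⁻¹ = a ^ r) (hr1 : r % p ≠ 1)
    (hCa : ∀ c : G, c * a = a * c → c ∈ Subgroup.zpowers a)
    (hgen : Subgroup.closure {a, d, y} = ⊤)
    (hy : ∀ ψ : MulAut G, ψ a = a → ψ d = d → ψ y = y)
    (ψ : MulAut G) (hψ : ψ a = a) : ψ ∈ Cfsg.Inn G := by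
  have hp1 : 1 < p := hp.out.one_lt
  have h1 : ψ d * a * (ψ d)⁻¹ = a ^ r := by
    have := congrArg ψ hd
    rw [map_mul, map_mul, map_inv, map_pow, hψ] at this
    exact this
  have e1 : ψ d * a = a ^ r * ψ d := mul_inv_eq_iff_eq_mul.mp h1
  have e3 : d⁻¹ * a ^ r = a * d⁻¹ := by
    rw [← hd]; group
  have h2 : (d⁻¹ * ψ d) * a = a * (d⁻¹ * ψ d) := by
    calc d⁻¹ * ψ d * a = d⁻¹ * (ψ d * a) := by rw [mul_assoc]
      _ = d⁻¹ * (a ^ r * ψ d) := by rw [e1]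
      _ = (d⁻¹ * a ^ r) * ψ d := by rw [mul_assoc]
      _ = a * d⁻¹ * ψ d := by rw [e3]
      _ = a * (d⁻¹ * ψ d) := by rw [mul_assoc]
  obtain ⟨i, hi⟩ := Subgroup.mem_zpowers_iff.mp (hCa _ h2)
  have hψd : ψ d = d * a ^ i := by rw [hi]; group
  have hconj : ∀ j : ℤ, d * a ^ j * d⁻¹ = a ^ ((r : ℤ) * j) := by
    intro j
    rw [← conj_zpow, hd, ← zpow_natCast, ← zpow_mul]
  -- solve the congruence
  have hu : ((r : ZMod p) - 1) ≠ 0 := by
    intro h
    have h' : ((r : ℕ) : ZMod p) = ((1 : ℕ) : ZMod p) := by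
      rw [Nat.cast_one]; exact sub_eq_zero.mp h
    rw [ZMod.natCast_eq_natCast_iff'] at h'
    rw [Nat.mod_eq_of_lt hp1] at h'
    exact hr1 h'
  obtain ⟨mz, hmz⟩ : ∃ mz : ZMod p, mz * ((r : ZMod p) - 1) = (r : ZMod p) * (i : ZMod p) :=
    ⟨(r : ZMod p) * (i : ZMod p) * ((r : ZMod p) - 1)⁻¹, by
      rw [mul_assoc, inv_mul_cancel₀ hu, mul_one]⟩
  have hm : ((mz.val : ℕ) : ZMod p) = mz := ZMod.natCast_zmod_val mz
  have hcast : ((((mz.val : ℕ) : ℤ) + (r : ℤ) * (i - ((mz.val : ℕ) : ℤ)) : ℤ) : ZMod p) = 0 := by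
    push_cast
    rw [hm]
    have : mz + (r : ZMod p) * ((i : ZMod p) - mz) =
        (r : ZMod p) * (i : ZMod p) - mz * ((r : ZMod p) - 1) := by ring
    rw [this, hmz, sub_self]
  have hdvd : (p : ℤ) ∣ ((mz.val : ℕ) : ℤ) + (r : ℤ) * (i - ((mz.val : ℕ) : ℤ)) :=
    (ZMod.intCast_zmod_eq_zero_iff_dvd _ p).mp hcast
  have he : a ^ (((mz.val : ℕ) : ℤ) + (r : ℤ) * (i - ((mz.val : ℕ) : ℤ))) = 1 := by
    apply orderOf_dvd_iff_zpow_eq_one.mp
    rw [ha]; exact hdvd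
  have ha' : (MulAut.conj (a ^ mz.val) * ψ) a = a := by
    rw [MulAut.mul_apply, MulAut.conj_apply, hψ]
    group
  have hd' : (MulAut.conj (a ^ mz.val) * ψ) d = d := by
    rw [MulAut.mul_apply, MulAut.conj_apply, hψd]
    have h3 : d * a ^ (i - ((mz.val : ℕ) : ℤ)) = a ^ ((r : ℤ) * (i - ((mz.val : ℕ) : ℤ))) * d := by
      rw [← hconj]; group
    calc a ^ mz.val * (d * a ^ i) * (a ^ mz.val)⁻¹
        = a ^ ((mz.val : ℕ) : ℤ) * (d * a ^ (i - ((mz.val : ℕ) : ℤ))) := by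
          rw [zpow_sub, zpow_natCast]; group
      _ = a ^ ((mz.val : ℕ) : ℤ) * (a ^ ((r : ℤ) * (i - ((mz.val : ℕ) : ℤ))) * d) := by rw [h3]
      _ = a ^ (((mz.val : ℕ) : ℤ) + (r : ℤ) * (i - ((mz.val : ℕ) : ℤ))) * d := by
          rw [zpow_add, mul_assoc]
      _ = d := by rw [he, one_mul]
  have hy' : (MulAut.conj (a ^ mz.val) * ψ) y = y := hy _ ha' hd'
  have h5 : (MulAut.conj (a ^ mz.val) * ψ).toMonoidHom = MonoidHom.id G := by
    apply MonoidHom.eq_of_eqOn_dense hgen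
    intro x hx
    simp only [Set.mem_insert_iff, Set.mem_singleton_iff] at hx
    rcases hx with rfl | rfl | rfl
    · exact ha'
    · exact hd'
    · exact hy'
  have h6 : MulAut.conj (a ^ mz.val) * ψ = 1 := by
    ext x
    exact DFunLike.congr_fun h5 x
  have h7 : ψ = (MulAut.conj (a ^ mz.val))⁻¹ := eq_inv_of_mul_eq_one_right h6
  rw [h7]
  exact (Cfsg.Inn G).inv_mem ⟨a ^ mz.val, rfl⟩

end Helper17

open Helper17 in
theorem out_card_two_of_rigid {G : Type*} [Group G] [Finite G] {p : ℕ} [Fact p.Prime]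
    {a d y : G} {r t : ℕ} (ha : orderOf a = p) (hfac : (Nat.card G).factorization p = 1)
    (hd : d * a * d⁻¹ = a ^ r) (hr1 : r % p ≠ 1)
    (hr : ∀ k : ℕ, 1 ≤ k → k < p → ∃ i : ℕ, k * r ^ i % p = 1 ∨ k * r ^ i % p = t)
    (hCa : ∀ c : G, c * a = a * c → c ∈ Subgroup.zpowers a)
    (hgen : Subgroup.closure {a, d, y} = ⊤)
    (hy : ∀ ψ : MulAut G, ψ a = a → ψ d = d → ψ y = y)
    (hno : ∀ g : G, g * a * g⁻¹ ≠ a ^ t) (τ : MulAut G) (hτ : τ a = a ^ t) :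
    Nat.card (Cfsg.Out G) = 2 := by
  have hτn : τ ∉ Cfsg.Inn G := by
    rintro ⟨g, hg⟩
    have h := hτ
    rw [← hg, MulAut.conj_apply] at h
    exact hno g h
  have hfix : ∀ ψ : MulAut G, ψ a = a → ψ ∈ Cfsg.Inn G :=
    fun ψ hψ => inner_of_fix ha hd hr1 hCa hgen hy ψ hψ
  show Nat.card (MulAut G ⧸ Cfsg.Inn G) = 2
  rw [← Subgroup.index_eq_card, Subgroup.index_eq_two_iff_exists_notMem_and']
  refine ⟨τ⁻¹, fun h => hτn (by simpa using (Cfsg.Inn G).inv_mem h), ?_⟩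
  intro φ
  obtain ⟨c, hc⟩ := exists_fix_or_pow ha hfac hd hr φ
  have hcinn : MulAut.conj c ∈ Cfsg.Inn G := ⟨c, rfl⟩
  rcases hc with hc | hc
  · right
    have h1 := hfix _ hc
    have h2 : φ = (MulAut.conj c)⁻¹ * (MulAut.conj c * φ) := by group
    rw [h2]
    exact (Cfsg.Inn G).mul_mem ((Cfsg.Inn G).inv_mem hcinn) h1
  · left
    have h3 : (τ⁻¹ * (MulAut.conj c * φ)) a = a := by
      rw [MulAut.mul_apply, hc, ← hτ, MulAut.inv_apply_self]
    have h1 := hfix _ h3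
    have h4 : τ⁻¹ * (MulAut.conj c)⁻¹ * τ⁻¹⁻¹ ∈ Cfsg.Inn G :=
      (Cfsg.innNormal G).conj_mem _ ((Cfsg.Inn G).inv_mem hcinn) τ⁻¹
    have h2 : τ⁻¹ * φ =
        (τ⁻¹ * (MulAut.conj c)⁻¹ * τ⁻¹⁻¹) * (τ⁻¹ * (MulAut.conj c * φ)) := by group
    rw [h2]
    exact (Cfsg.Inn G).mul_mem h4 h1

end Cfsg.Agent.Lib.Helper29.HeOut
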