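import Mathlib
import Cfsg.Prelude.Def_JComponents
import Cfsg.Agent.Lib.Helper17.Conj
import Cfsg.Agent.Lib.Helper17.Commutator
import Cfsg.Agent.Lib.Helper17.Basic
import Cfsg.Agent.Lib.Helper17.ChainStab
import Cfsg.Agent.Lib.Helper27.Thompson
import Cfsg.Agent.H5.Basic

set_option autoImplicit false

namespace Cfsg.Agent.Lib.Helper17.JComp

open Cfsg Cfsg.Agent.Lib.Helper17 Cfsg.Agent.Lib.Helper27
open scoped commutatorElement

variable {G : Type*} [Group G]

/-! ### Generic lemmas -/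

theorem le_normalizer_commutator_right [Finite G] (H L : Subgroup G) :
    L ≤ Subgroup.normalizer ((⁅H, L⁆ : Subgroup G) : Set G) := by
  intro l hl
  apply mem_normalizer_of_map_conj_le
  rw [Subgroup.map_le_iff_le_comap, Subgroup.commutator_le]
  intro h hh j hj
  rw [Subgroup.mem_comap]
  simp only [MulEquiv.coe_toMonoidHom, MulAut.conj_apply]
  have e : l * ⁅h, j⁆ * l⁻¹ = ⁅h, l⁆⁻¹ * ⁅h, l * j⁆ := by
    simp only [commutatorElement_def]; group
  rw [e]
  exact Subgroup.mul_mem _ (Subgroup.inv_mem _ (Subgroup.commutator_mem_commutator hh hl))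
    (Subgroup.commutator_mem_commutator hh (L.mul_mem hl hj))

theorem mem_omegaCenterOf {X : Subgroup G} {x : G} (hx : x ∈ X)
    (hc : x ∈ Subgroup.centralizer (X : Set G)) (h2 : x ^ 2 = 1) : x ∈ omegaCenterOf X :=
  Subgroup.subset_closure ⟨⟨hx, hc⟩, h2⟩

theorem omegaCenterOf_le (X : Subgroup G) :
    omegaCenterOf X ≤ X ⊓ Subgroup.centralizer (X : Set G) := by
  unfold omegaCenterOf omegaOne
  rw [Subgroup.closure_le]
  intro x hx
  exact hx.1

theorem normalizer_le_normalizer_omegaCenterOf [Finite G] (X : Subgroup G) :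
    Subgroup.normalizer (X : Set G) ≤
      Subgroup.normalizer ((omegaCenterOf X : Subgroup G) : Set G) := by
  intro g hg
  apply mem_normalizer_of_map_conj_le
  rw [Subgroup.map_le_iff_le_comap]
  unfold omegaCenterOf omegaOne
  rw [Subgroup.closure_le]
  rintro x ⟨hx, hx2⟩
  rw [SetLike.mem_coe, Subgroup.mem_comap]
  apply Subgroup.subset_closure
  simp only [MulEquiv.coe_toMonoidHom, MulAut.conj_apply]
  have hgC := normalizer_le_normalizer_centralizer X hg
  refine ⟨?_, ?_⟩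
  · rw [Subgroup.mem_inf] at hx ⊢
    exact ⟨(Subgroup.mem_normalizer_iff.mp hg x).mp hx.1,
      (Subgroup.mem_normalizer_iff.mp hgC x).mp hx.2⟩
  · rw [conj_pow, hx2]; group

theorem exists_isMaxEAIn [Finite G] (p : ℕ) (T : Subgroup G) : ∃ A, IsMaxEAIn p T A := by
  classical
  have hne : {A : Subgroup G | A ≤ T ∧ IsElementaryAbelian p A}.Nonempty :=
    ⟨⊥, bot_le, Cfsg.H5.isElementaryAbelian_bot p⟩
  obtain ⟨A, hA, hmax⟩ := Set.exists_max_image
    {A : Subgroup G | A ≤ T ∧ IsElementaryAbelian p A}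
    (fun A => Nat.card A) (Set.toFinite _) hne
  exact ⟨A, hA.1, hA.2, fun C hC hCe => hmax C ⟨hC, hCe⟩⟩

theorem le_thompson_of_isMaxEAIn {p : ℕ} {T B : Subgroup G} (hB : IsMaxEAIn p T B) :
    B ≤ thompsonSubgroupOf p T := by
  rw [thompsonSubgroupOf_eq]; exact le_sSup hB

theorem isMaxEAIn_of_thompson_eq [Finite G] {p : ℕ} {S T B : Subgroup G}
    (h : thompsonSubgroupOf p S = thompsonSubgroupOf p T) (hB : IsMaxEAIn p S B) :
    IsMaxEAIn p T B := by
  obtain ⟨A, hA⟩ := exists_isMaxEAIn p T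
  refine ⟨?_, hB.2.1, fun C hC hCe => ?_⟩
  · exact ((le_thompson_of_isMaxEAIn hB).trans h.le).trans (thompsonSubgroupOf_le p T)
  · have h1 : A ≤ S :=
      ((le_thompson_of_isMaxEAIn hA).trans h.ge).trans (thompsonSubgroupOf_le p S)
    exact (hA.2.2 C hC hCe).trans (hB.2.2 A h1 hA.2.1)

theorem isMaxEAIn_iff_of_thompson_eq [Finite G] {p : ℕ} {S T : Subgroup G}
    (h : thompsonSubgroupOf p S = thompsonSubgroupOf p T) (B : Subgroup G) :
    IsMaxEAIn p S B ↔ IsMaxEAIn p T B :=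
  ⟨isMaxEAIn_of_thompson_eq h, isMaxEAIn_of_thompson_eq h.symm⟩

/-- An element of order dividing `p` of `T` commuting with a largest elementary abelian
subgroup `A` of `T` lies in `A`. -/
theorem mem_of_isMaxEAIn_of_commute [Finite G] {p : ℕ} {T A : Subgroup G} (hA : IsMaxEAIn p T A)
    {x : G} (hx : x ∈ T) (hxp : x ^ p = 1) (hc : ∀ a ∈ A, a * x = x * a) : x ∈ A := by
  have hZ : IsElementaryAbelian p (Subgroup.zpowers x) := Cfsg.H5.isElementaryAbelian_zpowers hxp
  have hcent : A ≤ Subgroup.centralizer ((Subgroup.zpowers x : Subgroup G) : Set G) := by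
    intro a ha
    rw [Subgroup.mem_centralizer_iff]
    intro y hy
    obtain ⟨k, rfl⟩ := Subgroup.mem_zpowers_iff.mp hy
    have hc' : Commute a x := hc a ha
    exact (hc'.zpow_right k).eq.symm
  have hB := Cfsg.H5.isElementaryAbelian_sup hA.2.1 hZ hcent
  have hle : A ⊔ Subgroup.zpowers x ≤ T := sup_le hA.1 (Subgroup.zpowers_le.mpr hx)
  have hcard := hA.2.2 _ hle hB
  have heq : A = A ⊔ Subgroup.zpowers x := Subgroup.eq_of_le_of_card_ge le_sup_left hcard
  rw [heq]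
  exact (le_sup_right : Subgroup.zpowers x ≤ A ⊔ Subgroup.zpowers x) (Subgroup.mem_zpowers x)

/-- Every element of `Ω₁Z(J(T))` lies in every largest elementary abelian subgroup of `T`. -/
theorem omegaCenterOf_thompson_le [Finite G] {T A : Subgroup G} (hA : IsMaxEAIn 2 T A) :
    omegaCenterOf (thompsonSubgroupOf 2 T) ≤ A := by
  unfold omegaCenterOf omegaOne
  rw [Subgroup.closure_le]
  rintro x ⟨hx, hx2⟩
  rw [Subgroup.mem_inf] at hx
  refine mem_of_isMaxEAIn_of_commute hA (thompsonSubgroupOf_le 2 T hx.1) hx2 ?_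
  intro a ha
  exact (Subgroup.mem_centralizer_iff.mp hx.2) a (le_thompson_of_isMaxEAIn hA ha)

/-- A group of order `4` and exponent `2` with an automorphism of order `3` moving `v`. -/
theorem four_enum {W : Subgroup G} (h4 : Nat.card W = 4) (hsq : ∀ w ∈ W, w * w = 1) {d : G}
    (hd3 : d ^ 3 = 1) (hdW : d ∈ Subgroup.normalizer (W : Set G)) {v v' v'' : G} (hv : v ∈ W)
    (hv' : v' = d * v * d⁻¹) (hv'' : v'' = d * v' * d⁻¹) (hne : v' ≠ v) :
    d * v'' * d⁻¹ = v ∧ v ≠ 1 ∧ v' ≠ 1 ∧ v'' ≠ 1 ∧ v' ∈ W ∧ v'' ∈ W ∧ v'' ≠ v ∧ v'' ≠ v' ∧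
      v * v' = v'' ∧ ∀ x ∈ W, x = 1 ∨ x = v ∨ x = v' ∨ x = v'' := by
  classical
  haveI : Finite W := Nat.finite_of_card_ne_zero (by rw [h4]; norm_num)
  have hd3' : d * d * d = 1 := by rw [← hd3, pow_succ, pow_succ, pow_one]
  have h1 : d * v'' * d⁻¹ = v := by
    have : d * v'' * d⁻¹ = (d * d * d) * v * (d * d * d)⁻¹ := by rw [hv'', hv']; group
    rw [this, hd3']; group
  have hv1 : v ≠ 1 := by
    intro h; apply hne; rw [hv', h]; group
  have hv'W : v' ∈ W := by rw [hv']; exact (Subgroup.mem_normalizer_iff.mp hdW v).mp hv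
  have hv''W : v'' ∈ W := by rw [hv'']; exact (Subgroup.mem_normalizer_iff.mp hdW v').mp hv'W
  have hv'1 : v' ≠ 1 := by
    intro h; apply hv1
    have : v = d⁻¹ * v' * d := by rw [hv']; group
    rw [this, h]; group
  have hv''1 : v'' ≠ 1 := by
    intro h; apply hv'1
    have : v' = d⁻¹ * v'' * d := by rw [hv'']; group
    rw [this, h]; group
  have hne2 : v'' ≠ v' := by
    intro h; apply hne
    have e1 : v' = d⁻¹ * v'' * d := by rw [hv'']; group
    have e2 : v = d⁻¹ * v' * d := by rw [hv']; group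
    rw [e2, ← h, ← e1]; exact h
  have hne3 : v'' ≠ v := by
    intro h; apply hne
    rw [hv']
    calc d * v * d⁻¹ = d * v'' * d⁻¹ := by rw [h]
      _ = v := h1
  have hsub : (({1, v, v', v''} : Finset G) : Set G) ⊆ (W : Set G) := by
    intro x hx
    simp only [Finset.coe_insert, Finset.coe_singleton, Set.mem_insert_iff,
      Set.mem_singleton_iff] at hx
    rcases hx with rfl | rfl | rfl | rfl
    exacts [W.one_mem, hv, hv'W, hv''W]
  have hcard : ({1, v, v', v''} : Finset G).card = 4 := by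
    rw [Finset.card_insert_of_notMem, Finset.card_insert_of_notMem,
      Finset.card_insert_of_notMem, Finset.card_singleton]
    · simp only [Finset.mem_singleton]; exact fun h => hne2 h.symm
    · simp only [Finset.mem_insert, Finset.mem_singleton, not_or]
      exact ⟨fun h => hne h.symm, fun h => hne3 h.symm⟩
    · simp only [Finset.mem_insert, Finset.mem_singleton, not_or]
      exact ⟨fun h => hv1 h.symm, fun h => hv'1 h.symm, fun h => hv''1 h.symm⟩
  have hWcard : (W : Set G).ncard = 4 := by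
    rw [← h4]; exact (Nat.card_coe_set_eq (W : Set G)).symm
  have heq : (({1, v, v', v''} : Finset G) : Set G) = (W : Set G) := by
    apply Set.eq_of_subset_of_ncard_le hsub _ (Set.toFinite _)
    rw [Set.ncard_coe_finset, hcard, hWcard]
  have henum : ∀ x ∈ W, x = 1 ∨ x = v ∨ x = v' ∨ x = v'' := by
    intro x hx
    have : x ∈ (({1, v, v', v''} : Finset G) : Set G) := by rw [heq]; exact hx
    simpa only [Finset.coe_insert, Finset.coe_singleton, Set.mem_insert_iff,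
      Set.mem_singleton_iff] using this
  refine ⟨h1, hv1, hv'1, hv''1, hv'W, hv''W, hne3, hne2, ?_, henum⟩
  have hvinv : v⁻¹ = v := inv_eq_of_mul_eq_one_right (hsq v hv)
  rcases henum (v * v') (W.mul_mem hv hv'W) with h | h | h | h
  · exfalso; apply hne
    have : v' = v⁻¹ := by rw [eq_inv_iff_mul_eq_one, mul_eq_one_iff_eq_inv.mpr]; rw [mul_eq_one_iff_eq_inv] at h; rw [h]; simp
    rw [this, hvinv]
  · exfalso; apply hv'1
    exact mul_left_cancel (a := v) (by rw [h, mul_one])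
  · exfalso; apply hv1
    exact mul_right_cancel (b := v') (by rw [h, one_mul])
  · exact h

/-! ### Lemmas on `O₂(K)` for a `J(T)`-component `K` -/

theorem pCoreOf_le (K : Subgroup G) : pCoreOf 2 K ≤ K := Subgroup.map_subtype_le _

theorem pCoreOf_isPGroup [Finite G] (K : Subgroup G) : IsPGroup 2 (pCoreOf 2 K) :=
  (pCore_isPGroup (G := K) (p := 2)).map K.subtype

theorem subgroupOf_pCoreOf (K : Subgroup G) : (pCoreOf 2 K).subgroupOf K = pCore 2 K :=
  Subgroup.comap_map_eq_self_of_injective K.subtype_injective _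

theorem index_pCore {K : Subgroup G} (h3 : (pCoreOf 2 K).relIndex K = 3) :
    (pCore 2 K).index = 3 := by
  rw [← subgroupOf_pCoreOf]; exact h3

theorem mem_pCoreOf_iff {K : Subgroup G} {x : G} (hx : x ∈ K) :
    x ∈ pCoreOf 2 K ↔ (⟨x, hx⟩ : K) ∈ pCore 2 K := by
  constructor
  · rintro ⟨y, hy, rfl⟩
    exact hy
  · intro h
    exact ⟨_, h, rfl⟩

theorem pow_three_mem {K : Subgroup G} (h3 : (pCoreOf 2 K).relIndex K = 3) {x : G} (hx : x ∈ K) :
    x ^ 3 ∈ pCoreOf 2 K := by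
  have := Subgroup.pow_index_mem (pCore 2 K) (⟨x, hx⟩ : K)
  rw [index_pCore h3] at this
  exact ⟨_, this, rfl⟩

theorem mem_pCoreOf_of_two_pow {K : Subgroup G} (h3 : (pCoreOf 2 K).relIndex K = 3) {x : G}
    (hx : x ∈ K) {k : ℕ} (hk : x ^ (2 ^ k) = 1) : x ∈ pCoreOf 2 K := by
  have h1 := pow_three_mem h3 hx
  have hcop : Nat.Coprime 3 (orderOf x) := by
    have hd : orderOf x ∣ 2 ^ k := orderOf_dvd_of_pow_eq_one hk
    exact Nat.Coprime.coprime_dvd_right hd (Nat.Coprime.pow_right k (by norm_num))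
  obtain ⟨m, hm⟩ := exists_pow_eq_self_of_coprime hcop
  rw [← hm]; exact Subgroup.pow_mem _ h1 m

theorem two_pow_of_mem_pCoreOf [Finite G] {K : Subgroup G} {x : G} (hx : x ∈ pCoreOf 2 K) :
    ∃ k : ℕ, x ^ (2 ^ k) = 1 := by
  obtain ⟨k, hk⟩ := (pCoreOf_isPGroup K) ⟨x, hx⟩
  refine ⟨k, ?_⟩
  have := congrArg Subtype.val hk
  simpa using this

theorem pow_three_eq_one_of_odd [Finite G] {K : Subgroup G} (h3 : (pCoreOf 2 K).relIndex K = 3)
    {g : G} (hg : g ∈ K) (ho : Odd (orderOf g)) : g ^ 3 = 1 := by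
  obtain ⟨k, hk⟩ := two_pow_of_mem_pCoreOf (pow_three_mem h3 hg)
  have h1 : orderOf (g ^ 3) ∣ 2 ^ k := orderOf_dvd_of_pow_eq_one hk
  have h2 : orderOf (g ^ 3) ∣ orderOf g := orderOf_pow_dvd 3
  have hcop : Nat.Coprime (orderOf g) (2 ^ k) :=
    Nat.Coprime.pow_right k (Nat.coprime_two_right.mpr ho)
  have h3' : orderOf (g ^ 3) ∣ 1 := by
    have := Nat.dvd_gcd h2 h1
    rwa [hcop.gcd_eq_one] at this
  exact orderOf_eq_one_iff.mp (Nat.dvd_one.mp h3')

theorem exists_d [Finite G] {T K : Subgroup G} (hK : IsJComponent T K) :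
    ∃ d ∈ K, d ∉ pCoreOf 2 K ∧ d ^ 3 = 1 := by
  by_contra hcon
  have hle : K ≤ pCoreOf 2 K := by
    conv_lhs => rw [← hK.1]
    rw [Subgroup.closure_le]
    rintro g ⟨hg, ho⟩
    by_contra hgQ
    exact hcon ⟨g, hg, hgQ, pow_three_eq_one_of_odd hK.2.2.1 hg ho⟩
  have : (pCoreOf 2 K).relIndex K = 1 := Subgroup.relIndex_eq_one.mpr hle
  rw [hK.2.2.1] at this
  norm_num at this

theorem cases_of_mem {K : Subgroup G} (h3 : (pCoreOf 2 K).relIndex K = 3) {d : G} (hd : d ∈ K)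
    (hdQ : d ∉ pCoreOf 2 K) (hd3 : d ^ 3 = 1) {x : G} (hx : x ∈ K) :
    x ∈ pCoreOf 2 K ∨ d⁻¹ * x ∈ pCoreOf 2 K ∨ d * x ∈ pCoreOf 2 K := by
  haveI : Fact (Nat.Prime 3) := ⟨Nat.prime_three⟩
  have hcard : Nat.card (↥K ⧸ pCore 2 K) = 3 := by
    rw [← Subgroup.index_eq_card]; exact index_pCore h3
  have hd1 : (((⟨d, hd⟩ : K) : K) : ↥K ⧸ pCore 2 K) ≠ 1 := by
    rw [Ne, QuotientGroup.eq_one_iff]
    intro h; exact hdQ ((mem_pCoreOf_iff hd).mpr h)
  have hmem := mem_zpowers_of_prime_card hcard hd1 (g' := (((⟨x, hx⟩ : K) : K) : ↥K ⧸ pCore 2 K))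
  obtain ⟨i, hi⟩ := Subgroup.mem_zpowers_iff.mp hmem
  rw [← QuotientGroup.mk_zpow, QuotientGroup.eq] at hi
  have hi' : (d ^ i)⁻¹ * x ∈ pCoreOf 2 K := ⟨_, hi, by simp⟩
  have hdi : d ^ i = d ^ (i % 3) := by
    conv_lhs => rw [← Int.emod_add_mul_ediv i 3]
    rw [zpow_add, zpow_mul]
    have : d ^ (3 : ℤ) = 1 := by
      have : (3 : ℤ) = ((3 : ℕ) : ℤ) := rfl
      rw [this, zpow_natCast, hd3]
    rw [this, one_zpow, mul_one]
  have h0 : 0 ≤ i % 3 := Int.emod_nonneg i (by norm_num)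
  have h3' : i % 3 < 3 := Int.emod_lt_of_pos i (by norm_num)
  rw [hdi] at hi'
  obtain h | h | h : i % 3 = 0 ∨ i % 3 = 1 ∨ i % 3 = 2 := by omega
  · left; rw [h] at hi'; simpa using hi'
  · right; left; rw [h] at hi'; simpa using hi'
  · right; right; rw [h] at hi'
    have e : (d ^ (2 : ℤ))⁻¹ = d := by
      have h2 : (2 : ℤ) = ((2 : ℕ) : ℤ) := rfl
      rw [h2, zpow_natCast]
      have : d ^ 2 * d = 1 := by rw [← pow_succ]; exact hd3
      exact inv_eq_of_mul_eq_one_right this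
    rwa [e] at hi'

theorem normalizer_le_normalizer_pCoreOf [Finite G] {K : Subgroup G}
    (h3 : (pCoreOf 2 K).relIndex K = 3) :
    Subgroup.normalizer (K : Set G) ≤ Subgroup.normalizer ((pCoreOf 2 K : Subgroup G) : Set G) := by
  intro g hg
  apply mem_normalizer_of_map_conj_le
  rintro _ ⟨x, hx, rfl⟩
  simp only [MulEquiv.coe_toMonoidHom, MulAut.conj_apply]
  obtain ⟨k, hk⟩ := two_pow_of_mem_pCoreOf hx
  refine mem_pCoreOf_of_two_pow h3
    ((Subgroup.mem_normalizer_iff.mp hg x).mp (pCoreOf_le K hx)) (k := k) ?_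
  rw [conj_pow, hk]; group

theorem normalizer_le_normalizer_omega [Finite G] {K : Subgroup G}
    (h3 : (pCoreOf 2 K).relIndex K = 3) :
    Subgroup.normalizer (K : Set G) ≤
      Subgroup.normalizer ((omegaCenterOf (pCoreOf 2 K) : Subgroup G) : Set G) :=
  (normalizer_le_normalizer_pCoreOf h3).trans (normalizer_le_normalizer_omegaCenterOf _)

theorem normalizer_le_normalizer_wOf [Finite G] {K : Subgroup G}
    (h3 : (pCoreOf 2 K).relIndex K = 3) :
    Subgroup.normalizer (K : Set G) ≤ Subgroup.normalizer ((wOf K : Subgroup G) : Set G) := by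
  intro g hg
  unfold wOf
  exact mem_normalizer_commutator (normalizer_le_normalizer_omega h3 hg) hg

theorem wOf_le_omega [Finite G] {K : Subgroup G} (h3 : (pCoreOf 2 K).relIndex K = 3) :
    wOf K ≤ omegaCenterOf (pCoreOf 2 K) :=
  commutator_le_left_of_le_normalizer
    ((Subgroup.le_normalizer).trans (normalizer_le_normalizer_omega h3))

theorem wOf_le_pCoreOf [Finite G] {K : Subgroup G} (h3 : (pCoreOf 2 K).relIndex K = 3) :
    wOf K ≤ pCoreOf 2 K :=
  (wOf_le_omega h3).trans ((omegaCenterOf_le _).trans inf_le_left)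

theorem pCoreOf_le_centralizer_wOf [Finite G] {K : Subgroup G}
    (h3 : (pCoreOf 2 K).relIndex K = 3) :
    pCoreOf 2 K ≤ Subgroup.centralizer ((wOf K : Subgroup G) : Set G) := by
  rw [Subgroup.le_centralizer_iff]
  exact (wOf_le_omega h3).trans ((omegaCenterOf_le _).trans inf_le_right)

/-- `W_K` is commutative. -/
theorem wOf_comm {T K : Subgroup G} (hK : IsJComponent T K) {x y : G} (hx : x ∈ wOf K)
    (hy : y ∈ wOf K) : x * y = y * x := by
  have h1 := hK.2.2.2.2.2 x hx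
  have h2 := hK.2.2.2.2.2 y hy
  have h3 := hK.2.2.2.2.2 (x * y) ((wOf K).mul_mem hx hy)
  have hxi : x⁻¹ = x := inv_eq_of_mul_eq_one_right h1
  have hyi : y⁻¹ = y := inv_eq_of_mul_eq_one_right h2
  have : (x * y)⁻¹ = x * y := inv_eq_of_mul_eq_one_right h3
  rw [mul_inv_rev, hxi, hyi] at this
  exact this.symm

theorem wOf_inv {T K : Subgroup G} (hK : IsJComponent T K) {x : G} (hx : x ∈ wOf K) :
    x⁻¹ = x := inv_eq_of_mul_eq_one_right (hK.2.2.2.2.2 x hx)

theorem wOf_isElementaryAbelian {T K : Subgroup G} (hK : IsJComponent T K) :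
    IsElementaryAbelian 2 (wOf K) := by
  rw [isElementaryAbelian_iff]
  refine ⟨fun a ha b hb => wOf_comm hK ha hb, fun a ha => ?_⟩
  rw [pow_two]; exact hK.2.2.2.2.2 a ha

theorem wOf_le_centralizer_wOf {T K : Subgroup G} (hK : IsJComponent T K) :
    wOf K ≤ Subgroup.centralizer ((wOf K : Subgroup G) : Set G) := by
  intro x hx
  rw [Subgroup.mem_centralizer_iff]
  intro y hy
  exact wOf_comm hK hy hx

/-- `C_K(W_K) = O₂(K)`: an element of `K` outside `O₂(K)` does not centralize `W_K`. -/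
theorem not_mem_centralizer_wOf [Finite G] {T K : Subgroup G} (hK : IsJComponent T K) {d : G}
    (hd : d ∈ K) (hdQ : d ∉ pCoreOf 2 K) (hd3 : d ^ 3 = 1) :
    d ∉ Subgroup.centralizer ((wOf K : Subgroup G) : Set G) := by
  intro hdC
  have h3 := hK.2.2.1
  have hKC : K ≤ Subgroup.centralizer ((wOf K : Subgroup G) : Set G) := by
    intro x hx
    rcases cases_of_mem h3 hd hdQ hd3 hx with h | h | h
    · exact pCoreOf_le_centralizer_wOf h3 h
    · have : x = d * (d⁻¹ * x) := by group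
      rw [this]
      exact Subgroup.mul_mem _ hdC (pCoreOf_le_centralizer_wOf h3 h)
    · have : x = d⁻¹ * (d * x) := by group
      rw [this]
      exact Subgroup.mul_mem _ (Subgroup.inv_mem _ hdC) (pCoreOf_le_centralizer_wOf h3 h)
  have hcent : K ≤ Subgroup.centralizer ((omegaCenterOf (pCoreOf 2 K) : Subgroup G) : Set G) := by
    conv_lhs => rw [← hK.1]
    rw [Subgroup.closure_le]
    rintro g ⟨hg, ho⟩
    have hg3 := pow_three_eq_one_of_odd h3 hg ho
    rw [SetLike.mem_coe, Subgroup.mem_centralizer_iff]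
    intro u hu
    have hwW : ⁅u, g⁆ ∈ wOf K := Subgroup.commutator_mem_commutator hu hg
    have hcomm : ⁅u, g⁆ * g = g * ⁅u, g⁆ := (Subgroup.mem_centralizer_iff.mp (hKC hg)) _ hwW
    have hsq := hK.2.2.2.2.2 _ hwW
    set w := ⁅u, g⁆ with hw
    have E1 : g * u * g⁻¹ = w⁻¹ * u := by
      rw [hw, commutatorElement_def]; group
    have E2 : g * w⁻¹ * g⁻¹ = w⁻¹ := by
      have : g * w⁻¹ = w⁻¹ * g := by
        calc g * w⁻¹ = w⁻¹ * (w * g) * w⁻¹ := by group
          _ = w⁻¹ * (g * w) * w⁻¹ := by rw [hcomm]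
          _ = w⁻¹ * g := by group
      rw [this]; group
    have hg3' : g * g * g = 1 := by rw [← hg3, pow_succ, pow_succ, pow_one]
    have E3 : (g * g * g) * u * (g * g * g)⁻¹ = w⁻¹ * (w⁻¹ * (w⁻¹ * u)) := by
      calc (g * g * g) * u * (g * g * g)⁻¹ = g * (g * (g * u * g⁻¹) * g⁻¹) * g⁻¹ := by group
        _ = g * (g * (w⁻¹ * u) * g⁻¹) * g⁻¹ := by rw [E1]
        _ = g * ((g * w⁻¹ * g⁻¹) * (g * u * g⁻¹)) * g⁻¹ := by group
        _ = g * (w⁻¹ * (w⁻¹ * u)) * g⁻¹ := by rw [E2, E1]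
        _ = (g * w⁻¹ * g⁻¹) * ((g * w⁻¹ * g⁻¹) * (g * u * g⁻¹)) := by group
        _ = w⁻¹ * (w⁻¹ * (w⁻¹ * u)) := by rw [E2, E1]
    rw [hg3'] at E3
    have hwinv : w⁻¹ = w := inv_eq_of_mul_eq_one_right hsq
    rw [hwinv] at E3
    have E4 : w * (w * (w * u)) = w * u := by rw [← mul_assoc w w, hsq, one_mul]
    rw [E4] at E3
    have hw1 : w = 1 := by
      have : (1 : G) * u * (1 : G)⁻¹ = u := by group
      rw [this] at E3
      have := mul_right_cancel (b := u) (a := 1) (c := w) (by rw [one_mul]; exact E3)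
      exact this.symm
    -- u * g = g * u
    have : u * g * u⁻¹ * g⁻¹ = 1 := by rw [← commutatorElement_def]; exact hw1
    have h5 : u * g = g * u := by
      calc u * g = (u * g * u⁻¹ * g⁻¹) * g * u := by group
        _ = g * u := by rw [this, one_mul]
    exact h5
  have hbot : wOf K = ⊥ := by
    unfold wOf
    rw [Subgroup.commutator_eq_bot_iff_le_centralizer, Subgroup.le_centralizer_iff]
    exact hcent
  have h4 := hK.2.2.2.2.1
  rw [hbot] at h4
  simp at h4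

/-- Conjugation by `d ∈ K ∖ O₂(K)` (`d³ = 1`) fixes no nonidentity element of `W_K`. -/
theorem conj_ne_self [Finite G] {T K : Subgroup G} (hK : IsJComponent T K) {d : G}
    (hd : d ∈ K) (hdQ : d ∉ pCoreOf 2 K) (hd3 : d ^ 3 = 1) {w : G} (hw : w ∈ wOf K)
    (hw1 : w ≠ 1) : d * w * d⁻¹ ≠ w := by
  have hdW : d ∈ Subgroup.normalizer ((wOf K : Subgroup G) : Set G) :=
    normalizer_le_normalizer_wOf hK.2.2.1 (Subgroup.le_normalizer hd)
  have hex : ∃ v ∈ wOf K, d * v * d⁻¹ ≠ v := by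
    by_contra hcon
    push Not at hcon
    apply not_mem_centralizer_wOf hK hd hdQ hd3
    rw [Subgroup.mem_centralizer_iff]
    intro v hv
    have := hcon v hv
    calc v * d = (d * v * d⁻¹) * d := by rw [this]
      _ = d * v := by group
  obtain ⟨v, hv, hne⟩ := hex
  obtain ⟨h1, hv1, hv'1, hv''1, hv'W, hv''W, hne3, hne2, hprod, henum⟩ :=
    four_enum hK.2.2.2.2.1 hK.2.2.2.2.2 hd3 hdW hv rfl rfl hne
  rcases henum w hw with h | h | h | h
  · exact absurd h hw1
  · rw [h]; exact hne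
  · rw [h]; exact hne2
  · rw [h, h1]; exact hne3.symm

/-- Enumeration of `W_K` starting from any nonidentity element. -/
theorem wOf_enum [Finite G] {T K : Subgroup G} (hK : IsJComponent T K) {d : G}
    (hd : d ∈ K) (hdQ : d ∉ pCoreOf 2 K) (hd3 : d ^ 3 = 1) {w w' w'' : G} (hw : w ∈ wOf K)
    (hw1 : w ≠ 1) (hw' : w' = d * w * d⁻¹) (hw'' : w'' = d * w' * d⁻¹) :
    d * w'' * d⁻¹ = w ∧ w' ≠ 1 ∧ w'' ≠ 1 ∧ w' ∈ wOf K ∧ w'' ∈ wOf K ∧ w' ≠ w ∧ w'' ≠ w ∧
      w'' ≠ w' ∧ w * w' = w'' ∧ ∀ x ∈ wOf K, x = 1 ∨ x = w ∨ x = w' ∨ x = w'' := by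
  have hdW : d ∈ Subgroup.normalizer ((wOf K : Subgroup G) : Set G) :=
    normalizer_le_normalizer_wOf hK.2.2.1 (Subgroup.le_normalizer hd)
  have hne : w' ≠ w := by rw [hw']; exact conj_ne_self hK hd hdQ hd3 hw hw1
  obtain ⟨h1, _, hv'1, hv''1, hv'W, hv''W, hne3, hne2, hprod, henum⟩ :=
    four_enum hK.2.2.2.2.1 hK.2.2.2.2.2 hd3 hdW hw hw' hw'' hne
  exact ⟨h1, hv'1, hv''1, hv'W, hv''W, hne, hne3, hne2, hprod, henum⟩

/-! ### The Sylow 2-subgroup `O₂(K) J(T)` of `K J(T)` -/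

theorem thompson_le_normalizer [Finite G] {T K : Subgroup G} (hK : IsJComponent T K) :
    thompsonSubgroupOf 2 T ≤ Subgroup.normalizer (K : Set G) := by
  have := le_normalizer_commutator_right K (thompsonSubgroupOf 2 T)
  rwa [hK.2.1] at this

theorem mem_sup_iff [Finite G] {T K : Subgroup G} (hK : IsJComponent T K) {x : G} :
    x ∈ K ⊔ thompsonSubgroupOf 2 T ↔ ∃ k ∈ K, ∃ j ∈ thompsonSubgroupOf 2 T, k * j = x := by
  rw [← SetLike.mem_coe,
    Subgroup.coe_mul_of_right_le_normalizer_left K _ (thompson_le_normalizer hK), Set.mem_mul]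
  simp only [SetLike.mem_coe]

theorem thompson_isPGroup {T : Subgroup G} (hT : IsPGroup 2 T) :
    IsPGroup 2 (thompsonSubgroupOf 2 T) := hT.to_le (thompsonSubgroupOf_le 2 T)

theorem sylow_isPGroup [Finite G] {T K : Subgroup G} (hT : IsPGroup 2 T)
    (hK : IsJComponent T K) : IsPGroup 2 (pCoreOf 2 K ⊔ thompsonSubgroupOf 2 T : Subgroup G) :=
  IsPGroup.to_sup_of_normal_left' (pCoreOf_isPGroup K) (thompson_isPGroup hT)
    ((thompson_le_normalizer hK).trans (normalizer_le_normalizer_pCoreOf hK.2.2.1))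

theorem sylow_le [Finite G] {T K : Subgroup G} :
    pCoreOf 2 K ⊔ thompsonSubgroupOf 2 T ≤ K ⊔ thompsonSubgroupOf 2 T :=
  sup_le ((pCoreOf_le K).trans le_sup_left) le_sup_right

theorem isSylowTwoIn_sylow [Finite G] {T K : Subgroup G} (hT : IsPGroup 2 T)
    (hK : IsJComponent T K) :
    IsSylowTwoIn (pCoreOf 2 K ⊔ thompsonSubgroupOf 2 T) (K ⊔ thompsonSubgroupOf 2 T) := by
  have hS2 := sylow_isPGroup hT hK
  have hSX : pCoreOf 2 K ⊔ thompsonSubgroupOf 2 T ≤ K ⊔ thompsonSubgroupOf 2 T := sylow_le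
  refine ⟨hSX, hS2, ?_⟩
  obtain ⟨P, hP⟩ := (hS2.comap_subtype (K := K ⊔ thompsonSubgroupOf 2 T)).exists_le_sylow
  rw [Subgroup.comap_subtype] at hP
  have hPS : (P : Subgroup ↥(K ⊔ thompsonSubgroupOf 2 T)) ≤
      (pCoreOf 2 K ⊔ thompsonSubgroupOf 2 T).subgroupOf (K ⊔ thompsonSubgroupOf 2 T) := by
    intro y hy
    rw [Subgroup.mem_subgroupOf]
    obtain ⟨k, hk, j, hj, hkj⟩ := (mem_sup_iff hK).mp y.2
    have hjX : j ∈ K ⊔ thompsonSubgroupOf 2 T := le_sup_right (a := K) hj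
    have hkX : k ∈ K ⊔ thompsonSubgroupOf 2 T := le_sup_left (b := thompsonSubgroupOf 2 T) hk
    have hjP : (⟨j, hjX⟩ : ↥(K ⊔ thompsonSubgroupOf 2 T)) ∈
        (P : Subgroup ↥(K ⊔ thompsonSubgroupOf 2 T)) := by
      apply hP
      rw [Subgroup.mem_subgroupOf]
      exact le_sup_right (a := pCoreOf 2 K) hj
    have hkP : (⟨k, hkX⟩ : ↥(K ⊔ thompsonSubgroupOf 2 T)) ∈
        (P : Subgroup ↥(K ⊔ thompsonSubgroupOf 2 T)) := by
      have : (⟨k, hkX⟩ : ↥(K ⊔ thompsonSubgroupOf 2 T)) =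
          y * (⟨j, hjX⟩ : ↥(K ⊔ thompsonSubgroupOf 2 T))⁻¹ := by
        apply Subtype.ext
        simp only [Subgroup.coe_mul, Subgroup.coe_inv]
        rw [← hkj]; group
      rw [this]; exact mul_mem hy (inv_mem hjP)
    obtain ⟨n, hn⟩ := P.2 ⟨_, hkP⟩
    have hk2 : k ^ (2 ^ n) = 1 := by
      have := congrArg (fun z : (P : Subgroup ↥(K ⊔ thompsonSubgroupOf 2 T)) =>
        ((z : ↥(K ⊔ thompsonSubgroupOf 2 T)) : G)) hn
      simpa using this
    rw [← hkj]
    exact Subgroup.mul_mem _ (le_sup_left (b := thompsonSubgroupOf 2 T)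
      (mem_pCoreOf_of_two_pow hK.2.2.1 hk hk2)) (le_sup_right (a := pCoreOf 2 K) hj)
  have hEq : (pCoreOf 2 K ⊔ thompsonSubgroupOf 2 T).subgroupOf (K ⊔ thompsonSubgroupOf 2 T) = P :=
    le_antisymm hP hPS
  have hidx : (pCoreOf 2 K ⊔ thompsonSubgroupOf 2 T).relIndex (K ⊔ thompsonSubgroupOf 2 T) =
      (P : Subgroup ↥(K ⊔ thompsonSubgroupOf 2 T)).index := by
    rw [Subgroup.relIndex, hEq]
  rw [hidx, ← Nat.not_even_iff_odd, even_iff_two_dvd]
  exact P.not_dvd_index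

theorem thompson_sylow [Finite G] {T K : Subgroup G} (hT : IsPGroup 2 T)
    (hK : IsJComponent T K) :
    thompsonSubgroupOf 2 (pCoreOf 2 K ⊔ thompsonSubgroupOf 2 T) = thompsonSubgroupOf 2 T :=
  hK.2.2.2.1 _ (isSylowTwoIn_sylow hT hK) le_sup_right

theorem isMaxEAIn_sylow_iff [Finite G] {T K : Subgroup G} (hT : IsPGroup 2 T)
    (hK : IsJComponent T K) (B : Subgroup G) :
    IsMaxEAIn 2 (pCoreOf 2 K ⊔ thompsonSubgroupOf 2 T) B ↔ IsMaxEAIn 2 T B :=
  isMaxEAIn_iff_of_thompson_eq (thompson_sylow hT hK) B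

/-- `O₂(K)J(T)` normalizes `J(T)`. -/
theorem sylow_le_normalizer_thompson [Finite G] {T K : Subgroup G} (hT : IsPGroup 2 T)
    (hK : IsJComponent T K) :
    pCoreOf 2 K ⊔ thompsonSubgroupOf 2 T ≤
      Subgroup.normalizer ((thompsonSubgroupOf 2 T : Subgroup G) : Set G) := by
  intro s hs
  apply mem_normalizer_of_map_conj_eq
  have h1 : (pCoreOf 2 K ⊔ thompsonSubgroupOf 2 T).map (MulAut.conj s).toMonoidHom =
      pCoreOf 2 K ⊔ thompsonSubgroupOf 2 T :=
    map_conj_eq_of_mem_normalizer (Subgroup.le_normalizer hs)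
  have h2 := thompsonSubgroupOf_map 2 (MulAut.conj s) (pCoreOf 2 K ⊔ thompsonSubgroupOf 2 T)
  rw [h1, thompson_sylow hT hK] at h2
  exact h2.symm

/-- `J(T)` does not centralize `W_K`. -/
theorem thompson_not_le_centralizer_wOf [Finite G] {T K : Subgroup G}
    (hK : IsJComponent T K) :
    ¬ thompsonSubgroupOf 2 T ≤ Subgroup.centralizer ((wOf K : Subgroup G) : Set G) := by
  intro hJC
  obtain ⟨d, hd, hdQ, hd3⟩ := exists_d hK
  apply not_mem_centralizer_wOf hK hd hdQ hd3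
  have hKC : K ≤ Subgroup.centralizer ((wOf K : Subgroup G) : Set G) := by
    conv_lhs => rw [← hK.2.1]
    rw [Subgroup.commutator_le]
    intro k hk j hj
    have hkN : k ∈ Subgroup.normalizer
        ((Subgroup.centralizer ((wOf K : Subgroup G) : Set G) : Subgroup G) : Set G) :=
      normalizer_le_normalizer_centralizer _
        (normalizer_le_normalizer_wOf hK.2.2.1 (Subgroup.le_normalizer hk))
    have h1 := (Subgroup.mem_normalizer_iff.mp hkN j).mp (hJC hj)
    have : ⁅k, j⁆ = (k * j * k⁻¹) * j⁻¹ := by rw [commutatorElement_def]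
    rw [this]
    exact Subgroup.mul_mem _ h1 (Subgroup.inv_mem _ (hJC hj))
  exact hKC hd

/-- `J(T)` has a common nonidentity fixed point on `W_K`. -/
theorem exists_fixed [Finite G] {T K : Subgroup G} (hT : IsPGroup 2 T)
    (hK : IsJComponent T K) :
    ∃ w ∈ wOf K, w ≠ 1 ∧ ∀ j ∈ thompsonSubgroupOf 2 T, j * w * j⁻¹ = w := by
  classical
  have hJN : thompsonSubgroupOf 2 T ≤ Subgroup.normalizer ((wOf K : Subgroup G) : Set G) :=
    (thompson_le_normalizer hK).trans (normalizer_le_normalizer_wOf hK.2.2.1)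
  letI act : MulAction ↥(thompsonSubgroupOf 2 T) ↥(wOf K) :=
    { smul := fun j w => ⟨j.1 * w.1 * j.1⁻¹, (Subgroup.mem_normalizer_iff.mp (hJN j.2) w.1).mp w.2⟩
      one_smul := fun w => by
        apply Subtype.ext
        show (1 : G) * w.1 * (1 : G)⁻¹ = w.1
        group
      mul_smul := fun j j' w => by
        apply Subtype.ext
        show (j.1 * j'.1) * w.1 * (j.1 * j'.1)⁻¹ = j.1 * (j'.1 * w.1 * j'.1⁻¹) * j.1⁻¹
        group }
  have hsmul : ∀ (j : ↥(thompsonSubgroupOf 2 T)) (w : ↥(wOf K)),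
      ((j • w : ↥(wOf K)) : G) = j.1 * w.1 * j.1⁻¹ := fun _ _ => rfl
  have hmod := (thompson_isPGroup hT).card_modEq_card_fixedPoints (wOf K)
  rw [hK.2.2.2.2.1] at hmod
  have h1mem : (1 : ↥(wOf K)) ∈ MulAction.fixedPoints ↥(thompsonSubgroupOf 2 T) ↥(wOf K) := by
    intro j
    apply Subtype.ext
    rw [hsmul]
    show j.1 * (1 : G) * j.1⁻¹ = 1
    group
  have hcard : 1 < Nat.card (MulAction.fixedPoints ↥(thompsonSubgroupOf 2 T) ↥(wOf K)) := by
    haveI : Finite (MulAction.fixedPoints ↥(thompsonSubgroupOf 2 T) ↥(wOf K)) :=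
      Subtype.finite
    have hpos : 0 < Nat.card (MulAction.fixedPoints ↥(thompsonSubgroupOf 2 T) ↥(wOf K)) :=
      Nat.card_pos_iff.mpr ⟨⟨⟨1, h1mem⟩⟩, inferInstance⟩
    have hev : Nat.card (MulAction.fixedPoints ↥(thompsonSubgroupOf 2 T) ↥(wOf K)) % 2 = 0 := by
      have := hmod.symm
      unfold Nat.ModEq at this
      simpa using this
    omega
  haveI : Finite (MulAction.fixedPoints ↥(thompsonSubgroupOf 2 T) ↥(wOf K)) := Subtype.finite
  obtain ⟨x, y, hxy⟩ := Finite.one_lt_card_iff_nontrivial.mp hcard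
  have key : ∃ z : MulAction.fixedPoints ↥(thompsonSubgroupOf 2 T) ↥(wOf K),
      (z : ↥(wOf K)) ≠ 1 := by
    by_cases hx : (x : ↥(wOf K)) = 1
    · refine ⟨y, fun hy => hxy ?_⟩
      apply Subtype.ext
      rw [hx, hy]
    · exact ⟨x, hx⟩
  obtain ⟨z, hz⟩ := key
  refine ⟨z.1.1, z.1.2, fun h => hz (Subtype.ext h), fun j hj => ?_⟩
  have := z.2 ⟨j, hj⟩
  have h2 := congrArg Subtype.val this
  rw [hsmul] at h2
  exact h2

/-- `C_{KJ}(W_K) ≤ O₂(K) J(T)`. -/
theorem inf_centralizer_le_sylow [Finite G] {T K : Subgroup G} (hT : IsPGroup 2 T)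
    (hK : IsJComponent T K) :
    (K ⊔ thompsonSubgroupOf 2 T) ⊓ Subgroup.centralizer ((wOf K : Subgroup G) : Set G) ≤
      pCoreOf 2 K ⊔ thompsonSubgroupOf 2 T := by
  intro x hx
  rw [Subgroup.mem_inf] at hx
  obtain ⟨k, hk, j, hj, hkj⟩ := (mem_sup_iff hK).mp hx.1
  obtain ⟨d, hd, hdQ, hd3⟩ := exists_d hK
  obtain ⟨w, hw, hw1, hfix⟩ := exists_fixed hT hK
  have h3 := hK.2.2.1
  have hxw : x * w * x⁻¹ = w := by
    have := (Subgroup.mem_centralizer_iff.mp hx.2) w hw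
    rw [← this]; group
  have hQC := pCoreOf_le_centralizer_wOf h3
  have hqw : ∀ q ∈ pCoreOf 2 K, q * w * q⁻¹ = w := by
    intro q hq
    have := (Subgroup.mem_centralizer_iff.mp (hQC hq)) w hw
    rw [← this]; group
  rcases cases_of_mem h3 hd hdQ hd3 hk with h | h | h
  · rw [← hkj]
    exact Subgroup.mul_mem _ (le_sup_left (b := thompsonSubgroupOf 2 T) h)
      (le_sup_right (a := pCoreOf 2 K) hj)
  · exfalso
    -- k = d * q
    have e : x * w * x⁻¹ = d * ((d⁻¹ * k) * (j * w * j⁻¹) * (d⁻¹ * k)⁻¹) * d⁻¹ := by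
      rw [← hkj]; group
    rw [hfix j hj, hqw _ h] at e
    rw [hxw] at e
    exact conj_ne_self hK hd hdQ hd3 hw hw1 e.symm
  · exfalso
    have e : x * w * x⁻¹ = d⁻¹ * ((d * k) * (j * w * j⁻¹) * (d * k)⁻¹) * d⁻¹⁻¹ := by
      rw [← hkj]; group
    rw [hfix j hj, hqw _ h] at e
    rw [hxw] at e
    apply conj_ne_self hK hd hdQ hd3 hw hw1
    have : d * w * d⁻¹ = d * (d⁻¹ * w * d⁻¹⁻¹) * d⁻¹ := by rw [← e]
    rw [this]; group

/-- A subgroup of `K` normalized by `K` and not contained in `O₂(K)` is all of `K`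
(`K` is generated by its elements of odd order). -/
theorem le_of_normal_not_le [Finite G] {T K : Subgroup G} (hK : IsJComponent T K)
    {N : Subgroup G} (hNK : N ≤ K) (hnorm : K ≤ Subgroup.normalizer (N : Set G))
    (hN : ¬ N ≤ pCoreOf 2 K) : K ≤ N := by
  have h3 := hK.2.2.1
  have hcardK : Nat.card K = Nat.card (pCoreOf 2 K) * 3 := by
    have := Subgroup.relIndex_mul_relIndex ⊥ (pCoreOf 2 K) K bot_le (pCoreOf_le K)
    rw [Subgroup.relIndex_bot_left, Subgroup.relIndex_bot_left, h3] at this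
    exact this.symm
  obtain ⟨s, hs⟩ := IsPGroup.iff_card.mp (pCoreOf_isPGroup K)
  have h3N : 3 ∣ Nat.card N := by
    by_contra hnd
    apply hN
    have hcop : Nat.Coprime (Nat.card N) 3 :=
      Nat.Coprime.symm ((Nat.Prime.coprime_iff_not_dvd Nat.prime_three).mpr hnd)
    have hdvd : Nat.card N ∣ Nat.card K := Subgroup.card_dvd_of_le hNK
    rw [hcardK, hs] at hdvd
    have hdvd2 : Nat.card N ∣ 2 ^ s := hcop.dvd_of_dvd_mul_right hdvd
    obtain ⟨t, _, hNt⟩ := (Nat.dvd_prime_pow Nat.prime_two).mp hdvd2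
    intro x hx
    refine mem_pCoreOf_of_two_pow h3 (hNK hx) (k := t) ?_
    have := pow_card_eq_one' (G := N) (x := ⟨x, hx⟩)
    rw [hNt] at this
    simpa using congrArg Subtype.val this
  have hidx : N.relIndex K * Nat.card N = Nat.card K := by
    have := Subgroup.relIndex_mul_relIndex ⊥ N K bot_le hNK
    rw [Subgroup.relIndex_bot_left, Subgroup.relIndex_bot_left] at this
    rw [mul_comm]; exact this
  obtain ⟨n', hn'⟩ := h3N
  have hidx2 : N.relIndex K ∣ 2 ^ s := by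
    rw [hcardK, hs, hn'] at hidx
    have : N.relIndex K * n' = 2 ^ s := by
      have h' : 3 * (N.relIndex K * n') = 3 * 2 ^ s := by
        calc 3 * (N.relIndex K * n') = N.relIndex K * (3 * n') := by ring
          _ = 2 ^ s * 3 := hidx
          _ = 3 * 2 ^ s := by ring
      exact Nat.eq_of_mul_eq_mul_left (by norm_num) h'
    exact Dvd.intro _ this
  obtain ⟨t, _, hidxt⟩ := (Nat.dvd_prime_pow Nat.prime_two).mp hidx2
  haveI hnormal : (N.subgroupOf K).Normal := Subgroup.normal_subgroupOf_of_le_normalizer hnorm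
  conv_lhs => rw [← hK.1]
  rw [Subgroup.closure_le]
  rintro g ⟨hg, ho⟩
  have hmem := Subgroup.pow_index_mem (N.subgroupOf K) (⟨g, hg⟩ : K)
  have hidx' : (N.subgroupOf K).index = 2 ^ t := hidxt
  rw [hidx', Subgroup.mem_subgroupOf] at hmem
  have hgN : g ^ (2 ^ t) ∈ N := by simpa using hmem
  have hcop : Nat.Coprime (2 ^ t) (orderOf g) :=
    Nat.Coprime.pow_left t (Nat.coprime_two_left.mpr ho)
  obtain ⟨m, hm⟩ := exists_pow_eq_self_of_coprime hcop
  rw [SetLike.mem_coe, ← hm]; exact N.pow_mem hgN m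

end Cfsg.Agent.Lib.Helper17.JComp
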