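import Mathlib
import Cfsg.Prelude.Def_JComponents
import Cfsg.Agent.Lib.Helper17.JComp
import Cfsg.Agent.Lib.Helper17.BBlock
import Cfsg.Agent.Lib.Helper17.CharP

set_option autoImplicit false

/-! Transport of `J(T)`-components along automorphisms of the ambient group. -/

namespace Cfsg.Agent.Lib.Helper17.JMap

open Cfsg Cfsg.Agent.Lib.Helper17 Cfsg.Agent.Lib.Helper27
open scoped commutatorElement

variable {G : Type*} [Group G]

theorem map_symm_map (e : G ≃* G) (X : Subgroup G) :
    (X.map e.symm.toMonoidHom).map e.toMonoidHom = X := by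
  rw [Subgroup.map_map]
  have : e.toMonoidHom.comp e.symm.toMonoidHom = MonoidHom.id G := by
    ext x; simp
  rw [this, Subgroup.map_id]

theorem map_map_symm (e : G ≃* G) (X : Subgroup G) :
    (X.map e.toMonoidHom).map e.symm.toMonoidHom = X := by
  rw [Subgroup.map_map]
  have : e.symm.toMonoidHom.comp e.toMonoidHom = MonoidHom.id G := by
    ext x; simp
  rw [this, Subgroup.map_id]

theorem pCoreOf_map_le [Finite G] (e : G ≃* G) (K : Subgroup G) :
    (pCoreOf 2 K).map e.toMonoidHom ≤ pCoreOf 2 (K.map e.toMonoidHom) := by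
  have hXK : (pCoreOf 2 K).map e.toMonoidHom ≤ K.map e.toMonoidHom :=
    Subgroup.map_mono (JComp.pCoreOf_le K)
  have hXp : IsPGroup 2 ((pCoreOf 2 K).map e.toMonoidHom : Subgroup G) :=
    (JComp.pCoreOf_isPGroup K).map e.toMonoidHom
  have hXn : K.map e.toMonoidHom ≤
      Subgroup.normalizer (((pCoreOf 2 K).map e.toMonoidHom : Subgroup G) : Set G) :=
    (Subgroup.map_mono (Cfsg.Agent.Lib.Helper17.le_normalizer_pCoreOf (p := 2) K)).trans
      (Subgroup.le_normalizer_map _)
  have h := subgroupOf_le_pCore (p := 2) hXn hXp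
  intro x hx
  have hx' : x ∈ K.map e.toMonoidHom := hXK hx
  exact (JComp.mem_pCoreOf_iff hx').mpr (h (Subgroup.mem_subgroupOf.mpr hx))

theorem pCoreOf_map_equiv [Finite G] (e : G ≃* G) (K : Subgroup G) :
    pCoreOf 2 (K.map e.toMonoidHom) = (pCoreOf 2 K).map e.toMonoidHom := by
  apply le_antisymm
  · have h := pCoreOf_map_le e.symm (K.map e.toMonoidHom)
    rw [map_map_symm] at h
    have h2 := Subgroup.map_mono (f := e.toMonoidHom) h
    rwa [map_symm_map] at h2
  · exact pCoreOf_map_le e K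

theorem wOf_map_equiv [Finite G] (e : G ≃* G) (K : Subgroup G) :
    wOf (K.map e.toMonoidHom) = (wOf K).map e.toMonoidHom := by
  unfold wOf omegaCenterOf
  rw [pCoreOf_map_equiv, BBlock.centralizer_map_equiv, ← Subgroup.map_inf _ _ _ e.injective,
    BBlock.omegaOne_map_equiv, ← Subgroup.map_commutator]

theorem isSylowTwoIn_map (e : G ≃* G) {S L : Subgroup G} (h : IsSylowTwoIn S L) :
    IsSylowTwoIn (S.map e.toMonoidHom) (L.map e.toMonoidHom) := by
  refine ⟨Subgroup.map_mono h.1, h.2.1.map _, ?_⟩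
  rw [Subgroup.relIndex_map_map_of_injective _ _ e.injective]
  exact h.2.2

/-- `IsJComponent T K` depends on `T` only through `J(T)`. -/
theorem isJComponent_of_thompson_eq {T T' K : Subgroup G}
    (h : thompsonSubgroupOf 2 T' = thompsonSubgroupOf 2 T) (hK : IsJComponent T K) :
    IsJComponent T' K := by
  unfold IsJComponent at *
  rw [h]
  exact hK

/-- Transport of a `J(T)`-component along an automorphism. -/
theorem isJComponent_map [Finite G] (e : G ≃* G) {T K : Subgroup G} (hK : IsJComponent T K) :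
    IsJComponent (T.map e.toMonoidHom) (K.map e.toMonoidHom) := by
  have hJ : thompsonSubgroupOf 2 (T.map e.toMonoidHom) =
      (thompsonSubgroupOf 2 T).map e.toMonoidHom := thompsonSubgroupOf_map 2 e T
  unfold IsJComponent
  rw [hJ]
  refine ⟨?_, ?_, ?_, ?_, ?_, ?_⟩
  · have hset : {g : G | g ∈ K.map e.toMonoidHom ∧ Odd (orderOf g)} =
        e.toMonoidHom '' {g : G | g ∈ K ∧ Odd (orderOf g)} := by
      ext x
      constructor
      · rintro ⟨⟨y, hy, rfl⟩, ho⟩
        refine ⟨y, ⟨hy, ?_⟩, rfl⟩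
        have : orderOf (e.toMonoidHom y) = orderOf y := e.orderOf_eq y
        rwa [this] at ho
      · rintro ⟨y, ⟨hy, ho⟩, rfl⟩
        refine ⟨⟨y, hy, rfl⟩, ?_⟩
        have : orderOf (e.toMonoidHom y) = orderOf y := e.orderOf_eq y
        rwa [this]
    rw [hset, ← MonoidHom.map_closure, hK.1]
  · rw [← Subgroup.map_commutator, hK.2.1]
  · rw [pCoreOf_map_equiv, Subgroup.relIndex_map_map_of_injective _ _ e.injective]
    exact hK.2.2.1
  · intro S hS hJS
    have hS' : IsSylowTwoIn (S.map e.symm.toMonoidHom) (K ⊔ thompsonSubgroupOf 2 T) := by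
      have := isSylowTwoIn_map e.symm hS
      rwa [Subgroup.map_sup, map_map_symm, map_map_symm] at this
    have hJ' : thompsonSubgroupOf 2 T ≤ S.map e.symm.toMonoidHom := by
      have := Subgroup.map_mono (f := e.symm.toMonoidHom) hJS
      rwa [map_map_symm] at this
    have h4 := hK.2.2.2.1 _ hS' hJ'
    calc thompsonSubgroupOf 2 S
        = thompsonSubgroupOf 2 ((S.map e.symm.toMonoidHom).map e.toMonoidHom) := by
          rw [map_symm_map]
      _ = (thompsonSubgroupOf 2 (S.map e.symm.toMonoidHom)).map e.toMonoidHom :=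
          thompsonSubgroupOf_map 2 e _
      _ = _ := by rw [h4]
  · rw [wOf_map_equiv, card_map_equiv]
    exact hK.2.2.2.2.1
  · rw [wOf_map_equiv]
    rintro _ ⟨w, hw, rfl⟩
    rw [← map_mul, hK.2.2.2.2.2 w hw, map_one]

end Cfsg.Agent.Lib.Helper17.JMap
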