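import Mathlib
import Cfsg.Prelude.Def_JComponents
import Cfsg.Agent.Lib.Helper17.JComp
import Cfsg.Agent.Lib.Helper20.FFBridge
import Cfsg.Agent.Lib.Helper25.PSolv
import Cfsg.Agent.S0600
import Cfsg.Agent.S0601
import Cfsg.Agent.S0617

set_option autoImplicit false

namespace Cfsg.Agent.Lib.Helper17.JStruct

open Cfsg Cfsg.Agent.Lib.Helper17 Cfsg.Agent.Lib.Helper27 Cfsg.Agent.Lib.Helper17.JComp
open scoped commutatorElement

/-! ### Odd-order elements in a direct product of copies of `SL₂(2)` -/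

section OddElements

variable {𝔾 : Type*} [Group 𝔾]

theorem sl2_card : Nat.card (Matrix.SpecialLinearGroup (Fin 2) (ZMod 2)) = 6 := by
  rw [Nat.card_eq_fintype_card]; decide

theorem sl2_comm : ∀ x y : Matrix.SpecialLinearGroup (Fin 2) (ZMod 2),
    x ^ 3 = 1 → y ^ 3 = 1 → x * y = y * x := by decide

theorem sl2_cube {x : Matrix.SpecialLinearGroup (Fin 2) (ZMod 2)} (hx : Odd (orderOf x)) :
    x ^ 3 = 1 := by
  have h1 : orderOf x ∣ 6 := by
    have := orderOf_dvd_natCard x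
    rwa [sl2_card] at this
  have h2 : orderOf x ∣ 3 := by
    have hcop : Nat.Coprime (orderOf x) 2 := Nat.coprime_two_right.mpr hx
    have : orderOf x ∣ 2 * 3 := h1
    exact hcop.dvd_of_dvd_mul_left this
  exact orderOf_dvd_iff_pow_eq_one.mp h2

theorem odd_elements_aux {ι : Type*} [Finite ι] (E : ι → Subgroup 𝔾) (H : Subgroup 𝔾)
    (hnorm : ∀ i, H ≤ Subgroup.normalizer ((E i : Subgroup 𝔾) : Set 𝔾))
    (hiso : ∀ i, Nonempty (↥(E i) ≃* Matrix.SpecialLinearGroup (Fin 2) (ZMod 2)))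
    (hind : iSupIndep E) (hsup : ⨆ i, E i = H) :
    (∀ h ∈ H, Odd (orderOf h) → h ^ 3 = 1) ∧
      (∀ h ∈ H, ∀ h' ∈ H, Odd (orderOf h) → Odd (orderOf h') → h * h' = h' * h) := by
  classical
  have := Fintype.ofFinite ι
  have hEH : ∀ i, E i ≤ H := fun i => hsup ▸ le_iSup E i
  have hcomm : Pairwise fun i j : ι => ∀ x y : 𝔾, x ∈ E i → y ∈ E j → Commute x y := by
    intro i j hij x y hx hy
    have hdisj : E i ⊓ E j = ⊥ := (hind.pairwiseDisjoint hij).eq_bot
    have h1 : x * y * x⁻¹ * y⁻¹ ∈ E j :=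
      (E j).mul_mem ((Subgroup.mem_normalizer_iff.mp (hnorm j (hEH i hx)) y).mp hy)
        ((E j).inv_mem hy)
    have h2 : x * y * x⁻¹ * y⁻¹ ∈ E i := by
      have : x * y * x⁻¹ * y⁻¹ = x * (y * x⁻¹ * y⁻¹) := by group
      rw [this]
      exact (E i).mul_mem hx
        ((Subgroup.mem_normalizer_iff.mp (hnorm i (hEH j hy)) x⁻¹).mp ((E i).inv_mem hx))
    have h3 : x * y * x⁻¹ * y⁻¹ ∈ E i ⊓ E j := ⟨h2, h1⟩
    rw [hdisj, Subgroup.mem_bot] at h3
    show x * y = y * x
    calc x * y = (x * y * x⁻¹ * y⁻¹) * y * x := by group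
      _ = y * x := by rw [h3, one_mul]
  have hinj := Subgroup.injective_noncommPiCoprod_of_iSupIndep (hcomm := hcomm) hind
  have hrange : (Subgroup.noncommPiCoprod hcomm).range = H := by
    rw [Subgroup.noncommPiCoprod_range, hsup]
  have e : ∀ i, ↥(E i) ≃* Matrix.SpecialLinearGroup (Fin 2) (ZMod 2) := fun i => (hiso i).some
  have key : ∀ h ∈ H, Odd (orderOf h) →
      ∃ f : (∀ i, ↥(E i)), Subgroup.noncommPiCoprod hcomm f = h ∧ ∀ i, (f i) ^ 3 = 1 := by
    intro h hh ho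
    rw [← hrange] at hh
    obtain ⟨f, rfl⟩ := hh
    refine ⟨f, rfl, fun i => ?_⟩
    have hof : orderOf f = orderOf (Subgroup.noncommPiCoprod hcomm f) :=
      (orderOf_injective _ hinj f).symm
    have h1 : orderOf (f i) ∣ orderOf f := by
      apply orderOf_dvd_of_pow_eq_one
      have := congrFun (pow_orderOf_eq_one f) i
      simpa using this
    have ho' : Odd (orderOf (e i (f i))) := by
      rw [MulEquiv.orderOf_eq]
      rw [← hof] at ho
      exact Odd.of_dvd_nat ho h1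
    have h2 := sl2_cube ho'
    rw [← map_pow] at h2
    exact (e i).injective (by rw [h2, map_one])
  constructor
  · intro h hh ho
    obtain ⟨f, rfl, hf⟩ := key h hh ho
    rw [← map_pow]
    have : f ^ 3 = 1 := by
      funext i
      simpa using hf i
    rw [this, map_one]
  · intro h hh h' hh' ho ho'
    obtain ⟨f, rfl, hf⟩ := key h hh ho
    obtain ⟨f', rfl, hf'⟩ := key h' hh' ho'
    rw [← map_mul, ← map_mul]
    congr 1
    funext i
    show f i * f' i = f' i * f i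
    apply (e i).injective
    rw [map_mul, map_mul]
    apply sl2_comm
    · rw [← map_pow, hf i, map_one]
    · rw [← map_pow, hf' i, map_one]

/-- In the situation of the structure theorem for failure of factorization (with `p = 2`),
elements of odd order of `H` have cube `1` and commute pairwise. -/
theorem odd_elements [Finite 𝔾] (V H : Subgroup 𝔾) (hV : Cfsg.IsElementaryAbelian 2 V)
    (hHV : H ≤ Subgroup.normalizer (V : Set 𝔾))
    (hf : H ⊓ Subgroup.centralizer (V : Set 𝔾) = ⊥)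
    (hS1 : Subgroup.centralizer (Cfsg.pPrimeCore 2 ↥H : Set ↥H) ≤ Cfsg.pPrimeCore 2 ↥H)
    (hS3 : H = ⨆ A : {A : Subgroup 𝔾 // A ≤ H ∧ Cfsg.IsBestOffenderOn 2 V A}, (A : Subgroup 𝔾)) :
    (∀ h ∈ H, Odd (orderOf h) → h ^ 3 = 1) ∧
      (∀ h ∈ H, ∀ h' ∈ H, Odd (orderOf h) → Odd (orderOf h') → h * h' = h' * h) := by
  by_cases hH1 : H = ⊥
  · subst hH1
    constructor
    · intro h hh _
      rw [Subgroup.mem_bot] at hh
      rw [hh, one_pow]
    · intro h hh h' hh' _ _
      rw [Subgroup.mem_bot] at hh hh'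
      rw [hh, hh']
  · obtain ⟨-, hE, hind, hsup, -, -⟩ :=
      Cfsg.Agent.S0617.result (p := 2) V H hV hHV hf hS1 hS3 hH1
    refine odd_elements_aux _ H ?_ ?_ hind hsup
    · exact fun E => (hE E).1
    · exact fun E => (hE E).2.1

end OddElements

variable {G : Type*} [Group G]

/-! ### Sylow-type lemmas for `IsSylowTwoIn` -/

theorem le_of_isSylowTwoIn [Finite G] {T L M : Subgroup G} (hS : IsSylowTwoIn T L) (hTM : T ≤ M)
    (hML : M ≤ L) (hM : IsPGroup 2 M) : M ≤ T := by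
  have h1 := Subgroup.relIndex_mul_relIndex T M L hTM hML
  have hodd : Odd (T.relIndex M) := by
    have := hS.2.2
    rw [← h1] at this
    exact (Nat.odd_mul.mp this).1
  have hdvd : T.relIndex M ∣ Nat.card M := Subgroup.relIndex_dvd_card T M
  obtain ⟨k, hk⟩ := IsPGroup.iff_card.mp hM
  rw [hk] at hdvd
  obtain ⟨j, _, hj⟩ := (Nat.dvd_prime_pow Nat.prime_two).mp hdvd
  have h2 : T.relIndex M = 1 := by
    rw [hj] at hodd ⊢
    rcases j with _ | j
    · rfl
    · exfalso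
      rw [pow_succ] at hodd
      exact (Nat.not_even_iff_odd.mpr hodd) (even_two.mul_left _)
  exact Subgroup.relIndex_eq_one.mp h2

theorem le_normalizer_map_subtype [Finite G] {L : Subgroup G} (N : Subgroup ↥L) [hN : N.Normal] :
    L ≤ Subgroup.normalizer ((N.map L.subtype : Subgroup G) : Set G) := by
  intro l hl
  apply mem_normalizer_of_map_conj_le
  rintro _ ⟨_, ⟨y, hy, rfl⟩, rfl⟩
  simp only [MulEquiv.coe_toMonoidHom, MulAut.conj_apply, Subgroup.coe_subtype]
  exact ⟨(⟨l, hl⟩ : L) * y * (⟨l, hl⟩ : L)⁻¹, hN.conj_mem y hy _, by simp⟩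

theorem le_normalizer_pCoreOf [Finite G] (L : Subgroup G) :
    L ≤ Subgroup.normalizer ((pCoreOf 2 L : Subgroup G) : Set G) :=
  le_normalizer_map_subtype (pCore 2 ↥L)

theorem pCoreOf_le_of_isSylowTwoIn [Finite G] {T L : Subgroup G} (hS : IsSylowTwoIn T L) :
    pCoreOf 2 L ≤ T := by
  have hM : IsPGroup 2 (pCoreOf 2 L ⊔ T : Subgroup G) :=
    IsPGroup.to_sup_of_normal_left' (pCoreOf_isPGroup L) hS.2.1
      (hS.1.trans (le_normalizer_pCoreOf L))
  exact le_sup_left.trans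
    (le_of_isSylowTwoIn hS le_sup_right (sup_le (pCoreOf_le L) hS.1) hM)

theorem pCoreOf_ne_bot [Finite G] {T L : Subgroup G} (hLT : L ∈ jOvergroups T) :
    pCoreOf 2 L ≠ ⊥ := by
  intro h
  apply hLT.2.1
  have hC := hLT.2.2
  rw [h] at hC ⊢
  have htop : (⊤ : Subgroup G) ≤ ⊥ := by
    refine le_trans ?_ hC
    intro x _
    rw [Subgroup.mem_centralizer_iff]
    intro y hy
    rw [SetLike.mem_coe, Subgroup.mem_bot] at hy
    rw [hy]; simp
  exact le_trans le_top htop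

theorem solvable_of_mem_jOvergroups [Finite G]
    (hN : ∀ N : Subgroup G, IsTwoLocal N → Group.IsSolvable ↥N) {T L : Subgroup G}
    (hLT : L ∈ jOvergroups T) : Group.IsSolvable ↥L := by
  have hNQ := le_normalizer_pCoreOf L
  have := hN _ ⟨pCoreOf 2 L, pCoreOf_isPGroup L, pCoreOf_ne_bot hLT, rfl⟩
  exact solvable_of_solvable_injective (Subgroup.inclusion_injective hNQ)

/-- `C_L(Ω₁Z(T)) ≤ N_L(T)`. -/
theorem inf_centralizer_le_normalizer [Finite G]
    (hZ : ∀ S : Sylow 2 G, Subgroup.centralizer (omegaCenterOf (S : Subgroup G) : Set G) ≤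
      Subgroup.normalizer ((S : Subgroup G) : Set G))
    {T L : Subgroup G} (hLT : L ∈ jOvergroups T) :
    L ⊓ Subgroup.centralizer (omegaCenterOf T : Set G) ≤ Subgroup.normalizer (T : Set G) := by
  obtain ⟨hS, -, hC⟩ := hLT
  obtain ⟨S, hTS⟩ := hS.2.1.exists_le_sylow
  have hQT := pCoreOf_le_of_isSylowTwoIn hS
  have hle : omegaCenterOf (S : Subgroup G) ≤ omegaCenterOf T := by
    unfold omegaCenterOf omegaOne
    apply Subgroup.closure_mono
    rintro x ⟨hx, hx2⟩
    rw [Subgroup.mem_inf] at hx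
    have hxQ : x ∈ pCoreOf 2 L :=
      hC (Subgroup.centralizer_le (SetLike.coe_subset_coe.mpr (hQT.trans hTS)) hx.2)
    exact ⟨⟨hQT hxQ, Subgroup.centralizer_le (SetLike.coe_subset_coe.mpr hTS) hx.2⟩, hx2⟩
  have hST : (S : Subgroup G) ⊓ L = T := by
    apply le_antisymm
    · exact le_of_isSylowTwoIn hS (le_inf hTS hS.1) inf_le_right (S.2.to_le inf_le_left)
    · exact le_inf hTS hS.1
  intro c hc
  rw [Subgroup.mem_inf] at hc
  have hcS : c ∈ Subgroup.normalizer ((S : Subgroup G) : Set G) :=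
    hZ S (Subgroup.centralizer_le (SetLike.coe_subset_coe.mpr hle) hc.2)
  rw [← hST]
  exact mem_normalizer_inf hcS (Subgroup.le_normalizer hc.1)

/-- A `2`-element of `N_L(T)` lies in `T`. -/
theorem mem_of_two_pow [Finite G] {T L : Subgroup G} (hS : IsSylowTwoIn T L) {c : G}
    (hcL : c ∈ L) (hcN : c ∈ Subgroup.normalizer (T : Set G)) {k : ℕ} (hk : c ^ (2 ^ k) = 1) :
    c ∈ T := by
  have hz : IsPGroup 2 (Subgroup.zpowers c) := by
    rintro ⟨y, hy⟩
    obtain ⟨i, rfl⟩ := Subgroup.mem_zpowers_iff.mp hy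
    refine ⟨k, Subtype.ext ?_⟩
    simp only [Subgroup.coe_pow, Subgroup.coe_one]
    rw [← zpow_natCast, ← zpow_mul, mul_comm, zpow_mul, zpow_natCast, hk, one_zpow]
  have hM : IsPGroup 2 (Subgroup.zpowers c ⊔ T : Subgroup G) :=
    IsPGroup.to_sup_of_normal_right' hz hS.2.1 (Subgroup.zpowers_le.mpr hcN)
  have := le_of_isSylowTwoIn hS le_sup_right (sup_le (Subgroup.zpowers_le.mpr hcL) hS.1) hM
  exact this (Subgroup.mem_sup_left (Subgroup.mem_zpowers c))

/-- The Sylow `2`-subgroup of `↥L` attached to `T`. -/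
noncomputable def sylowOf {T L : Subgroup G} (hS : IsSylowTwoIn T L) : Sylow 2 ↥L :=
  (show IsPGroup 2 (T.subgroupOf L) from hS.2.1.comap_subtype).toSylow (by
    have : Odd ((T.subgroupOf L).index) := hS.2.2
    rw [← Nat.not_even_iff_odd, even_iff_two_dvd] at this
    exact this)

theorem coe_sylowOf {T L : Subgroup G} (hS : IsSylowTwoIn T L) :
    ((sylowOf hS : Sylow 2 ↥L) : Subgroup ↥L) = T.subgroupOf L := rfl

theorem exists_conj_le [Finite G] {T L P : Subgroup G} (hS : IsSylowTwoIn T L) (hPL : P ≤ L)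
    (hP : IsPGroup 2 P) : ∃ l ∈ L, P.map (MulAut.conj l).toMonoidHom ≤ T := by
  obtain ⟨P₁, hP₁⟩ :=
    (show IsPGroup 2 (P.subgroupOf L) from hP.comap_subtype).exists_le_sylow
  obtain ⟨g, hg⟩ := MulAction.exists_smul_eq ↥L P₁ (sylowOf hS)
  refine ⟨g.1, g.2, ?_⟩
  rintro _ ⟨x, hx, rfl⟩
  simp only [MulEquiv.coe_toMonoidHom, MulAut.conj_apply]
  have hxP₁ : (⟨x, hPL hx⟩ : L) ∈ (P₁ : Subgroup ↥L) := hP₁ hx
  have hmem : g * (⟨x, hPL hx⟩ : L) * g⁻¹ ∈ ((sylowOf hS : Sylow 2 ↥L) : Subgroup ↥L) := by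
    rw [← hg, Sylow.coe_subgroup_smul, Subgroup.mem_pointwise_smul_iff_inv_smul_mem]
    simp only [MulAut.smul_def, map_inv, MulAut.inv_apply, MulAut.conj_symm_apply]
    have : g⁻¹ * (g * (⟨x, hPL hx⟩ : L) * g⁻¹) * g = (⟨x, hPL hx⟩ : L) := by group
    rw [this]; exact hxP₁
  rw [coe_sylowOf, Subgroup.mem_subgroupOf] at hmem
  simpa using hmem

theorem le_normalizer_thompson [Finite G] (T : Subgroup G) :
    T ≤ Subgroup.normalizer ((thompsonSubgroupOf 2 T : Subgroup G) : Set G) := by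
  intro s hs
  apply mem_normalizer_of_map_conj_eq
  have h1 : T.map (MulAut.conj s).toMonoidHom = T :=
    map_conj_eq_of_mem_normalizer (Subgroup.le_normalizer hs)
  have h2 := thompsonSubgroupOf_map 2 (MulAut.conj s) T
  rw [h1] at h2
  exact h2.symm

/-- `J(T) ≤ J(L)` when `T` is a Sylow `2`-subgroup of `L`. -/
theorem thompson_le_thompson [Finite G] {T L : Subgroup G} (hS : IsSylowTwoIn T L) :
    thompsonSubgroupOf 2 T ≤ thompsonSubgroupOf 2 L := by
  rw [thompsonSubgroupOf_eq, thompsonSubgroupOf_eq]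
  apply sSup_le
  intro B hB
  apply le_sSup
  refine ⟨hB.1.trans hS.1, hB.2.1, fun C hC hCe => ?_⟩
  have hC2 : IsPGroup 2 C := Cfsg.H5.isPGroup_of_isElementaryAbelian hCe
  obtain ⟨l, -, hl⟩ := exists_conj_le hS hC hC2
  have := hB.2.2 _ hl ((ea_map_equiv_iff 2 (MulAut.conj l) C).mpr hCe)
  rwa [card_map_equiv] at this

/-! ### The subgroups `V` and `C = C_L(V)` -/

/-- `V = ⟨Ω₁Z(S) : S ∈ Syl₂(L)⟩` inside `↥L`. -/
def VΛ (L : Subgroup G) : Subgroup ↥L :=
  ⨆ S : Sylow 2 ↥L, omegaOne 2 ((S : Subgroup ↥L) ⊓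
    Subgroup.centralizer ((S : Subgroup ↥L) : Set ↥L))

/-- `C_L(V)` as a subgroup of `G`. -/
def CG (L : Subgroup G) : Subgroup G :=
  (Subgroup.centralizer ((VΛ L : Subgroup ↥L) : Set ↥L)).map L.subtype

theorem pCore_char_two [Finite G] {T L : Subgroup G} (hLT : L ∈ jOvergroups T) :
    Subgroup.centralizer (pCore 2 ↥L : Set ↥L) ≤ pCore 2 ↥L := by
  intro y hy
  have : (y : G) ∈ pCoreOf 2 L := by
    apply hLT.2.2
    rw [Subgroup.mem_centralizer_iff]
    rintro _ ⟨q, hq, rfl⟩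
    have := (Subgroup.mem_centralizer_iff.mp hy) q hq
    exact congrArg Subtype.val this
  exact (mem_pCoreOf_iff y.2).mp this

theorem VΛ_normal [Finite G] {T L : Subgroup G} (hLT : L ∈ jOvergroups T) : (VΛ L).Normal :=
  (Cfsg.Agent.S0601.result (G := ↥L) (p := 2) (pCore_char_two hLT)).1

theorem VΛ_ea [Finite G] {T L : Subgroup G} (hLT : L ∈ jOvergroups T) :
    IsElementaryAbelian 2 (VΛ L) :=
  (Cfsg.Agent.S0601.result (G := ↥L) (p := 2) (pCore_char_two hLT)).2.1

theorem CG_le (L : Subgroup G) : CG L ≤ L := Subgroup.map_subtype_le _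

theorem mem_CG_iff {L : Subgroup G} {c : G} (hc : c ∈ L) :
    c ∈ CG L ↔ (⟨c, hc⟩ : L) ∈ Subgroup.centralizer ((VΛ L : Subgroup ↥L) : Set ↥L) := by
  constructor
  · rintro ⟨y, hy, rfl⟩
    exact hy
  · intro h
    exact ⟨_, h, rfl⟩

theorem centralizer_VΛ_normal [Finite G] {T L : Subgroup G} (hLT : L ∈ jOvergroups T) :
    (Subgroup.centralizer ((VΛ L : Subgroup ↥L) : Set ↥L)).Normal := by
  have := VΛ_normal hLT
  rw [← Cfsg.Agent.Lib.Helper20.FFB.ker_psi (VΛ L)]
  exact MonoidHom.normal_ker _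

theorem le_normalizer_CG [Finite G] {T L : Subgroup G} (hLT : L ∈ jOvergroups T) :
    L ≤ Subgroup.normalizer ((CG L : Subgroup G) : Set G) := by
  have := centralizer_VΛ_normal hLT
  exact le_normalizer_map_subtype _

/-- `Ω₁Z(T) ≤ V`, in the form: elements of `C_L(V)` centralize `Ω₁Z(T)`. -/
theorem CG_le_centralizer_omega [Finite G] {T L : Subgroup G} (hLT : L ∈ jOvergroups T) :
    CG L ≤ Subgroup.centralizer (omegaCenterOf T : Set G) := by
  have hS := hLT.1
  rw [Subgroup.le_centralizer_iff]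
  unfold omegaCenterOf omegaOne
  rw [Subgroup.closure_le]
  rintro x ⟨hx, hx2⟩
  rw [Subgroup.mem_inf] at hx
  have hxL : x ∈ L := hS.1 hx.1
  have hxV : (⟨x, hxL⟩ : L) ∈ VΛ L := by
    have h1 : (⟨x, hxL⟩ : L) ∈ omegaOne 2 (((sylowOf hS : Sylow 2 ↥L) : Subgroup ↥L) ⊓
        Subgroup.centralizer (((sylowOf hS : Sylow 2 ↥L) : Subgroup ↥L) : Set ↥L)) := by
      apply Subgroup.subset_closure
      refine ⟨⟨?_, ?_⟩, ?_⟩
      · show (⟨x, hxL⟩ : L) ∈ ((sylowOf hS : Sylow 2 ↥L) : Subgroup ↥L)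
        rw [coe_sylowOf, Subgroup.mem_subgroupOf]
        exact hx.1
      · show (⟨x, hxL⟩ : L) ∈ Subgroup.centralizer
          (((sylowOf hS : Sylow 2 ↥L) : Subgroup ↥L) : Set ↥L)
        rw [Subgroup.mem_centralizer_iff]
        intro y hy
        rw [SetLike.mem_coe, coe_sylowOf, Subgroup.mem_subgroupOf] at hy
        apply Subtype.ext
        exact (Subgroup.mem_centralizer_iff.mp hx.2) y hy
      · apply Subtype.ext
        simpa using hx2
    exact (le_iSup (fun S : Sylow 2 ↥L => omegaOne 2 ((S : Subgroup ↥L) ⊓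
      Subgroup.centralizer ((S : Subgroup ↥L) : Set ↥L))) (sylowOf hS)) h1
  rw [SetLike.mem_coe, Subgroup.mem_centralizer_iff]
  rintro _ ⟨c, hc, rfl⟩
  have := (Subgroup.mem_centralizer_iff.mp hc) _ hxV
  have h2 := congrArg Subtype.val this
  simp only [Subgroup.coe_mul] at h2
  exact h2.symm

theorem CG_le_normalizer [Finite G]
    (hZ : ∀ S : Sylow 2 G, Subgroup.centralizer (omegaCenterOf (S : Subgroup G) : Set G) ≤
      Subgroup.normalizer ((S : Subgroup G) : Set G))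
    {T L : Subgroup G} (hLT : L ∈ jOvergroups T) :
    CG L ≤ Subgroup.normalizer (T : Set G) :=
  (le_inf (CG_le L) (CG_le_centralizer_omega hLT)).trans (inf_centralizer_le_normalizer hZ hLT)

/-- `C_T(V) ≤ O₂(L)`. -/
theorem CG_inf_le_pCoreOf [Finite G]
    (hZ : ∀ S : Sylow 2 G, Subgroup.centralizer (omegaCenterOf (S : Subgroup G) : Set G) ≤
      Subgroup.normalizer ((S : Subgroup G) : Set G))
    {T L : Subgroup G} (hLT : L ∈ jOvergroups T) : CG L ⊓ T ≤ pCoreOf 2 L := by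
  have hS := hLT.1
  have hnorm : L ≤ Subgroup.normalizer ((CG L ⊓ T : Subgroup G) : Set G) := by
    intro l hl
    apply mem_normalizer_of_map_conj_le
    rintro _ ⟨x, hx, rfl⟩
    simp only [MulEquiv.coe_toMonoidHom, MulAut.conj_apply]
    rw [SetLike.mem_coe, Subgroup.mem_inf] at hx
    have h1 : l * x * l⁻¹ ∈ CG L :=
      (Subgroup.mem_normalizer_iff.mp (le_normalizer_CG hLT hl) x).mp hx.1
    refine ⟨h1, ?_⟩
    obtain ⟨k, hk⟩ := hS.2.1 ⟨x, hx.2⟩
    have hk' : x ^ (2 ^ k) = 1 := by simpa using congrArg Subtype.val hk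
    refine mem_of_two_pow hS (CG_le L h1) (CG_le_normalizer hZ hLT h1) (k := k) ?_
    rw [conj_pow, hk']; group
  have h2 : IsPGroup 2 (CG L ⊓ T : Subgroup G) := hS.2.1.to_le inf_le_right
  have h3 := subgroupOf_le_pCore (p := 2) hnorm h2
  intro x hx
  have hxL : x ∈ L := hS.1 hx.2
  have : (⟨x, hxL⟩ : L) ∈ (CG L ⊓ T).subgroupOf L := by
    rw [Subgroup.mem_subgroupOf]; exact hx
  exact (mem_pCoreOf_iff hxL).mpr (h3 this)

theorem commutator_CG_mem [Finite G]
    (hZ : ∀ S : Sylow 2 G, Subgroup.centralizer (omegaCenterOf (S : Subgroup G) : Set G) ≤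
      Subgroup.normalizer ((S : Subgroup G) : Set G))
    {T L : Subgroup G} (hLT : L ∈ jOvergroups T) {c t : G} (hc : c ∈ CG L) (ht : t ∈ T) :
    ⁅c, t⁆ ∈ pCoreOf 2 L := by
  apply CG_inf_le_pCoreOf hZ hLT
  constructor
  · have : ⁅c, t⁆ = c * (t * c⁻¹ * t⁻¹) := by rw [commutatorElement_def]; group
    rw [this]
    exact (CG L).mul_mem hc ((Subgroup.mem_normalizer_iff.mp
      (le_normalizer_CG hLT (hLT.1.1 ht)) c⁻¹).mp ((CG L).inv_mem hc))
  · rw [commutatorElement_def]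
    exact T.mul_mem ((Subgroup.mem_normalizer_iff.mp (CG_le_normalizer hZ hLT hc) t).mp ht)
      (T.inv_mem ht)

/-- `T` acts trivially on `C_L(V)/O₂(L)`. -/
theorem le_chainStab [Finite G]
    (hZ : ∀ S : Sylow 2 G, Subgroup.centralizer (omegaCenterOf (S : Subgroup G) : Set G) ≤
      Subgroup.normalizer ((S : Subgroup G) : Set G))
    {T L : Subgroup G} (hLT : L ∈ jOvergroups T) : T ≤ chainStab (CG L) (pCoreOf 2 L) := by
  intro t ht
  exact ⟨le_normalizer_CG hLT (hLT.1.1 ht), le_normalizer_pCoreOf L (hLT.1.1 ht),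
    fun u hu => commutator_CG_mem hZ hLT hu ht⟩

/-- A `J(T)`-component of `L` acts trivially on `C_L(V)/O₂(L)`. -/
theorem component_le_chainStab [Finite G]
    (hZ : ∀ S : Sylow 2 G, Subgroup.centralizer (omegaCenterOf (S : Subgroup G) : Set G) ≤
      Subgroup.normalizer ((S : Subgroup G) : Set G))
    {T L K : Subgroup G} (hLT : L ∈ jOvergroups T) (hK : IsJComponent T K) (hKL : K ≤ L) :
    K ≤ chainStab (CG L) (pCoreOf 2 L) := by
  conv_lhs => rw [← hK.2.1]
  rw [Subgroup.commutator_le]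
  intro k hk j hj
  have hjT : j ∈ T := thompsonSubgroupOf_le 2 T hj
  have hjY := le_chainStab hZ hLT hjT
  have hkL := hKL hk
  have h1 := conj_mem_chainStab (le_normalizer_CG hLT hkL) (le_normalizer_pCoreOf L hkL) hjY
  rw [commutatorElement_def]
  exact Subgroup.mul_mem _ h1 (Subgroup.inv_mem _ hjY)

theorem commutator_CG_component_mem [Finite G]
    (hZ : ∀ S : Sylow 2 G, Subgroup.centralizer (omegaCenterOf (S : Subgroup G) : Set G) ≤
      Subgroup.normalizer ((S : Subgroup G) : Set G))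
    {T L K : Subgroup G} (hLT : L ∈ jOvergroups T) (hK : IsJComponent T K) (hKL : K ≤ L)
    {c k : G} (hc : c ∈ CG L) (hk : k ∈ K) : ⁅c, k⁆ ∈ pCoreOf 2 L :=
  (component_le_chainStab hZ hLT hK hKL hk).2.2 c hc

/-- `C_L(V)` normalizes `K O₂(L)`. -/
theorem CG_le_normalizer_sup [Finite G]
    (hZ : ∀ S : Sylow 2 G, Subgroup.centralizer (omegaCenterOf (S : Subgroup G) : Set G) ≤
      Subgroup.normalizer ((S : Subgroup G) : Set G))
    {T L K : Subgroup G} (hLT : L ∈ jOvergroups T) (hK : IsJComponent T K) (hKL : K ≤ L) :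
    CG L ≤ Subgroup.normalizer ((K ⊔ pCoreOf 2 L : Subgroup G) : Set G) := by
  intro c hc
  apply mem_normalizer_of_map_conj_le
  rw [Subgroup.map_sup]
  apply sup_le
  · rintro _ ⟨k, hk, rfl⟩
    simp only [MulEquiv.coe_toMonoidHom, MulAut.conj_apply]
    have h1 := commutator_CG_component_mem hZ hLT hK hKL hc hk
    have : c * k * c⁻¹ = ⁅c, k⁆ * k := by rw [commutatorElement_def]; group
    rw [this]
    exact Subgroup.mul_mem _ (Subgroup.mem_sup_right h1) (Subgroup.mem_sup_left hk)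
  · rw [map_conj_eq_of_mem_normalizer (le_normalizer_pCoreOf L (CG_le L hc))]
    exact le_sup_right

/-! ### The image of `J(L)` in `L/C_L(V)`: odd-order elements -/

/-- Elements of odd order of `J(L)` have cube in `C_L(V)` and commute modulo `C_L(V)`. -/
theorem thompson_odd [Finite G]
    (hN : ∀ N : Subgroup G, IsTwoLocal N → Group.IsSolvable ↥N) {T L : Subgroup G}
    (hLT : L ∈ jOvergroups T) :
    ∀ x ∈ thompsonSubgroup 2 ↥L, Odd (orderOf x) → ∀ y ∈ thompsonSubgroup 2 ↥L,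
      Odd (orderOf y) → x ^ 3 ∈ Subgroup.centralizer ((VΛ L : Subgroup ↥L) : Set ↥L) ∧
        ⁅x, y⁆ ∈ Subgroup.centralizer ((VΛ L : Subgroup ↥L) : Set ↥L) := by
  haveI hVn := VΛ_normal hLT
  have hVe := VΛ_ea hLT
  have hsol : Group.IsSolvable ↥L := solvable_of_mem_jOvergroups hN hLT
  have hsep : IsPSolvable 2 ↥L := Cfsg.Agent.Lib.Helper25.isPSolvable_of_isSolvable 2 hsol
  have hgen : VΛ L = ⨆ S : Sylow 2 ↥L, VΛ L ⊓
      Subgroup.centralizer ((S : Subgroup ↥L) : Set ↥L) := by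
    apply le_antisymm
    · conv_lhs => unfold VΛ
      apply iSup_le
      intro S
      refine le_trans (le_inf ?_ ?_)
        (le_iSup (fun S : Sylow 2 ↥L => VΛ L ⊓
          Subgroup.centralizer ((S : Subgroup ↥L) : Set ↥L)) S)
      · exact le_iSup (fun S : Sylow 2 ↥L => omegaOne 2 ((S : Subgroup ↥L) ⊓
          Subgroup.centralizer ((S : Subgroup ↥L) : Set ↥L))) S
      · unfold omegaOne
        rw [Subgroup.closure_le]
        rintro x ⟨hx, -⟩
        exact (Subgroup.mem_inf.1 hx).2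
    · exact iSup_le fun S => inf_le_left
  have hOp := Cfsg.Agent.S0600.result (VΛ L) hVe hgen
  obtain ⟨hV'e, hHV', hf', hS1, hS3⟩ := Cfsg.Agent.Lib.Helper20.FFB.bridge (VΛ L) hsep hVe hOp
  obtain ⟨hcube, hcomm⟩ := odd_elements (Cfsg.Agent.Lib.Helper20.FFB.Vimg (VΛ L))
    ((thompsonSubgroup 2 ↥L).map (Cfsg.Agent.Lib.Helper20.FFB.psi (VΛ L))) hV'e hHV' hf' hS1 hS3
  have hoddmap : ∀ x : ↥L, Odd (orderOf x) →
      Odd (orderOf (Cfsg.Agent.Lib.Helper20.FFB.psi (VΛ L) x)) := fun x hx =>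
    Odd.of_dvd_nat hx (orderOf_map_dvd _ x)
  intro x hx hox y hy hoy
  constructor
  · apply (Cfsg.Agent.Lib.Helper20.FFB.mem_ker_psi (VΛ L)).mp
    rw [MonoidHom.mem_ker, map_pow]
    exact hcube _ (Subgroup.mem_map_of_mem _ hx) (hoddmap x hox)
  · apply (Cfsg.Agent.Lib.Helper20.FFB.mem_ker_psi (VΛ L)).mp
    rw [MonoidHom.mem_ker, commutatorElement_def, map_mul, map_mul, map_mul, map_inv, map_inv]
    have := hcomm _ (Subgroup.mem_map_of_mem _ hx) _ (Subgroup.mem_map_of_mem _ hy)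
      (hoddmap x hox) (hoddmap y hoy)
    rw [this]; group

/-- `O₂(L) ≤ C_L(V)`. -/
theorem pCoreOf_le_CG [Finite G] (L : Subgroup G) : pCoreOf 2 L ≤ CG L := by
  apply Subgroup.map_mono
  rw [Subgroup.le_centralizer_iff]
  unfold VΛ
  apply iSup_le
  intro S
  unfold omegaOne
  rw [Subgroup.closure_le]
  rintro x ⟨hx, -⟩
  rw [Subgroup.mem_inf] at hx
  exact Subgroup.centralizer_le (SetLike.coe_subset_coe.mpr (pCore_le_sylow S)) hx.2

/-- A `J(T)`-component of `L` lies in `J(L)`. -/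
theorem component_le_thompson [Finite G] {T L K : Subgroup G} (hS : IsSylowTwoIn T L)
    (hK : IsJComponent T K) (hKL : K ≤ L) : K ≤ thompsonSubgroupOf 2 L := by
  conv_lhs => rw [← hK.2.1]
  exact (Subgroup.commutator_mono hKL (thompson_le_thompson hS)).trans
    (commutator_le_right_of_le_normalizer (le_normalizer_thompson L))

/-- The normal subgroup `R` of `↥L` generated by `C_L(V)` and the odd-order elements of `J(L)`. -/
def RΛ (L : Subgroup G) : Subgroup ↥L :=
  Subgroup.closure {x : ↥L | x ∈ thompsonSubgroup 2 ↥L ∧ Odd (orderOf x)} ⊔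
    Subgroup.centralizer ((VΛ L : Subgroup ↥L) : Set ↥L)

theorem RΛ_normal [Finite G] {T L : Subgroup G} (hLT : L ∈ jOvergroups T) : (RΛ L).Normal := by
  have := centralizer_VΛ_normal hLT
  haveI : (thompsonSubgroup 2 ↥L).Normal := by
    have := Cfsg.H5.thompsonSubgroup_characteristic (G := ↥L) 2
    infer_instance
  haveI : (Subgroup.closure {x : ↥L | x ∈ thompsonSubgroup 2 ↥L ∧ Odd (orderOf x)}).Normal := by
    constructor
    intro n hn g
    induction hn using Subgroup.closure_induction with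
    | mem x hx =>
      apply Subgroup.subset_closure
      refine ⟨‹(thompsonSubgroup 2 ↥L).Normal›.conj_mem x hx.1 g, ?_⟩
      have : orderOf (g * x * g⁻¹) = orderOf x := (MulAut.conj g).orderOf_eq x
      rw [this]
      exact hx.2
    | one => simp
    | mul a b _ _ iha ihb =>
      have : g * (a * b) * g⁻¹ = (g * a * g⁻¹) * (g * b * g⁻¹) := by group
      rw [this]; exact Subgroup.mul_mem _ iha ihb
    | inv a _ iha =>
      have : g * a⁻¹ * g⁻¹ = (g * a * g⁻¹)⁻¹ := by group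
      rw [this]; exact Subgroup.inv_mem _ iha
  unfold RΛ
  infer_instance

/-- `R / C_L(V)` is abelian. -/
theorem commutator_RΛ_mem [Finite G]
    (hN : ∀ N : Subgroup G, IsTwoLocal N → Group.IsSolvable ↥N) {T L : Subgroup G}
    (hLT : L ∈ jOvergroups T) {r₁ r₂ : ↥L} (h₁ : r₁ ∈ RΛ L) (h₂ : r₂ ∈ RΛ L) :
    ⁅r₁, r₂⁆ ∈ Subgroup.centralizer ((VΛ L : Subgroup ↥L) : Set ↥L) := by
  have := centralizer_VΛ_normal hLT
  have hodd := thompson_odd hN hLT
  obtain ⟨π, hπ⟩ : ∃ π : ↥L →* ↥L ⧸ Subgroup.centralizer ((VΛ L : Subgroup ↥L) : Set ↥L),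
      π = QuotientGroup.mk' _ := ⟨_, rfl⟩
  have hker : ∀ x : ↥L, π x = 1 ↔ x ∈ Subgroup.centralizer ((VΛ L : Subgroup ↥L) : Set ↥L) := by
    intro x; rw [hπ]; exact QuotientGroup.eq_one_iff x
  have hcomm : ∀ a ∈ π '' {x : ↥L | x ∈ thompsonSubgroup 2 ↥L ∧ Odd (orderOf x)},
      ∀ b ∈ π '' {x : ↥L | x ∈ thompsonSubgroup 2 ↥L ∧ Odd (orderOf x)}, a * b = b * a := by
    rintro _ ⟨x, hx, rfl⟩ _ ⟨y, hy, rfl⟩
    have h := (hodd x hx.1 hx.2 y hy.1 hy.2).2
    rw [← hker, commutatorElement_def, map_mul, map_mul, map_mul, map_inv, map_inv] at h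
    calc π x * π y = (π x * π y * (π x)⁻¹ * (π y)⁻¹) * π y * π x := by group
      _ = π y * π x := by rw [h, one_mul]
  have hmap : (RΛ L).map π ≤
      Subgroup.closure (π '' {x : ↥L | x ∈ thompsonSubgroup 2 ↥L ∧ Odd (orderOf x)}) := by
    unfold RΛ
    rw [Subgroup.map_sup, MonoidHom.map_closure]
    apply sup_le le_rfl
    rintro _ ⟨c, hc, rfl⟩
    rw [(hker c).mpr hc]
    exact Subgroup.one_mem _
  haveI hc := Subgroup.isMulCommutative_closure hcomm
  have h3 : π r₁ * π r₂ = π r₂ * π r₁ :=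
    setLike_mul_comm (hmap (Subgroup.mem_map_of_mem π h₁)) (hmap (Subgroup.mem_map_of_mem π h₂))
  rw [← hker, commutatorElement_def, map_mul, map_mul, map_mul, map_inv, map_inv, h3]
  group

/-- Subgroups between `C_L(V)` and `R` are subnormal in `L`. -/
theorem isSubnormal_of_le_RΛ [Finite G]
    (hN : ∀ N : Subgroup G, IsTwoLocal N → Group.IsSolvable ↥N) {T L : Subgroup G}
    (hLT : L ∈ jOvergroups T) {X : Subgroup ↥L}
    (hCX : Subgroup.centralizer ((VΛ L : Subgroup ↥L) : Set ↥L) ≤ X) (hXR : X ≤ RΛ L) :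
    X.IsSubnormal := by
  have := RΛ_normal hLT
  refine Subgroup.IsSubnormal.trans hXR ?_ (Subgroup.Normal.isSubnormal inferInstance)
  apply Subgroup.Normal.isSubnormal
  apply Subgroup.normal_subgroupOf_of_le_normalizer
  intro r hr
  apply mem_normalizer_of_map_conj_le
  rintro _ ⟨x, hx, rfl⟩
  simp only [MulEquiv.coe_toMonoidHom, MulAut.conj_apply]
  have h1 := commutator_RΛ_mem hN hLT hr (hXR hx)
  have : r * x * r⁻¹ = ⁅r, x⁆ * x := by rw [commutatorElement_def]; group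
  rw [this]
  exact X.mul_mem (hCX h1) hx

/-- A `J(T)`-component of `L` lies in `R`. -/
theorem component_le_RΛ [Finite G] {T L K : Subgroup G} (hS : IsSylowTwoIn T L)
    (hK : IsJComponent T K) (hKL : K ≤ L) : K ≤ (RΛ L).map L.subtype := by
  have hKJ := component_le_thompson hS hK hKL
  conv_lhs => rw [← hK.1]
  rw [Subgroup.closure_le]
  rintro g ⟨hg, ho⟩
  have hgJ : g ∈ thompsonSubgroupOf 2 L := hKJ hg
  obtain ⟨y, hy, rfl⟩ := hgJ
  refine ⟨y, ?_, rfl⟩
  apply Subgroup.mem_sup_left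
  apply Subgroup.subset_closure
  refine ⟨hy, ?_⟩
  have : orderOf (L.subtype y) = orderOf y := orderOf_injective _ L.subtype_injective y
  rw [← this]
  exact ho

end Cfsg.Agent.Lib.Helper17.JStruct
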