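import Mathlib
import Cfsg.Agent.Lib.Helper17.JStruct
import Cfsg.Agent.Lib.Helper17.JMap
import Cfsg.Agent.S2941

set_option autoImplicit false

/-! Uniqueness of `J(T)`-components of `L ∈ 𝓛(T)` with a prescribed element of `W_K ∩ V`. -/

namespace Cfsg.Agent.Lib.Helper17.JUniq

open Cfsg Cfsg.Agent.Lib.Helper17 Cfsg.Agent.Lib.Helper27 Cfsg.Agent.Lib.Helper17.JComp
  Cfsg.Agent.Lib.Helper17.JStruct
open scoped commutatorElement

variable {G : Type*} [Group G]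

/-! ### Generalities -/

theorem mem_of_cube_mem_of_two_pow {H : Subgroup G} {x : G} (h3 : x ^ 3 ∈ H) {k : ℕ}
    (hk : x ^ (2 ^ k) = 1) : x ∈ H := by
  have h4 : (4 : ℕ) ^ k % 3 = 1 := by
    rw [Nat.pow_mod]; norm_num
  have h5 : x ^ (4 ^ k) = 1 := by
    have : (4 : ℕ) ^ k = 2 ^ k * 2 ^ k := by
      rw [← mul_pow]; norm_num
    rw [this, pow_mul, hk, one_pow]
  have h6 : (4 : ℕ) ^ k = 3 * (4 ^ k / 3) + 1 := by
    have := Nat.div_add_mod (4 ^ k) 3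
    omega
  rw [h6, pow_succ, pow_mul] at h5
  rw [← mul_eq_one_iff_inv_eq.mp h5]
  exact H.inv_mem (H.pow_mem h3 _)

theorem pow_mul_mem {K : Subgroup G} {k q : G} (hk : k ∈ K)
    (hq : q ∈ Subgroup.normalizer (K : Set G)) (n : ℕ) : (k * q) ^ n * (q ^ n)⁻¹ ∈ K := by
  induction n with
  | zero => simp
  | succ n ih =>
    have hqn : q ^ n ∈ Subgroup.normalizer (K : Set G) := Subgroup.pow_mem _ hq n
    have h1 : q ^ n * k * (q ^ n)⁻¹ ∈ K := (Subgroup.mem_normalizer_iff.mp hqn k).mp hk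
    have e : (k * q) ^ (n + 1) * (q ^ (n + 1))⁻¹ =
        ((k * q) ^ n * (q ^ n)⁻¹) * (q ^ n * k * (q ^ n)⁻¹) := by
      rw [pow_succ, pow_succ]
      generalize (k * q) ^ n = A
      generalize q ^ n = B
      group
    rw [e]
    exact K.mul_mem ih h1

/-- An element of odd order of `K ⊔ Q`, `Q` a `2`-group normalizing `K`, lies in `K`. -/
theorem mem_of_odd_of_mem_sup {K Q : Subgroup G} (hQ : IsPGroup 2 Q)
    (hQK : Q ≤ Subgroup.normalizer (K : Set G)) {g : G} (hg : g ∈ K ⊔ Q)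
    (ho : Odd (orderOf g)) : g ∈ K := by
  rw [← SetLike.mem_coe, Subgroup.coe_mul_of_right_le_normalizer_left K Q hQK, Set.mem_mul] at hg
  obtain ⟨k, hk, q, hq, rfl⟩ := hg
  rw [SetLike.mem_coe] at hk hq
  have h1 := pow_mul_mem hk (hQK hq) (orderOf (k * q))
  rw [pow_orderOf_eq_one, one_mul] at h1
  have h2 : q ^ orderOf (k * q) ∈ K := by
    have := K.inv_mem h1
    rwa [inv_inv] at this
  obtain ⟨j, hj⟩ := hQ ⟨q, hq⟩
  have hj' : q ^ (2 ^ j) = 1 := by simpa using congrArg Subtype.val hj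
  have hcop : Nat.Coprime (orderOf (k * q)) (orderOf q) := by
    have h3 : Nat.Coprime (orderOf (k * q)) (2 ^ j) :=
      Nat.Coprime.pow_right j (Nat.coprime_two_right.mpr ho)
    exact Nat.Coprime.coprime_dvd_right (orderOf_dvd_of_pow_eq_one hj') h3
  obtain ⟨m, hm⟩ := exists_pow_eq_self_of_coprime hcop
  have hqK : q ∈ K := by
    rw [← hm]; exact K.pow_mem h2 m
  exact K.mul_mem hk hqK

theorem commutator_sup_le (A B C D : Subgroup G) (hA : A ≤ Subgroup.normalizer (D : Set G))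
    (hB : B ≤ Subgroup.normalizer (D : Set G)) (h1 : ⁅A, C⁆ ≤ D) (h2 : ⁅B, C⁆ ≤ D) :
    ⁅A ⊔ B, C⁆ ≤ D := by
  rw [sup_eq_iSup]
  apply commutator_iSup_le
  · intro b; cases b
    · exact hB
    · exact hA
  · intro b; cases b
    · exact h2
    · exact h1

/-! ### `V`, `C_L(V)` and `R` as subgroups of `G` -/

/-- `V` as a subgroup of `G`. -/
def VG (L : Subgroup G) : Subgroup G := (VΛ L).map L.subtype

theorem VG_le (L : Subgroup G) : VG L ≤ L := Subgroup.map_subtype_le _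

theorem mem_VG_iff {L : Subgroup G} {v : G} (hv : v ∈ L) :
    v ∈ VG L ↔ (⟨v, hv⟩ : L) ∈ VΛ L := by
  constructor
  · rintro ⟨y, hy, rfl⟩
    exact hy
  · intro h
    exact ⟨_, h, rfl⟩

theorem le_normalizer_VG [Finite G] {T L : Subgroup G} (hLT : L ∈ jOvergroups T) :
    L ≤ Subgroup.normalizer ((VG L : Subgroup G) : Set G) := by
  have := VΛ_normal hLT
  exact le_normalizer_map_subtype _

theorem conj_mem_VG [Finite G] {T L : Subgroup G} (hLT : L ∈ jOvergroups T) {l v : G}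
    (hl : l ∈ L) (hv : v ∈ VG L) : l * v * l⁻¹ ∈ VG L :=
  (Subgroup.mem_normalizer_iff.mp (le_normalizer_VG hLT hl) v).mp hv

theorem VG_comm [Finite G] {T L : Subgroup G} (hLT : L ∈ jOvergroups T) {v v' : G}
    (hv : v ∈ VG L) (hv' : v' ∈ VG L) : v * v' = v' * v := by
  obtain ⟨y, hy, rfl⟩ := hv
  obtain ⟨y', hy', rfl⟩ := hv'
  have h := (VΛ_ea hLT).1.is_comm.comm (⟨y, hy⟩ : VΛ L) ⟨y', hy'⟩
  have h2 := congrArg (fun x : VΛ L => ((x : ↥L) : G)) h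
  exact h2

theorem VG_sq [Finite G] {T L : Subgroup G} (hLT : L ∈ jOvergroups T) {v : G}
    (hv : v ∈ VG L) : v * v = 1 := by
  obtain ⟨y, hy, rfl⟩ := hv
  have h := (VΛ_ea hLT).2 y hy
  have h2 : (y : G) ^ 2 = 1 := by simpa using congrArg Subtype.val h
  show (y : G) * (y : G) = 1
  rw [← pow_two]; exact h2

theorem VG_inv [Finite G] {T L : Subgroup G} (hLT : L ∈ jOvergroups T) {v : G}
    (hv : v ∈ VG L) : v⁻¹ = v := inv_eq_of_mul_eq_one_right (VG_sq hLT hv)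

theorem CG_comm {L : Subgroup G} {c v : G} (hc : c ∈ CG L) (hv : v ∈ VG L) :
    c * v = v * c := by
  obtain ⟨y, hy, rfl⟩ := hv
  obtain ⟨c', hc', rfl⟩ := hc
  have := (Subgroup.mem_centralizer_iff.mp hc') y hy
  exact (congrArg Subtype.val this).symm

theorem mem_CG_of_comm {L : Subgroup G} {c : G} (hc : c ∈ L)
    (h : ∀ v ∈ VG L, c * v = v * c) : c ∈ CG L := by
  rw [mem_CG_iff hc, Subgroup.mem_centralizer_iff]
  intro y hy
  apply Subtype.ext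
  have := h y.1 ⟨y, hy, rfl⟩
  exact this.symm

theorem omega_le_VG {T L : Subgroup G} (hS : IsSylowTwoIn T L) : omegaCenterOf T ≤ VG L := by
  unfold omegaCenterOf omegaOne
  rw [Subgroup.closure_le]
  rintro x ⟨hx, hx2⟩
  rw [Subgroup.mem_inf] at hx
  have hxL : x ∈ L := hS.1 hx.1
  rw [SetLike.mem_coe, mem_VG_iff hxL]
  have h1 : (⟨x, hxL⟩ : L) ∈ omegaOne 2 (((sylowOf hS : Sylow 2 ↥L) : Subgroup ↥L) ⊓
      Subgroup.centralizer (((sylowOf hS : Sylow 2 ↥L) : Subgroup ↥L) : Set ↥L)) := by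
    apply Subgroup.subset_closure
    refine ⟨⟨?_, ?_⟩, ?_⟩
    · show (⟨x, hxL⟩ : L) ∈ ((sylowOf hS : Sylow 2 ↥L) : Subgroup ↥L)
      rw [coe_sylowOf, Subgroup.mem_subgroupOf]
      exact hx.1
    · show (⟨x, hxL⟩ : L) ∈ Subgroup.centralizer
        (((sylowOf hS : Sylow 2 ↥L) : Subgroup ↥L) : Set ↥L)
      rw [Subgroup.mem_centralizer_iff]
      intro y hy
      rw [SetLike.mem_coe, coe_sylowOf, Subgroup.mem_subgroupOf] at hy
      apply Subtype.ext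
      exact (Subgroup.mem_centralizer_iff.mp hx.2) y hy
    · apply Subtype.ext
      simpa using hx2
  exact (le_iSup (fun S : Sylow 2 ↥L => omegaOne 2 ((S : Subgroup ↥L) ⊓
    Subgroup.centralizer ((S : Subgroup ↥L) : Set ↥L))) (sylowOf hS)) h1

theorem VG_le_pCoreOf [Finite G] {T L : Subgroup G} (hLT : L ∈ jOvergroups T) :
    VG L ≤ pCoreOf 2 L := by
  have h1 : VΛ L ≤ pCore 2 ↥L :=
    le_pCore (VΛ_normal hLT) (Cfsg.H5.isPGroup_of_isElementaryAbelian (VΛ_ea hLT))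
  exact Subgroup.map_mono h1

/-- `R` as a subgroup of `G`. -/
def RG (L : Subgroup G) : Subgroup G := (RΛ L).map L.subtype

theorem RG_le (L : Subgroup G) : RG L ≤ L := Subgroup.map_subtype_le _

theorem component_le_RG [Finite G] {T L K : Subgroup G} (hS : IsSylowTwoIn T L)
    (hK : IsJComponent T K) (hKL : K ≤ L) : K ≤ RG L := component_le_RΛ hS hK hKL

theorem commutator_RG_mem [Finite G]
    (hN : ∀ N : Subgroup G, IsTwoLocal N → Group.IsSolvable ↥N) {T L : Subgroup G}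
    (hLT : L ∈ jOvergroups T) {r₁ r₂ : G} (h₁ : r₁ ∈ RG L) (h₂ : r₂ ∈ RG L) :
    ⁅r₁, r₂⁆ ∈ CG L := by
  obtain ⟨y₁, hy₁, rfl⟩ := h₁
  obtain ⟨y₂, hy₂, rfl⟩ := h₂
  exact ⟨⁅y₁, y₂⁆, commutator_RΛ_mem hN hLT hy₁ hy₂, by rw [map_commutatorElement]⟩

theorem cube_mem_RΛ [Finite G]
    (hN : ∀ N : Subgroup G, IsTwoLocal N → Group.IsSolvable ↥N) {T L : Subgroup G}
    (hLT : L ∈ jOvergroups T) {r : ↥L} (hr : r ∈ RΛ L) :
    r ^ 3 ∈ Subgroup.centralizer ((VΛ L : Subgroup ↥L) : Set ↥L) := by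
  have hCn := centralizer_VΛ_normal hLT
  have hR : RΛ L = Subgroup.closure
      ({x : ↥L | x ∈ thompsonSubgroup 2 ↥L ∧ Odd (orderOf x)} ∪
        ((Subgroup.centralizer ((VΛ L : Subgroup ↥L) : Set ↥L) : Subgroup ↥L) : Set ↥L)) := by
    rw [Subgroup.closure_union, Subgroup.closure_eq]; rfl
  have hπ : ∀ x : ↥L, QuotientGroup.mk' (Subgroup.centralizer ((VΛ L : Subgroup ↥L) : Set ↥L)) x
      = 1 ↔ x ∈ Subgroup.centralizer ((VΛ L : Subgroup ↥L) : Set ↥L) :=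
    fun x => QuotientGroup.eq_one_iff x
  have key : ∀ r ∈ RΛ L, r ∈ RΛ L ∧
      r ^ 3 ∈ Subgroup.centralizer ((VΛ L : Subgroup ↥L) : Set ↥L) := by
    intro r hr
    rw [hR] at hr
    induction hr using Subgroup.closure_induction with
    | mem x hx =>
      refine ⟨by rw [hR]; exact Subgroup.subset_closure hx, ?_⟩
      rcases hx with hx | hx
      · exact (thompson_odd hN hLT x hx.1 hx.2 x hx.1 hx.2).1
      · exact Subgroup.pow_mem _ hx 3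
    | one => exact ⟨Subgroup.one_mem _, by rw [one_pow]; exact Subgroup.one_mem _⟩
    | mul a b _ _ iha ihb =>
      refine ⟨Subgroup.mul_mem _ iha.1 ihb.1, ?_⟩
      have h1 := (hπ _).mpr (commutator_RΛ_mem hN hLT iha.1 ihb.1)
      rw [map_commutatorElement, commutatorElement_eq_one_iff_commute] at h1
      rw [← hπ, map_pow, map_mul, h1.mul_pow, ← map_pow, ← map_pow, (hπ _).mpr iha.2,
        (hπ _).mpr ihb.2, one_mul]
    | inv a _ iha =>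
      refine ⟨Subgroup.inv_mem _ iha.1, ?_⟩
      rw [inv_pow]; exact Subgroup.inv_mem _ iha.2
  exact (key r hr).2

theorem cube_mem_CG [Finite G]
    (hN : ∀ N : Subgroup G, IsTwoLocal N → Group.IsSolvable ↥N) {T L : Subgroup G}
    (hLT : L ∈ jOvergroups T) {r : G} (hr : r ∈ RG L) : r ^ 3 ∈ CG L := by
  obtain ⟨y, hy, rfl⟩ := hr
  exact ⟨y ^ 3, cube_mem_RΛ hN hLT hy, by rw [map_pow]⟩

/-! ### `J(T)`-components of `L` -/

section Component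

variable [Finite G]

theorem pCoreOf_le_normalizer_component (hL : IsCharacteristicTwoType G)
    (hN : ∀ N : Subgroup G, IsTwoLocal N → Group.IsSolvable ↥N)
    (hZ : ∀ S : Sylow 2 G, Subgroup.centralizer (omegaCenterOf (S : Subgroup G) : Set G) ≤
      Subgroup.normalizer ((S : Subgroup G) : Set G))
    {T L K : Subgroup G} (hT : IsPGroup 2 ↥T) (hT1 : T ≠ ⊥) (hLT : L ∈ jOvergroups T)
    (hK : IsJComponent T K) (hKL : K ≤ L) :
    pCoreOf 2 L ≤ Subgroup.normalizer (K : Set G) := by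
  have hS := hLT.1
  apply Cfsg.Agent.S2941.result hL hN hZ T hT hT1 K hK (pCoreOf 2 L)
  · exact (sup_le hKL ((thompsonSubgroupOf_le 2 T).trans hS.1)).trans
      (JStruct.le_normalizer_pCoreOf L)
  · exact (pCoreOf_le_of_isSylowTwoIn hS).trans (le_normalizer_thompson T)

theorem component_pCoreOf_le_CG
    (hN : ∀ N : Subgroup G, IsTwoLocal N → Group.IsSolvable ↥N)
    {T L K : Subgroup G} (hLT : L ∈ jOvergroups T)
    (hK : IsJComponent T K) (hKL : K ≤ L) : pCoreOf 2 K ≤ CG L := by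
  intro q hq
  obtain ⟨k, hk⟩ := two_pow_of_mem_pCoreOf hq
  exact mem_of_cube_mem_of_two_pow
    (cube_mem_CG hN hLT (component_le_RG hLT.1 hK hKL (JComp.pCoreOf_le K hq))) hk

theorem component_pCoreOf_le_pCoreOf
    (hN : ∀ N : Subgroup G, IsTwoLocal N → Group.IsSolvable ↥N)
    (hZ : ∀ S : Sylow 2 G, Subgroup.centralizer (omegaCenterOf (S : Subgroup G) : Set G) ≤
      Subgroup.normalizer ((S : Subgroup G) : Set G))
    {T L K : Subgroup G} (hLT : L ∈ jOvergroups T)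
    (hK : IsJComponent T K) (hKL : K ≤ L) : pCoreOf 2 K ≤ pCoreOf 2 L := by
  intro q hq
  obtain ⟨k, hk⟩ := two_pow_of_mem_pCoreOf hq
  have hqC : q ∈ CG L := component_pCoreOf_le_CG hN hLT hK hKL hq
  have hqT : q ∈ T :=
    mem_of_two_pow hLT.1 (hKL (JComp.pCoreOf_le K hq)) (CG_le_normalizer hZ hLT hqC) hk
  exact CG_inf_le_pCoreOf hZ hLT ⟨hqC, hqT⟩

/-- `[V, d] ⊆ W_K` for `d ∈ K` with `d³ = 1`. -/
theorem commutator_VG_mem_wOf (hL : IsCharacteristicTwoType G)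
    (hN : ∀ N : Subgroup G, IsTwoLocal N → Group.IsSolvable ↥N)
    (hZ : ∀ S : Sylow 2 G, Subgroup.centralizer (omegaCenterOf (S : Subgroup G) : Set G) ≤
      Subgroup.normalizer ((S : Subgroup G) : Set G))
    {T L K : Subgroup G} (hT : IsPGroup 2 ↥T) (hT1 : T ≠ ⊥) (hLT : L ∈ jOvergroups T)
    (hK : IsJComponent T K) (hKL : K ≤ L) {d : G} (hd : d ∈ K) (hd3 : d ^ 3 = 1) {v : G}
    (hv : v ∈ VG L) : ⁅v, d⁆ ∈ wOf K := by
  have h3 := hK.2.2.1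
  have hdL : d ∈ L := hKL hd
  have hd3' : d * d * d = 1 := by rw [← hd3, pow_succ, pow_succ, pow_one]
  have hvN : v ∈ Subgroup.normalizer (K : Set G) :=
    pCoreOf_le_normalizer_component hL hN hZ hT hT1 hLT hK hKL (VG_le_pCoreOf hLT hv)
  obtain ⟨u, hu⟩ : ∃ u, u = ⁅v, d⁆ := ⟨_, rfl⟩
  rw [← hu]
  have huK : u ∈ K := by
    rw [hu, commutatorElement_def]
    exact K.mul_mem ((Subgroup.mem_normalizer_iff.mp hvN d).mp hd) (K.inv_mem hd)
  have huV : u ∈ VG L := by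
    have e : u = v * (d * v⁻¹ * d⁻¹) := by rw [hu, commutatorElement_def]; group
    rw [e]
    exact (VG L).mul_mem hv (conj_mem_VG hLT hdL ((VG L).inv_mem hv))
  have hu2 : u * u = 1 := VG_sq hLT huV
  have hu_inv : u⁻¹ = u := VG_inv hLT huV
  have huQ : u ∈ pCoreOf 2 K :=
    mem_pCoreOf_of_two_pow h3 huK (k := 1) (by rw [pow_one, pow_two]; exact hu2)
  have huC : u ∈ Subgroup.centralizer ((pCoreOf 2 K : Subgroup G) : Set G) := by
    rw [Subgroup.mem_centralizer_iff]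
    intro q hq
    exact CG_comm (component_pCoreOf_le_CG hN hLT hK hKL hq) huV
  have huU : u ∈ omegaCenterOf (pCoreOf 2 K) :=
    mem_omegaCenterOf huQ huC (by rw [pow_two]; exact hu2)
  have h1 : ⁅u, d⁆ ∈ wOf K := Subgroup.commutator_mem_commutator huU hd
  have h2 : ⁅u, d⁻¹⁆ ∈ wOf K := Subgroup.commutator_mem_commutator huU (K.inv_mem hd)
  have ha : d * u * d⁻¹ ∈ VG L := conj_mem_VG hLT hdL huV
  have hdd : d * d = d⁻¹ := by rw [eq_inv_iff_mul_eq_one]; exact hd3'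
  have hp2 : d⁻¹ * v * d = d * (d * v * d⁻¹) * d⁻¹ := by
    have : d * (d * v * d⁻¹) * d⁻¹ = (d * d) * v * (d * d)⁻¹ := by group
    rw [this, hdd, inv_inv]
  have e : u * (d * u * d⁻¹) * (d⁻¹ * u * d) = 1 := by
    have eb : d⁻¹ * u * d = (d⁻¹ * v * d) * v⁻¹ := by rw [hu, commutatorElement_def]; group
    rw [eb, hp2, hu, commutatorElement_def]; group
  have e1 : ⁅u, d⁆ = u * (d * u * d⁻¹) := by
    rw [commutatorElement_def, hu_inv]; group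
  have e2 : ⁅u, d⁻¹⁆ = u * (d⁻¹ * u * d) := by
    rw [commutatorElement_def, hu_inv, inv_inv]; group
  have hau : (d * u * d⁻¹) * u = u * (d * u * d⁻¹) := VG_comm hLT ha huV
  have hfin : ⁅u, d⁆ * ⁅u, d⁻¹⁆ = u := by
    rw [e1, e2]
    calc u * (d * u * d⁻¹) * (u * (d⁻¹ * u * d))
        = u * ((d * u * d⁻¹) * u) * (d⁻¹ * u * d) := by group
      _ = u * (u * (d * u * d⁻¹)) * (d⁻¹ * u * d) := by rw [hau]
      _ = u * (u * (d * u * d⁻¹) * (d⁻¹ * u * d)) := by group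
      _ = u := by rw [e, mul_one]
  have := (wOf K).mul_mem h1 h2
  rwa [hfin] at this

/-- If `W_K` meets `V` nontrivially, then `W_K ≤ V`. -/
theorem wOf_le_VG {T L K : Subgroup G} (hLT : L ∈ jOvergroups T) (hK : IsJComponent T K)
    (hKL : K ≤ L) {z : G} (hz1 : z ≠ 1) (hzV : z ∈ VG L) (hzW : z ∈ wOf K) :
    wOf K ≤ VG L := by
  obtain ⟨d, hd, hdQ, hd3⟩ := exists_d hK
  obtain ⟨-, -, -, -, -, -, -, -, -, henum⟩ :=
    wOf_enum hK hd hdQ hd3 hzW hz1 (w' := d * z * d⁻¹) (w'' := d * (d * z * d⁻¹) * d⁻¹)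
      rfl rfl
  intro x hx
  have hdL := hKL hd
  rcases henum x hx with h | h | h | h
  · rw [h]; exact (VG L).one_mem
  · rw [h]; exact hzV
  · rw [h]; exact conj_mem_VG hLT hdL hzV
  · rw [h]; exact conj_mem_VG hLT hdL (conj_mem_VG hLT hdL hzV)

/-- Elements of `L` commuting with `d` modulo `C_L(V)` normalize `W_K`. -/
theorem conj_mem_wOf (hL : IsCharacteristicTwoType G)
    (hN : ∀ N : Subgroup G, IsTwoLocal N → Group.IsSolvable ↥N)
    (hZ : ∀ S : Sylow 2 G, Subgroup.centralizer (omegaCenterOf (S : Subgroup G) : Set G) ≤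
      Subgroup.normalizer ((S : Subgroup G) : Set G))
    {T L K : Subgroup G} (hT : IsPGroup 2 ↥T) (hT1 : T ≠ ⊥) (hLT : L ∈ jOvergroups T)
    (hK : IsJComponent T K) (hKL : K ≤ L) {d : G} (hd : d ∈ K) (hdQ : d ∉ pCoreOf 2 K)
    (hd3 : d ^ 3 = 1) (hWV : wOf K ≤ VG L) {g : G} (hg : g ∈ L) (hgd : ⁅g, d⁆ ∈ CG L) {w : G}
    (hw : w ∈ wOf K) : g * w * g⁻¹ ∈ wOf K := by
  by_cases hw1 : w = 1
  · rw [hw1]; simp
  have hdL : d ∈ L := hKL hd
  obtain ⟨-, -, -, hw'W, hw''W, -, -, -, hprod, -⟩ :=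
    wOf_enum hK hd hdQ hd3 hw hw1 (w' := d * w * d⁻¹) (w'' := d * (d * w * d⁻¹) * d⁻¹)
      rfl rfl
  obtain ⟨y, hy⟩ : ∃ y, y = d * w * d⁻¹ := ⟨_, rfl⟩
  rw [← hy] at hw'W hw''W hprod
  have hyV : y ∈ VG L := hWV hw'W
  -- `w = ⁅y, d⁆`
  have hwy : w = ⁅y, d⁆ := by
    have e1 : ⁅y, d⁆ = y * (d * y * d⁻¹)⁻¹ := by rw [commutatorElement_def]; group
    rw [e1, wOf_inv hK hw''W, ← hprod]
    calc w = w * (y * y) := by rw [hK.2.2.2.2.2 y hw'W, mul_one]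
      _ = (w * y) * y := (mul_assoc w y y).symm
      _ = (y * w) * y := by rw [wOf_comm hK hw hw'W]
      _ = y * (w * y) := mul_assoc y w y
  have hy'V : g * y * g⁻¹ ∈ VG L := conj_mem_VG hLT hg hyV
  have hc : ⁅g, d⁆ * (d * (g * y * g⁻¹)⁻¹ * d⁻¹) = (d * (g * y * g⁻¹)⁻¹ * d⁻¹) * ⁅g, d⁆ :=
    CG_comm hgd (conj_mem_VG hLT hdL ((VG L).inv_mem hy'V))
  have e : g * w * g⁻¹ = ⁅g * y * g⁻¹, d⁆ := by
    calc g * w * g⁻¹ = g * ⁅y, d⁆ * g⁻¹ := by rw [← hwy]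
      _ = (g * y * g⁻¹) * (⁅g, d⁆ * (d * (g * y * g⁻¹)⁻¹ * d⁻¹)) * ⁅g, d⁆⁻¹ := by
        simp only [commutatorElement_def]; group
      _ = (g * y * g⁻¹) * ((d * (g * y * g⁻¹)⁻¹ * d⁻¹) * ⁅g, d⁆) * ⁅g, d⁆⁻¹ := by rw [hc]
      _ = ⁅g * y * g⁻¹, d⁆ := by
        simp only [commutatorElement_def]; group
  rw [e]
  exact commutator_VG_mem_wOf hL hN hZ hT hT1 hLT hK hKL hd hd3 hy'V

theorem wOf_le_wOf (hL : IsCharacteristicTwoType G)
    (hN : ∀ N : Subgroup G, IsTwoLocal N → Group.IsSolvable ↥N)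
    (hZ : ∀ S : Sylow 2 G, Subgroup.centralizer (omegaCenterOf (S : Subgroup G) : Set G) ≤
      Subgroup.normalizer ((S : Subgroup G) : Set G))
    {T L K₁ K₂ : Subgroup G} (hT : IsPGroup 2 ↥T) (hT1 : T ≠ ⊥) (hLT : L ∈ jOvergroups T)
    (hK₁ : IsJComponent T K₁) (hK₂ : IsJComponent T K₂) (hKL₁ : K₁ ≤ L) (hKL₂ : K₂ ≤ L)
    {z : G} (hz1 : z ≠ 1) (hzW₁ : z ∈ wOf K₁) (hzW₂ : z ∈ wOf K₂)
    (hWV₂ : wOf K₂ ≤ VG L) : wOf K₁ ≤ wOf K₂ := by
  have hS := hLT.1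
  obtain ⟨d₁, hd₁, hdQ₁, hd₁3⟩ := exists_d hK₁
  obtain ⟨d₂, hd₂, hdQ₂, hd₂3⟩ := exists_d hK₂
  have hc : ⁅d₁, d₂⁆ ∈ CG L :=
    commutator_RG_mem hN hLT (component_le_RG hS hK₁ hKL₁ hd₁) (component_le_RG hS hK₂ hKL₂ hd₂)
  obtain ⟨-, -, -, -, -, -, -, -, -, henum⟩ :=
    wOf_enum hK₁ hd₁ hdQ₁ hd₁3 hzW₁ hz1 (w' := d₁ * z * d₁⁻¹)
      (w'' := d₁ * (d₁ * z * d₁⁻¹) * d₁⁻¹) rfl rfl
  have hconj : ∀ w ∈ wOf K₂, d₁ * w * d₁⁻¹ ∈ wOf K₂ := fun w hw =>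
    conj_mem_wOf hL hN hZ hT hT1 hLT hK₂ hKL₂ hd₂ hdQ₂ hd₂3 hWV₂ (hKL₁ hd₁) hc hw
  intro x hx
  rcases henum x hx with h | h | h | h
  · rw [h]; exact (wOf K₂).one_mem
  · rw [h]; exact hzW₂
  · rw [h]; exact hconj _ hzW₂
  · rw [h]; exact hconj _ (hconj _ hzW₂)

/-- Two `J(T)`-components of `L` whose `W`'s share a nontrivial element of `V`: the second is
contained in the first. -/
theorem component_le_of_common (hL : IsCharacteristicTwoType G)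
    (hN : ∀ N : Subgroup G, IsTwoLocal N → Group.IsSolvable ↥N)
    (hZ : ∀ S : Sylow 2 G, Subgroup.centralizer (omegaCenterOf (S : Subgroup G) : Set G) ≤
      Subgroup.normalizer ((S : Subgroup G) : Set G))
    {T L K₁ K₂ : Subgroup G} (hT : IsPGroup 2 ↥T) (hT1 : T ≠ ⊥) (hLT : L ∈ jOvergroups T)
    (hK₁ : IsJComponent T K₁) (hK₂ : IsJComponent T K₂) (hKL₁ : K₁ ≤ L) (hKL₂ : K₂ ≤ L)
    {z : G} (hz1 : z ≠ 1) (hzV : z ∈ VG L) (hzW₁ : z ∈ wOf K₁) (hzW₂ : z ∈ wOf K₂) :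
    K₂ ≤ K₁ := by
  have hS := hLT.1
  have hWV₁ : wOf K₁ ≤ VG L := wOf_le_VG hLT hK₁ hKL₁ hz1 hzV hzW₁
  have hWV₂ : wOf K₂ ≤ VG L := wOf_le_VG hLT hK₂ hKL₂ hz1 hzV hzW₂
  have hW21 : wOf K₂ ≤ wOf K₁ :=
    wOf_le_wOf hL hN hZ hT hT1 hLT hK₂ hK₁ hKL₂ hKL₁ hz1 hzW₂ hzW₁ hWV₁
  obtain ⟨d₁, hd₁, hdQ₁, hd₁3⟩ := exists_d hK₁
  obtain ⟨d₂, hd₂, hdQ₂, hd₂3⟩ := exists_d hK₂
  have hd₂L : d₂ ∈ L := hKL₂ hd₂
  have hd₂R : d₂ ∈ RG L := component_le_RG hS hK₂ hKL₂ hd₂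
  -- choose `e = d₁^{±1}` acting on `z` like `d₂`
  obtain ⟨e, he, heQ, he3, hez⟩ : ∃ e ∈ K₁, e ∉ pCoreOf 2 K₁ ∧ e ^ 3 = 1 ∧
      d₂ * z * d₂⁻¹ = e * z * e⁻¹ := by
    obtain ⟨hback, -, -, -, -, -, -, -, -, henum⟩ :=
      wOf_enum hK₁ hd₁ hdQ₁ hd₁3 hzW₁ hz1 (w' := d₁ * z * d₁⁻¹)
        (w'' := d₁ * (d₁ * z * d₁⁻¹) * d₁⁻¹) rfl rfl
    have hmem : d₂ * z * d₂⁻¹ ∈ wOf K₁ := by
      apply hW21
      exact (Subgroup.mem_normalizer_iff.mp
        (normalizer_le_normalizer_wOf hK₂.2.2.1 (Subgroup.le_normalizer hd₂)) z).mp hzW₂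
    rcases henum _ hmem with h | h | h | h
    · exfalso; apply hz1
      have : z = d₂⁻¹ * (d₂ * z * d₂⁻¹) * d₂ := by group
      rw [this, h]; group
    · exact absurd h (conj_ne_self hK₂ hd₂ hdQ₂ hd₂3 hzW₂ hz1)
    · exact ⟨d₁, hd₁, hdQ₁, hd₁3, h⟩
    · refine ⟨d₁⁻¹, K₁.inv_mem hd₁, ?_, ?_, ?_⟩
      · intro hcon
        apply hdQ₁
        have := (pCoreOf 2 K₁).inv_mem hcon
        rwa [inv_inv] at this
      · rw [inv_pow, hd₁3, inv_one]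
      · rw [h, inv_inv]
        have : d₁ * (d₁ * z * d₁⁻¹) * d₁⁻¹ = d₁⁻¹ * (d₁ * (d₁ * (d₁ * z * d₁⁻¹) * d₁⁻¹) * d₁⁻¹) * d₁ := by
          group
        rw [this, hback]
  have heL : e ∈ L := hKL₁ he
  have heR : e ∈ RG L := component_le_RG hS hK₁ hKL₁ he
  obtain ⟨hback, -, -, hz'W, hz''W, -, -, -, hprod, henum⟩ :=
    wOf_enum hK₁ he heQ he3 hzW₁ hz1 (w' := e * z * e⁻¹) (w'' := e * (e * z * e⁻¹) * e⁻¹)
      rfl rfl
  obtain ⟨u, hu⟩ : ∃ u, u = e⁻¹ * d₂ := ⟨_, rfl⟩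
  have huL : u ∈ L := by rw [hu]; exact L.mul_mem (L.inv_mem heL) hd₂L
  have huR : u ∈ RG L := by rw [hu]; exact (RG L).mul_mem ((RG L).inv_mem heR) hd₂R
  have huz : u * z * u⁻¹ = z := by
    have : u * z * u⁻¹ = e⁻¹ * (d₂ * z * d₂⁻¹) * e := by rw [hu]; group
    rw [this, hez]; group
  have huz' : u * z = z * u := by
    calc u * z = (u * z * u⁻¹) * u := by group
      _ = z * u := by rw [huz]
  have hue : ⁅u, e⁆ ∈ CG L := commutator_RG_mem hN hLT huR heR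
  have huz'' : u * (e * z * e⁻¹) = (e * z * e⁻¹) * u := by
    have h1 : u * (e * z * e⁻¹) * u⁻¹ = ⁅u, e⁆ * (e * (u * z * u⁻¹) * e⁻¹) * ⁅u, e⁆⁻¹ := by
      simp only [commutatorElement_def]; group
    rw [huz, CG_comm hue (hWV₁ hz'W), mul_inv_cancel_right] at h1
    calc u * (e * z * e⁻¹) = (u * (e * z * e⁻¹) * u⁻¹) * u := by group
      _ = (e * z * e⁻¹) * u := by rw [h1]
  have hcentW : ∀ x ∈ wOf K₁, u * x = x * u := by
    intro x hx
    rcases henum x hx with h | h | h | h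
    · rw [h, mul_one, one_mul]
    · rw [h]; exact huz'
    · rw [h]; exact huz''
    · rw [h, ← hprod, ← mul_assoc, huz', mul_assoc, huz'', ← mul_assoc]
  -- `[V, u] ⊆ W₁`
  have heN : e ∈ Subgroup.normalizer ((wOf K₁ : Subgroup G) : Set G) :=
    normalizer_le_normalizer_wOf hK₁.2.2.1 (Subgroup.le_normalizer he)
  have hVu : ∀ v ∈ VG L, ⁅v, u⁆ ∈ wOf K₁ := by
    intro v hv
    have e1 : ⁅v, u⁆ = ⁅v, e⁻¹⁆ * (e⁻¹ * ⁅v, d₂⁆ * e⁻¹⁻¹) := by
      rw [hu]; simp only [commutatorElement_def]; group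
    rw [e1]
    apply (wOf K₁).mul_mem
    · exact commutator_VG_mem_wOf hL hN hZ hT hT1 hLT hK₁ hKL₁ (K₁.inv_mem he)
        (by rw [inv_pow, he3, inv_one]) hv
    · apply (Subgroup.mem_normalizer_iff.mp (Subgroup.inv_mem _ heN) _).mp
      exact hW21 (commutator_VG_mem_wOf hL hN hZ hT hT1 hLT hK₂ hKL₂ hd₂ hd₂3 hv)
  -- `u²` centralizes `V`
  have hu2 : u * u ∈ CG L := by
    apply mem_CG_of_comm (L.mul_mem huL huL)
    intro v hv
    obtain ⟨w, hw⟩ : ∃ w, w = ⁅v, u⁆ := ⟨_, rfl⟩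
    have hwW : w ∈ wOf K₁ := by rw [hw]; exact hVu v hv
    have h1 : u * v = v * w * u := by
      have : u * v⁻¹ = v⁻¹ * ⁅v, u⁆ * u := by rw [commutatorElement_def]; group
      rw [VG_inv hLT hv, ← hw] at this
      exact this
    calc u * u * v = u * (u * v) := by group
      _ = u * (v * w * u) := by rw [h1]
      _ = (u * v) * (w * u) := by group
      _ = (v * w * u) * (w * u) := by rw [h1]
      _ = v * w * (u * w) * u := by group
      _ = v * w * (w * u) * u := by rw [hcentW w hwW]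
      _ = v * (w * w) * (u * u) := by group
      _ = v * (u * u) := by rw [hK₁.2.2.2.2.2 w hwW, mul_one]
  have hu3 : u ^ 3 ∈ CG L := cube_mem_CG hN hLT huR
  have huC : u ∈ CG L := by
    have : u = u ^ 3 * (u * u)⁻¹ := by
      rw [pow_succ, pow_succ, pow_one]; group
    rw [this]
    exact (CG L).mul_mem hu3 ((CG L).inv_mem hu2)
  -- `K₂ ≤ K₁ ⊔ C`
  have hd₂mem : d₂ ∈ K₁ ⊔ CG L := by
    have : d₂ = e * u := by rw [hu]; group
    rw [this]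
    exact Subgroup.mul_mem _ (Subgroup.mem_sup_left he) (Subgroup.mem_sup_right huC)
  have hQ₂C : pCoreOf 2 K₂ ≤ K₁ ⊔ CG L :=
    (component_pCoreOf_le_CG hN hLT hK₂ hKL₂).trans le_sup_right
  have hK₂le : K₂ ≤ K₁ ⊔ CG L := by
    intro x hx
    rcases cases_of_mem hK₂.2.2.1 hd₂ hdQ₂ hd₂3 hx with h | h | h
    · exact hQ₂C h
    · have : x = d₂ * (d₂⁻¹ * x) := by group
      rw [this]
      exact Subgroup.mul_mem _ hd₂mem (hQ₂C h)
    · have : x = d₂⁻¹ * (d₂ * x) := by group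
      rw [this]
      exact Subgroup.mul_mem _ (Subgroup.inv_mem _ hd₂mem) (hQ₂C h)
  -- `K₂ = [K₂, J(T)] ≤ K₁ ⊔ O₂(L)`
  have hQN₁ : pCoreOf 2 L ≤ Subgroup.normalizer (K₁ : Set G) :=
    pCoreOf_le_normalizer_component hL hN hZ hT hT1 hLT hK₁ hKL₁
  have hK₂M : K₂ ≤ K₁ ⊔ pCoreOf 2 L := by
    have h1 : ⁅K₁ ⊔ CG L, thompsonSubgroupOf 2 T⁆ ≤ K₁ ⊔ pCoreOf 2 L := by
      apply commutator_sup_le
      · exact (le_sup_left : K₁ ≤ K₁ ⊔ pCoreOf 2 L).trans Subgroup.le_normalizer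
      · exact CG_le_normalizer_sup hZ hLT hK₁ hKL₁
      · rw [hK₁.2.1]; exact le_sup_left
      · refine le_trans ?_ (le_sup_right : pCoreOf 2 L ≤ K₁ ⊔ pCoreOf 2 L)
        rw [Subgroup.commutator_le]
        intro c hc j hj
        exact commutator_CG_mem hZ hLT hc (thompsonSubgroupOf_le 2 T hj)
    calc K₂ = ⁅K₂, thompsonSubgroupOf 2 T⁆ := hK₂.2.1.symm
      _ ≤ ⁅K₁ ⊔ CG L, thompsonSubgroupOf 2 T⁆ := Subgroup.commutator_mono hK₂le le_rfl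
      _ ≤ _ := h1
  have hgen : Subgroup.closure {g : G | g ∈ K₂ ∧ Odd (orderOf g)} ≤ K₁ := by
    rw [Subgroup.closure_le]
    rintro g ⟨hg, ho⟩
    exact mem_of_odd_of_mem_sup (JComp.pCoreOf_isPGroup L) hQN₁ (hK₂M hg) ho
  exact le_of_eq_of_le hK₂.1.symm hgen

end Component

end Cfsg.Agent.Lib.Helper17.JUniq
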