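import Mathlib
import Cfsg.Agent.Lib.Helper17.JUniq
import Cfsg.Agent.Lib.Helper1.Cores

set_option autoImplicit false

/-! Existence of `J(T)`-components, part A: an element `a ∈ A ∈ 𝒜(T)` and an element `d` of
order three of `L` inverted by `a`, normalized up to `O₂(L)` by `J(T)`. -/

namespace Cfsg.Agent.Lib.Helper17.JExA

open Cfsg Cfsg.Agent.Lib.Helper17 Cfsg.Agent.Lib.Helper27 Cfsg.Agent.Lib.Helper17.JComp
  Cfsg.Agent.Lib.Helper17.JStruct Cfsg.Agent.Lib.Helper17.JUniq Cfsg.Agent.Lib.Helper20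
open scoped commutatorElement

/-! ### Facts on `SL₂(2) ≅ S₃` -/

theorem sl2_exists : ∃ x : Matrix.SpecialLinearGroup (Fin 2) (ZMod 2), x ^ 3 = 1 ∧ x ≠ 1 := by
  decide

theorem sl2_eq_or : ∀ x y : Matrix.SpecialLinearGroup (Fin 2) (ZMod 2),
    x ^ 3 = 1 → x ≠ 1 → y ^ 3 = 1 → y ≠ 1 → y = x ∨ y = x⁻¹ := by decide

theorem sl2_cent : ∀ c x : Matrix.SpecialLinearGroup (Fin 2) (ZMod 2),
    x ^ 3 = 1 → x ≠ 1 → c * x = x * c → c = 1 ∨ c = x ∨ c = x⁻¹ := by decide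

theorem s3_facts {E : Type*} [Group E]
    (φ : E ≃* Matrix.SpecialLinearGroup (Fin 2) (ZMod 2)) :
    (∃ x : E, x ^ 3 = 1 ∧ x ≠ 1) ∧
    (∀ x y : E, x ^ 3 = 1 → x ≠ 1 → y ^ 3 = 1 → y ≠ 1 → y = x ∨ y = x⁻¹) ∧
    (∀ c x : E, x ^ 3 = 1 → x ≠ 1 → c * x = x * c → c = 1 ∨ c = x ∨ c = x⁻¹) := by
  have hne : ∀ x : E, x ≠ 1 → φ x ≠ 1 := fun x hx h =>
    hx (φ.injective (by rw [h, map_one]))
  have hcube : ∀ x : E, x ^ 3 = 1 → (φ x) ^ 3 = 1 := fun x hx => by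
    rw [← map_pow, hx, map_one]
  refine ⟨?_, ?_, ?_⟩
  · obtain ⟨x, hx3, hx1⟩ := sl2_exists
    refine ⟨φ.symm x, ?_, ?_⟩
    · rw [← map_pow, hx3, map_one]
    · intro h
      apply hx1
      have := congrArg φ h
      simpa using this
  · intro x y hx3 hx1 hy3 hy1
    rcases sl2_eq_or (φ x) (φ y) (hcube x hx3) (hne x hx1) (hcube y hy3) (hne y hy1) with h | h
    · left; exact φ.injective h
    · right; apply φ.injective; rw [h, map_inv]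
  · intro c x hx3 hx1 hcx
    rcases sl2_cent (φ c) (φ x) (hcube x hx3) (hne x hx1)
      (by rw [← map_mul, ← map_mul, hcx]) with h | h | h
    · left; apply φ.injective; rw [h, map_one]
    · right; left; exact φ.injective h
    · right; right; apply φ.injective; rw [h, map_inv]

section Blocks

variable {𝔾 : Type*} [Group 𝔾]

/-- An involution `g` normalizing but not centralizing a copy `E` of `S₃` inverts an element of
order three of `E`. -/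
theorem exists_inverted {E : Subgroup 𝔾}
    (φ : ↥E ≃* Matrix.SpecialLinearGroup (Fin 2) (ZMod 2)) {g : 𝔾}
    (hgE : g ∈ Subgroup.normalizer (E : Set 𝔾)) (hg2 : g * g = 1) {e : 𝔾} (heE : e ∈ E)
    (hge : g * e ≠ e * g) :
    ∃ h ∈ E, h ^ 3 = 1 ∧ h ≠ 1 ∧ g * h * g⁻¹ = h⁻¹ := by
  obtain ⟨⟨x, hx3, hx1⟩, hF2, hF3⟩ := s3_facts φ
  have hconj : ∀ {y : 𝔾}, y ∈ E → g * y * g⁻¹ ∈ E := fun hy =>
    (Subgroup.mem_normalizer_iff.mp hgE _).mp hy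
  have hh3 : (x : 𝔾) ^ 3 = 1 := by
    have := congrArg Subtype.val hx3
    simpa using this
  have hh1 : (x : 𝔾) ≠ 1 := fun h => hx1 (Subtype.ext h)
  have hy3 : (⟨g * (x : 𝔾) * g⁻¹, hconj x.2⟩ : ↥E) ^ 3 = 1 := by
    apply Subtype.ext
    show (g * (x : 𝔾) * g⁻¹) ^ 3 = 1
    rw [conj_pow, hh3]; group
  have hy1 : (⟨g * (x : 𝔾) * g⁻¹, hconj x.2⟩ : ↥E) ≠ 1 := by
    intro h
    apply hh1
    have h' : g * (x : 𝔾) * g⁻¹ = 1 := congrArg Subtype.val h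
    calc (x : 𝔾) = g⁻¹ * (g * (x : 𝔾) * g⁻¹) * g := by group
      _ = 1 := by rw [h']; group
  rcases hF2 x _ hx3 hx1 hy3 hy1 with h | h
  · -- `g` centralizes `x`: contradiction
    exfalso
    have hgx : g * (x : 𝔾) * g⁻¹ = (x : 𝔾) := congrArg Subtype.val h
    -- `z = e x e⁻¹`
    have hz3 : ((⟨e, heE⟩ : ↥E) * x * (⟨e, heE⟩ : ↥E)⁻¹) ^ 3 = 1 := by
      rw [conj_pow, hx3]; group
    have hz1 : (⟨e, heE⟩ : ↥E) * x * (⟨e, heE⟩ : ↥E)⁻¹ ≠ 1 := by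
      intro h'
      apply hx1
      calc x = (⟨e, heE⟩ : ↥E)⁻¹ * ((⟨e, heE⟩ : ↥E) * x * (⟨e, heE⟩ : ↥E)⁻¹) * ⟨e, heE⟩ := by
            group
        _ = 1 := by rw [h']; group
    have hgz : g * (e * (x : 𝔾) * e⁻¹) * g⁻¹ = e * (x : 𝔾) * e⁻¹ := by
      rcases hF2 x _ hx3 hx1 hz3 hz1 with h' | h'
      · have h'' : e * (x : 𝔾) * e⁻¹ = (x : 𝔾) := congrArg Subtype.val h'
        rw [h'', hgx]
      · have h'' : e * (x : 𝔾) * e⁻¹ = (x : 𝔾)⁻¹ := congrArg Subtype.val h'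
        rw [h'']
        calc g * (x : 𝔾)⁻¹ * g⁻¹ = (g * (x : 𝔾) * g⁻¹)⁻¹ := by group
          _ = (x : 𝔾)⁻¹ := by rw [hgx]
    -- `c = e⁻¹ (g e g⁻¹)` commutes with `x`
    have hcx : (e⁻¹ * (g * e * g⁻¹)) * (x : 𝔾) = (x : 𝔾) * (e⁻¹ * (g * e * g⁻¹)) := by
      have h1 : (g * e * g⁻¹) * (x : 𝔾) * (g * e * g⁻¹)⁻¹ = e * (x : 𝔾) * e⁻¹ := by
        have hgx' : g⁻¹ * (x : 𝔾) * g = (x : 𝔾) := by
          calc g⁻¹ * (x : 𝔾) * g = g⁻¹ * (g * (x : 𝔾) * g⁻¹) * g := by rw [hgx]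
            _ = (x : 𝔾) := by group
        calc (g * e * g⁻¹) * (x : 𝔾) * (g * e * g⁻¹)⁻¹
            = g * (e * (g⁻¹ * (x : 𝔾) * g) * e⁻¹) * g⁻¹ := by group
          _ = g * (e * (x : 𝔾) * e⁻¹) * g⁻¹ := by rw [hgx']
          _ = _ := hgz
      calc (e⁻¹ * (g * e * g⁻¹)) * (x : 𝔾)
          = e⁻¹ * ((g * e * g⁻¹) * (x : 𝔾) * (g * e * g⁻¹)⁻¹) * (g * e * g⁻¹) := by group
        _ = e⁻¹ * (e * (x : 𝔾) * e⁻¹) * (g * e * g⁻¹) := by rw [h1]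
        _ = (x : 𝔾) * (e⁻¹ * (g * e * g⁻¹)) := by group
    have hcE : e⁻¹ * (g * e * g⁻¹) ∈ E := E.mul_mem (E.inv_mem heE) (hconj heE)
    -- `g c g⁻¹ = c⁻¹`
    have hgc : g * (e⁻¹ * (g * e * g⁻¹)) * g⁻¹ = (e⁻¹ * (g * e * g⁻¹))⁻¹ := by
      calc g * (e⁻¹ * (g * e * g⁻¹)) * g⁻¹
          = (g * e * g⁻¹)⁻¹ * ((g * g) * e * (g * g)⁻¹) := by group
        _ = (g * e * g⁻¹)⁻¹ * e := by rw [hg2]; group
        _ = (e⁻¹ * (g * e * g⁻¹))⁻¹ := by group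
    have hxx : (x : 𝔾) * (x : 𝔾) ≠ 1 := by
      intro h'
      apply hh1
      calc (x : 𝔾) = (x : 𝔾) ^ 3 * ((x : 𝔾) * (x : 𝔾))⁻¹ := by group
        _ = 1 := by rw [hh3, h']; group
    rcases hF3 ⟨_, hcE⟩ x hx3 hx1 (Subtype.ext hcx) with h' | h' | h'
    · have h'' : e⁻¹ * (g * e * g⁻¹) = 1 := congrArg Subtype.val h'
      apply hge
      calc g * e = e * (e⁻¹ * (g * e * g⁻¹)) * g := by group
        _ = e * g := by rw [h'', mul_one]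
    · have h'' : e⁻¹ * (g * e * g⁻¹) = (x : 𝔾) := congrArg Subtype.val h'
      rw [h'', hgx] at hgc
      apply hxx
      calc (x : 𝔾) * (x : 𝔾) = (x : 𝔾) * (x : 𝔾)⁻¹ := by rw [← hgc]
        _ = 1 := by group
    · have h'' : e⁻¹ * (g * e * g⁻¹) = (x : 𝔾)⁻¹ := congrArg Subtype.val h'
      rw [h'', inv_inv] at hgc
      have h3 : g * (x : 𝔾)⁻¹ * g⁻¹ = (x : 𝔾)⁻¹ := by
        calc g * (x : 𝔾)⁻¹ * g⁻¹ = (g * (x : 𝔾) * g⁻¹)⁻¹ := by group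
          _ = (x : 𝔾)⁻¹ := by rw [hgx]
      rw [h3] at hgc
      apply hxx
      calc (x : 𝔾) * (x : 𝔾) = (x : 𝔾) * (x : 𝔾)⁻¹ := by rw [hgc]
        _ = 1 := by group
  · exact ⟨x, x.2, hh3, hh1, by simpa using congrArg Subtype.val h⟩

/-- In a central-free direct product `H` of copies of `S₃` (each normal in `H`), a nontrivial
involution of `H` inverts an element of order three of some factor. -/
theorem exists_block_inverted [Finite 𝔾] {ι : Type*} (E : ι → Subgroup 𝔾) (H : Subgroup 𝔾)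
    (hnorm : ∀ i, H ≤ Subgroup.normalizer ((E i : Subgroup 𝔾) : Set 𝔾))
    (hiso : ∀ i, Nonempty (↥(E i) ≃* Matrix.SpecialLinearGroup (Fin 2) (ZMod 2)))
    (hsup : ⨆ i, E i = H)
    (hS1 : Subgroup.centralizer (Cfsg.pPrimeCore 2 ↥H : Set ↥H) ≤ Cfsg.pPrimeCore 2 ↥H)
    {g : 𝔾} (hgH : g ∈ H) (hg2 : g * g = 1) (hg1 : g ≠ 1) :
    ∃ i, ∃ h ∈ E i, h ∈ H ∧ h ^ 3 = 1 ∧ h ≠ 1 ∧ g * h * g⁻¹ = h⁻¹ := by
  by_contra hcon
  push Not at hcon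
  have hEH : ∀ i, E i ≤ H := fun i => hsup ▸ le_iSup E i
  have hcent : ∀ i, ∀ e ∈ E i, g * e = e * g := by
    intro i e he
    by_contra hne
    obtain ⟨h, hhE, hh3, hh1, hgh⟩ := exists_inverted (hiso i).some (hnorm i hgH) hg2 he hne
    exact hcon i h hhE (hEH i hhE) hh3 hh1 hgh
  have hHc : H ≤ Subgroup.centralizer ({g} : Set 𝔾) := by
    rw [← hsup]
    apply iSup_le
    intro i e he
    rw [Subgroup.mem_centralizer_singleton_iff]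
    exact (hcent i e he).symm
  have hmem : (⟨g, hgH⟩ : ↥H) ∈ Cfsg.pPrimeCore 2 ↥H := by
    apply hS1
    rw [Subgroup.mem_centralizer_iff]
    intro y _
    apply Subtype.ext
    exact Subgroup.mem_centralizer_singleton_iff.mp (hHc y.2)
  have hcop := Cfsg.Agent.Lib.Helper1.pPrimeCore_coprime (G := ↥H) 2
  have hord : orderOf (⟨g, hgH⟩ : ↥H) = 2 := by
    apply orderOf_eq_prime
    · apply Subtype.ext
      show g ^ 2 = 1
      rw [pow_two]; exact hg2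
    · intro h
      exact hg1 (congrArg Subtype.val h)
  have hdvd : 2 ∣ Nat.card ↥(Cfsg.pPrimeCore 2 ↥H) := by
    have := orderOf_dvd_natCard (⟨⟨g, hgH⟩, hmem⟩ : ↥(Cfsg.pPrimeCore 2 ↥H))
    rwa [Subgroup.orderOf_mk, hord] at this
  have := Nat.Coprime.eq_one_of_dvd hcop.symm hdvd
  omega

/-- Elements of `H` normalize `⟨h⟩` for `h` of order three in a normal copy of `S₃`. -/
theorem conj_eq_or {E H : Subgroup 𝔾}
    (φ : ↥E ≃* Matrix.SpecialLinearGroup (Fin 2) (ZMod 2))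
    (hnorm : H ≤ Subgroup.normalizer (E : Set 𝔾)) {h : 𝔾} (hhE : h ∈ E) (hh3 : h ^ 3 = 1)
    (hh1 : h ≠ 1) {g : 𝔾} (hg : g ∈ H) : g * h * g⁻¹ = h ∨ g * h * g⁻¹ = h⁻¹ := by
  obtain ⟨-, hF2, -⟩ := s3_facts φ
  have hmem : g * h * g⁻¹ ∈ E := (Subgroup.mem_normalizer_iff.mp (hnorm hg) _).mp hhE
  have h3 : (⟨g * h * g⁻¹, hmem⟩ : ↥E) ^ 3 = 1 := by
    apply Subtype.ext
    show (g * h * g⁻¹) ^ 3 = 1
    rw [conj_pow, hh3]; group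
  have h1 : (⟨g * h * g⁻¹, hmem⟩ : ↥E) ≠ 1 := by
    intro h'
    apply hh1
    have h'' : g * h * g⁻¹ = 1 := congrArg Subtype.val h'
    calc h = g⁻¹ * (g * h * g⁻¹) * g := by group
      _ = 1 := by rw [h'']; group
  rcases hF2 ⟨h, hhE⟩ _ (Subtype.ext (by simpa using hh3))
    (fun h' => hh1 (congrArg Subtype.val h')) h3 h1 with h' | h'
  · left; exact congrArg Subtype.val h'
  · right; simpa using congrArg Subtype.val h'

end Blocks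


section Main

variable {G : Type*} [Group G]

theorem conj_pow_eq {M : Type*} [Group M] {t y c : M} (hrel : t * y * t⁻¹ = c * y)
    (htc : t * c = c * t) (m : ℕ) : t ^ m * y * (t ^ m)⁻¹ = c ^ m * y := by
  induction m with
  | zero => simp
  | succ m ih =>
    have h1 : t * c ^ m = c ^ m * t := (show Commute t c from htc).pow_right m
    calc t ^ (m + 1) * y * (t ^ (m + 1))⁻¹ = t * (t ^ m * y * (t ^ m)⁻¹) * t⁻¹ := by
          rw [pow_succ']; group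
      _ = t * (c ^ m * y) * t⁻¹ := by rw [ih]
      _ = (t * c ^ m) * t⁻¹ * (t * y * t⁻¹) := by group
      _ = c ^ m * (c * y) := by rw [h1, hrel]; group
      _ = c ^ (m + 1) * y := by rw [pow_succ]; group

theorem comm_of_inv {a x : G} (h : a * x * a⁻¹ = x⁻¹) : x * a * x⁻¹ * a⁻¹ = x * x := by
  calc x * a * x⁻¹ * a⁻¹ = x * (a * x * a⁻¹)⁻¹ := by group
    _ = x * x := by rw [h, inv_inv]

/-- A commutator `[t, y]` (`t ∈ T`, `y ∈ L`) lying in `C_L(V)` lies in `O₂(L)`. -/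
theorem comm_mem_pCoreOf [Finite G]
    (hZ : ∀ S : Sylow 2 G, Subgroup.centralizer (omegaCenterOf (S : Subgroup G) : Set G) ≤
      Subgroup.normalizer ((S : Subgroup G) : Set G))
    {T L : Subgroup G} (hLT : L ∈ jOvergroups T) {t y : G} (ht : t ∈ T) (hy : y ∈ L)
    (hc : t * y * t⁻¹ * y⁻¹ ∈ CG L) : t * y * t⁻¹ * y⁻¹ ∈ pCoreOf 2 L := by
  have hS := hLT.1
  have htL : t ∈ L := hS.1 ht
  obtain ⟨c, hc_def⟩ : ∃ c, c = t * y * t⁻¹ * y⁻¹ := ⟨_, rfl⟩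
  rw [← hc_def] at hc ⊢
  have hcL : c ∈ L := CG_le L hc
  obtain ⟨n, hn⟩ := hS.2.1 ⟨t, ht⟩
  have hn' : t ^ (2 ^ n) = 1 := by simpa using congrArg Subtype.val hn
  haveI : (pCore 2 ↥L).Normal := pCore_normal
  obtain ⟨π, hπ⟩ : ∃ π : ↥L →* ↥L ⧸ pCore 2 ↥L, π = QuotientGroup.mk' _ := ⟨_, rfl⟩
  have hker : ∀ x : ↥L, π x = 1 ↔ (x : G) ∈ pCoreOf 2 L := by
    intro x
    rw [hπ]
    exact (QuotientGroup.eq_one_iff x).trans (mem_pCoreOf_iff x.2).symm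
  have hc' : (⟨c, hcL⟩ : ↥L) = ⟨t, htL⟩ * ⟨y, hy⟩ * (⟨t, htL⟩ : ↥L)⁻¹ * (⟨y, hy⟩ : ↥L)⁻¹ :=
    Subtype.ext hc_def
  have hcomm : π ⟨t, htL⟩ * π ⟨c, hcL⟩ = π ⟨c, hcL⟩ * π ⟨t, htL⟩ := by
    have h1 : ⁅c, t⁆ ∈ pCoreOf 2 L := commutator_CG_mem hZ hLT hc ht
    rw [commutatorElement_def] at h1
    have h2 : π ((⟨c, hcL⟩ : ↥L) * ⟨t, htL⟩ * (⟨c, hcL⟩ : ↥L)⁻¹ * (⟨t, htL⟩ : ↥L)⁻¹) = 1 :=
      (hker _).mpr h1
    rw [map_mul, map_mul, map_mul, map_inv, map_inv] at h2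
    calc π ⟨t, htL⟩ * π ⟨c, hcL⟩
        = (π ⟨c, hcL⟩ * π ⟨t, htL⟩ * (π ⟨c, hcL⟩)⁻¹ * (π ⟨t, htL⟩)⁻¹)⁻¹ *
            (π ⟨c, hcL⟩ * π ⟨t, htL⟩) := by group
      _ = π ⟨c, hcL⟩ * π ⟨t, htL⟩ := by rw [h2]; group
  have hrel : π ⟨t, htL⟩ * π ⟨y, hy⟩ * (π ⟨t, htL⟩)⁻¹ = π ⟨c, hcL⟩ * π ⟨y, hy⟩ := by
    rw [← map_inv, ← map_mul, ← map_mul, ← map_mul]
    congr 1
    rw [hc']; group
  have key := conj_pow_eq hrel hcomm (2 ^ n)
  have ht1 : (π ⟨t, htL⟩) ^ (2 ^ n) = 1 := by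
    rw [← map_pow]
    have : (⟨t, htL⟩ : ↥L) ^ (2 ^ n) = 1 := Subtype.ext hn'
    rw [this, map_one]
  rw [ht1, one_mul, inv_one, mul_one] at key
  have hcn : (π ⟨c, hcL⟩) ^ (2 ^ n) = 1 := by
    have h1 : 1 * π ⟨y, hy⟩ = (π ⟨c, hcL⟩) ^ (2 ^ n) * π ⟨y, hy⟩ := by rw [one_mul]; exact key
    exact (mul_right_cancel h1).symm
  have hcnQ : c ^ (2 ^ n) ∈ pCoreOf 2 L := by
    have : π ((⟨c, hcL⟩ : ↥L) ^ (2 ^ n)) = 1 := by rw [map_pow, hcn]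
    exact (hker _).mp this
  obtain ⟨e, he⟩ := two_pow_of_mem_pCoreOf hcnQ
  have hc2 : c ^ (2 ^ (n + e)) = 1 := by
    rw [show 2 ^ (n + e) = 2 ^ n * 2 ^ e from pow_add 2 n e, pow_mul]
    exact he
  have hcN : c ∈ Subgroup.normalizer (T : Set G) := CG_le_normalizer hZ hLT hc
  have hcT : c ∈ T := mem_of_two_pow hS hcL hcN hc2
  exact CG_inf_le_pCoreOf hZ hLT ⟨hc, hcT⟩

/-- The data `(A, a, d)` modulo `C_L(V)`. -/
theorem exists_data [Finite G]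
    (hN : ∀ N : Subgroup G, IsTwoLocal N → Group.IsSolvable ↥N)
    (hZ : ∀ S : Sylow 2 G, Subgroup.centralizer (omegaCenterOf (S : Subgroup G) : Set G) ≤
      Subgroup.normalizer ((S : Subgroup G) : Set G))
    {T L : Subgroup G} (hLT : L ∈ jOvergroups T) :
    ∃ A : Subgroup G, ∃ a d : G, IsMaxEAIn 2 T A ∧ a ∈ A ∧ d ∈ L ∧ d ^ 3 = 1 ∧ d ∉ CG L ∧
      a * d * a⁻¹ = d⁻¹ ∧
      ∀ b ∈ thompsonSubgroupOf 2 T, b * d * b⁻¹ * d⁻¹ ∈ CG L ∨ b * d * b⁻¹ * d ∈ CG L := by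
  have hS := hLT.1
  haveI hVn := VΛ_normal hLT
  have hVe := VΛ_ea hLT
  have hsol : Group.IsSolvable ↥L := solvable_of_mem_jOvergroups hN hLT
  have hsep : IsPSolvable 2 ↥L := Cfsg.Agent.Lib.Helper25.isPSolvable_of_isSolvable 2 hsol
  have hgen : VΛ L = ⨆ S : Sylow 2 ↥L, VΛ L ⊓
      Subgroup.centralizer ((S : Subgroup ↥L) : Set ↥L) := by
    apply le_antisymm
    · conv_lhs => unfold VΛ
      apply iSup_le
      intro S
      refine le_trans (le_inf ?_ ?_)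
        (le_iSup (fun S : Sylow 2 ↥L => VΛ L ⊓
          Subgroup.centralizer ((S : Subgroup ↥L) : Set ↥L)) S)
      · exact le_iSup (fun S : Sylow 2 ↥L => omegaOne 2 ((S : Subgroup ↥L) ⊓
          Subgroup.centralizer ((S : Subgroup ↥L) : Set ↥L))) S
      · unfold omegaOne
        rw [Subgroup.closure_le]
        rintro x ⟨hx, -⟩
        exact (Subgroup.mem_inf.1 hx).2
    · exact iSup_le fun S => inf_le_left
  have hOp := Cfsg.Agent.S0600.result (VΛ L) hVe hgen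
  obtain ⟨hV'e, hHV', hf', hS1, hS3⟩ := FFB.bridge (VΛ L) hsep hVe hOp
  -- `A` and `a`
  obtain ⟨A, hA, hAQ⟩ : ∃ A, IsMaxEAIn 2 T A ∧ ¬ A ≤ pCoreOf 2 L := by
    by_contra hcon
    push Not at hcon
    apply hLT.2.1
    rw [thompsonSubgroupOf_eq]
    exact sSup_le fun B hB => hcon B hB
  obtain ⟨a, haA, haQ⟩ := SetLike.not_le_iff_exists.mp hAQ
  have haT : a ∈ T := hA.1 haA
  have haL : a ∈ L := hS.1 haT
  have haC : a ∉ CG L := fun h => haQ (CG_inf_le_pCoreOf hZ hLT ⟨h, haT⟩)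
  have haa : a * a = 1 := by rw [← pow_two]; exact hA.2.1.2 a haA
  have hJL : thompsonSubgroupOf 2 T ≤ thompsonSubgroupOf 2 L := thompson_le_thompson hS
  have hJmem : ∀ b ∈ thompsonSubgroupOf 2 T, ∀ hb : b ∈ L,
      (⟨b, hb⟩ : ↥L) ∈ thompsonSubgroup 2 ↥L := by
    intro b hb hbL
    obtain ⟨y, hy, hyb⟩ := hJL hb
    have : y = ⟨b, hbL⟩ := Subtype.ext hyb
    rw [← this]; exact hy
  have haJ : a ∈ thompsonSubgroupOf 2 T := le_thompson_of_isMaxEAIn hA haA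
  obtain ⟨ψ, hψ⟩ : ∃ ψ : ↥L →* FFB.Hol (VΛ L), ψ = FFB.psi (VΛ L) := ⟨_, rfl⟩
  rw [← hψ] at hHV' hf' hS1 hS3
  have hkerψ : ∀ x : ↥L, ψ x = 1 ↔ (x : G) ∈ CG L := by
    intro x
    rw [hψ, ← MonoidHom.mem_ker]
    exact (FFB.mem_ker_psi (VΛ L)).trans (mem_CG_iff x.2).symm
  obtain ⟨H, hH⟩ : ∃ H : Subgroup (FFB.Hol (VΛ L)), H = (thompsonSubgroup 2 ↥L).map ψ :=
    ⟨_, rfl⟩
  rw [← hH] at hHV' hf' hS1 hS3
  have hψJ : ∀ x ∈ thompsonSubgroup 2 ↥L, ψ x ∈ H := fun x hx => by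
    rw [hH]; exact Subgroup.mem_map_of_mem ψ hx
  have hgH : ψ ⟨a, haL⟩ ∈ H := hψJ _ (hJmem a haJ haL)
  have hg1 : ψ ⟨a, haL⟩ ≠ 1 := fun h => haC ((hkerψ _).mp h)
  have hg2 : ψ ⟨a, haL⟩ * ψ ⟨a, haL⟩ = 1 := by
    rw [← map_mul]
    have : (⟨a, haL⟩ : ↥L) * ⟨a, haL⟩ = 1 := Subtype.ext haa
    rw [this, map_one]
  have hH1 : H ≠ ⊥ := by
    intro h
    rw [h, Subgroup.mem_bot] at hgH
    exact hg1 hgH
  obtain ⟨-, hE, -, hsup, -, -⟩ :=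
    Cfsg.Agent.S0617.result (p := 2) (FFB.Vimg (VΛ L)) H hV'e hHV' hf' hS1 hS3 hH1
  obtain ⟨i, h, hhE, hhH, hh3, hh1, hgh⟩ := exists_block_inverted _ H (fun E => (hE E).1)
    (fun E => (hE E).2.1) hsup hS1 hgH hg2 hg1
  obtain ⟨d₀, -, hd₀⟩ : ∃ d₀ ∈ thompsonSubgroup 2 ↥L, ψ d₀ = h := by
    rw [hH] at hhH
    exact Subgroup.mem_map.mp hhH
  obtain ⟨a', ha'⟩ : ∃ a' : ↥L, a' = ⟨a, haL⟩ := ⟨_, rfl⟩
  obtain ⟨k₀, hk₀⟩ : ∃ k₀ : ↥L, k₀ = d₀ * a' * d₀⁻¹ * a'⁻¹ := ⟨_, rfl⟩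
  have ha'a' : a' * a' = 1 := by rw [ha']; exact Subtype.ext haa
  have hψa' : ψ a' * h * (ψ a')⁻¹ = h⁻¹ := by rw [ha']; exact hgh
  have hψk : ψ k₀ = h * h := by
    rw [hk₀, map_mul, map_mul, map_mul, map_inv, map_inv, hd₀]
    calc h * ψ a' * h⁻¹ * (ψ a')⁻¹ = h * (ψ a' * h * (ψ a')⁻¹)⁻¹ := by group
      _ = h * h := by rw [hψa', inv_inv]
  have hak : a' * k₀ * a'⁻¹ = k₀⁻¹ := by
    rw [hk₀]
    calc a' * (d₀ * a' * d₀⁻¹ * a'⁻¹) * a'⁻¹ = a' * d₀ * a' * d₀⁻¹ * (a' * a')⁻¹ := by group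
      _ = a' * d₀ * a' * d₀⁻¹ := by rw [ha'a', inv_one, mul_one]
      _ = a' * d₀ * (a' * a') * a'⁻¹ * d₀⁻¹ := by group
      _ = a' * d₀ * a'⁻¹ * d₀⁻¹ := by rw [ha'a', mul_one]
      _ = (d₀ * a' * d₀⁻¹ * a'⁻¹)⁻¹ := by group
  have hakG : a * (k₀ : G) * a⁻¹ = (k₀ : G)⁻¹ := by
    have := congrArg Subtype.val hak
    rw [ha'] at this
    exact this
  have hh3' : h * h * h = 1 := by rw [← hh3, pow_succ, pow_two]
  have hhh3 : (h * h) ^ 3 = 1 := by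
    rw [pow_succ, pow_two]
    calc (h * h) * (h * h) * (h * h) = (h * h * h) * (h * h * h) := by group
      _ = 1 := by rw [hh3', one_mul]
  have hhh1 : h * h ≠ 1 := by
    intro h'
    apply hh1
    calc h = (h * h * h) * (h * h)⁻¹ := by group
      _ = 1 := by rw [hh3', h']; group
  have hk3C : (k₀ : G) ^ 3 ∈ CG L := by
    have : ψ (k₀ ^ 3) = 1 := by rw [map_pow, hψk, hhh3]
    exact (hkerψ _).mp this
  have hcomm := commutator_CG_mem hZ hLT hk3C haT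
  have hk6 : ⁅(k₀ : G) ^ 3, a⁆ = (k₀ : G) ^ 6 := by
    rw [commutatorElement_def]
    have h1 : a * (k₀ : G) ^ 3 * a⁻¹ = ((k₀ : G) ^ 3)⁻¹ := by
      rw [← conj_pow, hakG, inv_pow]
    rw [comm_of_inv h1, ← pow_add]
  rw [hk6] at hcomm
  obtain ⟨e, he⟩ := two_pow_of_mem_pCoreOf hcomm
  obtain ⟨d', hd'⟩ : ∃ d' : ↥L, d' = k₀ ^ (2 ^ (e + 1)) := ⟨_, rfl⟩
  have hd'G : (d' : G) = (k₀ : G) ^ (2 ^ (e + 1)) := by rw [hd']; rfl
  have hd3 : (d' : G) ^ 3 = 1 := by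
    rw [hd'G, ← pow_mul]
    have : 2 ^ (e + 1) * 3 = 6 * 2 ^ e := by rw [pow_succ]; ring
    rw [this, pow_mul]
    exact he
  have had : a * (d' : G) * a⁻¹ = (d' : G)⁻¹ := by
    rw [hd'G, ← conj_pow, hakG, inv_pow]
  have hψd : ψ d' = (h * h) ^ (2 ^ (e + 1)) := by rw [hd', map_pow, hψk]
  have hψdE : ψ d' ∈ (i : Subgroup (FFB.Hol (VΛ L))) := by
    rw [hψd]
    exact Subgroup.pow_mem _ (Subgroup.mul_mem _ hhE hhE) _
  have hψd3 : (ψ d') ^ 3 = 1 := by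
    rw [← map_pow]
    have : d' ^ 3 = 1 := Subtype.ext hd3
    rw [this, map_one]
  have hψd1 : ψ d' ≠ 1 := by
    intro h'
    rw [hψd] at h'
    have ho : orderOf (h * h) = 3 := orderOf_eq_prime hhh3 hhh1
    have hdvd : 3 ∣ 2 ^ (e + 1) := by rw [← ho]; exact orderOf_dvd_of_pow_eq_one h'
    have := Nat.Prime.dvd_of_dvd_pow Nat.prime_three hdvd
    omega
  have hdC : (d' : G) ∉ CG L := fun h' => hψd1 ((hkerψ d').mpr h')
  refine ⟨A, a, (d' : G), hA, haA, d'.2, hd3, hdC, had, ?_⟩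
  intro b hb
  have hbL : b ∈ L := hS.1 (thompsonSubgroupOf_le 2 T hb)
  have hψb : ψ ⟨b, hbL⟩ ∈ H := hψJ _ (hJmem b hb hbL)
  rcases conj_eq_or (hE i).2.1.some (hE i).1 hψdE hψd3 hψd1 hψb with h' | h'
  · left
    have : ψ ((⟨b, hbL⟩ : ↥L) * d' * (⟨b, hbL⟩ : ↥L)⁻¹ * d'⁻¹) = 1 := by
      rw [map_mul, map_mul, map_mul, map_inv, map_inv, h', mul_inv_cancel]
    exact (hkerψ _).mp this
  · right
    have : ψ ((⟨b, hbL⟩ : ↥L) * d' * (⟨b, hbL⟩ : ↥L)⁻¹ * d') = 1 := by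
      rw [map_mul, map_mul, map_mul, map_inv, h', inv_mul_cancel]
    exact (hkerψ _).mp this

/-- The data `(A, a, d)` modulo `O₂(L)`. -/
theorem exists_data' [Finite G]
    (hN : ∀ N : Subgroup G, IsTwoLocal N → Group.IsSolvable ↥N)
    (hZ : ∀ S : Sylow 2 G, Subgroup.centralizer (omegaCenterOf (S : Subgroup G) : Set G) ≤
      Subgroup.normalizer ((S : Subgroup G) : Set G))
    {T L : Subgroup G} (hLT : L ∈ jOvergroups T) :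
    ∃ A : Subgroup G, ∃ a d : G, IsMaxEAIn 2 T A ∧ a ∈ A ∧ d ∈ L ∧ d ^ 3 = 1 ∧ d ∉ CG L ∧
      a * d * a⁻¹ = d⁻¹ ∧
      ∀ b ∈ thompsonSubgroupOf 2 T,
        b * d * b⁻¹ * d⁻¹ ∈ pCoreOf 2 L ∨ b * d * b⁻¹ * d ∈ pCoreOf 2 L := by
  obtain ⟨A, a, d, hA, haA, hdL, hd3, hdC, had, hJd⟩ := exists_data hN hZ hLT
  refine ⟨A, a, d, hA, haA, hdL, hd3, hdC, had, ?_⟩
  have hS := hLT.1
  have haT : a ∈ T := hA.1 haA
  have haL : a ∈ L := hS.1 haT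
  intro b hb
  have hbT : b ∈ T := thompsonSubgroupOf_le 2 T hb
  rcases hJd b hb with h | h
  · left
    exact comm_mem_pCoreOf hZ hLT hbT hdL h
  · right
    have hda : a⁻¹ * d⁻¹ = d * a⁻¹ := by rw [← had]; group
    have e1 : (a * b) * d * (a * b)⁻¹ * d⁻¹ = a * (b * d * b⁻¹ * d) * a⁻¹ := by
      calc (a * b) * d * (a * b)⁻¹ * d⁻¹ = a * b * d * b⁻¹ * (a⁻¹ * d⁻¹) := by group
        _ = a * b * d * b⁻¹ * (d * a⁻¹) := by rw [hda]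
        _ = a * (b * d * b⁻¹ * d) * a⁻¹ := by group
    have h1 : a * (b * d * b⁻¹ * d) * a⁻¹ ∈ CG L :=
      (Subgroup.mem_normalizer_iff.mp (le_normalizer_CG hLT haL) _).mp h
    have h2 : a * (b * d * b⁻¹ * d) * a⁻¹ ∈ pCoreOf 2 L := by
      rw [← e1]
      apply comm_mem_pCoreOf hZ hLT (T.mul_mem haT hbT) hdL
      rw [e1]; exact h1
    exact (Subgroup.mem_normalizer_iff.mp (le_normalizer_pCoreOf L haL) _).mpr h2

end Main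

end Cfsg.Agent.Lib.Helper17.JExA
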