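import Mathlib
import Cfsg.Agent.Lib.Helper17.AxBAbelian

set_option autoImplicit false

/-! An abstract "four-group" lemma: the module-theoretic heart of the existence of
`J(T)`-components (Thompson replacement for an `S₃`-action). -/

namespace Cfsg.Agent.Lib.Helper17.JExD

open Cfsg.Agent.Lib.Helper17
open scoped commutatorElement

variable {G : Type*} [Group G]

/-! ### Index and cardinality lemmas -/

theorem relIndex_sup_right' (H N : Subgroup G) (hLE : H ≤ Subgroup.normalizer (N : Set G)) :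
    N.relIndex (H ⊔ N) = N.relIndex H := by
  unfold Subgroup.relIndex
  rw [Subgroup.index_eq_card, Subgroup.index_eq_card]
  letI := Subgroup.normal_subgroupOf_of_le_normalizer hLE
  letI := Subgroup.normal_subgroupOf_sup_of_le_normalizer hLE
  exact Nat.card_congr
    (QuotientGroup.quotientInfEquivProdNormalizerQuotient H N hLE).toEquiv.symm

theorem card_mul_relIndex {H K : Subgroup G} (hHK : H ≤ K) :
    Nat.card H * H.relIndex K = Nat.card K := by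
  have := Subgroup.relIndex_mul_relIndex ⊥ H K bot_le hHK
  rwa [Subgroup.relIndex_bot_left, Subgroup.relIndex_bot_left] at this

theorem card_sup_mul_card_inf (H N : Subgroup G)
    (hLE : H ≤ Subgroup.normalizer (N : Set G)) :
    Nat.card ↥(H ⊔ N) * Nat.card ↥(H ⊓ N) = Nat.card H * Nat.card N := by
  have h1 := relIndex_sup_right' H N hLE
  have h2 : Nat.card N * N.relIndex (H ⊔ N) = Nat.card ↥(H ⊔ N) :=
    card_mul_relIndex le_sup_right
  have h3 : Nat.card ↥(H ⊓ N) * N.relIndex H = Nat.card H := by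
    have := card_mul_relIndex (inf_le_left : H ⊓ N ≤ H)
    rwa [Subgroup.inf_relIndex_left] at this
  rw [← h2, ← h3, h1]
  ring

theorem two_mul_card_le [Finite G] {H K : Subgroup G} (hHK : H ≤ K) (hne : ¬ K ≤ H) :
    2 * Nat.card H ≤ Nat.card K := by
  have h1 := card_mul_relIndex hHK
  have h2 : H.relIndex K ≠ 1 := fun h => hne (Subgroup.relIndex_eq_one.mp h)
  have h3 : H.relIndex K ≠ 0 := by
    unfold Subgroup.relIndex
    exact Subgroup.index_ne_zero_of_finite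
  have h4 : 2 ≤ H.relIndex K := by omega
  calc 2 * Nat.card H ≤ H.relIndex K * Nat.card H := Nat.mul_le_mul_right _ h4
    _ = Nat.card K := by rw [mul_comm]; exact h1

theorem mem_or_mul_mem_of_mem_sup_zpowers {U : Subgroup G} {z x : G}
    (hz : z ∈ Subgroup.normalizer (U : Set G)) (hz2 : z * z = 1)
    (hx : x ∈ U ⊔ Subgroup.zpowers z) : x ∈ U ∨ x * z ∈ U := by
  rw [← SetLike.mem_coe,
    Subgroup.coe_mul_of_right_le_normalizer_left U _ (Subgroup.zpowers_le.mpr hz),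
    Set.mem_mul] at hx
  obtain ⟨u, hu, y, hy, rfl⟩ := hx
  rw [SetLike.mem_coe] at hu hy
  obtain ⟨k, rfl⟩ := Subgroup.mem_zpowers_iff.mp hy
  have h2 : z ^ (2 : ℤ) = 1 := by rw [zpow_two]; exact hz2
  obtain ⟨m, hm | hm⟩ := Int.even_or_odd' k
  · left
    rw [hm, zpow_mul, h2, one_zpow, mul_one]
    exact hu
  · right
    rw [hm, zpow_add_one, zpow_mul, h2, one_zpow, one_mul, mul_assoc, hz2, mul_one]
    exact hu

theorem mem_fix_iff {W B : Subgroup G} {u : G} :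
    u ∈ W ⊓ Subgroup.centralizer (B : Set G) ↔ u ∈ W ∧ ∀ x ∈ B, x * u = u * x := by
  rw [Subgroup.mem_inf, Subgroup.mem_centralizer_iff]
  rfl

/-! ### The trace of an element of order three on a commutator -/

theorem six_comm {a b c d e f : G} (hbc : b * c = c * b) (hde : d * e = e * d)
    (hbe : b * e = e * b) : a * b * (c * d) * (e * f) = (a * c * e) * (b * d * f) := by
  calc a * b * (c * d) * (e * f) = a * (b * c) * (d * e) * f := by group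
    _ = a * (c * b) * (e * d) * f := by rw [hbc, hde]
    _ = a * c * (b * e) * d * f := by group
    _ = a * c * (e * b) * d * f := by rw [hbe]
    _ = (a * c * e) * (b * d * f) := by group

theorem tr_gen {d z z₁ z₂ : G} (h1 : d * z * d⁻¹ = z₁) (h2 : d * z₁ * d⁻¹ = z₂)
    (h3 : d * z₂ * d⁻¹ = z) (hz : z * z = 1) (hz₁ : z₁ * z₁ = 1) (hz₂ : z₂ * z₂ = 1) :
    (z * z₁) * (d * (z * z₁) * d⁻¹) * (d * (d * (z * z₁) * d⁻¹) * d⁻¹) = 1 := by
  have e1 : d * (z * z₁) * d⁻¹ = z₁ * z₂ := by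
    have : d * (z * z₁) * d⁻¹ = (d * z * d⁻¹) * (d * z₁ * d⁻¹) := by group
    rw [this, h1, h2]
  have e2 : d * (z₁ * z₂) * d⁻¹ = z₂ * z := by
    have : d * (z₁ * z₂) * d⁻¹ = (d * z₁ * d⁻¹) * (d * z₂ * d⁻¹) := by group
    rw [this, h2, h3]
  rw [e1, e2]
  calc (z * z₁) * (z₁ * z₂) * (z₂ * z) = z * (z₁ * z₁) * (z₂ * z₂) * z := by group
    _ = 1 := by rw [hz₁, hz₂, mul_one, mul_one, hz]

/-- If `K = X ∪ dX ∪ d⁻¹X` acts on the elementary abelian `2`-group `Z` with `X` acting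
trivially and `d³ = 1`, then `z · z^d · z^{d²} = 1` for all `z ∈ [Z, K]`. -/
theorem trace_commutator {Z K X : Subgroup G} {d : G}
    (hZc : ∀ x ∈ Z, ∀ y ∈ Z, x * y = y * x) (hZ2 : ∀ z ∈ Z, z * z = 1)
    (hKZ : K ≤ Subgroup.normalizer (Z : Set G)) (hd : d ∈ K) (hd3 : d ^ 3 = 1)
    (hXZ : ∀ x ∈ X, ∀ z ∈ Z, x * z = z * x)
    (hcases : ∀ k ∈ K, k ∈ X ∨ d⁻¹ * k ∈ X ∨ d * k ∈ X) :
    ∀ w ∈ ⁅Z, K⁆, w ∈ Z ∧ w * (d * w * d⁻¹) * (d * (d * w * d⁻¹) * d⁻¹) = 1 := by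
  have hconj : ∀ {k z : G}, k ∈ K → z ∈ Z → k * z * k⁻¹ ∈ Z := fun hk hz =>
    (Subgroup.mem_normalizer_iff.mp (hKZ hk) _).mp hz
  have hcube : ∀ z : G, d * (d * (d * z * d⁻¹) * d⁻¹) * d⁻¹ = z := by
    intro z
    have hd3' : d * d * d = 1 := by rw [← hd3, pow_succ, pow_two]
    have : d * (d * (d * z * d⁻¹) * d⁻¹) * d⁻¹ = (d * d * d) * z * (d * d * d)⁻¹ := by group
    rw [this, hd3']; simp
  have hinvZ : ∀ {z : G}, z ∈ Z → z⁻¹ = z := fun hz =>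
    inv_eq_of_mul_eq_one_right (hZ2 _ hz)
  -- the subgroup of trace-zero elements
  let N : Subgroup G :=
    { carrier := {w | w ∈ Z ∧ w * (d * w * d⁻¹) * (d * (d * w * d⁻¹) * d⁻¹) = 1}
      one_mem' := ⟨Z.one_mem, by simp⟩
      mul_mem' := by
        rintro p q ⟨hp, hp'⟩ ⟨hq, hq'⟩
        refine ⟨Z.mul_mem hp hq, ?_⟩
        have hp₁ := hconj hd hp
        have hq₁ := hconj hd hq
        have hp₂ := hconj hd hp₁
        have hq₂ := hconj hd hq₁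
        have e1 : d * (p * q) * d⁻¹ = (d * p * d⁻¹) * (d * q * d⁻¹) := by group
        have e2 : d * ((d * p * d⁻¹) * (d * q * d⁻¹)) * d⁻¹ =
            (d * (d * p * d⁻¹) * d⁻¹) * (d * (d * q * d⁻¹) * d⁻¹) := by group
        rw [e1, e2, six_comm (hZc _ hq _ hp₁) (hZc _ hq₁ _ hp₂) (hZc _ hq _ hp₂), hp', hq',
          one_mul]
      inv_mem' := by
        rintro p ⟨hp, hp'⟩
        show p⁻¹ ∈ Z ∧ p⁻¹ * (d * p⁻¹ * d⁻¹) * (d * (d * p⁻¹ * d⁻¹) * d⁻¹) = 1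
        rw [hinvZ hp]
        exact ⟨hp, hp'⟩ }
  have hN : ∀ w, w ∈ N ↔ w ∈ Z ∧ w * (d * w * d⁻¹) * (d * (d * w * d⁻¹) * d⁻¹) = 1 :=
    fun w => Iff.rfl
  have hle : ⁅Z, K⁆ ≤ N := by
    rw [Subgroup.commutator_le]
    intro z hz k hk
    have hkz : k * z * k⁻¹ ∈ Z := hconj hk hz
    have hcomm : ⁅z, k⁆ = z * (k * z * k⁻¹) := by
      rw [commutatorElement_def]
      have : z * k * z⁻¹ * k⁻¹ = z * (k * z * k⁻¹)⁻¹ := by group
      rw [this, hinvZ hkz]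
    rw [hcomm, hN]
    have hz₁ := hconj hd hz
    have hz₂ := hconj hd hz₁
    rcases hcases k hk with h | h | h
    · have : k * z * k⁻¹ = z := by rw [hXZ k h z hz]; group
      rw [this, hZ2 z hz]
      exact ⟨Z.one_mem, by simp⟩
    · have : k * z * k⁻¹ = d * z * d⁻¹ := by
        have h1 : (d⁻¹ * k) * z * (d⁻¹ * k)⁻¹ = z := by rw [hXZ _ h z hz]; group
        calc k * z * k⁻¹ = d * ((d⁻¹ * k) * z * (d⁻¹ * k)⁻¹) * d⁻¹ := by group
          _ = d * z * d⁻¹ := by rw [h1]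
      rw [this]
      exact ⟨Z.mul_mem hz hz₁, tr_gen rfl rfl (hcube z) (hZ2 z hz) (hZ2 _ hz₁) (hZ2 _ hz₂)⟩
    · have : k * z * k⁻¹ = d * (d * z * d⁻¹) * d⁻¹ := by
        have h1 : (d * k) * z * (d * k)⁻¹ = z := by rw [hXZ _ h z hz]; group
        have h2 : d⁻¹ * z * d = d * (d * z * d⁻¹) * d⁻¹ := by
          have := hcube (d⁻¹ * z * d)
          have e : d * (d⁻¹ * z * d) * d⁻¹ = z := by group
          rw [e] at this
          exact this.symm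
        calc k * z * k⁻¹ = d⁻¹ * ((d * k) * z * (d * k)⁻¹) * d := by group
          _ = d⁻¹ * z * d := by rw [h1]
          _ = _ := h2
      rw [this, hZc z hz _ hz₂]
      exact ⟨Z.mul_mem hz₂ hz,
        tr_gen (z := d * (d * z * d⁻¹) * d⁻¹) (z₁ := z) (z₂ := d * z * d⁻¹) (hcube z) rfl rfl
          (hZ2 _ hz₂) (hZ2 z hz) (hZ2 _ hz₁)⟩
  intro w hw
  exact (hN w).mp (hle hw)

/-! ### The subgroup of elements of `A` commuting with the action of `d` on `W` -/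

/-- The elements `x` of `A` whose action on `W` commutes with that of `d`. -/
def commSub (W A : Subgroup G) (d : G) (hAW : A ≤ Subgroup.normalizer (W : Set G)) :
    Subgroup G where
  carrier := {x | x ∈ A ∧ ∀ w ∈ W, x * (d * w * d⁻¹) * x⁻¹ = d * (x * w * x⁻¹) * d⁻¹}
  one_mem' := ⟨A.one_mem, by intro w _; simp⟩
  mul_mem' := by
    rintro x y ⟨hx, hx'⟩ ⟨hy, hy'⟩
    refine ⟨A.mul_mem hx hy, fun w hw => ?_⟩
    have hyw : y * w * y⁻¹ ∈ W := (Subgroup.mem_normalizer_iff.mp (hAW hy) w).mp hw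
    calc (x * y) * (d * w * d⁻¹) * (x * y)⁻¹ = x * (y * (d * w * d⁻¹) * y⁻¹) * x⁻¹ := by group
      _ = x * (d * (y * w * y⁻¹) * d⁻¹) * x⁻¹ := by rw [hy' w hw]
      _ = d * (x * (y * w * y⁻¹) * x⁻¹) * d⁻¹ := hx' _ hyw
      _ = d * ((x * y) * w * (x * y)⁻¹) * d⁻¹ := by group
  inv_mem' := by
    rintro x ⟨hx, hx'⟩
    refine ⟨A.inv_mem hx, fun w hw => ?_⟩
    have hw' : x⁻¹ * w * x ∈ W := by
      have := (Subgroup.mem_normalizer_iff.mp (hAW (A.inv_mem hx)) w).mp hw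
      rwa [inv_inv] at this
    have h1 := hx' _ hw'
    have e : d * (x * (x⁻¹ * w * x) * x⁻¹) * d⁻¹ = d * w * d⁻¹ := by group
    rw [e] at h1
    calc x⁻¹ * (d * w * d⁻¹) * x⁻¹⁻¹
        = x⁻¹ * (x * (d * (x⁻¹ * w * x) * d⁻¹) * x⁻¹) * x⁻¹⁻¹ := by rw [h1]
      _ = d * (x⁻¹ * w * x⁻¹⁻¹) * d⁻¹ := by group

theorem mem_commSub {W A : Subgroup G} {d : G} {hAW : A ≤ Subgroup.normalizer (W : Set G)}
    {x : G} : x ∈ commSub W A d hAW ↔
      x ∈ A ∧ ∀ w ∈ W, x * (d * w * d⁻¹) * x⁻¹ = d * (x * w * x⁻¹) * d⁻¹ := Iff.rfl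

theorem commSub_le {W A : Subgroup G} {d : G} {hAW : A ≤ Subgroup.normalizer (W : Set G)} :
    commSub W A d hAW ≤ A := fun _ hx => hx.1


/-! ### The four-group lemma -/

/-- The abstract set-up: `W` an elementary abelian `2`-group acted on by `d` (of order three,
without fixed points) and by the elementary abelian `2`-group `A = A₀ ∪ aA₀`, where `a` inverts
and `A₀` centralizes the action of `d`, and `A` satisfies the Thompson replacement inequality. -/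
structure Setup (W A A₀ : Subgroup G) (a d : G) : Prop where
  hWc : ∀ x ∈ W, ∀ y ∈ W, x * y = y * x
  hW2 : ∀ w ∈ W, w * w = 1
  hW1 : W ≠ ⊥
  hdW : d ∈ Subgroup.normalizer (W : Set G)
  hd3 : d ^ 3 = 1
  htr : ∀ w ∈ W, w * (d * w * d⁻¹) * (d * (d * w * d⁻¹) * d⁻¹) = 1
  hAW : A ≤ Subgroup.normalizer (W : Set G)
  hAc : ∀ x ∈ A, ∀ y ∈ A, x * y = y * x
  hA2 : ∀ x ∈ A, x * x = 1
  hA₀ : A₀ ≤ A
  ha : a ∈ A
  hidx : ∀ x ∈ A, x ∈ A₀ ∨ a * x ∈ A₀
  hinv : ∀ w ∈ W, a * (d * w * d⁻¹) * a⁻¹ = d⁻¹ * (a * w * a⁻¹) * d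
  hcomm : ∀ x ∈ A₀, ∀ w ∈ W, x * (d * w * d⁻¹) * x⁻¹ = d * (x * w * x⁻¹) * d⁻¹
  hstar : ∀ B : Subgroup G, B ≤ A →
    Nat.card B * Nat.card ↥(W ⊓ Subgroup.centralizer (B : Set G)) ≤
      Nat.card A * Nat.card ↥(W ⊓ Subgroup.centralizer (A : Set G))

namespace Setup

variable {W A A₀ : Subgroup G} {a d : G}

theorem conj_mem (h : Setup W A A₀ a d) {w : G} (hw : w ∈ W) : d * w * d⁻¹ ∈ W :=
  (Subgroup.mem_normalizer_iff.mp h.hdW w).mp hw

theorem conjA_mem (h : Setup W A A₀ a d) {x w : G} (hx : x ∈ A) (hw : w ∈ W) :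
    x * w * x⁻¹ ∈ W :=
  (Subgroup.mem_normalizer_iff.mp (h.hAW hx) w).mp hw

theorem inv_eq (h : Setup W A A₀ a d) {w : G} (hw : w ∈ W) : w⁻¹ = w :=
  inv_eq_of_mul_eq_one_right (h.hW2 w hw)

theorem invA_eq (h : Setup W A A₀ a d) {x : G} (hx : x ∈ A) : x⁻¹ = x :=
  inv_eq_of_mul_eq_one_right (h.hA2 x hx)

theorem fix_eq_one (h : Setup W A A₀ a d) {w : G} (hw : w ∈ W) (hfix : d * w * d⁻¹ = w) :
    w = 1 := by
  have := h.htr w hw
  rw [hfix, hfix, h.hW2 w hw, one_mul] at this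
  exact this

theorem cube (h : Setup W A A₀ a d) (w : G) : d * (d * (d * w * d⁻¹) * d⁻¹) * d⁻¹ = w := by
  have hd3' : d * d * d = 1 := by rw [← h.hd3, pow_succ, pow_two]
  have : d * (d * (d * w * d⁻¹) * d⁻¹) * d⁻¹ = (d * d * d) * w * (d * d * d)⁻¹ := by group
  rw [this, hd3']; simp

theorem conj_mem_fix (h : Setup W A A₀ a d) {B : Subgroup G} (hB : B ≤ A₀) {u : G}
    (hu : u ∈ W ⊓ Subgroup.centralizer (B : Set G)) :
    d * u * d⁻¹ ∈ W ⊓ Subgroup.centralizer (B : Set G) := by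
  rw [mem_fix_iff] at hu ⊢
  refine ⟨h.conj_mem hu.1, fun x hx => ?_⟩
  have h1 := h.hcomm x (hB hx) u hu.1
  have h2 : x * u * x⁻¹ = u := by rw [hu.2 x hx]; group
  rw [h2] at h1
  exact mul_inv_eq_iff_eq_mul.mp h1

theorem conjA_mem_fix (h : Setup W A A₀ a d) {B : Subgroup G} (hB : B ≤ A) {y : G}
    (hy : y ∈ A) {u : G} (hu : u ∈ W ⊓ Subgroup.centralizer (B : Set G)) :
    y * u * y⁻¹ ∈ W ⊓ Subgroup.centralizer (B : Set G) := by
  rw [mem_fix_iff] at hu ⊢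
  refine ⟨h.conjA_mem hy hu.1, fun x hx => ?_⟩
  have h1 := h.hAc x (hB hx) y hy
  have h2 := hu.2 x hx
  rw [h.invA_eq hy]
  calc x * (y * u * y) = (x * y) * u * y := by group
    _ = (y * x) * u * y := by rw [h1]
    _ = y * (x * u) * y := by group
    _ = y * (u * x) * y := by rw [h2]
    _ = y * u * (x * y) := by group
    _ = y * u * (y * x) := by rw [h1]
    _ = y * u * y * x := by group

theorem eq_one_of_conj_mem (h : Setup W A A₀ a d) {f : G}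
    (hf : f ∈ W ⊓ Subgroup.centralizer (A : Set G))
    (hdf : d * f * d⁻¹ ∈ W ⊓ Subgroup.centralizer (A : Set G)) : f = 1 := by
  rw [mem_fix_iff] at hf hdf
  have h1 : a * f * a⁻¹ = f := by rw [hf.2 a h.ha]; group
  have h2 : a * (d * f * d⁻¹) * a⁻¹ = d * f * d⁻¹ := by rw [hdf.2 a h.ha]; group
  have h3 := h.hinv f hf.1
  rw [h2, h1] at h3
  have e2 : d * (d * f * d⁻¹) * d⁻¹ = f := by rw [h3]; group
  have e3 : d * f * d⁻¹ = f := by
    have := h.cube f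
    rw [e2] at this
    exact this
  exact h.fix_eq_one hf.1 e3

theorem fixA_le (h : Setup W A A₀ a d) :
    W ⊓ Subgroup.centralizer (A : Set G) ≤ W ⊓ Subgroup.centralizer (A₀ : Set G) :=
  inf_le_inf_left _ (Subgroup.centralizer_le (SetLike.coe_subset_coe.mpr h.hA₀))

theorem card_fixA_sq_le [Finite G] (h : Setup W A A₀ a d) :
    Nat.card ↥(W ⊓ Subgroup.centralizer (A : Set G)) *
      Nat.card ↥(W ⊓ Subgroup.centralizer (A : Set G)) ≤
      Nat.card ↥(W ⊓ Subgroup.centralizer (A₀ : Set G)) := by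
  have hFU := h.fixA_le
  rw [← Nat.card_prod]
  let φ : ↥(W ⊓ Subgroup.centralizer (A : Set G)) × ↥(W ⊓ Subgroup.centralizer (A : Set G)) →
      ↥(W ⊓ Subgroup.centralizer (A₀ : Set G)) := fun p =>
    ⟨(p.1 : G) * (d * (p.2 : G) * d⁻¹),
      Subgroup.mul_mem _ (hFU p.1.2) (h.conj_mem_fix le_rfl (hFU p.2.2))⟩
  apply Nat.card_le_card_of_injective φ
  rintro ⟨⟨f₁, h₁⟩, ⟨f₁', h₁'⟩⟩ ⟨⟨f₂, h₂⟩, ⟨f₂', h₂'⟩⟩ hφ
  have hφ' : f₁ * (d * f₁' * d⁻¹) = f₂ * (d * f₂' * d⁻¹) := congrArg Subtype.val hφ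
  have hg : d * (f₂' * f₁'⁻¹) * d⁻¹ = f₂⁻¹ * f₁ := by
    calc d * (f₂' * f₁'⁻¹) * d⁻¹
        = f₂⁻¹ * (f₂ * (d * f₂' * d⁻¹)) * (d * f₁' * d⁻¹)⁻¹ := by group
      _ = f₂⁻¹ * (f₁ * (d * f₁' * d⁻¹)) * (d * f₁' * d⁻¹)⁻¹ := by rw [hφ']
      _ = f₂⁻¹ * f₁ := by group
  have h1 : f₂' * f₁'⁻¹ = 1 :=
    h.eq_one_of_conj_mem (Subgroup.mul_mem _ h₂' (Subgroup.inv_mem _ h₁'))
      (by rw [hg]; exact Subgroup.mul_mem _ (Subgroup.inv_mem _ h₂) h₁)
  have e' : f₂' = f₁' := mul_inv_eq_one.mp h1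
  subst e'
  have e'' : f₁ = f₂ := mul_right_cancel hφ'
  subst e''
  rfl

theorem card_A_le [Finite G] (h : Setup W A A₀ a d) : Nat.card A ≤ 2 * Nat.card A₀ := by
  have haN : Subgroup.zpowers a ≤ Subgroup.normalizer (A₀ : Set G) := by
    rw [Subgroup.zpowers_le]
    apply Subgroup.centralizer_le_normalizer
    rw [Subgroup.mem_centralizer_iff]
    intro x hx
    exact h.hAc x (h.hA₀ hx) a h.ha
  have h1 := card_sup_mul_card_inf (Subgroup.zpowers a) A₀ haN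
  have hle : A ≤ Subgroup.zpowers a ⊔ A₀ := by
    intro x hx
    rcases h.hidx x hx with hx0 | hx0
    · exact Subgroup.mem_sup_right hx0
    · have : x = a⁻¹ * (a * x) := by group
      rw [this]
      exact Subgroup.mul_mem _
        (Subgroup.mem_sup_left (Subgroup.inv_mem _ (Subgroup.mem_zpowers a)))
        (Subgroup.mem_sup_right hx0)
  have h2 : Nat.card ↥(Subgroup.zpowers a) ≤ 2 := by
    rw [Nat.card_zpowers]
    apply Nat.le_of_dvd (by norm_num)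
    apply orderOf_dvd_of_pow_eq_one
    rw [pow_two]; exact h.hA2 a h.ha
  have h3 : 0 < Nat.card ↥(Subgroup.zpowers a ⊓ A₀) := Nat.card_pos
  calc Nat.card A ≤ Nat.card ↥(Subgroup.zpowers a ⊔ A₀) := Subgroup.card_le_of_le hle
    _ ≤ Nat.card ↥(Subgroup.zpowers a ⊔ A₀) * Nat.card ↥(Subgroup.zpowers a ⊓ A₀) :=
        Nat.le_mul_of_pos_right _ h3
    _ = Nat.card ↥(Subgroup.zpowers a) * Nat.card A₀ := h1
    _ ≤ 2 * Nat.card A₀ := Nat.mul_le_mul_right _ h2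

theorem cards [Finite G] (h : Setup W A A₀ a d) :
    Nat.card ↥(W ⊓ Subgroup.centralizer (A : Set G)) = 2 ∧
      Nat.card ↥(W ⊓ Subgroup.centralizer (A₀ : Set G)) = 4 := by
  have hWp : IsPGroup 2 ↥W := by
    rintro ⟨w, hw⟩
    refine ⟨1, Subtype.ext ?_⟩
    show w ^ 2 ^ 1 = 1
    rw [pow_one, pow_two]; exact h.hW2 w hw
  have hF1 : W ⊓ Subgroup.centralizer (A : Set G) ≠ ⊥ := by
    apply inf_centralizer_ne_bot_of_pgroup_action hWp h.hW1 h.hAW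
    intro b hb
    refine ⟨1, ?_⟩
    rw [pow_one, pow_two, h.hA2 b hb]
    exact Subgroup.one_mem _
  have hF2 : 1 < Nat.card ↥(W ⊓ Subgroup.centralizer (A : Set G)) :=
    (Subgroup.one_lt_card_iff_ne_bot _).mpr hF1
  have h6 := h.card_fixA_sq_le
  have h7 := h.card_A_le
  have h8 := h.hstar A₀ h.hA₀
  have hA₀pos : 0 < Nat.card A₀ := Nat.card_pos
  generalize Nat.card ↥(W ⊓ Subgroup.centralizer (A : Set G)) = F at *
  generalize Nat.card ↥(W ⊓ Subgroup.centralizer (A₀ : Set G)) = U at *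
  generalize Nat.card ↥A₀ = n at *
  generalize Nat.card ↥A = m at *
  have h9 : U ≤ 2 * F := by
    have : n * U ≤ n * (2 * F) := by
      calc n * U ≤ m * F := h8
        _ ≤ (2 * n) * F := Nat.mul_le_mul_right _ h7
        _ = n * (2 * F) := by ring
    exact Nat.le_of_mul_le_mul_left this hA₀pos
  have h10 : F ≤ 2 := by
    have : F * F ≤ 2 * F := h6.trans h9
    exact Nat.le_of_mul_le_mul_right this (by omega)
  have hF : F = 2 := by omega
  subst hF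
  constructor
  · rfl
  · omega

/-- The commutators `[x, w]`, `x ∈ A₀`, lie in `C_W(A₀)` when `w` has a centralizer in `A₀`
of largest possible order among the elements of `W` outside `C_W(A₀)`. -/
theorem comm_mem_fix [Finite G] (h : Setup W A A₀ a d) {w : G} (hwW : w ∈ W)
    (hmax : ∀ w' ∈ W, w' ∉ W ⊓ Subgroup.centralizer (A₀ : Set G) →
      Nat.card ↥(A₀ ⊓ Subgroup.centralizer ({w'} : Set G)) ≤
        Nat.card ↥(A₀ ⊓ Subgroup.centralizer ({w} : Set G)))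
    {x : G} (hx : x ∈ A₀) :
    x * w * x⁻¹ * w⁻¹ ∈ W ⊓ Subgroup.centralizer (A₀ : Set G) := by
  by_contra hnot
  have hxA := h.hA₀ hx
  have hv : x * w * x⁻¹ ∈ W := h.conjA_mem hxA hwW
  have hw₁W : x * w * x⁻¹ * w⁻¹ ∈ W := W.mul_mem hv (W.inv_mem hwW)
  have hle : A₀ ⊓ Subgroup.centralizer ({w} : Set G) ≤
      A₀ ⊓ Subgroup.centralizer ({x * w * x⁻¹ * w⁻¹} : Set G) := by
    intro y hy
    rw [Subgroup.mem_inf, Subgroup.mem_centralizer_singleton_iff] at hy ⊢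
    refine ⟨hy.1, ?_⟩
    have hyx : Commute y x := h.hAc y (h.hA₀ hy.1) x hxA
    have hyw : Commute y w := hy.2
    exact (((hyx.mul_right hyw).mul_right hyx.inv_right).mul_right hyw.inv_right)
  have heq := Subgroup.eq_of_le_of_card_ge hle (hmax _ hw₁W hnot)
  have hxmem : x ∈ A₀ ⊓ Subgroup.centralizer ({x * w * x⁻¹ * w⁻¹} : Set G) := by
    rw [Subgroup.mem_inf, Subgroup.mem_centralizer_singleton_iff]
    refine ⟨hx, ?_⟩
    apply mul_inv_eq_iff_eq_mul.mp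
    have hxx : x * x = 1 := h.hA2 x hxA
    calc x * (x * w * x⁻¹ * w⁻¹) * x⁻¹
        = (x * x) * w * (x * x)⁻¹ * (x * w * x⁻¹)⁻¹ := by group
      _ = w * (x * w * x⁻¹)⁻¹ := by rw [hxx]; group
      _ = w * (x * w * x⁻¹) := by rw [h.inv_eq hv]
      _ = (x * w * x⁻¹) * w := h.hWc _ hwW _ hv
      _ = x * w * x⁻¹ * w⁻¹ := by rw [h.inv_eq hwW]
  rw [← heq, Subgroup.mem_inf, Subgroup.mem_centralizer_singleton_iff] at hxmem
  apply hnot
  have : x * w * x⁻¹ * w⁻¹ = 1 := by rw [hxmem.2]; group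
  rw [this]
  exact Subgroup.one_mem _

theorem card_le_of_comm_mem [Finite G] (h : Setup W A A₀ a d) {w : G} {S : Subgroup G}
    (hS : S ≤ W ⊓ Subgroup.centralizer (A₀ : Set G))
    (hφ : ∀ x ∈ A₀, x * w * x⁻¹ * w⁻¹ ∈ S) :
    Nat.card A₀ ≤ Nat.card ↥(A₀ ⊓ Subgroup.centralizer ({w} : Set G)) * Nat.card S := by
  let φ : ↥A₀ →* ↥S :=
    { toFun := fun x => ⟨(x : G) * w * (x : G)⁻¹ * w⁻¹, hφ x x.2⟩
      map_one' := by apply Subtype.ext; simp
      map_mul' := by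
        intro x y
        apply Subtype.ext
        show ((x : G) * (y : G)) * w * ((x : G) * (y : G))⁻¹ * w⁻¹ =
          ((x : G) * w * (x : G)⁻¹ * w⁻¹) * ((y : G) * w * (y : G)⁻¹ * w⁻¹)
        have hy := mem_fix_iff.mp (hS (hφ y y.2))
        have hx := mem_fix_iff.mp (hS (hφ x x.2))
        have h1 : (x : G) * ((y : G) * w * (y : G)⁻¹ * w⁻¹) =
            ((y : G) * w * (y : G)⁻¹ * w⁻¹) * (x : G) := hy.2 x x.2
        calc ((x : G) * (y : G)) * w * ((x : G) * (y : G))⁻¹ * w⁻¹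
            = ((x : G) * ((y : G) * w * (y : G)⁻¹ * w⁻¹)) * (x : G)⁻¹ *
                ((x : G) * w * (x : G)⁻¹ * w⁻¹) := by group
          _ = ((y : G) * w * (y : G)⁻¹ * w⁻¹) * ((x : G) * w * (x : G)⁻¹ * w⁻¹) := by
              rw [h1]; group
          _ = _ := h.hWc _ hy.1 _ hx.1 }
  have hker : φ.ker = (A₀ ⊓ Subgroup.centralizer ({w} : Set G)).subgroupOf A₀ := by
    ext x
    rw [MonoidHom.mem_ker, Subgroup.mem_subgroupOf, Subgroup.mem_inf,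
      Subgroup.mem_centralizer_singleton_iff]
    constructor
    · intro hx
      have : (x : G) * w * (x : G)⁻¹ * w⁻¹ = 1 := congrArg Subtype.val hx
      refine ⟨x.2, ?_⟩
      calc (x : G) * w = ((x : G) * w * (x : G)⁻¹ * w⁻¹) * w * (x : G) := by group
        _ = w * (x : G) := by rw [this, one_mul]
    · rintro ⟨-, hx⟩
      apply Subtype.ext
      show (x : G) * w * (x : G)⁻¹ * w⁻¹ = 1
      rw [hx]; group
  have h1 := Subgroup.card_mul_index φ.ker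
  rw [Subgroup.index_ker, hker] at h1
  have h2 : Nat.card ↥((A₀ ⊓ Subgroup.centralizer ({w} : Set G)).subgroupOf A₀) =
      Nat.card ↥(A₀ ⊓ Subgroup.centralizer ({w} : Set G)) :=
    Nat.card_congr (Subgroup.subgroupOfEquivOfLe inf_le_left).toEquiv
  rw [h2] at h1
  rw [← h1]
  exact Nat.mul_le_mul_left _ (Subgroup.card_le_card_group _)

theorem le_fix [Finite G] (h : Setup W A A₀ a d) :
    W ≤ W ⊓ Subgroup.centralizer (A₀ : Set G) := by
  obtain ⟨hF2, hU4⟩ := h.cards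
  by_contra hnle
  obtain ⟨w₀, hw₀W, hw₀U⟩ := SetLike.not_le_iff_exists.mp hnle
  haveI : Nonempty {w : G // w ∈ W ∧ w ∉ W ⊓ Subgroup.centralizer (A₀ : Set G)} :=
    ⟨⟨w₀, hw₀W, hw₀U⟩⟩
  obtain ⟨⟨w, hwW, hwU⟩, hmax⟩ := Finite.exists_max
    (fun w : {w : G // w ∈ W ∧ w ∉ W ⊓ Subgroup.centralizer (A₀ : Set G)} =>
      Nat.card ↥(A₀ ⊓ Subgroup.centralizer ({(w : G)} : Set G)))
  have hmax' : ∀ w' ∈ W, w' ∉ W ⊓ Subgroup.centralizer (A₀ : Set G) →
      Nat.card ↥(A₀ ⊓ Subgroup.centralizer ({w'} : Set G)) ≤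
        Nat.card ↥(A₀ ⊓ Subgroup.centralizer ({w} : Set G)) :=
    fun w' h1 h2 => hmax ⟨w', h1, h2⟩
  have haa : a * a = 1 := h.hA2 a h.ha
  have hax : ∀ x ∈ A₀, a * x * a⁻¹ = x := by
    intro x hx
    rw [h.hAc a h.ha x (h.hA₀ hx)]; group
  have hconj : ∀ x ∈ A₀, ∀ v : G, a * (x * v * x⁻¹ * v⁻¹) * a⁻¹ =
      x * (a * v * a⁻¹) * x⁻¹ * (a * v * a⁻¹)⁻¹ := by
    intro x hx v
    calc a * (x * v * x⁻¹ * v⁻¹) * a⁻¹
        = (a * x * a⁻¹) * (a * v * a⁻¹) * (a * x * a⁻¹)⁻¹ * (a * v * a⁻¹)⁻¹ := by group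
      _ = _ := by rw [hax x hx]
  obtain ⟨ŵ, hŵW, hŵU, hŵmax, hŵa⟩ : ∃ ŵ ∈ W, ŵ ∉ W ⊓ Subgroup.centralizer (A₀ : Set G) ∧
      (∀ w' ∈ W, w' ∉ W ⊓ Subgroup.centralizer (A₀ : Set G) →
        Nat.card ↥(A₀ ⊓ Subgroup.centralizer ({w'} : Set G)) ≤
          Nat.card ↥(A₀ ⊓ Subgroup.centralizer ({ŵ} : Set G))) ∧
      (∀ x ∈ A₀, a * (x * ŵ * x⁻¹ * ŵ⁻¹) * a⁻¹ = x * ŵ * x⁻¹ * ŵ⁻¹) := by
    obtain ⟨v, hv_def⟩ : ∃ v, v = a * w * a⁻¹ := ⟨_, rfl⟩
    have hvW : v ∈ W := by rw [hv_def]; exact h.conjA_mem h.ha hwW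
    have hav : a * v * a⁻¹ = w := by
      rw [hv_def]
      calc a * (a * w * a⁻¹) * a⁻¹ = (a * a) * w * (a * a)⁻¹ := by group
        _ = w := by rw [haa]; group
    by_cases hcase : w * v ∈ W ⊓ Subgroup.centralizer (A₀ : Set G)
    · refine ⟨w, hwW, hwU, hmax', fun x hx => ?_⟩
      rw [hconj x hx w, ← hv_def]
      have hu := mem_fix_iff.mp hcase
      have hvw : v = (w * v) * w := by
        calc v = (w * w) * v := by rw [h.hW2 w hwW, one_mul]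
          _ = w * (w * v) := mul_assoc _ _ _
          _ = w * (v * w) := by rw [h.hWc w hwW v hvW]
          _ = w * v * w := (mul_assoc _ _ _).symm
      have hxu : x * (w * v) * x⁻¹ = w * v := by rw [hu.2 x hx]; group
      have ht : x * w * x⁻¹ * w⁻¹ ∈ W :=
        W.mul_mem (h.conjA_mem (h.hA₀ hx) hwW) (W.inv_mem hwW)
      calc x * v * x⁻¹ * v⁻¹ = x * ((w * v) * w) * x⁻¹ * ((w * v) * w)⁻¹ := by rw [← hvw]
        _ = (x * (w * v) * x⁻¹) * (x * w * x⁻¹ * w⁻¹) * (w * v)⁻¹ := by group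
        _ = (w * v) * (x * w * x⁻¹ * w⁻¹) * (w * v)⁻¹ := by rw [hxu]
        _ = x * w * x⁻¹ * w⁻¹ := by rw [h.hWc (w * v) hu.1 _ ht]; group
    · have hŵW : w * v ∈ W := W.mul_mem hwW hvW
      have hfix : a * (w * v) * a⁻¹ = w * v := by
        calc a * (w * v) * a⁻¹ = (a * w * a⁻¹) * (a * v * a⁻¹) := by group
          _ = v * w := by rw [← hv_def, hav]
          _ = w * v := h.hWc v hvW w hwW
      refine ⟨w * v, hŵW, hcase, fun w' h1 h2 => ?_, fun x hx => ?_⟩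
      · refine (hmax' w' h1 h2).trans (Subgroup.card_le_of_le ?_)
        intro y hy
        rw [Subgroup.mem_inf, Subgroup.mem_centralizer_singleton_iff] at hy ⊢
        refine ⟨hy.1, ?_⟩
        have hya : Commute y a := h.hAc y (h.hA₀ hy.1) a h.ha
        have hyw : Commute y w := hy.2
        rw [hv_def]
        exact hyw.mul_right ((hya.mul_right hyw).mul_right hya.inv_right)
      · rw [hconj x hx, hfix]
  have hM : ∀ x ∈ A₀, x * ŵ * x⁻¹ * ŵ⁻¹ ∈ W ⊓ Subgroup.centralizer (A₀ : Set G) :=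
    fun x hx => h.comm_mem_fix hŵW hŵmax hx
  have hMF : ∀ x ∈ A₀, x * ŵ * x⁻¹ * ŵ⁻¹ ∈ W ⊓ Subgroup.centralizer (A : Set G) := by
    intro x hx
    have h1 := mem_fix_iff.mp (hM x hx)
    rw [mem_fix_iff]
    refine ⟨h1.1, fun y hy => ?_⟩
    have hat : a * (x * ŵ * x⁻¹ * ŵ⁻¹) = (x * ŵ * x⁻¹ * ŵ⁻¹) * a :=
      mul_inv_eq_iff_eq_mul.mp (hŵa x hx)
    rcases h.hidx y hy with hy0 | hy0
    · exact h1.2 y hy0
    · have h2 := h1.2 (a * y) hy0
      generalize x * ŵ * x⁻¹ * ŵ⁻¹ = t at hat h2 ⊢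
      calc y * t = a⁻¹ * ((a * y) * t) := by group
        _ = a⁻¹ * (t * (a * y)) := by rw [h2]
        _ = (a⁻¹ * (t * a)) * y := by group
        _ = (a⁻¹ * (a * t)) * y := by rw [hat]
        _ = t * y := by group
  have hcardA₀ := h.card_le_of_comm_mem (w := ŵ) h.fixA_le hMF
  rw [hF2] at hcardA₀
  have hBA₀ : A₀ ⊓ Subgroup.centralizer ({ŵ} : Set G) ≤ A₀ := inf_le_left
  have hst := h.hstar _ (hBA₀.trans h.hA₀)
  rw [hF2] at hst
  have hA := h.card_A_le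
  have hU₀Y : W ⊓ Subgroup.centralizer (A₀ : Set G) ≤
      W ⊓ Subgroup.centralizer ((A₀ ⊓ Subgroup.centralizer ({ŵ} : Set G) : Subgroup G) : Set G) :=
    inf_le_inf_left _ (Subgroup.centralizer_le (SetLike.coe_subset_coe.mpr hBA₀))
  have hŵY : ŵ ∈ W ⊓
      Subgroup.centralizer ((A₀ ⊓ Subgroup.centralizer ({ŵ} : Set G) : Subgroup G) : Set G) := by
    rw [mem_fix_iff]
    refine ⟨hŵW, fun x hx => ?_⟩
    exact Subgroup.mem_centralizer_singleton_iff.mp hx.2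
  have hδŵY := h.conj_mem_fix hBA₀ hŵY
  have hdU₀ : ∀ u ∈ W ⊓ Subgroup.centralizer (A₀ : Set G),
      d * u * d⁻¹ ∈ W ⊓ Subgroup.centralizer (A₀ : Set G) :=
    fun u hu => h.conj_mem_fix le_rfl hu
  have hŵN : ŵ ∈ Subgroup.normalizer
      ((W ⊓ Subgroup.centralizer (A₀ : Set G) : Subgroup G) : Set G) := by
    apply Subgroup.centralizer_le_normalizer
    rw [Subgroup.mem_centralizer_iff]
    intro u hu
    exact h.hWc u hu.1 ŵ hŵW
  have hU₁Y : (W ⊓ Subgroup.centralizer (A₀ : Set G)) ⊔ Subgroup.zpowers ŵ ≤ W ⊓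
      Subgroup.centralizer ((A₀ ⊓ Subgroup.centralizer ({ŵ} : Set G) : Subgroup G) : Set G) :=
    sup_le hU₀Y (Subgroup.zpowers_le.mpr hŵY)
  have hU₁U₀ : ¬ ((W ⊓ Subgroup.centralizer (A₀ : Set G)) ⊔ Subgroup.zpowers ŵ ≤
      W ⊓ Subgroup.centralizer (A₀ : Set G)) := fun hle =>
    hŵU (hle (Subgroup.mem_sup_right (Subgroup.mem_zpowers ŵ)))
  have hYU₁ : ¬ (W ⊓
      Subgroup.centralizer ((A₀ ⊓ Subgroup.centralizer ({ŵ} : Set G) : Subgroup G) : Set G) ≤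
      (W ⊓ Subgroup.centralizer (A₀ : Set G)) ⊔ Subgroup.zpowers ŵ) := by
    intro hle
    have hmem := hle hδŵY
    rcases mem_or_mul_mem_of_mem_sup_zpowers hŵN (h.hW2 ŵ hŵW) hmem with h1 | h1
    · have h2 := hdU₀ _ (hdU₀ _ h1)
      rw [h.cube ŵ] at h2
      exact hŵU h2
    · have htr := h.htr ŵ hŵW
      have hδW := h.conj_mem hŵW
      have h2 : d * (d * ŵ * d⁻¹) * d⁻¹ = (d * ŵ * d⁻¹) * ŵ := by
        have := eq_inv_of_mul_eq_one_right htr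
        rw [this, h.inv_eq (W.mul_mem hŵW hδW)]
        exact h.hWc _ hŵW _ hδW
      have h3 : d * (d * ŵ * d⁻¹) * d⁻¹ ∈ W ⊓ Subgroup.centralizer (A₀ : Set G) := by
        rw [h2]; exact h1
      have h4 := hdU₀ _ h3
      rw [h.cube ŵ] at h4
      exact hŵU h4
  have c1 := two_mul_card_le (le_sup_left : W ⊓ Subgroup.centralizer (A₀ : Set G) ≤
    (W ⊓ Subgroup.centralizer (A₀ : Set G)) ⊔ Subgroup.zpowers ŵ) hU₁U₀
  have c2 := two_mul_card_le hU₁Y hYU₁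
  rw [hU4] at c1
  have hBpos : 0 < Nat.card ↥(A₀ ⊓ Subgroup.centralizer ({ŵ} : Set G)) := Nat.card_pos
  have c3 : Nat.card ↥(A₀ ⊓ Subgroup.centralizer ({ŵ} : Set G)) * 16 ≤
      Nat.card ↥(A₀ ⊓ Subgroup.centralizer ({ŵ} : Set G)) * Nat.card ↥(W ⊓
      Subgroup.centralizer ((A₀ ⊓ Subgroup.centralizer ({ŵ} : Set G) : Subgroup G) : Set G)) :=
    Nat.mul_le_mul_left _ (by omega)
  generalize Nat.card ↥(A₀ ⊓ Subgroup.centralizer ({ŵ} : Set G)) * Nat.card ↥(W ⊓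
      Subgroup.centralizer ((A₀ ⊓ Subgroup.centralizer ({ŵ} : Set G) : Subgroup G) : Set G)) = p
    at c3 hst
  omega

/-- **The four-group lemma.** -/
theorem card_eq_four [Finite G] (h : Setup W A A₀ a d) : Nat.card W = 4 := by
  have h2 : W ⊓ Subgroup.centralizer (A₀ : Set G) = W := le_antisymm inf_le_left h.le_fix
  have := h.cards.2
  rwa [h2] at this

end Setup

end Cfsg.Agent.Lib.Helper17.JExD
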