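import Mathlib
import Cfsg.Agent.Lib.Helper17.JUniq

set_option autoImplicit false

/-! Pure elements (transvections on `V`) in `J(T)` for a `J(T)`-component, and uniqueness of
components of `L` for different Sylow `2`-subgroups of `L`. -/

namespace Cfsg.Agent.Lib.Helper17.JPure

open Cfsg Cfsg.Agent.Lib.Helper17 Cfsg.Agent.Lib.Helper27 Cfsg.Agent.Lib.Helper17.JComp
  Cfsg.Agent.Lib.Helper17.JStruct Cfsg.Agent.Lib.Helper17.JUniq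
open Cfsg.Agent.Lib.Helper20
open scoped commutatorElement

variable {G : Type*} [Group G]

theorem subgroupOf_mem_maxEA {p : ℕ} {P B : Subgroup G} (hB : IsMaxEAIn p P B) :
    B.subgroupOf P ∈ maxElementaryAbelianSubgroups p ↥P := by
  have hB' : B = (B.subgroupOf P).map P.subtype := by
    rw [Subgroup.map_subgroupOf_eq_of_le hB.1]
  refine ⟨?_, ?_⟩
  · rw [← ea_map_subtype_iff, ← hB']; exact hB.2.1
  · intro C hC
    have := hB.2.2 (C.map P.subtype) (Subgroup.map_subtype_le C)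
      ((ea_map_subtype_iff p P C).mpr hC)
    rw [card_map_subtype'] at this
    calc Nat.card C ≤ Nat.card B := this
      _ = Nat.card ((B.subgroupOf P).map P.subtype) := by rw [← hB']
      _ = _ := card_map_subtype' _ _

/-- A maximal elementary abelian subgroup of `↥L` not centralizing `W' ≤ V` contains an element
not centralizing `W'` whose centralizer in `V` has index `2`. -/
theorem exists_transvection [Finite G]
    (hN : ∀ N : Subgroup G, IsTwoLocal N → Group.IsSolvable ↥N) {T L : Subgroup G}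
    (hLT : L ∈ jOvergroups T) {A : Subgroup ↥L}
    (hA : A ∈ maxElementaryAbelianSubgroups 2 ↥L) {W' : Subgroup ↥L} (hW'V : W' ≤ VΛ L)
    (hAW : ¬ A ≤ Subgroup.centralizer (W' : Set ↥L)) :
    ∃ a ∈ A, a ∉ Subgroup.centralizer (W' : Set ↥L) ∧
      Nat.card ↥(VΛ L) = 2 * Nat.card ↥(VΛ L ⊓
        Subgroup.centralizer ((Subgroup.zpowers a : Subgroup ↥L) : Set ↥L)) := by
  haveI hVn := VΛ_normal hLT
  have hVe := VΛ_ea hLT
  have hsol : Group.IsSolvable ↥L := solvable_of_mem_jOvergroups hN hLT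
  have hsep : IsPSolvable 2 ↥L := Cfsg.Agent.Lib.Helper25.isPSolvable_of_isSolvable 2 hsol
  have hgen : VΛ L = ⨆ S : Sylow 2 ↥L, VΛ L ⊓
      Subgroup.centralizer ((S : Subgroup ↥L) : Set ↥L) := by
    apply le_antisymm
    · conv_lhs => unfold VΛ
      apply iSup_le
      intro S
      refine le_trans (le_inf ?_ ?_)
        (le_iSup (fun S : Sylow 2 ↥L => VΛ L ⊓
          Subgroup.centralizer ((S : Subgroup ↥L) : Set ↥L)) S)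
      · exact le_iSup (fun S : Sylow 2 ↥L => omegaOne 2 ((S : Subgroup ↥L) ⊓
          Subgroup.centralizer ((S : Subgroup ↥L) : Set ↥L))) S
      · unfold omegaOne
        rw [Subgroup.closure_le]
        rintro x ⟨hx, -⟩
        exact (Subgroup.mem_inf.1 hx).2
    · exact iSup_le fun S => inf_le_left
  have hOp := Cfsg.Agent.S0600.result (VΛ L) hVe hgen
  obtain ⟨hV'e, hHV', hf', hS1, -⟩ := FFB.bridge (VΛ L) hsep hVe hOp
  haveI : IsMulCommutative ↥(FFB.Vimg (VΛ L)) := hV'e.1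
  have hSetup := BO.setup_of hV'e hHV' hf'
  have hAbo : IsBestOffenderOn 2 (VΛ L) A := Cfsg.Agent.S0606.result (VΛ L) hVe A hA
  have hA'bo : IsBestOffenderOn 2 (FFB.Vimg (VΛ L)) (A.map (FFB.psi (VΛ L))) :=
    FFB.bestOffender_map (VΛ L) hAbo hA.1
  have hA'H : A.map (FFB.psi (VΛ L)) ≤ (thompsonSubgroup 2 ↥L).map (FFB.psi (VΛ L)) :=
    Subgroup.map_mono (le_sSup hA)
  have hOff := BO.off_of hHV' hf' hS1 hA'H hA'bo
  have hker : ∀ x : ↥L, FFB.psi (VΛ L) x = 1 → x ∈ Subgroup.centralizer (W' : Set ↥L) := by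
    intro x hx
    have h1 : x ∈ Subgroup.centralizer ((VΛ L : Subgroup ↥L) : Set ↥L) :=
      (FFB.mem_ker_psi (VΛ L)).mp (MonoidHom.mem_ker.mpr hx)
    exact Subgroup.centralizer_le (SetLike.coe_subset_coe.mpr hW'V) h1
  have hne : A.map (FFB.psi (VΛ L)) ≠ ⊥ := by
    intro h
    apply hAW
    intro a ha
    apply hker
    have : FFB.psi (VΛ L) a ∈ A.map (FFB.psi (VΛ L)) := Subgroup.mem_map_of_mem _ ha
    rw [h, Subgroup.mem_bot] at this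
    exact this
  obtain ⟨k, f, hf, -, hsup⟩ := BO.exists_family hSetup _ (A.map (FFB.psi (VΛ L))) rfl hOff hne
  have hmm := BO.mm_eq_card hSetup _ (A.map (FFB.psi (VΛ L))) rfl hOff hne
  have hex : ∃ i, ∃ a ∈ A, FFB.psi (VΛ L) a ∈ f i ∧
      a ∉ Subgroup.centralizer (W' : Set ↥L) := by
    by_contra hcon
    push Not at hcon
    apply hAW
    have hle : A.map (FFB.psi (VΛ L)) ≤
        (A ⊓ Subgroup.centralizer (W' : Set ↥L)).map (FFB.psi (VΛ L)) := by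
      rw [← hsup]
      apply iSup_le
      intro i x hx
      obtain ⟨a, ha, rfl⟩ := (hf i).1 hx
      exact ⟨a, ⟨ha, hcon i a ha hx⟩, rfl⟩
    intro a ha
    obtain ⟨b, hb, hba⟩ := hle (Subgroup.mem_map_of_mem (FFB.psi (VΛ L)) ha)
    have h1 : FFB.psi (VΛ L) (a * b⁻¹) = 1 := by
      rw [map_mul, map_inv, hba, mul_inv_cancel]
    have h2 := hker _ h1
    have : a = (a * b⁻¹) * b := by group
    rw [this]
    exact Subgroup.mul_mem _ h2 hb.2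
  obtain ⟨i, a, haA, hai, haW⟩ := hex
  refine ⟨a, haA, haW, ?_⟩
  have ha1 : FFB.psi (VΛ L) a ≠ 1 := fun h => haW (hker a h)
  have ha2 : (FFB.psi (VΛ L) a) ^ 2 = 1 := by rw [← map_pow, hA.1.2 a haA, map_one]
  have horder : orderOf (FFB.psi (VΛ L) a) = 2 := by
    have hdvd : orderOf (FFB.psi (VΛ L) a) ∣ 2 := orderOf_dvd_of_pow_eq_one ha2
    rcases (Nat.dvd_prime Nat.prime_two).mp hdvd with h | h
    · exact absurd (orderOf_eq_one_iff.mp h) ha1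
    · exact h
  have hfi : Subgroup.zpowers (FFB.psi (VΛ L) a) = f i := by
    apply Subgroup.eq_of_le_of_card_ge (Subgroup.zpowers_le.mpr hai)
    rw [(hf i).2.1, Nat.card_zpowers, horder]
  have hmap : (Subgroup.zpowers a).map (FFB.psi (VΛ L)) = Subgroup.zpowers (FFB.psi (VΛ L) a) :=
    MonoidHom.map_zpowers (FFB.psi (VΛ L)) a
  have h1 := (hf i).2.2
  rw [hmm] at h1
  unfold Cfsg.H5.mm Cfsg.H5.fix at h1
  rw [(hf i).2.1, ← hfi, ← hmap, FFB.card_fix_map] at h1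
  have hcardV : Nat.card ↥(FFB.Vimg (VΛ L)) = Nat.card ↥(VΛ L) := by
    unfold FFB.Vimg
    rw [MonoidHom.range_eq_map, Subgroup.card_map_of_injective (FFB.iota_injective (VΛ L)),
      Subgroup.card_top]
  rw [← hcardV, ← h1]

/-- A pure element of `J(T)` for a `J(T)`-component `K` of `L` with `W_K ≤ V`. -/
theorem exists_pure [Finite G]
    (hN : ∀ N : Subgroup G, IsTwoLocal N → Group.IsSolvable ↥N) {T L K : Subgroup G}
    (hLT : L ∈ jOvergroups T) (hK : IsJComponent T K) (hWV : wOf K ≤ VG L) :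
    ∃ a ∈ thompsonSubgroupOf 2 T,
      a ∉ Subgroup.centralizer ((wOf K : Subgroup G) : Set G) ∧
      ∀ v ∈ VG L, ∀ v' ∈ VG L, a * v ≠ v * a → a * v' ≠ v' * a →
        a * (v * v') = (v * v') * a := by
  have hS := hLT.1
  obtain ⟨B, hB, hBW⟩ : ∃ B, IsMaxEAIn 2 T B ∧
      ¬ B ≤ Subgroup.centralizer ((wOf K : Subgroup G) : Set G) := by
    by_contra hcon
    push Not at hcon
    apply thompson_not_le_centralizer_wOf hK
    rw [thompsonSubgroupOf_eq]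
    exact sSup_le fun B hB => hcon B hB
  have hBL : IsMaxEAIn 2 L B := by
    refine ⟨hB.1.trans hS.1, hB.2.1, fun C hC hCe => ?_⟩
    have hC2 : IsPGroup 2 C := Cfsg.H5.isPGroup_of_isElementaryAbelian hCe
    obtain ⟨l, -, hl⟩ := exists_conj_le hS hC hC2
    have := hB.2.2 _ hl ((ea_map_equiv_iff 2 (MulAut.conj l) C).mpr hCe)
    rwa [card_map_equiv] at this
  have hA := subgroupOf_mem_maxEA hBL
  have hW'V : (wOf K).subgroupOf L ≤ VΛ L := by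
    intro x hx
    exact (mem_VG_iff x.2).mp (hWV (Subgroup.mem_subgroupOf.mp hx))
  have hAW : ¬ B.subgroupOf L ≤
      Subgroup.centralizer (((wOf K).subgroupOf L : Subgroup ↥L) : Set ↥L) := by
    intro h
    apply hBW
    intro b hb
    rw [Subgroup.mem_centralizer_iff]
    intro w hw
    have hbL : b ∈ L := hBL.1 hb
    have hwL : w ∈ L := VG_le L (hWV hw)
    have h1 : (⟨b, hbL⟩ : L) ∈ B.subgroupOf L := Subgroup.mem_subgroupOf.mpr hb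
    have h2 := (Subgroup.mem_centralizer_iff.mp (h h1)) ⟨w, hwL⟩
      (Subgroup.mem_subgroupOf.mpr hw)
    exact congrArg Subtype.val h2
  obtain ⟨a, haA, haW, hcard⟩ := exists_transvection hN hLT hA hW'V hAW
  refine ⟨a.1, le_thompson_of_isMaxEAIn hB (Subgroup.mem_subgroupOf.mp haA), ?_, ?_⟩
  · intro h
    apply haW
    rw [Subgroup.mem_centralizer_iff]
    intro w hw
    apply Subtype.ext
    exact (Subgroup.mem_centralizer_iff.mp h) w.1 (Subgroup.mem_subgroupOf.mp hw)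
  · have hidx : ((VΛ L ⊓ Subgroup.centralizer
        ((Subgroup.zpowers a : Subgroup ↥L) : Set ↥L)).subgroupOf (VΛ L)).index = 2 := by
      have h1 := Subgroup.index_mul_card ((VΛ L ⊓ Subgroup.centralizer
        ((Subgroup.zpowers a : Subgroup ↥L) : Set ↥L)).subgroupOf (VΛ L))
      have h2 : Nat.card ↥((VΛ L ⊓ Subgroup.centralizer
          ((Subgroup.zpowers a : Subgroup ↥L) : Set ↥L)).subgroupOf (VΛ L)) =
          Nat.card ↥(VΛ L ⊓ Subgroup.centralizer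
            ((Subgroup.zpowers a : Subgroup ↥L) : Set ↥L)) :=
        Nat.card_congr (Subgroup.subgroupOfEquivOfLe inf_le_left).toEquiv
      rw [h2, hcard] at h1
      have hpos : 0 < Nat.card ↥(VΛ L ⊓ Subgroup.centralizer
          ((Subgroup.zpowers a : Subgroup ↥L) : Set ↥L)) := Nat.card_pos
      exact Nat.eq_of_mul_eq_mul_right hpos h1
    have key : ∀ x : ↥L, ∀ hx : x ∈ VΛ L, (⟨x, hx⟩ : ↥(VΛ L)) ∈
        (VΛ L ⊓ Subgroup.centralizer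
          ((Subgroup.zpowers a : Subgroup ↥L) : Set ↥L)).subgroupOf (VΛ L) ↔ a * x = x * a := by
      intro x hx
      rw [Subgroup.mem_subgroupOf, Subgroup.mem_inf]
      constructor
      · rintro ⟨-, h⟩
        exact (Subgroup.mem_centralizer_iff.mp h) a (Subgroup.mem_zpowers a)
      · intro h
        refine ⟨hx, ?_⟩
        rw [Subgroup.mem_centralizer_iff]
        intro g hg
        obtain ⟨n, rfl⟩ := Subgroup.mem_zpowers_iff.mp hg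
        exact ((show Commute a x from h).zpow_left n).eq
    intro v hv v' hv' hne hne'
    obtain ⟨y, hy, rfl⟩ := hv
    obtain ⟨y', hy', rfl⟩ := hv'
    have h1 : (⟨y, hy⟩ : ↥(VΛ L)) ∉ (VΛ L ⊓ Subgroup.centralizer
        ((Subgroup.zpowers a : Subgroup ↥L) : Set ↥L)).subgroupOf (VΛ L) :=
      fun h => hne (congrArg Subtype.val ((key y hy).mp h))
    have h2 : (⟨y', hy'⟩ : ↥(VΛ L)) ∉ (VΛ L ⊓ Subgroup.centralizer
        ((Subgroup.zpowers a : Subgroup ↥L) : Set ↥L)).subgroupOf (VΛ L) :=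
      fun h => hne' (congrArg Subtype.val ((key y' hy').mp h))
    have h3 : (⟨y, hy⟩ : ↥(VΛ L)) * ⟨y', hy'⟩ ∈ (VΛ L ⊓ Subgroup.centralizer
        ((Subgroup.zpowers a : Subgroup ↥L) : Set ↥L)).subgroupOf (VΛ L) :=
      (Subgroup.mul_mem_iff_of_index_two hidx).mpr (iff_of_false h1 h2)
    have h4 := (key (y * y') ((VΛ L).mul_mem hy hy')).mp h3
    exact congrArg Subtype.val h4

/-- A pure element centralizes `C_V(K)`. -/
theorem pure_comm [Finite G] {T L K : Subgroup G} (hK : IsJComponent T K) {d : G} (hd : d ∈ K)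
    (hdQ : d ∉ pCoreOf 2 K) (hd3 : d ^ 3 = 1) {a : G} (haJ : a ∈ thompsonSubgroupOf 2 T)
    (haW : a ∉ Subgroup.centralizer ((wOf K : Subgroup G) : Set G))
    (hidx : ∀ v ∈ VG L, ∀ v' ∈ VG L, a * v ≠ v * a → a * v' ≠ v' * a →
      a * (v * v') = (v * v') * a)
    (hWV : wOf K ≤ VG L) {v₀ : G} (hv₀ : v₀ ∈ VG L) (hv₀K : ∀ k ∈ K, k * v₀ = v₀ * k) :
    a * v₀ = v₀ * a := by
  by_contra hne
  have haN : a ∈ Subgroup.normalizer (K : Set G) := thompson_le_normalizer hK haJ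
  have haNW : a ∈ Subgroup.normalizer ((wOf K : Subgroup G) : Set G) :=
    normalizer_le_normalizer_wOf hK.2.2.1 haN
  obtain ⟨w, hw, hwa⟩ : ∃ w ∈ wOf K, a * w ≠ w * a := by
    by_contra hcon
    push Not at hcon
    apply haW
    rw [Subgroup.mem_centralizer_iff]
    intro w hw
    exact (hcon w hw).symm
  have h := hidx v₀ hv₀ w (hWV hw) hne hwa
  have hprod : (a * v₀ * a⁻¹) * (a * w * a⁻¹) = v₀ * w := by
    calc (a * v₀ * a⁻¹) * (a * w * a⁻¹) = a * (v₀ * w) * a⁻¹ := by group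
      _ = (v₀ * w) * a * a⁻¹ := by rw [h]
      _ = v₀ * w := by group
  have hx_eq : v₀⁻¹ * (a * v₀ * a⁻¹) = w * (a * w * a⁻¹)⁻¹ := by
    calc v₀⁻¹ * (a * v₀ * a⁻¹)
        = v₀⁻¹ * ((a * v₀ * a⁻¹) * (a * w * a⁻¹)) * (a * w * a⁻¹)⁻¹ := by group
      _ = v₀⁻¹ * (v₀ * w) * (a * w * a⁻¹)⁻¹ := by rw [hprod]
      _ = w * (a * w * a⁻¹)⁻¹ := by group
  have hxW : v₀⁻¹ * (a * v₀ * a⁻¹) ∈ wOf K := by
    rw [hx_eq]
    exact (wOf K).mul_mem hw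
      ((wOf K).inv_mem ((Subgroup.mem_normalizer_iff.mp haNW w).mp hw))
  have hk' : a⁻¹ * d * a ∈ K := by
    have := (Subgroup.mem_normalizer_iff.mp (Subgroup.inv_mem _ haN) d).mp hd
    rwa [inv_inv] at this
  have c1 : Commute d v₀ := hv₀K d hd
  have c2 : Commute d (a * v₀ * a⁻¹) := by
    show d * (a * v₀ * a⁻¹) = (a * v₀ * a⁻¹) * d
    calc d * (a * v₀ * a⁻¹) = a * ((a⁻¹ * d * a) * v₀) * a⁻¹ := by group
      _ = a * (v₀ * (a⁻¹ * d * a)) * a⁻¹ := by rw [hv₀K _ hk']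
      _ = (a * v₀ * a⁻¹) * d := by group
  have c3 : Commute d (v₀⁻¹ * (a * v₀ * a⁻¹)) := (Commute.inv_right c1).mul_right c2
  have hxd : d * (v₀⁻¹ * (a * v₀ * a⁻¹)) * d⁻¹ = v₀⁻¹ * (a * v₀ * a⁻¹) := by
    rw [c3.eq, mul_inv_cancel_right]
  have hx1 : v₀⁻¹ * (a * v₀ * a⁻¹) = 1 := by
    by_contra hx1
    exact conj_ne_self hK hd hdQ hd3 hxW hx1 hxd
  have hfin : v₀ = a * v₀ * a⁻¹ := inv_mul_eq_one.mp hx1
  apply hne
  calc a * v₀ = (a * v₀ * a⁻¹) * a := by group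
    _ = v₀ * a := by rw [← hfin]

section Component

variable [Finite G]

/-- `V = C_V(K) W_K`. -/
theorem exists_decomp_VG (hL : IsCharacteristicTwoType G)
    (hN : ∀ N : Subgroup G, IsTwoLocal N → Group.IsSolvable ↥N)
    (hZ : ∀ S : Sylow 2 G, Subgroup.centralizer (omegaCenterOf (S : Subgroup G) : Set G) ≤
      Subgroup.normalizer ((S : Subgroup G) : Set G))
    {T L K : Subgroup G} (hT : IsPGroup 2 ↥T) (hT1 : T ≠ ⊥) (hLT : L ∈ jOvergroups T)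
    (hK : IsJComponent T K) (hKL : K ≤ L) {v : G} (hv : v ∈ VG L) :
    ∃ v₀ ∈ VG L, ∃ w ∈ wOf K, v = v₀ * w ∧ ∀ k ∈ K, k * v₀ = v₀ * k := by
  obtain ⟨d, hd, hdQ, hd3⟩ := exists_d hK
  have hdL : d ∈ L := hKL hd
  have hd3' : d * d * d = 1 := by rw [← hd3, pow_succ, pow_succ, pow_one]
  have hdd : d * d = d⁻¹ := by rw [eq_inv_iff_mul_eq_one]; exact hd3'
  have hp2 : d⁻¹ * v * d = d * (d * v * d⁻¹) * d⁻¹ := by
    have : d * (d * v * d⁻¹) * d⁻¹ = (d * d) * v * (d * d)⁻¹ := by group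
    rw [this, hdd, inv_inv]
  have hp : d * v * d⁻¹ ∈ VG L := conj_mem_VG hLT hdL hv
  have hq : d⁻¹ * v * d ∈ VG L := by
    have := conj_mem_VG hLT (L.inv_mem hdL) hv
    rwa [inv_inv] at this
  have hpq : (d * v * d⁻¹) * (d⁻¹ * v * d) ∈ VG L := (VG L).mul_mem hp hq
  have e1 : ⁅v, d⁆ = v * (d * v * d⁻¹) := by
    rw [commutatorElement_def, VG_inv hLT hv]; group
  have e2 : ⁅v, d⁻¹⁆ = v * (d⁻¹ * v * d) := by
    rw [commutatorElement_def, VG_inv hLT hv, inv_inv]; group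
  have hw : (d * v * d⁻¹) * (d⁻¹ * v * d) ∈ wOf K := by
    have h1 := commutator_VG_mem_wOf hL hN hZ hT hT1 hLT hK hKL hd hd3 hv
    have h2 := commutator_VG_mem_wOf hL hN hZ hT hT1 hLT hK hKL (K.inv_mem hd)
      (by rw [inv_pow, hd3, inv_one]) hv
    have := (wOf K).mul_mem h1 h2
    rw [e1, e2] at this
    have hc : (d * v * d⁻¹) * v = v * (d * v * d⁻¹) := VG_comm hLT hp hv
    have e3 : v * (d * v * d⁻¹) * (v * (d⁻¹ * v * d)) = (d * v * d⁻¹) * (d⁻¹ * v * d) := by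
      calc v * (d * v * d⁻¹) * (v * (d⁻¹ * v * d))
          = v * ((d * v * d⁻¹) * v) * (d⁻¹ * v * d) := by group
        _ = v * (v * (d * v * d⁻¹)) * (d⁻¹ * v * d) := by rw [hc]
        _ = (v * v) * (d * v * d⁻¹) * (d⁻¹ * v * d) := by group
        _ = (d * v * d⁻¹) * (d⁻¹ * v * d) := by rw [VG_sq hLT hv, one_mul]
    rwa [e3] at this
  have hv₀V : v * ((d * v * d⁻¹) * (d⁻¹ * v * d)) ∈ VG L := (VG L).mul_mem hv hpq
  have hdv₀ : d * (v * ((d * v * d⁻¹) * (d⁻¹ * v * d))) =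
      (v * ((d * v * d⁻¹) * (d⁻¹ * v * d))) * d := by
    have hconj : d * (v * ((d * v * d⁻¹) * (d⁻¹ * v * d))) * d⁻¹ =
        ((d * v * d⁻¹) * (d⁻¹ * v * d)) * v := by
      calc d * (v * ((d * v * d⁻¹) * (d⁻¹ * v * d))) * d⁻¹
          = (d * v * d⁻¹) * (d * (d * v * d⁻¹) * d⁻¹) * v := by group
        _ = ((d * v * d⁻¹) * (d⁻¹ * v * d)) * v := by rw [← hp2]
    have hcomm : ((d * v * d⁻¹) * (d⁻¹ * v * d)) * v = v * ((d * v * d⁻¹) * (d⁻¹ * v * d)) :=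
      VG_comm hLT hpq hv
    rw [hcomm] at hconj
    calc d * (v * ((d * v * d⁻¹) * (d⁻¹ * v * d)))
        = (d * (v * ((d * v * d⁻¹) * (d⁻¹ * v * d))) * d⁻¹) * d := by group
      _ = _ := by rw [hconj]
  refine ⟨v * ((d * v * d⁻¹) * (d⁻¹ * v * d)), hv₀V, (d * v * d⁻¹) * (d⁻¹ * v * d), hw, ?_, ?_⟩
  · rw [mul_assoc, VG_sq hLT hpq, mul_one]
  · intro k hk
    have hQcomm : ∀ q ∈ pCoreOf 2 K, q * (v * ((d * v * d⁻¹) * (d⁻¹ * v * d))) =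
        (v * ((d * v * d⁻¹) * (d⁻¹ * v * d))) * q := fun q hq =>
      CG_comm (component_pCoreOf_le_CG hN hLT hK hKL hq) hv₀V
    have hdinv : d⁻¹ * (v * ((d * v * d⁻¹) * (d⁻¹ * v * d))) =
        (v * ((d * v * d⁻¹) * (d⁻¹ * v * d))) * d⁻¹ :=
      (Commute.inv_left (show Commute d _ from hdv₀)).eq
    rcases cases_of_mem hK.2.2.1 hd hdQ hd3 hk with h | h | h
    · exact hQcomm k h
    · have : k = d * (d⁻¹ * k) := by group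
      rw [this, mul_assoc, hQcomm _ h, ← mul_assoc, hdv₀, mul_assoc]
    · have : k = d⁻¹ * (d * k) := by group
      rw [this, mul_assoc, hQcomm _ h, ← mul_assoc, hdinv, mul_assoc]

/-- A non-centralizing element of `N(W_K)` fixing `w₁ ≠ 1` swaps the other two involutions. -/
theorem swap_of_fixed {T K : Subgroup G} (hK : IsJComponent T K) {d : G} (hd : d ∈ K)
    (hdQ : d ∉ pCoreOf 2 K) (hd3 : d ^ 3 = 1) {w₁ : G} (hw₁ : w₁ ∈ wOf K) (hw₁1 : w₁ ≠ 1)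
    {a : G} (haN : a ∈ Subgroup.normalizer ((wOf K : Subgroup G) : Set G))
    (hfix : a * w₁ * a⁻¹ = w₁)
    (haW : a ∉ Subgroup.centralizer ((wOf K : Subgroup G) : Set G)) :
    a * (d * w₁ * d⁻¹) * a⁻¹ = d * (d * w₁ * d⁻¹) * d⁻¹ ∧
      a * (d * (d * w₁ * d⁻¹) * d⁻¹) * a⁻¹ = d * w₁ * d⁻¹ := by
  obtain ⟨-, hw'1, -, hw'W, hw''W, hw'w, -, -, hprod, henum⟩ :=
    wOf_enum hK hd hdQ hd3 hw₁ hw₁1 (w' := d * w₁ * d⁻¹) (w'' := d * (d * w₁ * d⁻¹) * d⁻¹)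
      rfl rfl
  have hmem : a * (d * w₁ * d⁻¹) * a⁻¹ ∈ wOf K :=
    (Subgroup.mem_normalizer_iff.mp haN _).mp hw'W
  have hfix' : a * w₁ = w₁ * a := by
    calc a * w₁ = (a * w₁ * a⁻¹) * a := by group
      _ = w₁ * a := by rw [hfix]
  have hfirst : a * (d * w₁ * d⁻¹) * a⁻¹ = d * (d * w₁ * d⁻¹) * d⁻¹ := by
    rcases henum _ hmem with h | h | h | h
    · exfalso; apply hw'1
      have : d * w₁ * d⁻¹ = a⁻¹ * (a * (d * w₁ * d⁻¹) * a⁻¹) * a := by group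
      rw [this, h]; group
    · exfalso; apply hw'w
      have : d * w₁ * d⁻¹ = a⁻¹ * (a * (d * w₁ * d⁻¹) * a⁻¹) * a := by group
      rw [this, h]
      calc a⁻¹ * w₁ * a = a⁻¹ * (a * w₁ * a⁻¹) * a := by rw [hfix]
        _ = w₁ := by group
    · exfalso; apply haW
      have hc' : a * (d * w₁ * d⁻¹) = (d * w₁ * d⁻¹) * a := by
        calc a * (d * w₁ * d⁻¹) = (a * (d * w₁ * d⁻¹) * a⁻¹) * a := by group
          _ = (d * w₁ * d⁻¹) * a := by rw [h]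
      rw [Subgroup.mem_centralizer_iff]
      intro x hx
      rcases henum x hx with hx' | hx' | hx' | hx'
      · rw [hx', one_mul, mul_one]
      · rw [hx']; exact hfix'.symm
      · rw [hx']; exact hc'.symm
      · rw [hx', ← hprod, mul_assoc, ← hc', ← mul_assoc, ← hfix', mul_assoc]
    · exact h
  refine ⟨hfirst, ?_⟩
  calc a * (d * (d * w₁ * d⁻¹) * d⁻¹) * a⁻¹ = a * (w₁ * (d * w₁ * d⁻¹)) * a⁻¹ := by rw [hprod]
    _ = (a * w₁ * a⁻¹) * (a * (d * w₁ * d⁻¹) * a⁻¹) := by group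
    _ = w₁ * (w₁ * (d * w₁ * d⁻¹)) := by rw [hfix, hfirst, ← hprod]
    _ = d * w₁ * d⁻¹ := by rw [← mul_assoc, hK.2.2.2.2.2 w₁ hw₁, one_mul]

theorem wOf_le_wOf' (hL : IsCharacteristicTwoType G)
    (hN : ∀ N : Subgroup G, IsTwoLocal N → Group.IsSolvable ↥N)
    (hZ : ∀ S : Sylow 2 G, Subgroup.centralizer (omegaCenterOf (S : Subgroup G) : Set G) ≤
      Subgroup.normalizer ((S : Subgroup G) : Set G))
    {T₁ T₂ L K₁ K₂ : Subgroup G} (hT₂ : IsPGroup 2 ↥T₂) (hT₂1 : T₂ ≠ ⊥)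
    (hLT₁ : L ∈ jOvergroups T₁) (hLT₂ : L ∈ jOvergroups T₂)
    (hK₁ : IsJComponent T₁ K₁) (hK₂ : IsJComponent T₂ K₂) (hKL₁ : K₁ ≤ L) (hKL₂ : K₂ ≤ L)
    {z : G} (hz1 : z ≠ 1) (hzW₁ : z ∈ wOf K₁) (hzW₂ : z ∈ wOf K₂)
    (hWV₂ : wOf K₂ ≤ VG L) : wOf K₁ ≤ wOf K₂ := by
  obtain ⟨d₁, hd₁, hdQ₁, hd₁3⟩ := exists_d hK₁
  obtain ⟨d₂, hd₂, hdQ₂, hd₂3⟩ := exists_d hK₂
  have hc : ⁅d₁, d₂⁆ ∈ CG L :=
    commutator_RG_mem hN hLT₁ (component_le_RG hLT₁.1 hK₁ hKL₁ hd₁)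
      (component_le_RG hLT₂.1 hK₂ hKL₂ hd₂)
  obtain ⟨-, -, -, -, -, -, -, -, -, henum⟩ :=
    wOf_enum hK₁ hd₁ hdQ₁ hd₁3 hzW₁ hz1 (w' := d₁ * z * d₁⁻¹)
      (w'' := d₁ * (d₁ * z * d₁⁻¹) * d₁⁻¹) rfl rfl
  have hconj : ∀ w ∈ wOf K₂, d₁ * w * d₁⁻¹ ∈ wOf K₂ := fun w hw =>
    conj_mem_wOf hL hN hZ hT₂ hT₂1 hLT₂ hK₂ hKL₂ hd₂ hdQ₂ hd₂3 hWV₂ (hKL₁ hd₁) hc hw
  intro x hx
  rcases henum x hx with h | h | h | h
  · rw [h]; exact (wOf K₂).one_mem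
  · rw [h]; exact hzW₂
  · rw [h]; exact hconj _ hzW₂
  · rw [h]; exact hconj _ (hconj _ hzW₂)

/-- An element `d₂ ∈ K₂` of order `3` lies in `K₁ C_L(V)`. -/
theorem exists_mul_CG (hL : IsCharacteristicTwoType G)
    (hN : ∀ N : Subgroup G, IsTwoLocal N → Group.IsSolvable ↥N)
    (hZ : ∀ S : Sylow 2 G, Subgroup.centralizer (omegaCenterOf (S : Subgroup G) : Set G) ≤
      Subgroup.normalizer ((S : Subgroup G) : Set G))
    {T₁ T₂ L K₁ K₂ : Subgroup G} (hT₁ : IsPGroup 2 ↥T₁) (hT₁1 : T₁ ≠ ⊥)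
    (hT₂ : IsPGroup 2 ↥T₂) (hT₂1 : T₂ ≠ ⊥)
    (hLT₁ : L ∈ jOvergroups T₁) (hLT₂ : L ∈ jOvergroups T₂)
    (hK₁ : IsJComponent T₁ K₁) (hK₂ : IsJComponent T₂ K₂) (hKL₁ : K₁ ≤ L) (hKL₂ : K₂ ≤ L)
    {z : G} (hz1 : z ≠ 1) (hzV : z ∈ VG L) (hzW₁ : z ∈ wOf K₁) (hzW₂ : z ∈ wOf K₂)
    {d₂ : G} (hd₂ : d₂ ∈ K₂) (hdQ₂ : d₂ ∉ pCoreOf 2 K₂) (hd₂3 : d₂ ^ 3 = 1) :
    ∃ e ∈ K₁, ∃ u ∈ CG L, d₂ = e * u := by
  have hS₁ := hLT₁.1
  have hS₂ := hLT₂.1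
  have hWV₁ : wOf K₁ ≤ VG L := wOf_le_VG hLT₁ hK₁ hKL₁ hz1 hzV hzW₁
  have hWV₂ : wOf K₂ ≤ VG L := wOf_le_VG hLT₂ hK₂ hKL₂ hz1 hzV hzW₂
  have hW21 : wOf K₂ ≤ wOf K₁ :=
    wOf_le_wOf' hL hN hZ hT₁ hT₁1 hLT₂ hLT₁ hK₂ hK₁ hKL₂ hKL₁ hz1 hzW₂ hzW₁ hWV₁
  obtain ⟨d₁, hd₁, hdQ₁, hd₁3⟩ := exists_d hK₁
  have hd₂L : d₂ ∈ L := hKL₂ hd₂
  have hd₂R : d₂ ∈ RG L := component_le_RG hS₂ hK₂ hKL₂ hd₂
  obtain ⟨e, he, heQ, he3, hez⟩ : ∃ e ∈ K₁, e ∉ pCoreOf 2 K₁ ∧ e ^ 3 = 1 ∧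
      d₂ * z * d₂⁻¹ = e * z * e⁻¹ := by
    obtain ⟨hback, -, -, -, -, -, -, -, -, henum⟩ :=
      wOf_enum hK₁ hd₁ hdQ₁ hd₁3 hzW₁ hz1 (w' := d₁ * z * d₁⁻¹)
        (w'' := d₁ * (d₁ * z * d₁⁻¹) * d₁⁻¹) rfl rfl
    have hmem : d₂ * z * d₂⁻¹ ∈ wOf K₁ := by
      apply hW21
      exact (Subgroup.mem_normalizer_iff.mp
        (normalizer_le_normalizer_wOf hK₂.2.2.1 (Subgroup.le_normalizer hd₂)) z).mp hzW₂
    rcases henum _ hmem with h | h | h | h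
    · exfalso; apply hz1
      have : z = d₂⁻¹ * (d₂ * z * d₂⁻¹) * d₂ := by group
      rw [this, h]; group
    · exact absurd h (conj_ne_self hK₂ hd₂ hdQ₂ hd₂3 hzW₂ hz1)
    · exact ⟨d₁, hd₁, hdQ₁, hd₁3, h⟩
    · refine ⟨d₁⁻¹, K₁.inv_mem hd₁, ?_, ?_, ?_⟩
      · intro hcon
        apply hdQ₁
        have := (pCoreOf 2 K₁).inv_mem hcon
        rwa [inv_inv] at this
      · rw [inv_pow, hd₁3, inv_one]
      · rw [h, inv_inv]
        have : d₁ * (d₁ * z * d₁⁻¹) * d₁⁻¹ =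
            d₁⁻¹ * (d₁ * (d₁ * (d₁ * z * d₁⁻¹) * d₁⁻¹) * d₁⁻¹) * d₁ := by
          group
        rw [this, hback]
  have heL : e ∈ L := hKL₁ he
  have heR : e ∈ RG L := component_le_RG hS₁ hK₁ hKL₁ he
  obtain ⟨-, -, -, hz'W, -, -, -, -, hprod, henum⟩ :=
    wOf_enum hK₁ he heQ he3 hzW₁ hz1 (w' := e * z * e⁻¹) (w'' := e * (e * z * e⁻¹) * e⁻¹)
      rfl rfl
  obtain ⟨u, hu⟩ : ∃ u, u = e⁻¹ * d₂ := ⟨_, rfl⟩
  have huL : u ∈ L := by rw [hu]; exact L.mul_mem (L.inv_mem heL) hd₂L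
  have huR : u ∈ RG L := by rw [hu]; exact (RG L).mul_mem ((RG L).inv_mem heR) hd₂R
  have huz : u * z * u⁻¹ = z := by
    have : u * z * u⁻¹ = e⁻¹ * (d₂ * z * d₂⁻¹) * e := by rw [hu]; group
    rw [this, hez]; group
  have huz' : u * z = z * u := by
    calc u * z = (u * z * u⁻¹) * u := by group
      _ = z * u := by rw [huz]
  have hue : ⁅u, e⁆ ∈ CG L := commutator_RG_mem hN hLT₁ huR heR
  have huz'' : u * (e * z * e⁻¹) = (e * z * e⁻¹) * u := by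
    have h1 : u * (e * z * e⁻¹) * u⁻¹ = ⁅u, e⁆ * (e * (u * z * u⁻¹) * e⁻¹) * ⁅u, e⁆⁻¹ := by
      simp only [commutatorElement_def]; group
    rw [huz, CG_comm hue (hWV₁ hz'W), mul_inv_cancel_right] at h1
    calc u * (e * z * e⁻¹) = (u * (e * z * e⁻¹) * u⁻¹) * u := by group
      _ = (e * z * e⁻¹) * u := by rw [h1]
  have hcentW : ∀ x ∈ wOf K₁, u * x = x * u := by
    intro x hx
    rcases henum x hx with h | h | h | h
    · rw [h, mul_one, one_mul]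
    · rw [h]; exact huz'
    · rw [h]; exact huz''
    · rw [h, ← hprod, ← mul_assoc, huz', mul_assoc, huz'', ← mul_assoc]
  have heN : e ∈ Subgroup.normalizer ((wOf K₁ : Subgroup G) : Set G) :=
    normalizer_le_normalizer_wOf hK₁.2.2.1 (Subgroup.le_normalizer he)
  have hVu : ∀ v ∈ VG L, ⁅v, u⁆ ∈ wOf K₁ := by
    intro v hv
    have e1 : ⁅v, u⁆ = ⁅v, e⁻¹⁆ * (e⁻¹ * ⁅v, d₂⁆ * e⁻¹⁻¹) := by
      rw [hu]; simp only [commutatorElement_def]; group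
    rw [e1]
    apply (wOf K₁).mul_mem
    · exact commutator_VG_mem_wOf hL hN hZ hT₁ hT₁1 hLT₁ hK₁ hKL₁ (K₁.inv_mem he)
        (by rw [inv_pow, he3, inv_one]) hv
    · apply (Subgroup.mem_normalizer_iff.mp (Subgroup.inv_mem _ heN) _).mp
      exact hW21 (commutator_VG_mem_wOf hL hN hZ hT₂ hT₂1 hLT₂ hK₂ hKL₂ hd₂ hd₂3 hv)
  have hu2 : u * u ∈ CG L := by
    apply mem_CG_of_comm (L.mul_mem huL huL)
    intro v hv
    obtain ⟨w, hw⟩ : ∃ w, w = ⁅v, u⁆ := ⟨_, rfl⟩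
    have hwW : w ∈ wOf K₁ := by rw [hw]; exact hVu v hv
    have h1 : u * v = v * w * u := by
      have : u * v⁻¹ = v⁻¹ * ⁅v, u⁆ * u := by rw [commutatorElement_def]; group
      rw [VG_inv hLT₁ hv, ← hw] at this
      exact this
    calc u * u * v = u * (u * v) := by group
      _ = u * (v * w * u) := by rw [h1]
      _ = (u * v) * (w * u) := by group
      _ = (v * w * u) * (w * u) := by rw [h1]
      _ = v * w * (u * w) * u := by group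
      _ = v * w * (w * u) * u := by rw [hcentW w hwW]
      _ = v * (w * w) * (u * u) := by group
      _ = v * (u * u) := by rw [hK₁.2.2.2.2.2 w hwW, mul_one]
  have hu3 : u ^ 3 ∈ CG L := cube_mem_CG hN hLT₁ huR
  have huC : u ∈ CG L := by
    have : u = u ^ 3 * (u * u)⁻¹ := by
      rw [pow_succ, pow_succ, pow_one]; group
    rw [this]
    exact (CG L).mul_mem hu3 ((CG L).inv_mem hu2)
  exact ⟨e, he, u, huC, by rw [hu]; group⟩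

theorem le_sup_CG (hL : IsCharacteristicTwoType G)
    (hN : ∀ N : Subgroup G, IsTwoLocal N → Group.IsSolvable ↥N)
    (hZ : ∀ S : Sylow 2 G, Subgroup.centralizer (omegaCenterOf (S : Subgroup G) : Set G) ≤
      Subgroup.normalizer ((S : Subgroup G) : Set G))
    {T₁ T₂ L K₁ K₂ : Subgroup G} (hT₁ : IsPGroup 2 ↥T₁) (hT₁1 : T₁ ≠ ⊥)
    (hT₂ : IsPGroup 2 ↥T₂) (hT₂1 : T₂ ≠ ⊥)
    (hLT₁ : L ∈ jOvergroups T₁) (hLT₂ : L ∈ jOvergroups T₂)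
    (hK₁ : IsJComponent T₁ K₁) (hK₂ : IsJComponent T₂ K₂) (hKL₁ : K₁ ≤ L) (hKL₂ : K₂ ≤ L)
    {z : G} (hz1 : z ≠ 1) (hzV : z ∈ VG L) (hzW₁ : z ∈ wOf K₁) (hzW₂ : z ∈ wOf K₂) :
    K₂ ≤ K₁ ⊔ CG L := by
  obtain ⟨d₂, hd₂, hdQ₂, hd₂3⟩ := exists_d hK₂
  obtain ⟨e, he, u, huC, hd₂eu⟩ := exists_mul_CG hL hN hZ hT₁ hT₁1 hT₂ hT₂1 hLT₁ hLT₂ hK₁ hK₂
    hKL₁ hKL₂ hz1 hzV hzW₁ hzW₂ hd₂ hdQ₂ hd₂3
  have hd₂mem : d₂ ∈ K₁ ⊔ CG L := by
    rw [hd₂eu]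
    exact Subgroup.mul_mem _ (Subgroup.mem_sup_left he) (Subgroup.mem_sup_right huC)
  have hQ₂C : pCoreOf 2 K₂ ≤ K₁ ⊔ CG L :=
    (component_pCoreOf_le_CG hN hLT₂ hK₂ hKL₂).trans le_sup_right
  intro x hx
  rcases cases_of_mem hK₂.2.2.1 hd₂ hdQ₂ hd₂3 hx with h | h | h
  · exact hQ₂C h
  · have : x = d₂ * (d₂⁻¹ * x) := by group
    rw [this]
    exact Subgroup.mul_mem _ hd₂mem (hQ₂C h)
  · have : x = d₂⁻¹ * (d₂ * x) := by group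
    rw [this]
    exact Subgroup.mul_mem _ (Subgroup.inv_mem _ hd₂mem) (hQ₂C h)

/-- Uniqueness of components with a common nontrivial element of `W ∩ V`, for possibly different
Sylow `2`-subgroups of `L`. -/
theorem component_le_of_common' (hL : IsCharacteristicTwoType G)
    (hN : ∀ N : Subgroup G, IsTwoLocal N → Group.IsSolvable ↥N)
    (hZ : ∀ S : Sylow 2 G, Subgroup.centralizer (omegaCenterOf (S : Subgroup G) : Set G) ≤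
      Subgroup.normalizer ((S : Subgroup G) : Set G))
    {T₁ T₂ L K₁ K₂ : Subgroup G} (hT₁ : IsPGroup 2 ↥T₁) (hT₁1 : T₁ ≠ ⊥)
    (hT₂ : IsPGroup 2 ↥T₂) (hT₂1 : T₂ ≠ ⊥)
    (hLT₁ : L ∈ jOvergroups T₁) (hLT₂ : L ∈ jOvergroups T₂)
    (hK₁ : IsJComponent T₁ K₁) (hK₂ : IsJComponent T₂ K₂) (hKL₁ : K₁ ≤ L) (hKL₂ : K₂ ≤ L)
    {z : G} (hz1 : z ≠ 1) (hzV : z ∈ VG L) (hzW₁ : z ∈ wOf K₁) (hzW₂ : z ∈ wOf K₂) :
    K₂ ≤ K₁ := by
  have hS₁ := hLT₁.1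
  have hS₂ := hLT₂.1
  have hWV₁ : wOf K₁ ≤ VG L := wOf_le_VG hLT₁ hK₁ hKL₁ hz1 hzV hzW₁
  have hWV₂ : wOf K₂ ≤ VG L := wOf_le_VG hLT₂ hK₂ hKL₂ hz1 hzV hzW₂
  have hW21 : wOf K₂ ≤ wOf K₁ :=
    wOf_le_wOf' hL hN hZ hT₁ hT₁1 hLT₂ hLT₁ hK₂ hK₁ hKL₂ hKL₁ hz1 hzW₂ hzW₁ hWV₁
  have hW12 : wOf K₁ ≤ wOf K₂ :=
    wOf_le_wOf' hL hN hZ hT₂ hT₂1 hLT₁ hLT₂ hK₁ hK₂ hKL₁ hKL₂ hz1 hzW₁ hzW₂ hWV₂
  have hWeq : wOf K₂ = wOf K₁ := le_antisymm hW21 hW12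
  obtain ⟨d₁, hd₁, hdQ₁, hd₁3⟩ := exists_d hK₁
  obtain ⟨d₂, hd₂, hdQ₂, hd₂3⟩ := exists_d hK₂
  obtain ⟨e, he, u, huC, hd₂eu⟩ := exists_mul_CG hL hN hZ hT₁ hT₁1 hT₂ hT₂1 hLT₁ hLT₂ hK₁ hK₂
    hKL₁ hKL₂ hz1 hzV hzW₁ hzW₂ hd₂ hdQ₂ hd₂3
  have hK₂le : K₂ ≤ K₁ ⊔ CG L := le_sup_CG hL hN hZ hT₁ hT₁1 hT₂ hT₂1 hLT₁ hLT₂ hK₁ hK₂
    hKL₁ hKL₂ hz1 hzV hzW₁ hzW₂
  -- pure elements
  obtain ⟨a₁, ha₁J, ha₁W, hidx₁⟩ := exists_pure hN hLT₁ hK₁ hWV₁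
  obtain ⟨a₂, ha₂J, ha₂W, hidx₂⟩ := exists_pure hN hLT₂ hK₂ hWV₂
  obtain ⟨w₁, hw₁W, hw₁1, hfix₁⟩ := exists_fixed hT₁ hK₁
  obtain ⟨w₂, hw₂W, hw₂1, hfix₂⟩ := exists_fixed hT₂ hK₂
  have ha₁N : a₁ ∈ Subgroup.normalizer (K₁ : Set G) := thompson_le_normalizer hK₁ ha₁J
  have ha₂N : a₂ ∈ Subgroup.normalizer (K₂ : Set G) := thompson_le_normalizer hK₂ ha₂J
  have ha₁NW : a₁ ∈ Subgroup.normalizer ((wOf K₁ : Subgroup G) : Set G) :=
    normalizer_le_normalizer_wOf hK₁.2.2.1 ha₁N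
  have ha₂NW : a₂ ∈ Subgroup.normalizer ((wOf K₁ : Subgroup G) : Set G) := by
    rw [← hWeq]; exact normalizer_le_normalizer_wOf hK₂.2.2.1 ha₂N
  have ha₂W₁ : a₂ ∉ Subgroup.centralizer ((wOf K₁ : Subgroup G) : Set G) := by
    rw [← hWeq]; exact ha₂W
  have ha₁T : a₁ ∈ T₁ := thompsonSubgroupOf_le 2 T₁ ha₁J
  have ha₂T : a₂ ∈ T₂ := thompsonSubgroupOf_le 2 T₂ ha₂J
  have ha₁L : a₁ ∈ L := hS₁.1 ha₁T
  have ha₂L : a₂ ∈ L := hS₂.1 ha₂T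
  -- `g ∈ K₁` with `w₂ = g w₁ g⁻¹`
  have hw₂W₁ : w₂ ∈ wOf K₁ := hW21 hw₂W
  obtain ⟨g, hgK, hgw⟩ : ∃ g ∈ K₁, w₂ = g * w₁ * g⁻¹ := by
    obtain ⟨-, -, -, -, -, -, -, -, -, henum⟩ :=
      wOf_enum hK₁ hd₁ hdQ₁ hd₁3 hw₁W hw₁1 (w' := d₁ * w₁ * d₁⁻¹)
        (w'' := d₁ * (d₁ * w₁ * d₁⁻¹) * d₁⁻¹) rfl rfl
    rcases henum w₂ hw₂W₁ with h | h | h | h
    · exact absurd h hw₂1
    · exact ⟨1, K₁.one_mem, by rw [h]; group⟩
    · exact ⟨d₁, hd₁, h⟩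
    · exact ⟨d₁ * d₁, K₁.mul_mem hd₁ hd₁, by rw [h]; group⟩
  have hgL : g ∈ L := hKL₁ hgK
  have hgNW : g ∈ Subgroup.normalizer ((wOf K₁ : Subgroup G) : Set G) :=
    normalizer_le_normalizer_wOf hK₁.2.2.1 (Subgroup.le_normalizer hgK)
  -- `a₂' = g⁻¹ a₂ g`
  have ha₂'fix : (g⁻¹ * a₂ * g) * w₁ * (g⁻¹ * a₂ * g)⁻¹ = w₁ := by
    calc (g⁻¹ * a₂ * g) * w₁ * (g⁻¹ * a₂ * g)⁻¹
        = g⁻¹ * (a₂ * (g * w₁ * g⁻¹) * a₂⁻¹) * g := by group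
      _ = g⁻¹ * (g * w₁ * g⁻¹) * g := by rw [← hgw, hfix₂ a₂ ha₂J]
      _ = w₁ := by group
  have ha₂'NW : g⁻¹ * a₂ * g ∈ Subgroup.normalizer ((wOf K₁ : Subgroup G) : Set G) :=
    Subgroup.mul_mem _ (Subgroup.mul_mem _ (Subgroup.inv_mem _ hgNW) ha₂NW) hgNW
  have ha₂'W : g⁻¹ * a₂ * g ∉ Subgroup.centralizer ((wOf K₁ : Subgroup G) : Set G) := by
    intro h
    apply ha₂W₁
    have := BO.conj_mem_centralizer_of_mem_normalizer hgNW h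
    have e' : g * (g⁻¹ * a₂ * g) * g⁻¹ = a₂ := by group
    rwa [e'] at this
  -- both `a₁` and `a₂'` swap
  obtain ⟨hs₁a, hs₁b⟩ := swap_of_fixed hK₁ hd₁ hdQ₁ hd₁3 hw₁W hw₁1 ha₁NW (hfix₁ a₁ ha₁J) ha₁W
  obtain ⟨hs₂a, hs₂b⟩ := swap_of_fixed hK₁ hd₁ hdQ₁ hd₁3 hw₁W hw₁1 ha₂'NW ha₂'fix ha₂'W
  obtain ⟨c, hc⟩ : ∃ c, c = a₁⁻¹ * (g⁻¹ * a₂ * g) := ⟨_, rfl⟩
  have hcL : c ∈ L := by
    rw [hc]
    exact L.mul_mem (L.inv_mem ha₁L) (L.mul_mem (L.mul_mem (L.inv_mem hgL) ha₂L) hgL)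
  have hcW : ∀ y ∈ wOf K₁, c * y = y * c := by
    have hconj : ∀ y : G, a₁ * y * a₁⁻¹ = (g⁻¹ * a₂ * g) * y * (g⁻¹ * a₂ * g)⁻¹ →
        c * y = y * c := by
      intro y hy
      have : c * y * c⁻¹ = y := by
        calc c * y * c⁻¹ = a₁⁻¹ * ((g⁻¹ * a₂ * g) * y * (g⁻¹ * a₂ * g)⁻¹) * a₁ := by
              rw [hc]; group
          _ = a₁⁻¹ * (a₁ * y * a₁⁻¹) * a₁ := by rw [hy]
          _ = y := by group
      calc c * y = (c * y * c⁻¹) * c := by group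
        _ = y * c := by rw [this]
    obtain ⟨-, -, -, -, -, -, -, -, -, henum⟩ :=
      wOf_enum hK₁ hd₁ hdQ₁ hd₁3 hw₁W hw₁1 (w' := d₁ * w₁ * d₁⁻¹)
        (w'' := d₁ * (d₁ * w₁ * d₁⁻¹) * d₁⁻¹) rfl rfl
    intro y hy
    rcases henum y hy with h | h | h | h
    · rw [h, mul_one, one_mul]
    · rw [h]; exact hconj _ (by rw [hfix₁ a₁ ha₁J, ha₂'fix])
    · rw [h]; exact hconj _ (by rw [hs₁a, hs₂a])
    · rw [h]; exact hconj _ (by rw [hs₁b, hs₂b])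
  -- `c` centralizes `C_V(K₁)`
  have hcV₀ : ∀ v₀ ∈ VG L, (∀ k ∈ K₁, k * v₀ = v₀ * k) → c * v₀ = v₀ * c := by
    intro v₀ hv₀ hv₀K
    have h1 : a₁ * v₀ = v₀ * a₁ := pure_comm hK₁ hd₁ hdQ₁ hd₁3 ha₁J ha₁W hidx₁ hWV₁ hv₀ hv₀K
    have hv₀K₂ : ∀ k ∈ K₂, k * v₀ = v₀ * k := by
      have hle : K₁ ⊔ CG L ≤ Subgroup.centralizer ({v₀} : Set G) := by
        apply sup_le
        · intro k hk
          rw [Subgroup.mem_centralizer_iff]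
          intro y hy
          rw [Set.mem_singleton_iff.mp hy]
          exact (hv₀K k hk).symm
        · intro k hk
          rw [Subgroup.mem_centralizer_iff]
          intro y hy
          rw [Set.mem_singleton_iff.mp hy]
          exact (CG_comm hk hv₀).symm
      intro k hk
      have := (Subgroup.mem_centralizer_iff.mp (hle (hK₂le hk))) v₀ rfl
      exact this.symm
    have h2 : a₂ * v₀ = v₀ * a₂ := pure_comm hK₂ hd₂ hdQ₂ hd₂3 ha₂J ha₂W hidx₂ hWV₂ hv₀ hv₀K₂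
    have h3 : g * v₀ = v₀ * g := hv₀K g hgK
    have c1 : Commute a₁ v₀ := h1
    have c2 : Commute a₂ v₀ := h2
    have c3 : Commute g v₀ := h3
    have c4 : Commute c v₀ := by
      rw [hc]
      exact (Commute.inv_left c1).mul_left (((Commute.inv_left c3).mul_left c2).mul_left c3)
    exact c4.eq
  have hcC : c ∈ CG L := by
    apply mem_CG_of_comm hcL
    intro v hv
    obtain ⟨v₀, hv₀, w, hw, hvw, hv₀K⟩ :=
      exists_decomp_VG hL hN hZ hT₁ hT₁1 hLT₁ hK₁ hKL₁ hv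
    rw [hvw, ← mul_assoc, hcV₀ v₀ hv₀ hv₀K, mul_assoc, hcW w hw, ← mul_assoc]
  -- `a₂` normalizes `K₁ ⊔ O₂(L)`
  have hQN₁ : pCoreOf 2 L ≤ Subgroup.normalizer (K₁ : Set G) :=
    pCoreOf_le_normalizer_component hL hN hZ hT₁ hT₁1 hLT₁ hK₁ hKL₁
  have hCN : CG L ≤ Subgroup.normalizer ((K₁ ⊔ pCoreOf 2 L : Subgroup G) : Set G) :=
    CG_le_normalizer_sup hZ hLT₁ hK₁ hKL₁
  have hK₁N : K₁ ≤ Subgroup.normalizer ((K₁ ⊔ pCoreOf 2 L : Subgroup G) : Set G) :=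
    (le_sup_left : K₁ ≤ K₁ ⊔ pCoreOf 2 L).trans Subgroup.le_normalizer
  have ha₁M : a₁ ∈ Subgroup.normalizer ((K₁ ⊔ pCoreOf 2 L : Subgroup G) : Set G) :=
    mem_normalizer_sup ha₁N (JStruct.le_normalizer_pCoreOf L ha₁L)
  have ha₂M : a₂ ∈ Subgroup.normalizer ((K₁ ⊔ pCoreOf 2 L : Subgroup G) : Set G) := by
    have : a₂ = g * (a₁ * c) * g⁻¹ := by rw [hc]; group
    rw [this]
    exact Subgroup.mul_mem _ (Subgroup.mul_mem _ (hK₁N hgK)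
      (Subgroup.mul_mem _ ha₁M (hCN hcC))) (Subgroup.inv_mem _ (hK₁N hgK))
  -- `k₂ = ⁅d₂, a₂⁆`
  have hk₂K : ⁅d₂, a₂⁆ ∈ K₂ := by
    have : ⁅d₂, a₂⁆ = d₂ * (a₂ * d₂⁻¹ * a₂⁻¹) := by rw [commutatorElement_def]; group
    rw [this]
    exact K₂.mul_mem hd₂ ((Subgroup.mem_normalizer_iff.mp ha₂N _).mp (K₂.inv_mem hd₂))
  have hk₂M : ⁅d₂, a₂⁆ ∈ K₁ ⊔ pCoreOf 2 L := by
    have e1 : ⁅d₂, a₂⁆ = (e * ⁅u, a₂⁆ * e⁻¹) * ⁅e, a₂⁆ := by
      rw [hd₂eu]; simp only [commutatorElement_def]; group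
    rw [e1]
    apply Subgroup.mul_mem
    · apply Subgroup.mem_sup_right
      exact (Subgroup.mem_normalizer_iff.mp (JStruct.le_normalizer_pCoreOf L (hKL₁ he)) _).mp
        (commutator_CG_mem hZ hLT₂ huC ha₂T)
    · have : ⁅e, a₂⁆ = e * (a₂ * e⁻¹ * a₂⁻¹) := by rw [commutatorElement_def]; group
      rw [this]
      exact Subgroup.mul_mem _ (Subgroup.mem_sup_left he)
        ((Subgroup.mem_normalizer_iff.mp ha₂M _).mp
          (Subgroup.mem_sup_left (K₁.inv_mem he)))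
  have hk₂Q : ⁅d₂, a₂⁆ ∉ pCoreOf 2 K₂ := by
    intro hq
    obtain ⟨hsa, -⟩ := swap_of_fixed hK₂ hd₂ hdQ₂ hd₂3 hw₂W hw₂1
      (normalizer_le_normalizer_wOf hK₂.2.2.1 ha₂N) (hfix₂ a₂ ha₂J) ha₂W
    obtain ⟨-, -, -, hw'W, -, -, -, hw''w', -, -⟩ :=
      wOf_enum hK₂ hd₂ hdQ₂ hd₂3 hw₂W hw₂1 (w' := d₂ * w₂ * d₂⁻¹)
        (w'' := d₂ * (d₂ * w₂ * d₂⁻¹) * d₂⁻¹) rfl rfl
    apply hw''w'
    rw [← hsa]
    have e1 : a₂ * (d₂ * w₂ * d₂⁻¹) * a₂⁻¹ =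
        ⁅d₂, a₂⁆⁻¹ * (d₂ * (a₂ * w₂ * a₂⁻¹) * d₂⁻¹) * ⁅d₂, a₂⁆ := by
      simp only [commutatorElement_def]; group
    rw [e1, hfix₂ a₂ ha₂J]
    have hcomm := (Subgroup.mem_centralizer_iff.mp
      (pCoreOf_le_centralizer_wOf hK₂.2.2.1 hq)) _ hw'W
    rw [mul_assoc, hcomm, ← mul_assoc, inv_mul_cancel, one_mul]
  -- conclusion
  have hK₂N : K₂ ≤ Subgroup.normalizer ((K₁ ⊔ pCoreOf 2 L : Subgroup G) : Set G) :=
    hK₂le.trans (sup_le hK₁N hCN)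
  have hnorm : K₂ ≤ Subgroup.normalizer ((K₂ ⊓ (K₁ ⊔ pCoreOf 2 L) : Subgroup G) : Set G) :=
    fun k hk => mem_normalizer_inf (Subgroup.le_normalizer hk) (hK₂N hk)
  have hnot : ¬ K₂ ⊓ (K₁ ⊔ pCoreOf 2 L) ≤ pCoreOf 2 K₂ := fun h => hk₂Q (h ⟨hk₂K, hk₂M⟩)
  have hK₂M : K₂ ≤ K₁ ⊔ pCoreOf 2 L :=
    (le_of_normal_not_le hK₂ inf_le_left hnorm hnot).trans inf_le_right
  have hgen : Subgroup.closure {g : G | g ∈ K₂ ∧ Odd (orderOf g)} ≤ K₁ := by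
    rw [Subgroup.closure_le]
    rintro g ⟨hg, ho⟩
    exact mem_of_odd_of_mem_sup (JComp.pCoreOf_isPGroup L) hQN₁ (hK₂M hg) ho
  exact le_of_eq_of_le hK₂.1.symm hgen

end Component

end Cfsg.Agent.Lib.Helper17.JPure
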