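import Mathlib
import Cfsg.Agent.Lib.Helper17.JPure

set_option autoImplicit false

/-! The order `a(T)` of a largest elementary abelian `2`-subgroup, and comparison of Thompson
subgroups. -/

namespace Cfsg.Agent.Lib.Helper17.JMaxEA

open Cfsg Cfsg.Agent.Lib.Helper17 Cfsg.Agent.Lib.Helper27 Cfsg.Agent.Lib.Helper17.JComp
  Cfsg.Agent.Lib.Helper17.JStruct Cfsg.Agent.Lib.Helper17.JPure

variable {G : Type*} [Group G]

theorem maxElemAbelianOrder_eq [Finite G] {T A : Subgroup G} (hA : IsMaxEAIn 2 T A) :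
    maxElemAbelianOrder T = Nat.card A := by
  unfold maxElemAbelianOrder
  have hA' := subgroupOf_mem_maxEA hA
  have hcard : Nat.card ↥(A.subgroupOf T) = Nat.card A :=
    Nat.card_congr (Subgroup.subgroupOfEquivOfLe hA.1).toEquiv
  have hset : (fun A : Subgroup ↥T => Nat.card ↥A) '' maxElementaryAbelianSubgroups 2 ↥T =
      {Nat.card A} := by
    ext n
    simp only [Set.mem_image, Set.mem_singleton_iff]
    constructor
    · rintro ⟨B, hB, rfl⟩
      rw [← hcard]
      exact le_antisymm (hA'.2 B hB.1) (hB.2 _ hA'.1)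
    · rintro rfl
      exact ⟨A.subgroupOf T, hA', hcard⟩
  rw [hset, csSup_singleton]

theorem maxElemAbelianOrder_le [Finite G] {T T' : Subgroup G}
    (h : thompsonSubgroupOf 2 T ≤ T') : maxElemAbelianOrder T ≤ maxElemAbelianOrder T' := by
  obtain ⟨A, hA⟩ := exists_isMaxEAIn 2 T
  obtain ⟨A', hA'⟩ := exists_isMaxEAIn 2 T'
  rw [maxElemAbelianOrder_eq hA, maxElemAbelianOrder_eq hA']
  exact hA'.2.2 A ((le_thompson_of_isMaxEAIn hA).trans h) hA.2.1

theorem thompson_le_thompson_of [Finite G] {T T' : Subgroup G}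
    (h : thompsonSubgroupOf 2 T ≤ T')
    (hle : maxElemAbelianOrder T' ≤ maxElemAbelianOrder T) :
    thompsonSubgroupOf 2 T ≤ thompsonSubgroupOf 2 T' := by
  obtain ⟨A', hA'⟩ := exists_isMaxEAIn 2 T'
  conv_lhs => rw [thompsonSubgroupOf_eq]
  apply sSup_le
  intro B hB
  apply le_thompson_of_isMaxEAIn
  refine ⟨(le_thompson_of_isMaxEAIn hB).trans h, hB.2.1, fun C hC hCe => ?_⟩
  calc Nat.card C ≤ Nat.card A' := hA'.2.2 C hC hCe
    _ = maxElemAbelianOrder T' := (maxElemAbelianOrder_eq hA').symm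
    _ ≤ maxElemAbelianOrder T := hle
    _ = Nat.card B := maxElemAbelianOrder_eq hB

/-- `J(T) ≤ S ≤ T` implies `J(S) = J(T)`. -/
theorem thompson_eq_of_le [Finite G] {T S : Subgroup G} (h1 : thompsonSubgroupOf 2 T ≤ S)
    (h2 : S ≤ T) : thompsonSubgroupOf 2 S = thompsonSubgroupOf 2 T := by
  have hST : maxElemAbelianOrder S ≤ maxElemAbelianOrder T :=
    maxElemAbelianOrder_le ((thompsonSubgroupOf_le 2 S).trans h2)
  have hTS : maxElemAbelianOrder T ≤ maxElemAbelianOrder S := maxElemAbelianOrder_le h1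
  apply le_antisymm
  · exact thompson_le_thompson_of ((thompsonSubgroupOf_le 2 S).trans h2) hTS
  · exact thompson_le_thompson_of h1 hST

theorem normalizer_le_normalizer_thompson [Finite G] (T : Subgroup G) :
    Subgroup.normalizer (T : Set G) ≤
      Subgroup.normalizer ((thompsonSubgroupOf 2 T : Subgroup G) : Set G) := by
  intro s hs
  apply mem_normalizer_of_map_conj_eq
  have h1 : T.map (MulAut.conj s).toMonoidHom = T := map_conj_eq_of_mem_normalizer hs
  have h2 := thompsonSubgroupOf_map 2 (MulAut.conj s) T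
  rw [h1] at h2
  exact h2.symm

theorem exists_involution [Finite G] {T : Subgroup G} (hT : IsPGroup 2 T) (hT1 : T ≠ ⊥) :
    ∃ t ∈ T, t ≠ 1 ∧ t ^ 2 = 1 := by
  obtain ⟨n, hn⟩ := hT.exists_card_eq
  have hn0 : n ≠ 0 := by
    rintro rfl
    rw [pow_zero, Subgroup.card_eq_one] at hn
    exact hT1 hn
  have hdvd : 2 ∣ Nat.card T := by rw [hn]; exact dvd_pow_self 2 hn0
  obtain ⟨x, hx⟩ := exists_prime_orderOf_dvd_card' 2 hdvd
  refine ⟨x.1, x.2, ?_, ?_⟩
  · intro h
    have : x = 1 := Subtype.ext h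
    rw [this, orderOf_one] at hx
    omega
  · have := pow_orderOf_eq_one x
    rw [hx] at this
    simpa using congrArg Subtype.val this

theorem thompson_ne_bot [Finite G] {T : Subgroup G} (hT : IsPGroup 2 T) (hT1 : T ≠ ⊥) :
    thompsonSubgroupOf 2 T ≠ ⊥ := by
  obtain ⟨t, htT, ht1, ht2⟩ := exists_involution hT hT1
  obtain ⟨A, hA⟩ := exists_isMaxEAIn 2 T
  have h1 := hA.2.2 (Subgroup.zpowers t) (Subgroup.zpowers_le.mpr htT)
    (Cfsg.H5.isElementaryAbelian_zpowers ht2)
  have h2 : Nat.card ↥(Subgroup.zpowers t) = 2 := by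
    rw [Nat.card_zpowers]
    exact orderOf_eq_prime ht2 ht1
  intro hbot
  have hA1 : A = ⊥ := le_bot_iff.mp (hbot ▸ le_thompson_of_isMaxEAIn hA)
  rw [hA1, Subgroup.card_bot, h2] at h1
  omega

end Cfsg.Agent.Lib.Helper17.JMaxEA
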