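import Mathlib
import Cfsg.Agent.Lib.Helper17.JExA
import Cfsg.Agent.Lib.Helper17.JExD
import Cfsg.Agent.Lib.Helper17.JMaxEA

set_option autoImplicit false

/-! Existence of `J(T)`-components in members of `𝓛(T)`. -/

namespace Cfsg.Agent.Lib.Helper17.JExB

open Cfsg Cfsg.Agent.Lib.Helper17 Cfsg.Agent.Lib.Helper27 Cfsg.Agent.Lib.Helper17.JComp
  Cfsg.Agent.Lib.Helper17.JStruct Cfsg.Agent.Lib.Helper17.JUniq Cfsg.Agent.Lib.Helper17.JExA
  Cfsg.Agent.Lib.Helper17.JExD Cfsg.Agent.Lib.Helper17.JMaxEA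
open scoped commutatorElement

variable {G : Type*} [Group G]

/-- The subgroup `⟨d^Q⟩`. -/
def compK (Q : Subgroup G) (d : G) : Subgroup G :=
  Subgroup.closure {x | ∃ q ∈ Q, x = q * d * q⁻¹}

theorem mem_compK (Q : Subgroup G) (d : G) : d ∈ compK Q d :=
  Subgroup.subset_closure ⟨1, Q.one_mem, by simp⟩

theorem conj_mem_compK {Q : Subgroup G} {d q : G} (hq : q ∈ Q) : q * d * q⁻¹ ∈ compK Q d :=
  Subgroup.subset_closure ⟨q, hq, rfl⟩

theorem compK_le {Q L : Subgroup G} {d : G} (hQL : Q ≤ L) (hd : d ∈ L) : compK Q d ≤ L := by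
  unfold compK
  rw [Subgroup.closure_le]
  rintro x ⟨q, hq, rfl⟩
  exact L.mul_mem (L.mul_mem (hQL hq) hd) (L.inv_mem (hQL hq))

theorem le_normalizer_compK [Finite G] (Q : Subgroup G) (d : G) :
    Q ≤ Subgroup.normalizer ((compK Q d : Subgroup G) : Set G) := by
  intro q' hq'
  apply mem_normalizer_of_map_conj_le
  conv_lhs => unfold compK
  rw [MonoidHom.map_closure, Subgroup.closure_le]
  rintro _ ⟨_, ⟨q, hq, rfl⟩, rfl⟩
  simp only [MulEquiv.coe_toMonoidHom, MulAut.conj_apply]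
  have : q' * (q * d * q⁻¹) * q'⁻¹ = (q' * q) * d * (q' * q)⁻¹ := by group
  rw [this]
  exact conj_mem_compK (Q.mul_mem hq' hq)

theorem mem_normalizer_compK [Finite G] {Q : Subgroup G} {d b : G}
    (hbQ : b ∈ Subgroup.normalizer (Q : Set G)) (hbd : b * d * b⁻¹ ∈ compK Q d) :
    b ∈ Subgroup.normalizer ((compK Q d : Subgroup G) : Set G) := by
  apply mem_normalizer_of_map_conj_le
  conv_lhs => unfold compK
  rw [MonoidHom.map_closure, Subgroup.closure_le]
  rintro _ ⟨_, ⟨q, hq, rfl⟩, rfl⟩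
  simp only [MulEquiv.coe_toMonoidHom, MulAut.conj_apply]
  have hq' : b * q * b⁻¹ ∈ Q := (Subgroup.mem_normalizer_iff.mp hbQ q).mp hq
  have : b * (q * d * q⁻¹) * b⁻¹ = (b * q * b⁻¹) * (b * d * b⁻¹) * (b * q * b⁻¹)⁻¹ := by group
  rw [this]
  exact (Subgroup.mem_normalizer_iff.mp (le_normalizer_compK Q d hq') _).mp hbd

theorem odd_three : Odd 3 := ⟨1, rfl⟩

theorem closure_odd_compK {Q : Subgroup G} {d : G} (hd3 : d ^ 3 = 1) (hd1 : d ≠ 1) :
    Subgroup.closure {g : G | g ∈ compK Q d ∧ Odd (orderOf g)} = compK Q d := by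
  apply le_antisymm
  · rw [Subgroup.closure_le]
    exact fun g hg => hg.1
  · conv_lhs => unfold compK
    apply Subgroup.closure_mono
    rintro x ⟨q, hq, rfl⟩
    refine ⟨conj_mem_compK hq, ?_⟩
    have h3 : (q * d * q⁻¹) ^ 3 = 1 := by rw [conj_pow, hd3]; group
    have h1 : q * d * q⁻¹ ≠ 1 := by
      intro h
      apply hd1
      calc d = q⁻¹ * (q * d * q⁻¹) * q := by group
        _ = 1 := by rw [h]; group
    rw [orderOf_eq_prime h3 h1]
    exact odd_three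

/-- `K = ⟨d^Q⟩` modulo `Q`. -/
theorem compK_quotient [Finite G] {Q L : Subgroup G} {d : G} (hQL : Q ≤ L)
    (hLQ : L ≤ Subgroup.normalizer (Q : Set G)) (hdL : d ∈ L) (hd3 : d ^ 3 = 1)
    (hdQ : d ∉ Q) :
    (∀ x ∈ compK Q d, x ^ 3 ∈ Q) ∧ Q.relIndex (compK Q d) = 3 := by
  haveI hn : (Q.subgroupOf L).Normal := Subgroup.normal_subgroupOf_of_le_normalizer hLQ
  have hKL : compK Q d ≤ L := compK_le hQL hdL
  obtain ⟨π, hπ⟩ : ∃ π : ↥L →* ↥L ⧸ Q.subgroupOf L, π = QuotientGroup.mk' _ := ⟨_, rfl⟩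
  have hker : ∀ x : ↥L, π x = 1 ↔ (x : G) ∈ Q := by
    intro x
    rw [hπ]
    exact (QuotientGroup.eq_one_iff x).trans Subgroup.mem_subgroupOf
  have hdb3 : (π ⟨d, hdL⟩) ^ 3 = 1 := by
    rw [← map_pow]
    have : (⟨d, hdL⟩ : ↥L) ^ 3 = 1 := Subtype.ext hd3
    rw [this, map_one]
  have hdb1 : π ⟨d, hdL⟩ ≠ 1 := fun h => hdQ ((hker _).mp h)
  have hKZ : compK Q d ≤ ((Subgroup.zpowers (π ⟨d, hdL⟩)).comap π).map L.subtype := by
    conv_lhs => unfold compK
    rw [Subgroup.closure_le]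
    rintro x ⟨q, hq, rfl⟩
    have hqL := hQL hq
    refine ⟨⟨q, hqL⟩ * ⟨d, hdL⟩ * (⟨q, hqL⟩ : ↥L)⁻¹, ?_, rfl⟩
    rw [SetLike.mem_coe, Subgroup.mem_comap, map_mul, map_mul, map_inv,
      (hker ⟨q, hqL⟩).mpr hq]
    simp only [one_mul, inv_one, mul_one]
    exact Subgroup.mem_zpowers _
  have hcube : ∀ x : ↥L, π x ∈ Subgroup.zpowers (π ⟨d, hdL⟩) → (π x) ^ 3 = 1 := by
    intro x hx
    obtain ⟨k, hk⟩ := Subgroup.mem_zpowers_iff.mp hx
    rw [← hk, ← zpow_natCast, ← zpow_mul, mul_comm, zpow_mul, zpow_natCast, hdb3, one_zpow]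
  constructor
  · intro x hx
    obtain ⟨x', hx'Z, rfl⟩ := hKZ hx
    rw [SetLike.mem_coe, Subgroup.mem_comap] at hx'Z
    have := hcube x' hx'Z
    rw [← map_pow] at this
    exact (hker _).mp this
  · let f : ↥(compK Q d) →* ↥L ⧸ Q.subgroupOf L := π.comp (Subgroup.inclusion hKL)
    have hfker : f.ker = Q.subgroupOf (compK Q d) := by
      ext x
      rw [MonoidHom.mem_ker, Subgroup.mem_subgroupOf]
      exact hker (Subgroup.inclusion hKL x)
    have hfrange : f.range = Subgroup.zpowers (π ⟨d, hdL⟩) := by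
      apply le_antisymm
      · rintro _ ⟨x, rfl⟩
        obtain ⟨x', hx'Z, hx'x⟩ := hKZ x.2
        rw [SetLike.mem_coe, Subgroup.mem_comap] at hx'Z
        have : Subgroup.inclusion hKL x = x' := Subtype.ext hx'x.symm
        show π (Subgroup.inclusion hKL x) ∈ _
        rw [this]; exact hx'Z
      · rw [Subgroup.zpowers_le]
        exact ⟨⟨d, mem_compK Q d⟩, rfl⟩
    unfold Subgroup.relIndex
    rw [← hfker, Subgroup.index_ker, hfrange, Nat.card_zpowers]
    exact orderOf_eq_prime hdb3 hdb1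

theorem pCoreOf_compK [Finite G] {L : Subgroup G} {d : G} (hdL : d ∈ L) (hd3 : d ^ 3 = 1)
    (hdQ : d ∉ pCoreOf 2 L) :
    pCoreOf 2 (compK (pCoreOf 2 L) d) = compK (pCoreOf 2 L) d ⊓ pCoreOf 2 L := by
  have hQL : pCoreOf 2 L ≤ L := JComp.pCoreOf_le L
  have hLQ : L ≤ Subgroup.normalizer ((pCoreOf 2 L : Subgroup G) : Set G) := JStruct.le_normalizer_pCoreOf L
  have hKL : compK (pCoreOf 2 L) d ≤ L := compK_le hQL hdL
  obtain ⟨hcube, -⟩ := compK_quotient hQL hLQ hdL hd3 hdQ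
  apply le_antisymm
  · intro x hx
    have hxK := JComp.pCoreOf_le _ hx
    obtain ⟨k, hk⟩ := two_pow_of_mem_pCoreOf hx
    exact ⟨hxK, mem_of_cube_mem_of_two_pow (hcube x hxK) hk⟩
  · rintro x ⟨hxK, hxQ⟩
    rw [mem_pCoreOf_iff hxK]
    exact subgroupOf_le_pCore (hKL.trans hLQ) (pCoreOf_isPGroup L)
      (Subgroup.mem_subgroupOf.mpr hxQ)

theorem omegaCenterOf_comm {X : Subgroup G} :
    ∀ x ∈ omegaCenterOf X, ∀ y ∈ omegaCenterOf X, x * y = y * x := by
  intro x hx y hy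
  have hx' := omegaCenterOf_le X hx
  have hy' := omegaCenterOf_le X hy
  exact Subgroup.mem_centralizer_iff.mp hy'.2 x hx'.1

theorem omegaCenterOf_sq {X : Subgroup G} : ∀ w ∈ omegaCenterOf X, w * w = 1 := by
  intro w hw
  have hw' : w ∈ Subgroup.closure {x : G | x ∈ X ⊓ Subgroup.centralizer (X : Set G) ∧
      x ^ 2 = 1} := hw
  induction hw' using Subgroup.closure_induction with
  | mem x hx => rw [← pow_two]; exact hx.2
  | one => simp
  | mul x y hx hy ihx ihy =>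
    have hc : y * x = x * y := omegaCenterOf_comm y hy x hx
    calc (x * y) * (x * y) = x * (y * x) * y := by group
      _ = x * (x * y) * y := by rw [hc]
      _ = (x * x) * (y * y) := by group
      _ = 1 := by rw [ihx hx, ihy hy, one_mul]
  | inv x hx ih =>
    have : x⁻¹ * x⁻¹ = (x * x)⁻¹ := by group
    rw [this, ih hx, inv_one]


/-- `W_K ≠ 1` for `K = ⟨d^{O₂(L)}⟩` when `d` acts nontrivially on `V`. -/
theorem wOf_compK_ne_bot [Finite G] {T L : Subgroup G} (hLT : L ∈ jOvergroups T) {d : G}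
    (hdL : d ∈ L) (hd3 : d ^ 3 = 1) (hdC : d ∉ CG L)
    (hpc : pCoreOf 2 (compK (pCoreOf 2 L) d) = compK (pCoreOf 2 L) d ⊓ pCoreOf 2 L) :
    wOf (compK (pCoreOf 2 L) d) ≠ ⊥ := by
  obtain ⟨v, hvV, hvd⟩ : ∃ v ∈ VG L, d * v ≠ v * d := by
    by_contra hcon
    push Not at hcon
    exact hdC (mem_CG_of_comm hdL hcon)
  have hv₁ : d * v * d⁻¹ ∈ VG L := conj_mem_VG hLT hdL hvV
  have hv₂ : d * (d * v * d⁻¹) * d⁻¹ ∈ VG L := conj_mem_VG hLT hdL hv₁
  have hcube : d * (d * (d * v * d⁻¹) * d⁻¹) * d⁻¹ = v := by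
    have hd3' : d * d * d = 1 := by rw [← hd3, pow_succ, pow_two]
    have : d * (d * (d * v * d⁻¹) * d⁻¹) * d⁻¹ = (d * d * d) * v * (d * d * d)⁻¹ := by group
    rw [this, hd3']; simp
  have hdK : d ∈ compK (pCoreOf 2 L) d := mem_compK _ _
  have huV : v * (d * v * d⁻¹) ∈ VG L := Subgroup.mul_mem _ hvV hv₁
  have huK : v * (d * v * d⁻¹) ∈ compK (pCoreOf 2 L) d := by
    have : v * (d * v * d⁻¹) = (v * d * v⁻¹) * d⁻¹ := by rw [VG_inv hLT hvV]; group
    rw [this]
    exact Subgroup.mul_mem _ (conj_mem_compK (VG_le_pCoreOf hLT hvV)) (Subgroup.inv_mem _ hdK)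
  have huQ : v * (d * v * d⁻¹) ∈ pCoreOf 2 L := VG_le_pCoreOf hLT huV
  have huZ : v * (d * v * d⁻¹) ∈ omegaCenterOf (pCoreOf 2 (compK (pCoreOf 2 L) d)) := by
    apply mem_omegaCenterOf
    · rw [hpc]; exact ⟨huK, huQ⟩
    · rw [Subgroup.mem_centralizer_iff]
      intro x hx
      rw [SetLike.mem_coe, hpc] at hx
      exact CG_comm (pCoreOf_le_CG L hx.2) huV
    · rw [pow_two]; exact VG_sq hLT huV
  have hw : ⁅v * (d * v * d⁻¹), d⁆ ∈ wOf (compK (pCoreOf 2 L) d) :=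
    Subgroup.commutator_mem_commutator huZ hdK
  intro hbot
  rw [hbot, Subgroup.mem_bot, commutatorElement_eq_one_iff_mul_comm] at hw
  -- `d u d⁻¹ = u`
  have h1 : d * (v * (d * v * d⁻¹)) * d⁻¹ = v * (d * v * d⁻¹) := by rw [← hw]; group
  have h2 : d * (v * (d * v * d⁻¹)) * d⁻¹ = (d * v * d⁻¹) * (d * (d * v * d⁻¹) * d⁻¹) := by
    group
  rw [h2, VG_comm hLT hvV hv₁] at h1
  have h3 : d * (d * v * d⁻¹) * d⁻¹ = v := mul_left_cancel h1
  rw [h3] at hcube
  apply hvd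
  calc d * v = (d * v * d⁻¹) * d := by group
    _ = v * d := by rw [hcube]

/-- The Thompson replacement inequality for a largest elementary abelian subgroup. -/
theorem star_of_isMaxEAIn [Finite G] {L A W : Subgroup G} (hAL : IsMaxEAIn 2 L A)
    (hWL : W ≤ L) (hWc : ∀ x ∈ W, ∀ y ∈ W, x * y = y * x) (hW2 : ∀ w ∈ W, w * w = 1) :
    ∀ B : Subgroup G, B ≤ A →
      Nat.card B * Nat.card ↥(W ⊓ Subgroup.centralizer (B : Set G)) ≤
        Nat.card A * Nat.card ↥(W ⊓ Subgroup.centralizer (A : Set G)) := by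
  intro B hBA
  obtain ⟨hAc, hAe⟩ := (isElementaryAbelian_iff 2 A).mp hAL.2.1
  have hCea : IsElementaryAbelian 2 (W ⊓ Subgroup.centralizer (B : Set G)) :=
    (isElementaryAbelian_iff 2 _).mpr ⟨fun x hx y hy => hWc x hx.1 y hy.1,
      fun x hx => by rw [pow_two]; exact hW2 x hx.1⟩
  have hBea : IsElementaryAbelian 2 B :=
    (isElementaryAbelian_iff 2 _).mpr ⟨fun x hx y hy => hAc x (hBA hx) y (hBA hy),
      fun x hx => hAe x (hBA hx)⟩
  have hsup : IsElementaryAbelian 2 ((W ⊓ Subgroup.centralizer (B : Set G)) ⊔ B) :=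
    Cfsg.H5.isElementaryAbelian_sup hCea hBea inf_le_right
  have hle : (W ⊓ Subgroup.centralizer (B : Set G)) ⊔ B ≤ L :=
    sup_le (inf_le_left.trans hWL) (hBA.trans hAL.1)
  have h1 := hAL.2.2 _ hle hsup
  have h2 := card_sup_mul_card_inf (W ⊓ Subgroup.centralizer (B : Set G)) B
    (inf_le_right.trans (Subgroup.centralizer_le_normalizer _))
  have h3 : (W ⊓ Subgroup.centralizer (B : Set G)) ⊓ B ≤
      W ⊓ Subgroup.centralizer (A : Set G) := by
    intro x hx
    rw [Subgroup.mem_inf] at hx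
    obtain ⟨hxC, hxB⟩ := hx
    rw [Subgroup.mem_inf] at hxC ⊢
    refine ⟨hxC.1, ?_⟩
    rw [Subgroup.mem_centralizer_iff]
    intro y hy
    exact hAc y hy x (hBA hxB)
  calc Nat.card B * Nat.card ↥(W ⊓ Subgroup.centralizer (B : Set G))
      = Nat.card ↥((W ⊓ Subgroup.centralizer (B : Set G)) ⊔ B) *
          Nat.card ↥((W ⊓ Subgroup.centralizer (B : Set G)) ⊓ B) := by rw [h2, mul_comm]
    _ ≤ Nat.card A * Nat.card ↥(W ⊓ Subgroup.centralizer (A : Set G)) :=
        Nat.mul_le_mul h1 (Subgroup.card_le_of_le h3)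

/-- **Existence of `J(T)`-components**: every member `L` of `𝓛(T)` contains a
`J(T)`-component. -/
theorem exists_component [Finite G]
    (hN : ∀ N : Subgroup G, IsTwoLocal N → Group.IsSolvable ↥N)
    (hZ : ∀ S : Sylow 2 G, Subgroup.centralizer (omegaCenterOf (S : Subgroup G) : Set G) ≤
      Subgroup.normalizer ((S : Subgroup G) : Set G))
    {T L : Subgroup G} (hLT : L ∈ jOvergroups T) : ∃ K, IsJComponent T K ∧ K ≤ L := by
  obtain ⟨A, a, d, hA, haA, hdL, hd3, hdC, had, hJd⟩ := exists_data' hN hZ hLT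
  have hS := hLT.1
  have hQT : pCoreOf 2 L ≤ T := pCoreOf_le_of_isSylowTwoIn hS
  have hQL : pCoreOf 2 L ≤ L := JComp.pCoreOf_le L
  have hLQ : L ≤ Subgroup.normalizer ((pCoreOf 2 L : Subgroup G) : Set G) :=
    JStruct.le_normalizer_pCoreOf L
  have hQ2 : IsPGroup 2 ↥(pCoreOf 2 L) := pCoreOf_isPGroup L
  have hdQ : d ∉ pCoreOf 2 L := fun h => hdC (pCoreOf_le_CG L h)
  have hd1 : d ≠ 1 := fun h => hdQ (h ▸ Subgroup.one_mem _)
  have hJT : thompsonSubgroupOf 2 T ≤ T := thompsonSubgroupOf_le 2 T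
  have hAJ : A ≤ thompsonSubgroupOf 2 T := le_thompson_of_isMaxEAIn hA
  have haJ := hAJ haA
  obtain ⟨hAc, hAe⟩ := (isElementaryAbelian_iff 2 A).mp hA.2.1
  have hpc0 := pCoreOf_compK hdL hd3 hdQ
  have hW10 := wOf_compK_ne_bot hLT hdL hd3 hdC hpc0
  obtain ⟨hcube, hidx⟩ := compK_quotient hQL hLQ hdL hd3 hdQ
  obtain ⟨K, hK⟩ : ∃ K, K = compK (pCoreOf 2 L) d := ⟨_, rfl⟩
  rw [← hK] at hpc0 hW10 hcube hidx
  have hdK : d ∈ K := by rw [hK]; exact mem_compK _ _
  have hKL : K ≤ L := by rw [hK]; exact compK_le hQL hdL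
  have hQK : pCoreOf 2 L ≤ Subgroup.normalizer (K : Set G) := by
    rw [hK]; exact le_normalizer_compK _ _
  have hcl : Subgroup.closure {g : G | g ∈ K ∧ Odd (orderOf g)} = K := by
    rw [hK]; exact closure_odd_compK hd3 hd1
  have h3 : (pCoreOf 2 K).relIndex K = 3 := by
    rw [hpc0, Subgroup.inf_relIndex_left]; exact hidx
  have hdQK : d ∉ pCoreOf 2 K := fun h => hdQ (by rw [hpc0] at h; exact h.2)
  -- conjugates of `d` under `J(T)`
  have hJdK : ∀ b ∈ thompsonSubgroupOf 2 T, b * d * b⁻¹ ∈ K := by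
    intro b hb
    have hmem : b * d * b⁻¹ ∈ K ⊔ pCoreOf 2 L := by
      rcases hJd b hb with h | h
      · have : b * d * b⁻¹ = (b * d * b⁻¹ * d⁻¹) * d := by group
        rw [this]
        exact Subgroup.mul_mem _ (Subgroup.mem_sup_right h) (Subgroup.mem_sup_left hdK)
      · have : b * d * b⁻¹ = (b * d * b⁻¹ * d) * d⁻¹ := by group
        rw [this]
        exact Subgroup.mul_mem _ (Subgroup.mem_sup_right h)
          (Subgroup.mem_sup_left (K.inv_mem hdK))
    apply mem_of_odd_of_mem_sup hQ2 hQK hmem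
    have h3' : (b * d * b⁻¹) ^ 3 = 1 := by rw [conj_pow, hd3]; group
    have h1' : b * d * b⁻¹ ≠ 1 := by
      intro h
      apply hd1
      calc d = b⁻¹ * (b * d * b⁻¹) * b := by group
        _ = 1 := by rw [h]; group
    rw [orderOf_eq_prime h3' h1']
    exact odd_three
  have hJK : thompsonSubgroupOf 2 T ≤ Subgroup.normalizer (K : Set G) := by
    intro b hb
    have h1 := hJdK b hb
    rw [hK] at h1 ⊢
    exact mem_normalizer_compK (hLQ (hS.1 (hJT hb))) h1
  -- `[K, J(T)] = K`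
  have hcomm : ⁅K, thompsonSubgroupOf 2 T⁆ = K := by
    apply le_antisymm
    · exact commutator_le_left_of_le_normalizer hJK
    · have hQK' : pCoreOf 2 L ≤
          Subgroup.normalizer ((⁅K, thompsonSubgroupOf 2 T⁆ : Subgroup G) : Set G) :=
        fun q hq => mem_normalizer_commutator (hQK hq) (le_normalizer_thompson T (hQT hq))
      have hdK' : d ∈ ⁅K, thompsonSubgroupOf 2 T⁆ := by
        have h1 : ⁅d, a⁆ ∈ ⁅K, thompsonSubgroupOf 2 T⁆ :=
          Subgroup.commutator_mem_commutator hdK haJ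
        have h2 : ⁅d, a⁆ = d * d := by rw [commutatorElement_def]; exact comm_of_inv had
        rw [h2] at h1
        have hd3' : d * d * d = 1 := by rw [← hd3, pow_succ, pow_two]
        have h3 : d = (d * d)⁻¹ := by
          calc d = (d * d)⁻¹ * (d * d * d) := by group
            _ = (d * d)⁻¹ := by rw [hd3', mul_one]
        rw [h3]
        exact Subgroup.inv_mem _ h1
      conv_lhs => rw [hK]
      unfold compK
      rw [Subgroup.closure_le]
      rintro x ⟨q, hq, rfl⟩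
      exact (Subgroup.mem_normalizer_iff.mp (hQK' hq) d).mp hdK'
  -- the Sylow condition
  have hQKT : pCoreOf 2 K ≤ T := by rw [hpc0]; exact inf_le_right.trans hQT
  have hsyl : ∀ S : Subgroup G, IsSylowTwoIn S (K ⊔ thompsonSubgroupOf 2 T) →
      thompsonSubgroupOf 2 T ≤ S → thompsonSubgroupOf 2 S = thompsonSubgroupOf 2 T := by
    intro S hSS hJS
    apply thompson_eq_of_le hJS
    intro s hs
    have hsKJ : s ∈ K ⊔ thompsonSubgroupOf 2 T := hSS.1 hs
    rw [← SetLike.mem_coe, Subgroup.coe_mul_of_right_le_normalizer_left K _ hJK,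
      Set.mem_mul] at hsKJ
    obtain ⟨k, hk, j, hj, rfl⟩ := hsKJ
    rw [SetLike.mem_coe] at hk hj
    have hkS : k ∈ S := by
      have : k = (k * j) * j⁻¹ := by group
      rw [this]
      exact S.mul_mem hs (S.inv_mem (hJS hj))
    obtain ⟨n, hn⟩ := hSS.2.1 ⟨k, hkS⟩
    have hn' : k ^ (2 ^ n) = 1 := by simpa using congrArg Subtype.val hn
    exact T.mul_mem (hQKT (mem_pCoreOf_of_two_pow h3 hk hn')) (hJT hj)
  -- the four-group
  have hKW : K ≤ Subgroup.normalizer ((wOf K : Subgroup G) : Set G) :=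
    Subgroup.le_normalizer.trans (normalizer_le_normalizer_wOf h3)
  have hWZ : wOf K ≤ omegaCenterOf (pCoreOf 2 K) := wOf_le_omega h3
  have hWc : ∀ x ∈ wOf K, ∀ y ∈ wOf K, x * y = y * x := fun x hx y hy =>
    omegaCenterOf_comm x (hWZ hx) y (hWZ hy)
  have hW2 : ∀ w ∈ wOf K, w * w = 1 := fun w hw => omegaCenterOf_sq w (hWZ hw)
  have hKZ : K ≤ Subgroup.normalizer ((omegaCenterOf (pCoreOf 2 K) : Subgroup G) : Set G) :=
    Subgroup.le_normalizer.trans (normalizer_le_normalizer_omega h3)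
  have hXZ : ∀ x ∈ pCoreOf 2 K, ∀ z ∈ omegaCenterOf (pCoreOf 2 K), x * z = z * x :=
    fun x hx z hz => Subgroup.mem_centralizer_iff.mp (omegaCenterOf_le _ hz).2 x hx
  have htr := trace_commutator omegaCenterOf_comm omegaCenterOf_sq hKZ hdK hd3 hXZ
    (fun k hk => cases_of_mem h3 hdK hdQK hd3 hk)
  have hAW : A ≤ Subgroup.normalizer ((wOf K : Subgroup G) : Set G) :=
    hAJ.trans (hJK.trans (normalizer_le_normalizer_wOf h3))
  have hQKW : ∀ q ∈ pCoreOf 2 K, ∀ w ∈ wOf K, q * w * q⁻¹ = w := by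
    intro q hq w hw
    have := Subgroup.mem_centralizer_iff.mp (pCoreOf_le_centralizer_wOf h3 hq) w hw
    rw [← this]; group
  have hAL : IsMaxEAIn 2 L A := by
    refine ⟨hA.1.trans hS.1, hA.2.1, fun C hC hCe => ?_⟩
    have hC2 : IsPGroup 2 C := Cfsg.H5.isPGroup_of_isElementaryAbelian hCe
    obtain ⟨l, -, hl⟩ := exists_conj_le hS hC hC2
    have := hA.2.2 _ hl ((ea_map_equiv_iff 2 (MulAut.conj l) C).mpr hCe)
    rwa [card_map_equiv] at this
  have hWL : wOf K ≤ L := (wOf_le_pCoreOf h3).trans ((JComp.pCoreOf_le K).trans hKL)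
  have hsetup : Setup (wOf K) A (commSub (wOf K) A d hAW) a d :=
    { hWc := hWc
      hW2 := hW2
      hW1 := hW10
      hdW := hKW hdK
      hd3 := hd3
      htr := fun w hw => (htr w hw).2
      hAW := hAW
      hAc := hAc
      hA2 := fun x hx => by rw [← pow_two]; exact hAe x hx
      hA₀ := commSub_le
      ha := haA
      hidx := by
        intro x hx
        have hxJ := hAJ hx
        have hxW := hAW hx
        rcases hJd x hxJ with h | h
        · left
          rw [mem_commSub]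
          refine ⟨hx, fun w hw => ?_⟩
          have hq : x * d * x⁻¹ * d⁻¹ ∈ pCoreOf 2 K := by
            rw [hpc0]
            exact ⟨K.mul_mem (hJdK x hxJ) (K.inv_mem hdK), h⟩
          have hxw : x * w * x⁻¹ ∈ wOf K := (Subgroup.mem_normalizer_iff.mp hxW w).mp hw
          have hdxw : d * (x * w * x⁻¹) * d⁻¹ ∈ wOf K :=
            (Subgroup.mem_normalizer_iff.mp (hKW hdK) _).mp hxw
          calc x * (d * w * d⁻¹) * x⁻¹
              = (x * d * x⁻¹ * d⁻¹) * (d * (x * w * x⁻¹) * d⁻¹) * (x * d * x⁻¹ * d⁻¹)⁻¹ := by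
                group
            _ = d * (x * w * x⁻¹) * d⁻¹ := hQKW _ hq _ hdxw
        · right
          rw [mem_commSub]
          refine ⟨A.mul_mem haA hx, fun w hw => ?_⟩
          have hq : x * d * x⁻¹ * d ∈ pCoreOf 2 K := by
            rw [hpc0]
            exact ⟨K.mul_mem (hJdK x hxJ) hdK, h⟩
          have hxw : x * w * x⁻¹ ∈ wOf K := (Subgroup.mem_normalizer_iff.mp hxW w).mp hw
          have hdxw : d⁻¹ * (x * w * x⁻¹) * d ∈ wOf K := by
            have := (Subgroup.mem_normalizer_iff.mp (hKW (K.inv_mem hdK)) _).mp hxw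
            rwa [inv_inv] at this
          have e1 : x * (d * w * d⁻¹) * x⁻¹ = d⁻¹ * (x * w * x⁻¹) * d := by
            calc x * (d * w * d⁻¹) * x⁻¹
                = (x * d * x⁻¹ * d) * (d⁻¹ * (x * w * x⁻¹) * d) * (x * d * x⁻¹ * d)⁻¹ := by
                  group
              _ = d⁻¹ * (x * w * x⁻¹) * d := hQKW _ hq _ hdxw
          have had' : a * d⁻¹ * a⁻¹ = d := by
            calc a * d⁻¹ * a⁻¹ = (a * d * a⁻¹)⁻¹ := by group
              _ = d := by rw [had, inv_inv]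
          calc (a * x) * (d * w * d⁻¹) * (a * x)⁻¹
              = a * (x * (d * w * d⁻¹) * x⁻¹) * a⁻¹ := by group
            _ = a * (d⁻¹ * (x * w * x⁻¹) * d) * a⁻¹ := by rw [e1]
            _ = (a * d⁻¹ * a⁻¹) * ((a * x) * w * (a * x)⁻¹) * (a * d⁻¹ * a⁻¹)⁻¹ := by group
            _ = d * ((a * x) * w * (a * x)⁻¹) * d⁻¹ := by rw [had']
      hinv := by
        intro w _
        calc a * (d * w * d⁻¹) * a⁻¹
            = (a * d * a⁻¹) * (a * w * a⁻¹) * (a * d * a⁻¹)⁻¹ := by group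
          _ = d⁻¹ * (a * w * a⁻¹) * d := by rw [had, inv_inv]
      hcomm := fun x hx w hw => (mem_commSub.mp hx).2 w hw
      hstar := star_of_isMaxEAIn hAL hWL hWc hW2 }
  exact ⟨K, ⟨hcl, hcomm, h3, hsyl, hsetup.card_eq_four, hW2⟩, hKL⟩

end Cfsg.Agent.Lib.Helper17.JExB
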