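import Mathlib
import Cfsg.Agent.Lib.Helper17.JExB

set_option autoImplicit false

/-! Existence of `J(T)`-components, refined: the component can be prescribed modulo `C_L(V)`. -/

namespace Cfsg.Agent.Lib.Helper17.JExC

open Cfsg Cfsg.Agent.Lib.Helper17 Cfsg.Agent.Lib.Helper27 Cfsg.Agent.Lib.Helper17.JComp
  Cfsg.Agent.Lib.Helper17.JStruct Cfsg.Agent.Lib.Helper17.JUniq Cfsg.Agent.Lib.Helper17.JExA
  Cfsg.Agent.Lib.Helper17.JExD Cfsg.Agent.Lib.Helper17.JMaxEA Cfsg.Agent.Lib.Helper17.JExB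
  Cfsg.Agent.Lib.Helper20
open scoped commutatorElement

variable {G : Type*} [Group G]

/-- From an involution `a ∈ J(T)` inverting modulo `C_L(V)` an element of order three of a
normal copy `E` of `S₃` in the image of `J(L)`, an element `d` of order three of `J(L)`
inverted by `a` and mapping into `E`. -/
theorem construct [Finite G] {𝔾 : Type*} [Group 𝔾]
    (hZ : ∀ S : Sylow 2 G, Subgroup.centralizer (omegaCenterOf (S : Subgroup G) : Set G) ≤
      Subgroup.normalizer ((S : Subgroup G) : Set G))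
    {T L : Subgroup G} (hLT : L ∈ jOvergroups T)
    (ψ : ↥L →* 𝔾) (hkerψ : ∀ x : ↥L, ψ x = 1 ↔ (x : G) ∈ CG L)
    {E : Subgroup 𝔾} (φ : ↥E ≃* Matrix.SpecialLinearGroup (Fin 2) (ZMod 2))
    (hnorm : (thompsonSubgroup 2 ↥L).map ψ ≤ Subgroup.normalizer (E : Set 𝔾))
    {a : G} (haT : a ∈ T) (haa : a * a = 1) (haJ : a ∈ thompsonSubgroupOf 2 T) (haL : a ∈ L)
    {h : 𝔾} (hhE : h ∈ E) (hhH : h ∈ (thompsonSubgroup 2 ↥L).map ψ) (hh3 : h ^ 3 = 1)
    (hh1 : h ≠ 1) (hgh : ψ ⟨a, haL⟩ * h * (ψ ⟨a, haL⟩)⁻¹ = h⁻¹) :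
    ∃ d : ↥L, d ∈ thompsonSubgroup 2 ↥L ∧ ψ d ∈ E ∧ (ψ d) ^ 3 = 1 ∧ ψ d ≠ 1 ∧
      (d : G) ^ 3 = 1 ∧ (d : G) ∉ CG L ∧ a * (d : G) * a⁻¹ = (d : G)⁻¹ ∧
      ∀ b ∈ thompsonSubgroupOf 2 T,
        b * (d : G) * b⁻¹ * (d : G)⁻¹ ∈ CG L ∨ b * (d : G) * b⁻¹ * (d : G) ∈ CG L := by
  have hS := hLT.1
  have hJL : thompsonSubgroupOf 2 T ≤ thompsonSubgroupOf 2 L := thompson_le_thompson hS
  have hJmem : ∀ b ∈ thompsonSubgroupOf 2 T, ∀ hb : b ∈ L,
      (⟨b, hb⟩ : ↥L) ∈ thompsonSubgroup 2 ↥L := by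
    intro b hb hbL
    obtain ⟨y, hy, hyb⟩ := hJL hb
    have : y = ⟨b, hbL⟩ := Subtype.ext hyb
    rw [← this]; exact hy
  have hψJ : ∀ x ∈ thompsonSubgroup 2 ↥L, ψ x ∈ (thompsonSubgroup 2 ↥L).map ψ := fun x hx =>
    Subgroup.mem_map_of_mem ψ hx
  obtain ⟨d₀, hd₀J, hd₀⟩ : ∃ d₀ ∈ thompsonSubgroup 2 ↥L, ψ d₀ = h := Subgroup.mem_map.mp hhH
  obtain ⟨a', ha'⟩ : ∃ a' : ↥L, a' = ⟨a, haL⟩ := ⟨_, rfl⟩
  have ha'J : a' ∈ thompsonSubgroup 2 ↥L := by rw [ha']; exact hJmem a haJ haL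
  obtain ⟨k₀, hk₀⟩ : ∃ k₀ : ↥L, k₀ = d₀ * a' * d₀⁻¹ * a'⁻¹ := ⟨_, rfl⟩
  have hk₀J : k₀ ∈ thompsonSubgroup 2 ↥L := by
    rw [hk₀]
    exact Subgroup.mul_mem _ (Subgroup.mul_mem _ (Subgroup.mul_mem _ hd₀J ha'J)
      (Subgroup.inv_mem _ hd₀J)) (Subgroup.inv_mem _ ha'J)
  have ha'a' : a' * a' = 1 := by rw [ha']; exact Subtype.ext haa
  have hψa' : ψ a' * h * (ψ a')⁻¹ = h⁻¹ := by rw [ha']; exact hgh
  have hψk : ψ k₀ = h * h := by
    rw [hk₀, map_mul, map_mul, map_mul, map_inv, map_inv, hd₀]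
    calc h * ψ a' * h⁻¹ * (ψ a')⁻¹ = h * (ψ a' * h * (ψ a')⁻¹)⁻¹ := by group
      _ = h * h := by rw [hψa', inv_inv]
  have hak : a' * k₀ * a'⁻¹ = k₀⁻¹ := by
    rw [hk₀]
    calc a' * (d₀ * a' * d₀⁻¹ * a'⁻¹) * a'⁻¹ = a' * d₀ * a' * d₀⁻¹ * (a' * a')⁻¹ := by group
      _ = a' * d₀ * a' * d₀⁻¹ := by rw [ha'a', inv_one, mul_one]
      _ = a' * d₀ * (a' * a') * a'⁻¹ * d₀⁻¹ := by group
      _ = a' * d₀ * a'⁻¹ * d₀⁻¹ := by rw [ha'a', mul_one]
      _ = (d₀ * a' * d₀⁻¹ * a'⁻¹)⁻¹ := by group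
  have hakG : a * (k₀ : G) * a⁻¹ = (k₀ : G)⁻¹ := by
    have := congrArg Subtype.val hak
    rw [ha'] at this
    exact this
  have hh3' : h * h * h = 1 := by rw [← hh3, pow_succ, pow_two]
  have hhh3 : (h * h) ^ 3 = 1 := by
    rw [pow_succ, pow_two]
    calc (h * h) * (h * h) * (h * h) = (h * h * h) * (h * h * h) := by group
      _ = 1 := by rw [hh3', one_mul]
  have hhh1 : h * h ≠ 1 := by
    intro h'
    apply hh1
    calc h = (h * h * h) * (h * h)⁻¹ := by group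
      _ = 1 := by rw [hh3', h']; group
  have hk3C : (k₀ : G) ^ 3 ∈ CG L := by
    have : ψ (k₀ ^ 3) = 1 := by rw [map_pow, hψk, hhh3]
    exact (hkerψ _).mp this
  have hcomm := commutator_CG_mem hZ hLT hk3C haT
  have hk6 : ⁅(k₀ : G) ^ 3, a⁆ = (k₀ : G) ^ 6 := by
    rw [commutatorElement_def]
    have h1 : a * (k₀ : G) ^ 3 * a⁻¹ = ((k₀ : G) ^ 3)⁻¹ := by
      rw [← conj_pow, hakG, inv_pow]
    rw [comm_of_inv h1, ← pow_add]
  rw [hk6] at hcomm
  obtain ⟨e, he⟩ := two_pow_of_mem_pCoreOf hcomm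
  obtain ⟨d', hd'⟩ : ∃ d' : ↥L, d' = k₀ ^ (2 ^ (e + 1)) := ⟨_, rfl⟩
  have hd'G : (d' : G) = (k₀ : G) ^ (2 ^ (e + 1)) := by rw [hd']; rfl
  have hd3 : (d' : G) ^ 3 = 1 := by
    rw [hd'G, ← pow_mul]
    have : 2 ^ (e + 1) * 3 = 6 * 2 ^ e := by rw [pow_succ]; ring
    rw [this, pow_mul]
    exact he
  have had : a * (d' : G) * a⁻¹ = (d' : G)⁻¹ := by
    rw [hd'G, ← conj_pow, hakG, inv_pow]
  have hψd : ψ d' = (h * h) ^ (2 ^ (e + 1)) := by rw [hd', map_pow, hψk]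
  have hψdE : ψ d' ∈ E := by
    rw [hψd]
    exact Subgroup.pow_mem _ (Subgroup.mul_mem _ hhE hhE) _
  have hψd3 : (ψ d') ^ 3 = 1 := by
    rw [← map_pow]
    have : d' ^ 3 = 1 := Subtype.ext hd3
    rw [this, map_one]
  have hψd1 : ψ d' ≠ 1 := by
    intro h'
    rw [hψd] at h'
    have ho : orderOf (h * h) = 3 := orderOf_eq_prime hhh3 hhh1
    have hdvd : 3 ∣ 2 ^ (e + 1) := by rw [← ho]; exact orderOf_dvd_of_pow_eq_one h'
    have := Nat.Prime.dvd_of_dvd_pow Nat.prime_three hdvd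
    omega
  have hdC : (d' : G) ∉ CG L := fun h' => hψd1 ((hkerψ d').mpr h')
  refine ⟨d', ?_, hψdE, hψd3, hψd1, hd3, hdC, had, ?_⟩
  · rw [hd']; exact Subgroup.pow_mem _ hk₀J _
  intro b hb
  have hbL : b ∈ L := hS.1 (thompsonSubgroupOf_le 2 T hb)
  have hψb : ψ ⟨b, hbL⟩ ∈ (thompsonSubgroup 2 ↥L).map ψ := hψJ _ (hJmem b hb hbL)
  rcases conj_eq_or φ hnorm hψdE hψd3 hψd1 hψb with h' | h'
  · left
    have : ψ ((⟨b, hbL⟩ : ↥L) * d' * (⟨b, hbL⟩ : ↥L)⁻¹ * d'⁻¹) = 1 := by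
      rw [map_mul, map_mul, map_mul, map_inv, map_inv, h', mul_inv_cancel]
    exact (hkerψ _).mp this
  · right
    have : ψ ((⟨b, hbL⟩ : ↥L) * d' * (⟨b, hbL⟩ : ↥L)⁻¹ * d') = 1 := by
      rw [map_mul, map_mul, map_mul, map_inv, h', inv_mul_cancel]
    exact (hkerψ _).mp this

/-- Passing from `C_L(V)` to `O₂(L)` in the normalization property of `d`. -/
theorem upgrade [Finite G]
    (hZ : ∀ S : Sylow 2 G, Subgroup.centralizer (omegaCenterOf (S : Subgroup G) : Set G) ≤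
      Subgroup.normalizer ((S : Subgroup G) : Set G))
    {T L : Subgroup G} (hLT : L ∈ jOvergroups T) {a d : G} (haT : a ∈ T) (hdL : d ∈ L)
    (had : a * d * a⁻¹ = d⁻¹)
    (hJd : ∀ b ∈ thompsonSubgroupOf 2 T,
      b * d * b⁻¹ * d⁻¹ ∈ CG L ∨ b * d * b⁻¹ * d ∈ CG L) :
    ∀ b ∈ thompsonSubgroupOf 2 T,
      b * d * b⁻¹ * d⁻¹ ∈ pCoreOf 2 L ∨ b * d * b⁻¹ * d ∈ pCoreOf 2 L := by
  have hS := hLT.1
  have haL : a ∈ L := hS.1 haT
  intro b hb
  have hbT : b ∈ T := thompsonSubgroupOf_le 2 T hb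
  rcases hJd b hb with h | h
  · left
    exact comm_mem_pCoreOf hZ hLT hbT hdL h
  · right
    have hda : a⁻¹ * d⁻¹ = d * a⁻¹ := by rw [← had]; group
    have e1 : (a * b) * d * (a * b)⁻¹ * d⁻¹ = a * (b * d * b⁻¹ * d) * a⁻¹ := by
      calc (a * b) * d * (a * b)⁻¹ * d⁻¹ = a * b * d * b⁻¹ * (a⁻¹ * d⁻¹) := by group
        _ = a * b * d * b⁻¹ * (d * a⁻¹) := by rw [hda]
        _ = a * (b * d * b⁻¹ * d) * a⁻¹ := by group
    have h1 : a * (b * d * b⁻¹ * d) * a⁻¹ ∈ CG L :=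
      (Subgroup.mem_normalizer_iff.mp (le_normalizer_CG hLT haL) _).mp h
    have h2 : a * (b * d * b⁻¹ * d) * a⁻¹ ∈ pCoreOf 2 L := by
      rw [← e1]
      apply comm_mem_pCoreOf hZ hLT (T.mul_mem haT hbT) hdL
      rw [e1]; exact h1
    exact (Subgroup.mem_normalizer_iff.mp (le_normalizer_pCoreOf L haL) _).mpr h2

/-- The subgroup `⟨d^{O₂(L)}⟩` attached to the data `(A, a, d)` is a `J(T)`-component. -/
theorem component_of_data [Finite G] {T L A : Subgroup G} {a d : G} (hLT : L ∈ jOvergroups T)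
    (hA : IsMaxEAIn 2 T A) (haA : a ∈ A) (hdL : d ∈ L) (hd3 : d ^ 3 = 1) (hdC : d ∉ CG L)
    (had : a * d * a⁻¹ = d⁻¹)
    (hJd : ∀ b ∈ thompsonSubgroupOf 2 T,
      b * d * b⁻¹ * d⁻¹ ∈ pCoreOf 2 L ∨ b * d * b⁻¹ * d ∈ pCoreOf 2 L) :
    IsJComponent T (compK (pCoreOf 2 L) d) ∧ compK (pCoreOf 2 L) d ≤ L := by
  have hS := hLT.1
  have hQT : pCoreOf 2 L ≤ T := pCoreOf_le_of_isSylowTwoIn hS
  have hQL : pCoreOf 2 L ≤ L := JComp.pCoreOf_le L
  have hLQ : L ≤ Subgroup.normalizer ((pCoreOf 2 L : Subgroup G) : Set G) :=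
    JStruct.le_normalizer_pCoreOf L
  have hQ2 : IsPGroup 2 ↥(pCoreOf 2 L) := pCoreOf_isPGroup L
  have hdQ : d ∉ pCoreOf 2 L := fun h => hdC (pCoreOf_le_CG L h)
  have hd1 : d ≠ 1 := fun h => hdQ (h ▸ Subgroup.one_mem _)
  have hJT : thompsonSubgroupOf 2 T ≤ T := thompsonSubgroupOf_le 2 T
  have hAJ : A ≤ thompsonSubgroupOf 2 T := le_thompson_of_isMaxEAIn hA
  have haJ := hAJ haA
  obtain ⟨hAc, hAe⟩ := (isElementaryAbelian_iff 2 A).mp hA.2.1
  have hpc0 := pCoreOf_compK hdL hd3 hdQ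
  have hW10 := wOf_compK_ne_bot hLT hdL hd3 hdC hpc0
  obtain ⟨hcube, hidx⟩ := compK_quotient hQL hLQ hdL hd3 hdQ
  obtain ⟨K, hK⟩ : ∃ K, K = compK (pCoreOf 2 L) d := ⟨_, rfl⟩
  rw [← hK] at hpc0 hW10 hcube hidx ⊢
  have hdK : d ∈ K := by rw [hK]; exact mem_compK _ _
  have hKL : K ≤ L := by rw [hK]; exact compK_le hQL hdL
  have hQK : pCoreOf 2 L ≤ Subgroup.normalizer (K : Set G) := by
    rw [hK]; exact le_normalizer_compK _ _
  have hcl : Subgroup.closure {g : G | g ∈ K ∧ Odd (orderOf g)} = K := by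
    rw [hK]; exact closure_odd_compK hd3 hd1
  have h3 : (pCoreOf 2 K).relIndex K = 3 := by
    rw [hpc0, Subgroup.inf_relIndex_left]; exact hidx
  have hdQK : d ∉ pCoreOf 2 K := fun h => hdQ (by rw [hpc0] at h; exact h.2)
  -- conjugates of `d` under `J(T)`
  have hJdK : ∀ b ∈ thompsonSubgroupOf 2 T, b * d * b⁻¹ ∈ K := by
    intro b hb
    have hmem : b * d * b⁻¹ ∈ K ⊔ pCoreOf 2 L := by
      rcases hJd b hb with h | h
      · have : b * d * b⁻¹ = (b * d * b⁻¹ * d⁻¹) * d := by group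
        rw [this]
        exact Subgroup.mul_mem _ (Subgroup.mem_sup_right h) (Subgroup.mem_sup_left hdK)
      · have : b * d * b⁻¹ = (b * d * b⁻¹ * d) * d⁻¹ := by group
        rw [this]
        exact Subgroup.mul_mem _ (Subgroup.mem_sup_right h)
          (Subgroup.mem_sup_left (K.inv_mem hdK))
    apply mem_of_odd_of_mem_sup hQ2 hQK hmem
    have h3' : (b * d * b⁻¹) ^ 3 = 1 := by rw [conj_pow, hd3]; group
    have h1' : b * d * b⁻¹ ≠ 1 := by
      intro h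
      apply hd1
      calc d = b⁻¹ * (b * d * b⁻¹) * b := by group
        _ = 1 := by rw [h]; group
    rw [orderOf_eq_prime h3' h1']
    exact odd_three
  have hJK : thompsonSubgroupOf 2 T ≤ Subgroup.normalizer (K : Set G) := by
    intro b hb
    have h1 := hJdK b hb
    rw [hK] at h1 ⊢
    exact mem_normalizer_compK (hLQ (hS.1 (hJT hb))) h1
  -- `[K, J(T)] = K`
  have hcomm : ⁅K, thompsonSubgroupOf 2 T⁆ = K := by
    apply le_antisymm
    · exact commutator_le_left_of_le_normalizer hJK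
    · have hQK' : pCoreOf 2 L ≤
          Subgroup.normalizer ((⁅K, thompsonSubgroupOf 2 T⁆ : Subgroup G) : Set G) :=
        fun q hq => mem_normalizer_commutator (hQK hq) (le_normalizer_thompson T (hQT hq))
      have hdK' : d ∈ ⁅K, thompsonSubgroupOf 2 T⁆ := by
        have h1 : ⁅d, a⁆ ∈ ⁅K, thompsonSubgroupOf 2 T⁆ :=
          Subgroup.commutator_mem_commutator hdK haJ
        have h2 : ⁅d, a⁆ = d * d := by rw [commutatorElement_def]; exact comm_of_inv had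
        rw [h2] at h1
        have hd3' : d * d * d = 1 := by rw [← hd3, pow_succ, pow_two]
        have h3 : d = (d * d)⁻¹ := by
          calc d = (d * d)⁻¹ * (d * d * d) := by group
            _ = (d * d)⁻¹ := by rw [hd3', mul_one]
        rw [h3]
        exact Subgroup.inv_mem _ h1
      conv_lhs => rw [hK]
      unfold compK
      rw [Subgroup.closure_le]
      rintro x ⟨q, hq, rfl⟩
      exact (Subgroup.mem_normalizer_iff.mp (hQK' hq) d).mp hdK'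
  -- the Sylow condition
  have hQKT : pCoreOf 2 K ≤ T := by rw [hpc0]; exact inf_le_right.trans hQT
  have hsyl : ∀ S : Subgroup G, IsSylowTwoIn S (K ⊔ thompsonSubgroupOf 2 T) →
      thompsonSubgroupOf 2 T ≤ S → thompsonSubgroupOf 2 S = thompsonSubgroupOf 2 T := by
    intro S hSS hJS
    apply thompson_eq_of_le hJS
    intro s hs
    have hsKJ : s ∈ K ⊔ thompsonSubgroupOf 2 T := hSS.1 hs
    rw [← SetLike.mem_coe, Subgroup.coe_mul_of_right_le_normalizer_left K _ hJK,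
      Set.mem_mul] at hsKJ
    obtain ⟨k, hk, j, hj, rfl⟩ := hsKJ
    rw [SetLike.mem_coe] at hk hj
    have hkS : k ∈ S := by
      have : k = (k * j) * j⁻¹ := by group
      rw [this]
      exact S.mul_mem hs (S.inv_mem (hJS hj))
    obtain ⟨n, hn⟩ := hSS.2.1 ⟨k, hkS⟩
    have hn' : k ^ (2 ^ n) = 1 := by simpa using congrArg Subtype.val hn
    exact T.mul_mem (hQKT (mem_pCoreOf_of_two_pow h3 hk hn')) (hJT hj)
  -- the four-group
  have hKW : K ≤ Subgroup.normalizer ((wOf K : Subgroup G) : Set G) :=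
    Subgroup.le_normalizer.trans (normalizer_le_normalizer_wOf h3)
  have hWZ : wOf K ≤ omegaCenterOf (pCoreOf 2 K) := wOf_le_omega h3
  have hWc : ∀ x ∈ wOf K, ∀ y ∈ wOf K, x * y = y * x := fun x hx y hy =>
    omegaCenterOf_comm x (hWZ hx) y (hWZ hy)
  have hW2 : ∀ w ∈ wOf K, w * w = 1 := fun w hw => omegaCenterOf_sq w (hWZ hw)
  have hKZ : K ≤ Subgroup.normalizer ((omegaCenterOf (pCoreOf 2 K) : Subgroup G) : Set G) :=
    Subgroup.le_normalizer.trans (normalizer_le_normalizer_omega h3)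
  have hXZ : ∀ x ∈ pCoreOf 2 K, ∀ z ∈ omegaCenterOf (pCoreOf 2 K), x * z = z * x :=
    fun x hx z hz => Subgroup.mem_centralizer_iff.mp (omegaCenterOf_le _ hz).2 x hx
  have htr := trace_commutator omegaCenterOf_comm omegaCenterOf_sq hKZ hdK hd3 hXZ
    (fun k hk => cases_of_mem h3 hdK hdQK hd3 hk)
  have hAW : A ≤ Subgroup.normalizer ((wOf K : Subgroup G) : Set G) :=
    hAJ.trans (hJK.trans (normalizer_le_normalizer_wOf h3))
  have hQKW : ∀ q ∈ pCoreOf 2 K, ∀ w ∈ wOf K, q * w * q⁻¹ = w := by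
    intro q hq w hw
    have := Subgroup.mem_centralizer_iff.mp (pCoreOf_le_centralizer_wOf h3 hq) w hw
    rw [← this]; group
  have hAL : IsMaxEAIn 2 L A := by
    refine ⟨hA.1.trans hS.1, hA.2.1, fun C hC hCe => ?_⟩
    have hC2 : IsPGroup 2 C := Cfsg.H5.isPGroup_of_isElementaryAbelian hCe
    obtain ⟨l, -, hl⟩ := exists_conj_le hS hC hC2
    have := hA.2.2 _ hl ((ea_map_equiv_iff 2 (MulAut.conj l) C).mpr hCe)
    rwa [card_map_equiv] at this
  have hWL : wOf K ≤ L := (wOf_le_pCoreOf h3).trans ((JComp.pCoreOf_le K).trans hKL)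
  have hsetup : Setup (wOf K) A (commSub (wOf K) A d hAW) a d :=
    { hWc := hWc
      hW2 := hW2
      hW1 := hW10
      hdW := hKW hdK
      hd3 := hd3
      htr := fun w hw => (htr w hw).2
      hAW := hAW
      hAc := hAc
      hA2 := fun x hx => by rw [← pow_two]; exact hAe x hx
      hA₀ := commSub_le
      ha := haA
      hidx := by
        intro x hx
        have hxJ := hAJ hx
        have hxW := hAW hx
        rcases hJd x hxJ with h | h
        · left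
          rw [mem_commSub]
          refine ⟨hx, fun w hw => ?_⟩
          have hq : x * d * x⁻¹ * d⁻¹ ∈ pCoreOf 2 K := by
            rw [hpc0]
            exact ⟨K.mul_mem (hJdK x hxJ) (K.inv_mem hdK), h⟩
          have hxw : x * w * x⁻¹ ∈ wOf K := (Subgroup.mem_normalizer_iff.mp hxW w).mp hw
          have hdxw : d * (x * w * x⁻¹) * d⁻¹ ∈ wOf K :=
            (Subgroup.mem_normalizer_iff.mp (hKW hdK) _).mp hxw
          calc x * (d * w * d⁻¹) * x⁻¹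
              = (x * d * x⁻¹ * d⁻¹) * (d * (x * w * x⁻¹) * d⁻¹) * (x * d * x⁻¹ * d⁻¹)⁻¹ := by
                group
            _ = d * (x * w * x⁻¹) * d⁻¹ := hQKW _ hq _ hdxw
        · right
          rw [mem_commSub]
          refine ⟨A.mul_mem haA hx, fun w hw => ?_⟩
          have hq : x * d * x⁻¹ * d ∈ pCoreOf 2 K := by
            rw [hpc0]
            exact ⟨K.mul_mem (hJdK x hxJ) hdK, h⟩
          have hxw : x * w * x⁻¹ ∈ wOf K := (Subgroup.mem_normalizer_iff.mp hxW w).mp hw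
          have hdxw : d⁻¹ * (x * w * x⁻¹) * d ∈ wOf K := by
            have := (Subgroup.mem_normalizer_iff.mp (hKW (K.inv_mem hdK)) _).mp hxw
            rwa [inv_inv] at this
          have e1 : x * (d * w * d⁻¹) * x⁻¹ = d⁻¹ * (x * w * x⁻¹) * d := by
            calc x * (d * w * d⁻¹) * x⁻¹
                = (x * d * x⁻¹ * d) * (d⁻¹ * (x * w * x⁻¹) * d) * (x * d * x⁻¹ * d)⁻¹ := by
                  group
              _ = d⁻¹ * (x * w * x⁻¹) * d := hQKW _ hq _ hdxw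
          have had' : a * d⁻¹ * a⁻¹ = d := by
            calc a * d⁻¹ * a⁻¹ = (a * d * a⁻¹)⁻¹ := by group
              _ = d := by rw [had, inv_inv]
          calc (a * x) * (d * w * d⁻¹) * (a * x)⁻¹
              = a * (x * (d * w * d⁻¹) * x⁻¹) * a⁻¹ := by group
            _ = a * (d⁻¹ * (x * w * x⁻¹) * d) * a⁻¹ := by rw [e1]
            _ = (a * d⁻¹ * a⁻¹) * ((a * x) * w * (a * x)⁻¹) * (a * d⁻¹ * a⁻¹)⁻¹ := by group
            _ = d * ((a * x) * w * (a * x)⁻¹) * d⁻¹ := by rw [had']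
      hinv := by
        intro w _
        calc a * (d * w * d⁻¹) * a⁻¹
            = (a * d * a⁻¹) * (a * w * a⁻¹) * (a * d * a⁻¹)⁻¹ := by group
          _ = d⁻¹ * (a * w * a⁻¹) * d := by rw [had, inv_inv]
      hcomm := fun x hx w hw => (mem_commSub.mp hx).2 w hw
      hstar := star_of_isMaxEAIn hAL hWL hWc hW2 }
  exact ⟨⟨hcl, hcomm, h3, hsyl, hsetup.card_eq_four, hW2⟩, hKL⟩

end Cfsg.Agent.Lib.Helper17.JExC
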