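import Cfsg.Prelude.Def_SylowChains
import Cfsg.Agent.Lib.Helper17.StrongPEmb

set_option autoImplicit false

namespace Cfsg.Agent.Lib.Helper17

open Cfsg

section SylowControl

variable {G : Type*} [Group G] {p : ℕ}

theorem exists_sylow_map_eq_iff_card [Finite G] [Fact p.Prime] (X Q : Subgroup G) :
    (∃ P : Sylow p ↥X, (P : Subgroup ↥X).map X.subtype = Q ⊓ X) ↔
      Nat.card ↥(Q ⊓ X) = p ^ (Nat.card ↥X).factorization p := by
  constructor
  · rintro ⟨P, hP⟩
    rw [← hP, ← P.card_eq_multiplicity]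
    exact (Nat.card_congr ((P : Subgroup ↥X).equivMapOfInjective X.subtype
      X.subtype_injective).toEquiv).symm
  · intro h
    have hle : Q ⊓ X ≤ X := inf_le_right
    have hcard : Nat.card ↥((Q ⊓ X).subgroupOf X) = p ^ (Nat.card ↥X).factorization p := by
      rw [← h]
      exact Nat.card_congr (Subgroup.subgroupOfEquivOfLe hle).toEquiv
    refine ⟨Sylow.ofCard ((Q ⊓ X).subgroupOf X) hcard, ?_⟩
    rw [Sylow.coe_ofCard, Subgroup.subgroupOf_map_subtype, inf_assoc, inf_idem]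

theorem mem_sylowMembers_iff [Finite G] [Fact p.Prime] {𝓕 : Set (Subgroup G)} {S X : Subgroup G} :
    X ∈ sylowMembers p 𝓕 S ↔
      X ∈ 𝓕 ∧ Nat.card ↥(S ⊓ X) = p ^ (Nat.card ↥X).factorization p := by
  unfold sylowMembers
  rw [Set.mem_setOf_eq, exists_sylow_map_eq_iff_card]

theorem subgroupConjRight_eq_map_conj (g : G) (X : Subgroup G) :
    subgroupConjRight g X = X.map (MulAut.conj g⁻¹).toMonoidHom := rfl

theorem map_conj_mem_of_isNormalSet {𝓕 : Set (Subgroup G)} (h𝓕 : IsNormalSet 𝓕) {X : Subgroup G}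
    (hX : X ∈ 𝓕) (g : G) : X.map (MulAut.conj g).toMonoidHom ∈ 𝓕 := by
  have := h𝓕 X hX g⁻¹
  rwa [subgroupConjRight_eq_map_conj, inv_inv] at this

theorem sylowMembers_map_conj [Finite G] [Fact p.Prime] {𝓕 : Set (Subgroup G)}
    (h𝓕 : IsNormalSet 𝓕) {S X : Subgroup G} (g : G) (hX : X ∈ sylowMembers p 𝓕 S) :
    X.map (MulAut.conj g).toMonoidHom ∈
      sylowMembers p 𝓕 (S.map (MulAut.conj g).toMonoidHom) := by
  rw [mem_sylowMembers_iff] at hX ⊢
  refine ⟨map_conj_mem_of_isNormalSet h𝓕 hX.1 g, ?_⟩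
  rw [← Subgroup.map_inf_eq _ _ _ (MulAut.conj g).injective, card_map_conj, card_map_conj]
  exact hX.2

theorem map_conj_map_conj_inv (X : Subgroup G) (g : G) :
    (X.map (MulAut.conj g).toMonoidHom).map (MulAut.conj g⁻¹).toMonoidHom = X := by
  ext x
  rw [mem_map_conj, mem_map_conj, inv_inv]
  have : g⁻¹ * (g * x * g⁻¹) * g = x := by group
  rw [this]

theorem map_conj_inv_map_conj (X : Subgroup G) (g : G) :
    (X.map (MulAut.conj g⁻¹).toMonoidHom).map (MulAut.conj g).toMonoidHom = X := by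
  have := map_conj_map_conj_inv X g⁻¹
  rwa [inv_inv] at this

theorem map_conj_mul (X : Subgroup G) (g h : G) :
    X.map (MulAut.conj (g * h)).toMonoidHom =
      (X.map (MulAut.conj h).toMonoidHom).map (MulAut.conj g).toMonoidHom := by
  ext x
  rw [mem_map_conj, mem_map_conj, mem_map_conj]
  have : (g * h)⁻¹ * x * (g * h) = h⁻¹ * (g⁻¹ * x * g) * h := by group
  rw [this]

theorem map_conj_eq_self_of_mem {X : Subgroup G} {g : G} (hg : g ∈ X) :
    X.map (MulAut.conj g).toMonoidHom = X := by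
  ext x
  rw [mem_map_conj]
  constructor
  · intro h
    have := X.mul_mem (X.mul_mem hg h) (X.inv_mem hg)
    have e : g * (g⁻¹ * x * g) * g⁻¹ = x := by group
    rwa [e] at this
  · intro h
    exact X.mul_mem (X.mul_mem (X.inv_mem hg) h) hg

end SylowControl

end Cfsg.Agent.Lib.Helper17
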