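import Mathlib
import Cfsg.Agent.Lib.Helper17.JExC
import Cfsg.Agent.Lib.Helper17.SylowControl

set_option autoImplicit false

/-! A member `L` of `𝓛(T)` not contained in a subgroup `M ≥ N_G(J(T))` has a `J(T)`-component
not contained in `M`. -/

namespace Cfsg.Agent.Lib.Helper17.JOut

open Cfsg Cfsg.Agent.Lib.Helper17 Cfsg.Agent.Lib.Helper27 Cfsg.Agent.Lib.Helper17.JComp
  Cfsg.Agent.Lib.Helper17.JStruct Cfsg.Agent.Lib.Helper17.JUniq Cfsg.Agent.Lib.Helper17.JExA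
  Cfsg.Agent.Lib.Helper17.JExD Cfsg.Agent.Lib.Helper17.JMaxEA Cfsg.Agent.Lib.Helper17.JExB
  Cfsg.Agent.Lib.Helper17.JExC Cfsg.Agent.Lib.Helper20
open scoped commutatorElement

/-! ### More facts on `SL₂(2) ≅ S₃` -/

theorem sl2_noncentral : ∀ x : Matrix.SpecialLinearGroup (Fin 2) (ZMod 2),
    x ^ 3 = 1 → x ≠ 1 → ∃ e : Matrix.SpecialLinearGroup (Fin 2) (ZMod 2), e * x ≠ x * e := by
  decide

theorem sl2_parity : ∀ p q : Matrix.SpecialLinearGroup (Fin 2) (ZMod 2),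
    (p ^ 3 = 1 ↔ q ^ 3 = 1) → (p * q⁻¹) ^ 3 = 1 := by decide

section Blocks

variable {𝔾 : Type*} [Group 𝔾]

theorem noncentral {E : Subgroup 𝔾} (φ : ↥E ≃* Matrix.SpecialLinearGroup (Fin 2) (ZMod 2))
    {x : 𝔾} (hxE : x ∈ E) (hx3 : x ^ 3 = 1) (hx1 : x ≠ 1) : ∃ e ∈ E, e * x ≠ x * e := by
  have h3 : (φ ⟨x, hxE⟩) ^ 3 = 1 := by
    rw [← map_pow]
    have : (⟨x, hxE⟩ : ↥E) ^ 3 = 1 := Subtype.ext (by simpa using hx3)
    rw [this, map_one]
  have h1 : φ ⟨x, hxE⟩ ≠ 1 := by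
    intro h
    apply hx1
    have : (⟨x, hxE⟩ : ↥E) = 1 := φ.injective (by rw [h, map_one])
    exact congrArg Subtype.val this
  obtain ⟨e, he⟩ := sl2_noncentral _ h3 h1
  refine ⟨(φ.symm e : ↥E), (φ.symm e).2, ?_⟩
  intro hcomm
  apply he
  have h2 : φ.symm e * ⟨x, hxE⟩ = ⟨x, hxE⟩ * φ.symm e := Subtype.ext hcomm
  have := congrArg φ h2
  simpa using this

/-- The commutator of an element `e` of a copy `E` of `S₃` with an element normalizing `E` has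
order dividing three. -/
theorem comm_cube {E : Subgroup 𝔾} (φ : ↥E ≃* Matrix.SpecialLinearGroup (Fin 2) (ZMod 2))
    {e s : 𝔾} (he : e ∈ E) (hs : s * e * s⁻¹ ∈ E) : (e * (s * e * s⁻¹)⁻¹) ^ 3 = 1 := by
  have hφ : ∀ p : ↥E, (φ p) ^ 3 = 1 ↔ p ^ 3 = 1 := by
    intro p
    rw [← map_pow]
    constructor
    · intro h; exact φ.injective (by rw [h, map_one])
    · intro h; rw [h, map_one]
  have hiff : (⟨e, he⟩ : ↥E) ^ 3 = 1 ↔ (⟨s * e * s⁻¹, hs⟩ : ↥E) ^ 3 = 1 := by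
    constructor
    · intro h
      have h' : e ^ 3 = 1 := by simpa using congrArg Subtype.val h
      apply Subtype.ext
      show (s * e * s⁻¹) ^ 3 = 1
      rw [conj_pow, h']; group
    · intro h
      have h' : (s * e * s⁻¹) ^ 3 = 1 := by simpa using congrArg Subtype.val h
      rw [conj_pow] at h'
      apply Subtype.ext
      show e ^ 3 = 1
      calc e ^ 3 = s⁻¹ * (s * e ^ 3 * s⁻¹) * s := by group
        _ = 1 := by rw [h']; group
  have h1 : (φ ⟨e, he⟩) ^ 3 = 1 ↔ (φ ⟨s * e * s⁻¹, hs⟩) ^ 3 = 1 := by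
    rw [hφ, hφ]; exact hiff
  have h2 := sl2_parity _ _ h1
  rw [← map_inv, ← map_mul, hφ] at h2
  have := congrArg Subtype.val h2
  simpa using this

theorem conj_inverts {u v x : 𝔾} (hv : v * x * v⁻¹ = x⁻¹)
    (hu : u⁻¹ * x * u = x ∨ u⁻¹ * x * u = x⁻¹) :
    (u * v * u⁻¹) * x * (u * v * u⁻¹)⁻¹ = x⁻¹ := by
  have hv' : v * x⁻¹ * v⁻¹ = x := by
    calc v * x⁻¹ * v⁻¹ = (v * x * v⁻¹)⁻¹ := by group
      _ = x := by rw [hv, inv_inv]
  have e : (u * v * u⁻¹) * x * (u * v * u⁻¹)⁻¹ = u * (v * (u⁻¹ * x * u) * v⁻¹) * u⁻¹ := by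
    group
  rw [e]
  rcases hu with h | h
  · have h0 : u * x * u⁻¹ = x := by
      calc u * x * u⁻¹ = u * (u⁻¹ * x * u) * u⁻¹ := by rw [h]
        _ = x := by group
    have h' : u * x⁻¹ * u⁻¹ = x⁻¹ := by
      calc u * x⁻¹ * u⁻¹ = (u * x * u⁻¹)⁻¹ := by group
        _ = x⁻¹ := by rw [h0]
    rw [h, hv, h']
  · have h' : u * x * u⁻¹ = x⁻¹ := by
      calc u * x * u⁻¹ = (u * x⁻¹ * u⁻¹)⁻¹ := by group
        _ = (u * (u⁻¹ * x * u) * u⁻¹)⁻¹ := by rw [h]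
        _ = x⁻¹ := by group
    rw [h, hv', h']

end Blocks

variable {G : Type*} [Group G]

/-! ### Sylow subgroups of normal subgroups, conjugation of members of `𝒜(L)` -/

theorem isSylowTwoIn_inf [Finite G] {T L Y : Subgroup G} (hS : IsSylowTwoIn T L) (hYL : Y ≤ L)
    (hLY : L ≤ Subgroup.normalizer (Y : Set G)) : IsSylowTwoIn (T ⊓ Y) Y := by
  refine ⟨inf_le_right, hS.2.1.to_le inf_le_left, ?_⟩
  rw [Subgroup.inf_relIndex_right]
  have hTY : T ≤ Subgroup.normalizer (Y : Set G) := hS.1.trans hLY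
  have h1 := card_sup_mul_card_inf T Y hTY
  have h2 : Nat.card ↥(T ⊓ Y) * (T ⊓ Y).relIndex Y = Nat.card Y :=
    card_mul_relIndex inf_le_right
  rw [Subgroup.inf_relIndex_right] at h2
  have h3 : Nat.card T * T.relIndex (T ⊔ Y) = Nat.card ↥(T ⊔ Y) := card_mul_relIndex le_sup_left
  have h4 := Subgroup.relIndex_mul_relIndex T (T ⊔ Y) L le_sup_left (sup_le hS.1 hYL)
  have hpos1 : 0 < Nat.card T := Nat.card_pos
  have hpos2 : 0 < Nat.card ↥(T ⊓ Y) := Nat.card_pos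
  have h5 : T.relIndex (T ⊔ Y) = T.relIndex Y := by
    have : (Nat.card T * Nat.card ↥(T ⊓ Y)) * T.relIndex (T ⊔ Y) =
        (Nat.card T * Nat.card ↥(T ⊓ Y)) * T.relIndex Y := by
      calc (Nat.card T * Nat.card ↥(T ⊓ Y)) * T.relIndex (T ⊔ Y)
          = (Nat.card T * T.relIndex (T ⊔ Y)) * Nat.card ↥(T ⊓ Y) := by ring
        _ = Nat.card ↥(T ⊔ Y) * Nat.card ↥(T ⊓ Y) := by rw [h3]
        _ = Nat.card T * Nat.card Y := h1
        _ = Nat.card T * (Nat.card ↥(T ⊓ Y) * T.relIndex Y) := by rw [h2]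
        _ = (Nat.card T * Nat.card ↥(T ⊓ Y)) * T.relIndex Y := by ring
    exact Nat.eq_of_mul_eq_mul_left (Nat.mul_pos hpos1 hpos2) this
  have h6 : Odd (T.relIndex (T ⊔ Y) * (T ⊔ Y).relIndex L) := by rw [h4]; exact hS.2.2
  rw [← h5]
  exact (Nat.odd_mul.mp h6).1

/-- A member of `𝒜(L)` is conjugate under `J(L)` to a member of `𝒜(T)`. -/
theorem exists_conj_isMaxEAIn [Finite G] {T L B : Subgroup G} (hS : IsSylowTwoIn T L)
    (hB : IsMaxEAIn 2 L B) :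
    ∃ y ∈ thompsonSubgroupOf 2 L, IsMaxEAIn 2 T (B.map (MulAut.conj y).toMonoidHom) := by
  have hYL : thompsonSubgroupOf 2 L ≤ L := thompsonSubgroupOf_le 2 L
  have hLY : L ≤ Subgroup.normalizer ((thompsonSubgroupOf 2 L : Subgroup G) : Set G) :=
    le_normalizer_thompson L
  have hSY := isSylowTwoIn_inf hS hYL hLY
  have hBY : B ≤ thompsonSubgroupOf 2 L := le_thompson_of_isMaxEAIn hB
  have hB2 : IsPGroup 2 B := Cfsg.H5.isPGroup_of_isElementaryAbelian hB.2.1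
  obtain ⟨y, hy, hle⟩ := exists_conj_le hSY hBY hB2
  refine ⟨y, hy, hle.trans inf_le_left, (ea_map_equiv_iff 2 (MulAut.conj y) B).mpr hB.2.1,
    fun C hC hCe => ?_⟩
  rw [card_map_equiv]
  exact hB.2.2 C (hC.trans hS.1) hCe

/-- A subgroup normalized by `J(L)` and containing `J(T)` contains `J(L)`. -/
theorem thompson_le_of_normal [Finite G] {T L N : Subgroup G} (hS : IsSylowTwoIn T L)
    (hNY : thompsonSubgroupOf 2 L ≤ Subgroup.normalizer (N : Set G))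
    (hJN : thompsonSubgroupOf 2 T ≤ N) : thompsonSubgroupOf 2 L ≤ N := by
  conv_lhs => rw [thompsonSubgroupOf_eq]
  apply sSup_le
  intro B hB
  obtain ⟨y, hy, hBy⟩ := exists_conj_isMaxEAIn hS hB
  have h1 : B.map (MulAut.conj y).toMonoidHom ≤ N := (le_thompson_of_isMaxEAIn hBy).trans hJN
  intro b hb
  have h2 : y * b * y⁻¹ ∈ N := h1 (conj_mem_map_conj hb)
  exact (Subgroup.mem_normalizer_iff.mp (hNY hy) b).mpr h2

theorem mem_thompson_of {L : Subgroup G} {b : ↥L} (h : (b : G) ∈ thompsonSubgroupOf 2 L) :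
    b ∈ thompsonSubgroup 2 ↥L := by
  obtain ⟨y, hy, hyb⟩ := h
  have : y = b := Subtype.ext hyb
  rw [← this]; exact hy

theorem coe_mem_thompsonOf {L : Subgroup G} {b : ↥L} (h : b ∈ thompsonSubgroup 2 ↥L) :
    (b : G) ∈ thompsonSubgroupOf 2 L := Subgroup.mem_map_of_mem L.subtype h

theorem thompson_le_of {L : Subgroup G} (X : Subgroup ↥L)
    (h : ∀ B, IsMaxEAIn 2 L B → ∀ b : ↥L, (b : G) ∈ B → b ∈ X) :
    thompsonSubgroup 2 ↥L ≤ X := by
  have h1 : thompsonSubgroupOf 2 L ≤ X.map L.subtype := by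
    rw [thompsonSubgroupOf_eq]
    apply sSup_le
    intro B hB g hg
    exact ⟨⟨g, hB.1 hg⟩, h B hB ⟨g, hB.1 hg⟩ hg, rfl⟩
  intro y hy
  obtain ⟨y', hy', hyy⟩ := h1 (coe_mem_thompsonOf hy)
  have : y' = y := Subtype.ext hyy
  rw [← this]; exact hy'

/-! ### Elements of order three of the blocks come from components -/

/-- An element `x` of order three of a block `E` of the image of `J(L)` is, up to inversion, the
image of an element `d` of `J(L)` lying in a `J(T)`-component of `L`. -/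
theorem mem_map_of_cube [Finite G] {𝔾 : Type*} [Group 𝔾]
    (hZ : ∀ S : Sylow 2 G, Subgroup.centralizer (omegaCenterOf (S : Subgroup G) : Set G) ≤
      Subgroup.normalizer ((S : Subgroup G) : Set G))
    {T L M' : Subgroup G} (hLT : L ∈ jOvergroups T)
    (ψ : ↥L →* 𝔾) (hkerψ : ∀ x : ↥L, ψ x = 1 ↔ (x : G) ∈ CG L)
    {E : Subgroup 𝔾} (φ : ↥E ≃* Matrix.SpecialLinearGroup (Fin 2) (ZMod 2))
    (hnorm : (thompsonSubgroup 2 ↥L).map ψ ≤ Subgroup.normalizer (E : Set 𝔾))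
    (hEH : E ≤ (thompsonSubgroup 2 ↥L).map ψ)
    (hcomp : ∀ K, IsJComponent T K → K ≤ L → K ≤ M')
    {x : 𝔾} (hxE : x ∈ E) (hx3 : x ^ 3 = 1) (hx1 : x ≠ 1) :
    ∃ d : ↥L, d ∈ thompsonSubgroup 2 ↥L ∧ (d : G) ∈ M' ∧ (x = ψ d ∨ x = (ψ d)⁻¹) := by
  have hS := hLT.1
  obtain ⟨e, heE, hex⟩ := noncentral φ hxE hx3 hx1
  obtain ⟨B, hB, b, hbB, hbx⟩ : ∃ B, IsMaxEAIn 2 L B ∧
      ∃ b : ↥L, (b : G) ∈ B ∧ ψ b * x ≠ x * ψ b := by
    by_contra hcon
    push Not at hcon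
    have hle : thompsonSubgroup 2 ↥L ≤ (Subgroup.centralizer ({x} : Set 𝔾)).comap ψ := by
      apply thompson_le_of
      intro B hB b hb
      rw [Subgroup.mem_comap, Subgroup.mem_centralizer_singleton_iff]
      exact hcon B hB b hb
    obtain ⟨e₀, he₀J, he₀⟩ := hEH heE
    have := hle he₀J
    rw [Subgroup.mem_comap, Subgroup.mem_centralizer_singleton_iff, he₀] at this
    exact hex this
  have hbL : (b : G) ∈ thompsonSubgroupOf 2 L := le_thompson_of_isMaxEAIn hB hbB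
  have hbJ : b ∈ thompsonSubgroup 2 ↥L := mem_thompson_of hbL
  have hψb : ψ b ∈ (thompsonSubgroup 2 ↥L).map ψ := Subgroup.mem_map_of_mem ψ hbJ
  have hinv : ψ b * x * (ψ b)⁻¹ = x⁻¹ := by
    rcases conj_eq_or φ hnorm hxE hx3 hx1 hψb with h | h
    · exfalso
      apply hbx
      calc ψ b * x = (ψ b * x * (ψ b)⁻¹) * ψ b := by group
        _ = x * ψ b := by rw [h]
    · exact h
  obtain ⟨y, hy, hBy⟩ := exists_conj_isMaxEAIn hS hB
  have hyL : y ∈ L := thompsonSubgroupOf_le 2 L hy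
  have hyJ : (⟨y, hyL⟩ : ↥L) ∈ thompsonSubgroup 2 ↥L := mem_thompson_of hy
  have hψy : ψ ⟨y, hyL⟩ ∈ (thompsonSubgroup 2 ↥L).map ψ := Subgroup.mem_map_of_mem ψ hyJ
  have hu := conj_eq_or φ hnorm hxE hx3 hx1 (Subgroup.inv_mem _ hψy)
  rw [inv_inv] at hu
  have hkey := conj_inverts hinv hu
  have haA : y * (b : G) * y⁻¹ ∈ B.map (MulAut.conj y).toMonoidHom := conj_mem_map_conj hbB
  have haT : y * (b : G) * y⁻¹ ∈ T := hBy.1 haA
  have haL : y * (b : G) * y⁻¹ ∈ L := hS.1 haT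
  have haa : (y * (b : G) * y⁻¹) * (y * (b : G) * y⁻¹) = 1 := by
    rw [← pow_two]; exact hBy.2.1.2 _ haA
  have haJ : y * (b : G) * y⁻¹ ∈ thompsonSubgroupOf 2 T := le_thompson_of_isMaxEAIn hBy haA
  have hae : (⟨y * (b : G) * y⁻¹, haL⟩ : ↥L) = ⟨y, hyL⟩ * b * (⟨y, hyL⟩ : ↥L)⁻¹ :=
    Subtype.ext (by simp)
  have hgh : ψ ⟨y * (b : G) * y⁻¹, haL⟩ * x * (ψ ⟨y * (b : G) * y⁻¹, haL⟩)⁻¹ = x⁻¹ := by
    rw [hae, map_mul, map_mul, map_inv]; exact hkey
  obtain ⟨d, hdJ, hψdE, hψd3, hψd1, hd3, hdC, had, hJd⟩ :=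
    construct hZ hLT ψ hkerψ φ hnorm haT haa haJ haL hxE (hEH hxE) hx3 hx1 hgh
  have hJd' := upgrade hZ hLT haT d.2 had hJd
  obtain ⟨hK, hKL⟩ := component_of_data hLT hBy haA d.2 hd3 hdC had hJd'
  have hdM : (d : G) ∈ M' := hcomp _ hK hKL (mem_compK _ _)
  refine ⟨d, hdJ, hdM, ?_⟩
  obtain ⟨-, hF2, -⟩ := s3_facts φ
  rcases hF2 ⟨ψ d, hψdE⟩ ⟨x, hxE⟩ (Subtype.ext (by simpa using hψd3))
    (fun h' => hψd1 (congrArg Subtype.val h')) (Subtype.ext (by simpa using hx3))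
    (fun h' => hx1 (congrArg Subtype.val h')) with h' | h'
  · left; exact congrArg Subtype.val h'
  · right; simpa using congrArg Subtype.val h'

/-- If `C_L(V)`, `J(T)` and all `J(T)`-components of `L` lie in `M'` then so does `J(L)`
(abstract version over the block decomposition of the image of `J(L)`). -/
theorem core [Finite G] {𝔾 : Type*} [Group 𝔾] [Finite 𝔾]
    (hZ : ∀ S : Sylow 2 G, Subgroup.centralizer (omegaCenterOf (S : Subgroup G) : Set G) ≤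
      Subgroup.normalizer ((S : Subgroup G) : Set G))
    {T L M' : Subgroup G} (hLT : L ∈ jOvergroups T)
    (ψ : ↥L →* 𝔾) (hkerψ : ∀ x : ↥L, ψ x = 1 ↔ (x : G) ∈ CG L)
    {ι : Type*} (E : ι → Subgroup 𝔾)
    (hnorm : ∀ i, (thompsonSubgroup 2 ↥L).map ψ ≤
      Subgroup.normalizer ((E i : Subgroup 𝔾) : Set 𝔾))
    (hiso : ∀ i, Nonempty (↥(E i) ≃* Matrix.SpecialLinearGroup (Fin 2) (ZMod 2)))
    (hsup : ⨆ i, E i = (thompsonSubgroup 2 ↥L).map ψ)
    (hCM : CG L ≤ M') (hJM : thompsonSubgroupOf 2 T ≤ M')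
    (hcomp : ∀ K, IsJComponent T K → K ≤ L → K ≤ M') :
    thompsonSubgroupOf 2 L ≤ M' := by
  have hS := hLT.1
  have hEH : ∀ i, E i ≤ (thompsonSubgroup 2 ↥L).map ψ := fun i => (le_iSup E i).trans hsup.le
  obtain ⟨SΛ, hSΛ⟩ : ∃ SΛ : Subgroup ↥L, SΛ = thompsonSubgroup 2 ↥L ⊓ M'.subgroupOf L :=
    ⟨_, rfl⟩
  have hmemS : ∀ x : ↥L, x ∈ SΛ ↔ x ∈ thompsonSubgroup 2 ↥L ∧ (x : G) ∈ M' := by
    intro x; rw [hSΛ, Subgroup.mem_inf, Subgroup.mem_subgroupOf]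
  have hSJ : SΛ ≤ thompsonSubgroup 2 ↥L := by rw [hSΛ]; exact inf_le_left
  have hψJ : ∀ x ∈ thompsonSubgroup 2 ↥L, ψ x ∈ (thompsonSubgroup 2 ↥L).map ψ := fun x hx =>
    Subgroup.mem_map_of_mem ψ hx
  have hbeta : ∀ i, ∀ x ∈ E i, x ^ 3 = 1 → x ∈ SΛ.map ψ := by
    intro i x hxE hx3
    by_cases hx1 : x = 1
    · rw [hx1]; exact Subgroup.one_mem _
    · obtain ⟨φ⟩ := hiso i
      obtain ⟨d, hdJ, hdM, hd⟩ :=
        mem_map_of_cube hZ hLT ψ hkerψ φ (hnorm i) (hEH i) hcomp hxE hx3 hx1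
      have hdS : d ∈ SΛ := (hmemS d).mpr ⟨hdJ, hdM⟩
      rcases hd with h | h
      · rw [h]; exact Subgroup.mem_map_of_mem ψ hdS
      · rw [h]; exact Subgroup.inv_mem _ (Subgroup.mem_map_of_mem ψ hdS)
  have hHN : (thompsonSubgroup 2 ↥L).map ψ ≤
      Subgroup.normalizer ((SΛ.map ψ : Subgroup 𝔾) : Set 𝔾) := by
    rw [← hsup]
    apply iSup_le
    intro i e he
    apply mem_normalizer_of_map_conj_le
    rintro _ ⟨s, hs, rfl⟩
    simp only [MulEquiv.coe_toMonoidHom, MulAut.conj_apply]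
    have hsH : s ∈ (thompsonSubgroup 2 ↥L).map ψ := Subgroup.map_mono hSJ hs
    obtain ⟨φ⟩ := hiso i
    have hses : s * e * s⁻¹ ∈ E i := (Subgroup.mem_normalizer_iff.mp (hnorm i hsH) e).mp he
    have hc3 := comm_cube φ he hses
    have hcE : e * (s * e * s⁻¹)⁻¹ ∈ E i := (E i).mul_mem he ((E i).inv_mem hses)
    have : e * s * e⁻¹ = (e * (s * e * s⁻¹)⁻¹) * s := by group
    rw [this]
    exact Subgroup.mul_mem _ (hbeta i _ hcE hc3) hs
  have hNY : thompsonSubgroupOf 2 L ≤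
      Subgroup.normalizer ((SΛ.map L.subtype : Subgroup G) : Set G) := by
    rintro _ ⟨y, hy, rfl⟩
    apply mem_normalizer_of_map_conj_le
    rintro _ ⟨_, ⟨m, hm, rfl⟩, rfl⟩
    simp only [MulEquiv.coe_toMonoidHom, MulAut.conj_apply, Subgroup.coe_subtype]
    have hmS : m ∈ SΛ := hm
    have hyJ : y ∈ thompsonSubgroup 2 ↥L := hy
    have hmJ : m ∈ thompsonSubgroup 2 ↥L := hSJ hmS
    have h1 : ψ (y * m * y⁻¹) ∈ SΛ.map ψ := by
      rw [map_mul, map_mul, map_inv]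
      exact (Subgroup.mem_normalizer_iff.mp (hHN (hψJ y hyJ)) _).mp
        (Subgroup.mem_map_of_mem ψ hmS)
    obtain ⟨z, hz, hzψ⟩ := h1
    have hzS := (hmemS z).mp hz
    have hker : ψ (y * m * y⁻¹ * z⁻¹) = 1 := by
      rw [map_mul (f := ψ) (y * m * y⁻¹) z⁻¹, map_inv, hzψ, mul_inv_cancel]
    have hC : ((y * m * y⁻¹ * z⁻¹ : ↥L) : G) ∈ CG L := (hkerψ _).mp hker
    have hmem : y * m * y⁻¹ ∈ SΛ := by
      rw [hmemS]
      refine ⟨Subgroup.mul_mem _ (Subgroup.mul_mem _ hyJ hmJ) (Subgroup.inv_mem _ hyJ), ?_⟩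
      have : ((y * m * y⁻¹ : ↥L) : G) = ((y * m * y⁻¹ * z⁻¹ : ↥L) : G) * (z : G) := by
        simp only [Subgroup.coe_mul, Subgroup.coe_inv]; group
      rw [this]
      exact M'.mul_mem (hCM hC) hzS.2
    exact ⟨y * m * y⁻¹, hmem, by simp⟩
  have hJN : thompsonSubgroupOf 2 T ≤ SΛ.map L.subtype := by
    intro g hg
    have hgL : g ∈ L := hS.1 (thompsonSubgroupOf_le 2 T hg)
    have hgJ : (⟨g, hgL⟩ : ↥L) ∈ thompsonSubgroup 2 ↥L :=
      mem_thompson_of (thompson_le_thompson hS hg)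
    exact ⟨⟨g, hgL⟩, (hmemS _).mpr ⟨hgJ, hJM hg⟩, rfl⟩
  have hfinal := thompson_le_of_normal hS hNY hJN
  intro g hg
  obtain ⟨m, hm, rfl⟩ := hfinal hg
  exact ((hmemS m).mp hm).2

/-- If `C_L(V)`, `J(T)` and all `J(T)`-components of `L` lie in `M'` then so does `J(L)`. -/
theorem thompson_le_of_components_le [Finite G]
    (hN : ∀ N : Subgroup G, IsTwoLocal N → Group.IsSolvable ↥N)
    (hZ : ∀ S : Sylow 2 G, Subgroup.centralizer (omegaCenterOf (S : Subgroup G) : Set G) ≤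
      Subgroup.normalizer ((S : Subgroup G) : Set G))
    {T L M' : Subgroup G} (hLT : L ∈ jOvergroups T)
    (hCM : CG L ≤ M') (hJM : thompsonSubgroupOf 2 T ≤ M')
    (hcomp : ∀ K, IsJComponent T K → K ≤ L → K ≤ M') :
    thompsonSubgroupOf 2 L ≤ M' := by
  have hS := hLT.1
  have hVn := VΛ_normal hLT
  have hVe := VΛ_ea hLT
  have hsol : Group.IsSolvable ↥L := solvable_of_mem_jOvergroups hN hLT
  have hsep : IsPSolvable 2 ↥L := Cfsg.Agent.Lib.Helper25.isPSolvable_of_isSolvable 2 hsol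
  have hgen : VΛ L = ⨆ S : Sylow 2 ↥L, VΛ L ⊓
      Subgroup.centralizer ((S : Subgroup ↥L) : Set ↥L) := by
    apply le_antisymm
    · conv_lhs => unfold VΛ
      apply iSup_le
      intro S
      refine le_trans (le_inf ?_ ?_)
        (le_iSup (fun S : Sylow 2 ↥L => VΛ L ⊓
          Subgroup.centralizer ((S : Subgroup ↥L) : Set ↥L)) S)
      · exact le_iSup (fun S : Sylow 2 ↥L => omegaOne 2 ((S : Subgroup ↥L) ⊓
          Subgroup.centralizer ((S : Subgroup ↥L) : Set ↥L))) S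
      · unfold omegaOne
        rw [Subgroup.closure_le]
        rintro x ⟨hx, -⟩
        exact (Subgroup.mem_inf.1 hx).2
    · exact iSup_le fun S => inf_le_left
  have hOp := Cfsg.Agent.S0600.result (VΛ L) hVe hgen
  obtain ⟨hV'e, hHV', hf', hS1, hS3⟩ := FFB.bridge (VΛ L) hsep hVe hOp
  obtain ⟨ψ, hψ⟩ : ∃ ψ : ↥L →* FFB.Hol (VΛ L), ψ = FFB.psi (VΛ L) := ⟨_, rfl⟩
  rw [← hψ] at hHV' hf' hS1 hS3
  have hkerψ : ∀ x : ↥L, ψ x = 1 ↔ (x : G) ∈ CG L := by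
    intro x
    rw [hψ, ← MonoidHom.mem_ker]
    exact (FFB.mem_ker_psi (VΛ L)).trans (mem_CG_iff x.2).symm
  by_cases hH1 : (thompsonSubgroup 2 ↥L).map ψ = ⊥
  · rintro _ ⟨y, hy, rfl⟩
    show (y : G) ∈ M'
    apply hCM
    apply (hkerψ y).mp
    have : ψ y ∈ (thompsonSubgroup 2 ↥L).map ψ := Subgroup.mem_map_of_mem ψ hy
    rw [hH1, Subgroup.mem_bot] at this
    exact this
  · obtain ⟨-, hE, -, hsup, -, -⟩ :=
      Cfsg.Agent.S0617.result (p := 2) (FFB.Vimg (VΛ L)) _ hV'e hHV' hf' hS1 hS3 hH1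
    exact core hZ hLT ψ hkerψ _ (fun E => (hE E).1) (fun E => (hE E).2.1) hsup hCM hJM hcomp

/-- **A component outside `M`**: a member `L` of `𝓛(T)` not contained in `M ≥ N_G(J(T))`
contains a `J(T)`-component not contained in `M`. -/
theorem exists_component_not_le [Finite G]
    (hN : ∀ N : Subgroup G, IsTwoLocal N → Group.IsSolvable ↥N)
    (hZ : ∀ S : Sylow 2 G, Subgroup.centralizer (omegaCenterOf (S : Subgroup G) : Set G) ≤
      Subgroup.normalizer ((S : Subgroup G) : Set G))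
    {T L M : Subgroup G} (hLT : L ∈ jOvergroups T)
    (hNJ : Subgroup.normalizer (thompsonSubgroupOf 2 T : Set G) ≤ M) (hLM : ¬ L ≤ M) :
    ∃ K, IsJComponent T K ∧ K ≤ L ∧ ¬ K ≤ M := by
  by_contra hcon
  push Not at hcon
  have hS := hLT.1
  have hTM : T ≤ M := (le_normalizer_thompson T).trans hNJ
  have hCM : CG L ≤ M :=
    (CG_le_normalizer hZ hLT).trans ((normalizer_le_normalizer_thompson T).trans hNJ)
  have hJM : thompsonSubgroupOf 2 T ≤ M := (thompsonSubgroupOf_le 2 T).trans hTM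
  have hYM := thompson_le_of_components_le hN hZ hLT hCM hJM hcon
  apply hLM
  have hYL : thompsonSubgroupOf 2 L ≤ L := thompsonSubgroupOf_le 2 L
  have hLY : L ≤ Subgroup.normalizer ((thompsonSubgroupOf 2 L : Subgroup G) : Set G) :=
    le_normalizer_thompson L
  have hSY := isSylowTwoIn_inf hS hYL hLY
  have hJP : thompsonSubgroupOf 2 T ≤ T ⊓ thompsonSubgroupOf 2 L :=
    le_inf (thompsonSubgroupOf_le 2 T) (thompson_le_thompson hS)
  have hJeq := thompson_eq_of_le hJP inf_le_left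
  intro g hg
  have h1 : (T ⊓ thompsonSubgroupOf 2 L).map (MulAut.conj g).toMonoidHom ≤
      thompsonSubgroupOf 2 L := by
    have h := map_conj_eq_of_mem_normalizer (hLY hg)
    calc (T ⊓ thompsonSubgroupOf 2 L).map (MulAut.conj g).toMonoidHom
        ≤ (thompsonSubgroupOf 2 L).map (MulAut.conj g).toMonoidHom :=
          Subgroup.map_mono inf_le_right
      _ = thompsonSubgroupOf 2 L := h
  have h2 : IsPGroup 2 ↥((T ⊓ thompsonSubgroupOf 2 L).map (MulAut.conj g).toMonoidHom) :=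
    hSY.2.1.map _
  obtain ⟨y, hy, hle⟩ := exists_conj_le hSY h1 h2
  rw [← map_conj_mul] at hle
  have h3 : y * g ∈ Subgroup.normalizer ((T ⊓ thompsonSubgroupOf 2 L : Subgroup G) : Set G) :=
    mem_normalizer_of_map_conj_le hle
  have h4 := normalizer_le_normalizer_thompson _ h3
  rw [hJeq] at h4
  have h5 : y * g ∈ M := hNJ h4
  have : g = y⁻¹ * (y * g) := by group
  rw [this]
  exact M.mul_mem (M.inv_mem (hYM hy)) h5

end Cfsg.Agent.Lib.Helper17.JOut
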