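import Mathlib
import Cfsg.Agent.Lib.Helper17.JPure
import Cfsg.Agent.Lib.Helper17.SylowControl
import Cfsg.Agent.Lib.Helper17.AxBAbelian

set_option autoImplicit false

/-! `J(T)`-components in `𝒦₀(T)`: `N_G(K) = N_G(W_K)`. -/

namespace Cfsg.Agent.Lib.Helper17.JZero

open Cfsg Cfsg.Agent.Lib.Helper17 Cfsg.Agent.Lib.Helper27 Cfsg.Agent.Lib.Helper17.JComp
  Cfsg.Agent.Lib.Helper17.JStruct Cfsg.Agent.Lib.Helper17.JUniq Cfsg.Agent.Lib.Helper17.JMap
  Cfsg.Agent.Lib.Helper17.JPure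
open scoped commutatorElement

variable {G : Type*} [Group G]

/-- A `2`-subgroup of `N` lies in a Sylow `2`-subgroup of `N`. -/
theorem exists_isSylowTwoIn [Finite G] {P N : Subgroup G} (hPN : P ≤ N) (hP : IsPGroup 2 P) :
    ∃ S, IsSylowTwoIn S N ∧ P ≤ S := by
  obtain ⟨Q, hQ⟩ := (hP.comap_subtype (K := N)).exists_le_sylow
  rw [Subgroup.comap_subtype] at hQ
  refine ⟨(Q : Subgroup ↥N).map N.subtype, ⟨Subgroup.map_subtype_le _, Q.2.map _, ?_⟩, ?_⟩
  · have h1 : ((Q : Subgroup ↥N).map N.subtype).subgroupOf N = (Q : Subgroup ↥N) :=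
      Subgroup.comap_map_eq_self_of_injective N.subtype_injective _
    have h2 : ((Q : Subgroup ↥N).map N.subtype).relIndex N = (Q : Subgroup ↥N).index := by
      unfold Subgroup.relIndex
      rw [h1]
    rw [h2]
    exact Nat.not_even_iff_odd.mp (fun h => Q.not_dvd_index (even_iff_two_dvd.mp h))
  · intro x hx
    exact ⟨⟨x, hPN hx⟩, hQ (Subgroup.mem_subgroupOf.mpr hx), rfl⟩

theorem jOvergroups_map [Finite G] (e : G ≃* G) {T L : Subgroup G} (hLT : L ∈ jOvergroups T) :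
    L.map e.toMonoidHom ∈ jOvergroups (T.map e.toMonoidHom) := by
  refine ⟨isSylowTwoIn_map e hLT.1, ?_, ?_⟩
  · rw [thompsonSubgroupOf_map, pCoreOf_map_equiv,
      Subgroup.map_le_map_iff_of_injective e.injective]
    exact hLT.2.1
  · rw [pCoreOf_map_equiv, BBlock.centralizer_map_equiv]
    exact Subgroup.map_mono hLT.2.2

section Zero

variable [Finite G]

/-- The data attached to `K ∈ 𝒦₀(T)` and a Sylow `2`-subgroup `T₁ ≥ J(T)` of `N_G(W_K)`. -/
theorem zero_data (hL : IsCharacteristicTwoType G) {T K T₁ : Subgroup G}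
    (hK : K ∈ jComponentsZero T)
    (hS₁ : IsSylowTwoIn T₁ (Subgroup.normalizer ((wOf K : Subgroup G) : Set G)))
    (hJT₁ : thompsonSubgroupOf 2 T ≤ T₁) :
    thompsonSubgroupOf 2 T₁ = thompsonSubgroupOf 2 T ∧ IsJComponent T₁ K ∧
      Subgroup.normalizer ((wOf K : Subgroup G) : Set G) ∈ jOvergroups T₁ ∧
      K ≤ Subgroup.normalizer ((wOf K : Subgroup G) : Set G) ∧
      ∃ z ∈ wOf K, z ≠ 1 ∧ z ∈ T₁ ∧ z ∈ Subgroup.centralizer (T₁ : Set G) := by
  have hK0 := hK.1
  have h3 := hK0.2.2.1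
  have hJ := hK.2 T₁ hJT₁ hS₁
  have hK₁ : IsJComponent T₁ K := isJComponent_of_thompson_eq hJ hK0
  have hT₁ : IsPGroup 2 ↥T₁ := hS₁.2.1
  have hWp : IsPGroup 2 ↥(wOf K) :=
    Cfsg.H5.isPGroup_of_isElementaryAbelian (wOf_isElementaryAbelian hK0)
  have hW1 : wOf K ≠ ⊥ := by
    intro h
    have h4 := hK0.2.2.2.2.1
    rw [h, Subgroup.card_bot] at h4
    omega
  have hKN : K ≤ Subgroup.normalizer ((wOf K : Subgroup G) : Set G) :=
    Subgroup.le_normalizer.trans (normalizer_le_normalizer_wOf h3)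
  -- `W ≤ O₂(N)`
  have hWQ : wOf K ≤ pCoreOf 2 (Subgroup.normalizer ((wOf K : Subgroup G) : Set G)) := by
    have h := subgroupOf_le_pCore (p := 2)
      (le_refl (Subgroup.normalizer ((wOf K : Subgroup G) : Set G))) hWp
    intro x hx
    have hx' : x ∈ Subgroup.normalizer ((wOf K : Subgroup G) : Set G) :=
      Subgroup.le_normalizer hx
    exact (JComp.mem_pCoreOf_iff hx').mpr (h (Subgroup.mem_subgroupOf.mpr hx))
  have hQT₁ : pCoreOf 2 (Subgroup.normalizer ((wOf K : Subgroup G) : Set G)) ≤ T₁ :=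
    pCoreOf_le_of_isSylowTwoIn hS₁
  -- `z`
  have hne : wOf K ⊓ Subgroup.centralizer (T₁ : Set G) ≠ ⊥ := by
    apply inf_centralizer_ne_bot_of_pgroup_action hWp hW1 hS₁.1
    intro b hb
    obtain ⟨k, hk⟩ := hT₁ ⟨b, hb⟩
    refine ⟨k, ?_⟩
    have : b ^ (2 ^ k) = 1 := by simpa using congrArg Subtype.val hk
    rw [this]
    exact Subgroup.one_mem _
  obtain ⟨z, hz, hz1⟩ : ∃ z ∈ wOf K ⊓ Subgroup.centralizer (T₁ : Set G), z ≠ 1 := by
    by_contra hcon
    push Not at hcon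
    exact hne ((Subgroup.eq_bot_iff_forall _).mpr hcon)
  have hzW : z ∈ wOf K := hz.1
  have hzC : z ∈ Subgroup.centralizer (T₁ : Set G) := hz.2
  have hzT : z ∈ T₁ := hQT₁ (hWQ hzW)
  -- `O₂(N) ≤ C(W)`
  have hQC : pCoreOf 2 (Subgroup.normalizer ((wOf K : Subgroup G) : Set G)) ≤
      Subgroup.centralizer ((wOf K : Subgroup G) : Set G) := by
    have hqz : ∀ q ∈ pCoreOf 2 (Subgroup.normalizer ((wOf K : Subgroup G) : Set G)),
        ∀ n ∈ Subgroup.normalizer ((wOf K : Subgroup G) : Set G),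
        (n * z * n⁻¹) * q = q * (n * z * n⁻¹) := by
      intro q hq n hn
      have hq' : n⁻¹ * q * n ∈
          pCoreOf 2 (Subgroup.normalizer ((wOf K : Subgroup G) : Set G)) := by
        have := (Subgroup.mem_normalizer_iff.mp
          (JStruct.le_normalizer_pCoreOf _ (Subgroup.inv_mem _ hn)) q).mp hq
        rwa [inv_inv] at this
      have hc := (Subgroup.mem_centralizer_iff.mp hzC) _ (hQT₁ hq')
      calc (n * z * n⁻¹) * q = n * (z * (n⁻¹ * q * n)) * n⁻¹ := by group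
        _ = n * ((n⁻¹ * q * n) * z) * n⁻¹ := by rw [← hc]
        _ = q * (n * z * n⁻¹) := by group
    obtain ⟨d, hd, hdQ, hd3⟩ := exists_d hK0
    obtain ⟨-, -, -, -, -, -, -, -, -, henum⟩ :=
      wOf_enum hK0 hd hdQ hd3 hzW hz1 (w' := d * z * d⁻¹) (w'' := d * (d * z * d⁻¹) * d⁻¹)
        rfl rfl
    have hdN := hKN hd
    intro q hq
    rw [Subgroup.mem_centralizer_iff]
    intro x hx
    rcases henum x hx with h | h | h | h
    · rw [h, one_mul, mul_one]
    · rw [h]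
      have := hqz q hq 1 (Subgroup.one_mem _)
      simpa using this
    · rw [h]; exact hqz q hq d hdN
    · rw [h]
      have := hqz q hq (d * d) (Subgroup.mul_mem _ hdN hdN)
      have e : d * d * z * (d * d)⁻¹ = d * (d * z * d⁻¹) * d⁻¹ := by group
      rwa [e] at this
  -- `C_G(O₂(N)) ≤ O₂(N)`
  have hchar : Subgroup.centralizer
      ((pCoreOf 2 (Subgroup.normalizer ((wOf K : Subgroup G) : Set G)) : Subgroup G) : Set G) ≤
      pCoreOf 2 (Subgroup.normalizer ((wOf K : Subgroup G) : Set G)) := by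
    intro x hx
    have hxC : x ∈ Subgroup.centralizer ((wOf K : Subgroup G) : Set G) :=
      Subgroup.centralizer_le (SetLike.coe_subset_coe.mpr hWQ) hx
    have hxN : x ∈ Subgroup.normalizer ((wOf K : Subgroup G) : Set G) :=
      Subgroup.centralizer_le_normalizer _ hxC
    have h2 := hL.2 (wOf K) hWp hW1
    have h3' : (⟨x, hxN⟩ : ↥(Subgroup.normalizer ((wOf K : Subgroup G) : Set G))) ∈
        Subgroup.centralizer
          (pCore 2 ↥(Subgroup.normalizer ((wOf K : Subgroup G) : Set G)) : Set _) := by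
      rw [Subgroup.mem_centralizer_iff]
      intro y hy
      apply Subtype.ext
      exact (Subgroup.mem_centralizer_iff.mp hx) y.1 ⟨y, hy, rfl⟩
    exact (JComp.mem_pCoreOf_iff hxN).mpr (h2 h3')
  refine ⟨hJ, hK₁, ⟨hS₁, ?_, hchar⟩, hKN, z, hzW, hz1, hzT, hzC⟩
  intro hle
  apply thompson_not_le_centralizer_wOf hK0
  rw [← hJ]
  exact hle.trans hQC

/-- `N_G(W_K) ≤ N_G(K)` for `K ∈ 𝒦₀(T)`. -/
theorem normalizer_wOf_le (hL : IsCharacteristicTwoType G)
    (hN : ∀ N : Subgroup G, IsTwoLocal N → Group.IsSolvable ↥N)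
    (hZ : ∀ S : Sylow 2 G, Subgroup.centralizer (omegaCenterOf (S : Subgroup G) : Set G) ≤
      Subgroup.normalizer ((S : Subgroup G) : Set G))
    {T K : Subgroup G} (hT : IsPGroup 2 ↥T) (hK : K ∈ jComponentsZero T) :
    Subgroup.normalizer ((wOf K : Subgroup G) : Set G) ≤ Subgroup.normalizer (K : Set G) := by
  have hK0 := hK.1
  have hJN : thompsonSubgroupOf 2 T ≤ Subgroup.normalizer ((wOf K : Subgroup G) : Set G) :=
    (thompson_le_normalizer hK0).trans (normalizer_le_normalizer_wOf hK0.2.2.1)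
  obtain ⟨T₁, hS₁, hJT₁⟩ := exists_isSylowTwoIn hJN (thompson_isPGroup hT)
  obtain ⟨hJ, hK₁, hLT₁, hKN, z, hzW, hz1, hzT, hzC⟩ := zero_data hL hK hS₁ hJT₁
  have hT₁ : IsPGroup 2 ↥T₁ := hS₁.2.1
  have hT₁1 : T₁ ≠ ⊥ := by
    intro h
    apply hz1
    rw [h, Subgroup.mem_bot] at hzT
    exact hzT
  have hz2 : z ^ 2 = 1 := by rw [pow_two]; exact hK0.2.2.2.2.2 z hzW
  have hzV : z ∈ VG (Subgroup.normalizer ((wOf K : Subgroup G) : Set G)) :=
    omega_le_VG hS₁ (mem_omegaCenterOf hzT hzC hz2)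
  intro n hn
  apply mem_normalizer_of_map_conj_le
  have hNn : (Subgroup.normalizer ((wOf K : Subgroup G) : Set G)).map
      (MulAut.conj n).toMonoidHom = Subgroup.normalizer ((wOf K : Subgroup G) : Set G) :=
    map_conj_eq_of_mem_normalizer (Subgroup.le_normalizer hn)
  have hLT₂ : Subgroup.normalizer ((wOf K : Subgroup G) : Set G) ∈
      jOvergroups (T₁.map (MulAut.conj n).toMonoidHom) := by
    have := jOvergroups_map (MulAut.conj n) hLT₁
    rwa [hNn] at this
  have hK₂ : IsJComponent (T₁.map (MulAut.conj n).toMonoidHom)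
      (K.map (MulAut.conj n).toMonoidHom) := isJComponent_map (MulAut.conj n) hK₁
  have hK₂N : K.map (MulAut.conj n).toMonoidHom ≤
      Subgroup.normalizer ((wOf K : Subgroup G) : Set G) := by
    have := Subgroup.map_mono (f := (MulAut.conj n).toMonoidHom) hKN
    rwa [hNn] at this
  have hW₂ : wOf (K.map (MulAut.conj n).toMonoidHom) = wOf K := by
    rw [wOf_map_equiv]
    exact map_conj_eq_of_mem_normalizer hn
  have hzW₂ : z ∈ wOf (K.map (MulAut.conj n).toMonoidHom) := by rw [hW₂]; exact hzW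
  have hT₂ : IsPGroup 2 ↥(T₁.map (MulAut.conj n).toMonoidHom) := hT₁.map _
  have hT₂1 : T₁.map (MulAut.conj n).toMonoidHom ≠ ⊥ := by
    intro h
    apply hT₁1
    exact (Subgroup.map_eq_bot_iff_of_injective _ (MulAut.conj n).injective).mp h
  exact component_le_of_common' hL hN hZ hT₁ hT₁1 hT₂ hT₂1 hLT₁ hLT₂ hK₁ hK₂ hKN hK₂N hz1 hzV
    hzW hzW₂

/-- `K ∈ 𝒦₀(T)` is a `J(Tᵍ)`-component whenever `J(Tᵍ) ≤ N_G(W_K)`. -/
theorem isJComponent_conj (hL : IsCharacteristicTwoType G)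
    (hN : ∀ N : Subgroup G, IsTwoLocal N → Group.IsSolvable ↥N)
    (hZ : ∀ S : Sylow 2 G, Subgroup.centralizer (omegaCenterOf (S : Subgroup G) : Set G) ≤
      Subgroup.normalizer ((S : Subgroup G) : Set G))
    {T K : Subgroup G} (hT : IsPGroup 2 ↥T) (hK : K ∈ jComponentsZero T) (g : G)
    (hg : thompsonSubgroupOf 2 (T.map (MulAut.conj g).toMonoidHom) ≤
      Subgroup.normalizer ((wOf K : Subgroup G) : Set G)) :
    IsJComponent (T.map (MulAut.conj g).toMonoidHom) K := by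
  have hK0 := hK.1
  have hJN : thompsonSubgroupOf 2 T ≤ Subgroup.normalizer ((wOf K : Subgroup G) : Set G) :=
    (thompson_le_normalizer hK0).trans (normalizer_le_normalizer_wOf hK0.2.2.1)
  obtain ⟨T₁, hS₁, hJT₁⟩ := exists_isSylowTwoIn hJN (thompson_isPGroup hT)
  have hJ := hK.2 T₁ hJT₁ hS₁
  have hTg : IsPGroup 2 ↥(T.map (MulAut.conj g).toMonoidHom) := hT.map _
  obtain ⟨l, hlN, hl⟩ := exists_conj_le hS₁ hg (thompson_isPGroup hTg)
  have hTh : T.map (MulAut.conj (l * g)).toMonoidHom =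
      (T.map (MulAut.conj g).toMonoidHom).map (MulAut.conj l).toMonoidHom := map_conj_mul T l g
  have hJh : thompsonSubgroupOf 2 (T.map (MulAut.conj (l * g)).toMonoidHom) =
      (thompsonSubgroupOf 2 T).map (MulAut.conj (l * g)).toMonoidHom :=
    thompsonSubgroupOf_map 2 (MulAut.conj (l * g)) T
  have hJh_le : thompsonSubgroupOf 2 (T.map (MulAut.conj (l * g)).toMonoidHom) ≤ T₁ := by
    rw [hTh, thompsonSubgroupOf_map]
    exact hl
  have hle : thompsonSubgroupOf 2 (T.map (MulAut.conj (l * g)).toMonoidHom) ≤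
      thompsonSubgroupOf 2 T := by
    rw [← hJ]
    conv_lhs => rw [hJh, thompsonSubgroupOf_eq, map_sSup']
    apply iSup₂_le
    intro B hB
    apply le_thompson_of_isMaxEAIn
    have hB₁ : IsMaxEAIn 2 T₁ B := (isMaxEAIn_iff_of_thompson_eq hJ B).mpr hB
    refine ⟨?_, (ea_map_equiv_iff 2 (MulAut.conj (l * g)) B).mpr hB.2.1, fun C hC hCe => ?_⟩
    · refine le_trans ?_ hJh_le
      rw [hJh]
      exact Subgroup.map_mono (le_thompson_of_isMaxEAIn hB)
    · rw [card_map_equiv]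
      exact hB₁.2.2 C hC hCe
  have heq : thompsonSubgroupOf 2 (T.map (MulAut.conj (l * g)).toMonoidHom) =
      thompsonSubgroupOf 2 T := by
    apply Subgroup.eq_of_le_of_card_ge hle
    rw [hJh, card_map_equiv]
  have hKh : IsJComponent (T.map (MulAut.conj (l * g)).toMonoidHom) K :=
    isJComponent_of_thompson_eq heq hK0
  have hlK : l⁻¹ ∈ Subgroup.normalizer (K : Set G) :=
    normalizer_wOf_le hL hN hZ hT hK (Subgroup.inv_mem _ hlN)
  have h1 := isJComponent_map (MulAut.conj l⁻¹) hKh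
  rw [map_conj_eq_of_mem_normalizer hlK, hTh, map_conj_map_conj_inv] at h1
  exact h1

end Zero

end Cfsg.Agent.Lib.Helper17.JZero
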