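import Mathlib
import Cfsg.Agent.Lib.Helper17.JExB
import Cfsg.Agent.Lib.Helper17.JZero
import Cfsg.Agent.Lib.Helper17.StrongPEmb
import Cfsg.Agent.Lib.Helper17.WeaklyClosed
import Cfsg.Agent.Lib.Helper17.SylowLemmas

set_option autoImplicit false

/-! The maximal members of `𝒯(M)`: `N_G(J(T)) ≤ M`, Sylow `2`-subgroups of `2`-locals not in `M`
containing `J(T)`. -/

namespace Cfsg.Agent.Lib.Helper17.JStrad

open Cfsg Cfsg.Agent.Lib.Helper17 Cfsg.Agent.Lib.Helper27 Cfsg.Agent.Lib.Helper17.JComp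
  Cfsg.Agent.Lib.Helper17.JStruct Cfsg.Agent.Lib.Helper17.JUniq Cfsg.Agent.Lib.Helper17.JMap
  Cfsg.Agent.Lib.Helper17.JZero Cfsg.Agent.Lib.Helper17.JMaxEA Cfsg.Agent.Lib.Helper17.JExB

variable {G : Type*} [Group G] [Finite G]

/-- A `2`-subgroup of `M` lies in a conjugate `S₁ ≤ M` of `S` with `N_G(J(S₁)) ≤ M`. -/
theorem exists_sylow_ge (S : Sylow 2 G) {M T : Subgroup G}
    (hMJ : Subgroup.normalizer (thompsonSubgroupOf 2 (S : Subgroup G) : Set G) ≤ M)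
    (hT2 : IsPGroup 2 ↥T) (hTM : T ≤ M) :
    ∃ S₁ : Subgroup G, IsPGroup 2 ↥S₁ ∧ T ≤ S₁ ∧ S₁ ≤ M ∧
      Subgroup.normalizer (thompsonSubgroupOf 2 S₁ : Set G) ≤ M := by
  have hSM : (S : Subgroup G) ≤ M := (le_normalizer_thompson (S : Subgroup G)).trans hMJ
  obtain ⟨m, hm, hle⟩ := exists_conj_le_sylow_of_le hT2 hTM S hSM
  have hm' : m⁻¹ ∈ M := M.inv_mem hm
  have hMm : M.map (MulAut.conj m⁻¹).toMonoidHom = M := map_conj_eq_self_of_mem hm'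
  refine ⟨(S : Subgroup G).map (MulAut.conj m⁻¹).toMonoidHom, S.2.map _, ?_, ?_, ?_⟩
  · rw [le_map_conj_iff, inv_inv]
    exact hle
  · rw [← hMm]
    exact Subgroup.map_mono hSM
  · rw [thompsonSubgroupOf_map, normalizer_map_conj', ← hMm]
    exact Subgroup.map_mono hMJ

/-- `N_G(J(T)) ≤ M` for `T ∈ 𝒯*(M)`. -/
theorem normalizer_thompson_le (S : Sylow 2 G) {M T : Subgroup G}
    (hMJ : Subgroup.normalizer (thompsonSubgroupOf 2 (S : Subgroup G) : Set G) ≤ M)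
    (hT : T ∈ maxStraddlingTwoSubgroups M) :
    Subgroup.normalizer (thompsonSubgroupOf 2 T : Set G) ≤ M := by
  obtain ⟨⟨hT2, hT1, hTM, -⟩, hmax⟩ := hT
  obtain ⟨S₁, hS₁2, hTS₁, hS₁M, hNS₁⟩ := exists_sylow_ge S hMJ hT2 hTM
  by_contra hnot
  have hJ1 : thompsonSubgroupOf 2 T ≠ ⊥ := thompson_ne_bot hT2 hT1
  have hJ2 : IsPGroup 2 ↥(thompsonSubgroupOf 2 T) := hT2.to_le (thompsonSubgroupOf_le 2 T)
  have hloc : IsTwoLocal (Subgroup.normalizer (thompsonSubgroupOf 2 T : Set G)) :=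
    ⟨thompsonSubgroupOf 2 T, hJ2, hJ1, rfl⟩
  obtain ⟨T₂, hT₂⟩ : ∃ T₂, T₂ = S₁ ⊓ Subgroup.normalizer (thompsonSubgroupOf 2 T : Set G) :=
    ⟨_, rfl⟩
  have hTT₂ : T ≤ T₂ := by rw [hT₂]; exact le_inf hTS₁ (le_normalizer_thompson T)
  have hT₂s : T₂ ∈ straddlingTwoSubgroups M := by
    refine ⟨?_, fun h => hT1 (eq_bot_iff.mpr (h ▸ hTT₂)), ?_,
      Subgroup.normalizer (thompsonSubgroupOf 2 T : Set G), hloc, ?_, hnot⟩
    · rw [hT₂]; exact hS₁2.to_le inf_le_left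
    · rw [hT₂]; exact inf_le_left.trans hS₁M
    · rw [hT₂]; exact inf_le_right
  obtain ⟨h1, h2⟩ := hmax T₂ hT₂s
  have hJle : thompsonSubgroupOf 2 T ≤ T₂ := (thompsonSubgroupOf_le 2 T).trans hTT₂
  have ha : maxElemAbelianOrder T ≤ maxElemAbelianOrder T₂ := maxElemAbelianOrder_le hJle
  obtain ⟨h3, h4⟩ := h2 (le_antisymm h1 ha)
  have hJJ : thompsonSubgroupOf 2 T ≤ thompsonSubgroupOf 2 T₂ :=
    thompson_le_thompson_of hJle h1
  have hJeq : thompsonSubgroupOf 2 T = thompsonSubgroupOf 2 T₂ :=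
    Subgroup.eq_of_le_of_card_ge hJJ h3
  have hcard : Nat.card ↥T₂ ≤ Nat.card ↥T := h4 (by rw [hJeq])
  have hT₂T : T = T₂ := Subgroup.eq_of_le_of_card_ge hTT₂ hcard
  by_cases hTS : T = S₁
  · apply hnot
    rw [hTS]
    exact hNS₁
  · have hlt : T < S₁ := lt_of_le_of_ne hTS₁ hTS
    obtain ⟨n, hnS, hnN, hnT⟩ := pgroup_normalizer_gt hS₁2 hlt
    apply hnT
    have : n ∈ T₂ := by
      rw [hT₂]
      exact ⟨hnS, normalizer_le_normalizer_thompson T hnN⟩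
    rw [hT₂T]
    exact this

/-- A Sylow `2`-subgroup `T₀ ≥ J(T)` of a `2`-local `L ≰ M`, for `T ∈ 𝒯*(M)`. -/
theorem sylow_data {M T L T₀ : Subgroup G}
    (hNJ : Subgroup.normalizer (thompsonSubgroupOf 2 T : Set G) ≤ M)
    (hT : T ∈ maxStraddlingTwoSubgroups M) (hL2 : IsTwoLocal L) (hLM : ¬ L ≤ M)
    (hT₀ : IsSylowTwoIn T₀ L) (hJT₀ : thompsonSubgroupOf 2 T ≤ T₀) :
    thompsonSubgroupOf 2 T₀ = thompsonSubgroupOf 2 T ∧ T₀ ∈ straddlingTwoSubgroups M ∧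
      maxElemAbelianOrder T₀ = maxElemAbelianOrder T := by
  obtain ⟨⟨hT2, hT1, hTM, -⟩, hmax⟩ := hT
  have hJ1 : thompsonSubgroupOf 2 T ≠ ⊥ := thompson_ne_bot hT2 hT1
  obtain ⟨T₃, hT₃⟩ : ∃ T₃, T₃ = T₀ ⊓ Subgroup.normalizer (thompsonSubgroupOf 2 T : Set G) :=
    ⟨_, rfl⟩
  have hJle : thompsonSubgroupOf 2 T ≤ T₃ := by
    rw [hT₃]; exact le_inf hJT₀ Subgroup.le_normalizer
  have hT₃T₀ : T₃ ≤ T₀ := by rw [hT₃]; exact inf_le_left
  have hT₃s : T₃ ∈ straddlingTwoSubgroups M := by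
    refine ⟨hT₀.2.1.to_le hT₃T₀, fun h => hJ1 (eq_bot_iff.mpr (h ▸ hJle)), ?_, L, hL2,
      hT₃T₀.trans hT₀.1, hLM⟩
    rw [hT₃]; exact inf_le_right.trans hNJ
  obtain ⟨h1, h2⟩ := hmax T₃ hT₃s
  have ha : maxElemAbelianOrder T ≤ maxElemAbelianOrder T₃ := maxElemAbelianOrder_le hJle
  have haeq := le_antisymm h1 ha
  obtain ⟨h3, -⟩ := h2 haeq
  have hJJ : thompsonSubgroupOf 2 T ≤ thompsonSubgroupOf 2 T₃ :=
    thompson_le_thompson_of hJle h1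
  have hJeq : thompsonSubgroupOf 2 T = thompsonSubgroupOf 2 T₃ :=
    Subgroup.eq_of_le_of_card_ge hJJ h3
  have hT₃eq : T₃ = T₀ := by
    by_contra hne
    have hlt : T₃ < T₀ := lt_of_le_of_ne hT₃T₀ hne
    obtain ⟨n, hnT₀, hnN, hnT₃⟩ := pgroup_normalizer_gt hT₀.2.1 hlt
    apply hnT₃
    have h5 := normalizer_le_normalizer_thompson T₃ hnN
    rw [← hJeq] at h5
    rw [hT₃]
    exact ⟨hnT₀, h5⟩
  rw [← hT₃eq]
  exact ⟨hJeq.symm, hT₃s, haeq⟩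

/-- A `2`-local `L` with Sylow `2`-subgroup `T₀` and `L ≰ N_G(J(T₀))` belongs to `𝓛(T₀)`. -/
theorem mem_jOvergroups (hL : IsCharacteristicTwoType G) {L T₀ : Subgroup G}
    (hL2 : IsTwoLocal L) (hT₀ : IsSylowTwoIn T₀ L)
    (hnot : ¬ L ≤ Subgroup.normalizer (thompsonSubgroupOf 2 T₀ : Set G)) :
    L ∈ jOvergroups T₀ := by
  have hQT : pCoreOf 2 L ≤ T₀ := pCoreOf_le_of_isSylowTwoIn hT₀
  refine ⟨hT₀, ?_, ?_⟩
  · intro hle
    apply hnot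
    have hJ := thompson_eq_of_le hle hQT
    rw [← hJ]
    exact (JStruct.le_normalizer_pCoreOf L).trans (normalizer_le_normalizer_thompson _)
  · obtain ⟨U, hU2, hU1, rfl⟩ := hL2
    have hUQ : U ≤ pCoreOf 2 (Subgroup.normalizer (U : Set G)) := by
      have h := subgroupOf_le_pCore (p := 2) (le_refl (Subgroup.normalizer (U : Set G))) hU2
      intro x hx
      have hx' : x ∈ Subgroup.normalizer (U : Set G) := Subgroup.le_normalizer hx
      exact (JComp.mem_pCoreOf_iff hx').mpr (h (Subgroup.mem_subgroupOf.mpr hx))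
    intro x hx
    have hxC : x ∈ Subgroup.centralizer (U : Set G) :=
      Subgroup.centralizer_le (SetLike.coe_subset_coe.mpr hUQ) hx
    have hxN : x ∈ Subgroup.normalizer (U : Set G) :=
      Subgroup.centralizer_le_normalizer _ hxC
    have h2 := hL.2 U hU2 hU1
    have h3' : (⟨x, hxN⟩ : ↥(Subgroup.normalizer (U : Set G))) ∈
        Subgroup.centralizer (pCore 2 ↥(Subgroup.normalizer (U : Set G)) : Set _) := by
      rw [Subgroup.mem_centralizer_iff]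
      intro y hy
      apply Subtype.ext
      exact (Subgroup.mem_centralizer_iff.mp hx) y.1 ⟨y, hy, rfl⟩
    exact (JComp.mem_pCoreOf_iff hxN).mpr (h2 h3')

end Cfsg.Agent.Lib.Helper17.JStrad
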