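import Mathlib
import Cfsg.Agent.Lib.Helper17.JStruct
import Cfsg.Agent.Lib.Helper17.Subnormal
import Cfsg.Agent.Lib.Helper17.AxBAbelian

set_option autoImplicit false

/-! Subnormal subgroups of shape `2-group . 3` with a natural four-group, and the Thompson
subgroup of the ambient (solvable) group. -/

namespace Cfsg.Agent.Lib.Helper17.JSub

open Cfsg Cfsg.Agent.Lib.Helper17 Cfsg.Agent.Lib.Helper27 Cfsg.Agent.Lib.Helper17.JComp
open Cfsg.Agent.Lib.Helper20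
open scoped commutatorElement

section Basic

variable {𝔾 : Type*} [Group 𝔾]

/-- A fixed-point-free conjugation action on a finite subgroup: the commutator map is onto. -/
theorem surj_of_fpf {W : Subgroup 𝔾} [Finite W] {d : 𝔾}
    (hdW : d ∈ Subgroup.normalizer (W : Set 𝔾))
    (hfpf : ∀ w ∈ W, d * w * d⁻¹ = w → w = 1) :
    ∀ w ∈ W, ∃ u ∈ W, u * d * u⁻¹ * d⁻¹ = w := by
  have hmem : ∀ u ∈ W, u * d * u⁻¹ * d⁻¹ ∈ W := by
    intro u hu
    have h1 : d * u⁻¹ * d⁻¹ ∈ W := (Subgroup.mem_normalizer_iff.mp hdW u⁻¹).mp (W.inv_mem hu)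
    have : u * d * u⁻¹ * d⁻¹ = u * (d * u⁻¹ * d⁻¹) := by group
    rw [this]; exact W.mul_mem hu h1
  let θ : ↥W → ↥W := fun u => ⟨u.1 * d * u.1⁻¹ * d⁻¹, hmem u.1 u.2⟩
  have hinj : Function.Injective θ := by
    intro u u' h
    have h1 : u.1 * d * u.1⁻¹ * d⁻¹ = u'.1 * d * u'.1⁻¹ * d⁻¹ := congrArg Subtype.val h
    have h3 : u.1 * d * u.1⁻¹ = u'.1 * d * u'.1⁻¹ := mul_right_cancel h1
    have h2 : d * (u'.1⁻¹ * u.1) * d⁻¹ = u'.1⁻¹ * u.1 := by
      calc d * (u'.1⁻¹ * u.1) * d⁻¹ = u'.1⁻¹ * (u'.1 * d * u'.1⁻¹) * u.1 * d⁻¹ := by group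
        _ = u'.1⁻¹ * (u.1 * d * u.1⁻¹) * u.1 * d⁻¹ := by rw [h3]
        _ = u'.1⁻¹ * u.1 := by group
    have h4 := hfpf _ (W.mul_mem (W.inv_mem u'.2) u.2) h2
    apply Subtype.ext
    calc u.1 = u'.1 * (u'.1⁻¹ * u.1) := by group
      _ = u'.1 := by rw [h4, mul_one]
  have hsurj : Function.Surjective θ := Finite.surjective_of_injective hinj
  intro w hw
  obtain ⟨u, hu⟩ := hsurj ⟨w, hw⟩
  exact ⟨u.1, u.2, congrArg Subtype.val hu⟩

/-- An element of order dividing `3` acting nontrivially on a four-group acts without fixed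
points. -/
theorem fpf_of_ne {U : Subgroup 𝔾} (h4 : Nat.card U = 4) (hsq : ∀ w ∈ U, w * w = 1) {e : 𝔾}
    (he3 : e ^ 3 = 1) (heU : e ∈ Subgroup.normalizer (U : Set 𝔾)) {v : 𝔾} (hv : v ∈ U)
    (hne : e * v * e⁻¹ ≠ v) : ∀ x ∈ U, e * x * e⁻¹ = x → x = 1 := by
  obtain ⟨h1, -, -, -, -, -, hne3, hne2, -, henum⟩ :=
    four_enum h4 hsq he3 heU hv rfl rfl hne
  intro x hx hfix
  rcases henum x hx with h | h | h | h
  · exact h
  · subst h; exact absurd hfix hne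
  · subst h; exact absurd hfix hne2
  · subst h
    rw [h1] at hfix
    exact absurd hfix.symm hne3

/-- A `2`-element normalizing a four-group `W` whose action commutes with that of a fixed-point-free
element of order `3` centralizes `W`. -/
theorem mem_centralizer_of_two_pow [Finite 𝔾] {W : Subgroup 𝔾} (h4 : Nat.card W = 4)
    (hsq : ∀ w ∈ W, w * w = 1) {d : 𝔾} (hd3 : d ^ 3 = 1)
    (hdW : d ∈ Subgroup.normalizer (W : Set 𝔾))
    (hfpf : ∀ w ∈ W, d * w * d⁻¹ = w → w = 1)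
    {n : 𝔾} (hnW : n ∈ Subgroup.normalizer (W : Set 𝔾))
    (hn2 : ∃ k : ℕ, n ^ (2 ^ k) ∈ Subgroup.centralizer (W : Set 𝔾))
    (hcomm : ∀ w ∈ W, n * (d * w * d⁻¹) * n⁻¹ = d * (n * w * n⁻¹) * d⁻¹) :
    n ∈ Subgroup.centralizer (W : Set 𝔾) := by
  haveI : Fact (Nat.Prime 2) := ⟨Nat.prime_two⟩
  have hW2 : IsPGroup 2 W := IsPGroup.of_card (n := 2) (by rw [h4]; norm_num)
  have hW1 : W ≠ ⊥ := by
    intro h; rw [h] at h4; simp at h4
  have hB : ∀ b ∈ Subgroup.zpowers n,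
      ∃ k : ℕ, b ^ (2 ^ k) ∈ Subgroup.centralizer (W : Set 𝔾) := by
    obtain ⟨k, hk⟩ := hn2
    intro b hb
    obtain ⟨i, rfl⟩ := Subgroup.mem_zpowers_iff.mp hb
    refine ⟨k, ?_⟩
    have : (n ^ i) ^ (2 ^ k) = (n ^ (2 ^ k)) ^ i := by
      rw [← zpow_natCast, ← zpow_mul, mul_comm, zpow_mul, zpow_natCast]
    rw [this]
    exact Subgroup.zpow_mem _ hk i
  have hfix := inf_centralizer_ne_bot_of_pgroup_action (p := 2) hW2 hW1
    (Subgroup.zpowers_le.mpr hnW) hB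
  obtain ⟨⟨w₀, hw₀⟩, hw₀1⟩ := Subgroup.ne_bot_iff_exists_ne_one.mp hfix
  have hw₀1' : w₀ ≠ 1 := fun h => hw₀1 (Subtype.ext h)
  obtain ⟨hw₀W, hw₀C⟩ := Subgroup.mem_inf.mp hw₀
  have hnw₀ : n * w₀ * n⁻¹ = w₀ := by
    have := Subgroup.mem_centralizer_iff.mp hw₀C n (Subgroup.mem_zpowers n)
    rw [this]; group
  have hne : d * w₀ * d⁻¹ ≠ w₀ := fun h => hw₀1' (hfpf w₀ hw₀W h)
  obtain ⟨-, -, -, -, hv'W, -, -, -, -, henum⟩ := four_enum h4 hsq hd3 hdW hw₀W rfl rfl hne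
  have hnw₁ : n * (d * w₀ * d⁻¹) * n⁻¹ = d * w₀ * d⁻¹ := by rw [hcomm w₀ hw₀W, hnw₀]
  have hnw₂ : n * (d * (d * w₀ * d⁻¹) * d⁻¹) * n⁻¹ = d * (d * w₀ * d⁻¹) * d⁻¹ := by
    rw [hcomm _ hv'W, hnw₁]
  rw [Subgroup.mem_centralizer_iff]
  intro x hx
  have hfixx : n * x * n⁻¹ = x := by
    rcases henum x hx with h | h | h | h
    · rw [h]; group
    · rw [h]; exact hnw₀
    · rw [h]; exact hnw₁
    · rw [h]; exact hnw₂
  calc x * n = (n * x * n⁻¹) * n := by rw [hfixx]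
    _ = n * x := by group

end Basic


section Block

variable {𝔾 : Type*} [Group 𝔾]

/-- In the situation of the structure theorem for failure of factorization (blocks `E i` with
natural modules `U i`), an element `δ` of order `3` normalizing everything, with commutator
`[V, δ]` a four-group `W` on which it acts fixed-point-freely: the group `H` normalizes `W`. -/
theorem block_normalizes [Finite 𝔾] {ι : Type*} (V H : Subgroup 𝔾) (E U : ι → Subgroup 𝔾)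
    (hVc : ∀ a ∈ V, ∀ b ∈ V, a * b = b * a) (hV2 : ∀ a ∈ V, a * a = 1)
    (hf : H ⊓ Subgroup.centralizer (V : Set 𝔾) = ⊥)
    (hiso : ∀ i, Nonempty (↥(E i) ≃* Matrix.SpecialLinearGroup (Fin 2) (ZMod 2)))
    (hsup : ⨆ i, E i = H)
    (hUV : ∀ i, U i ≤ V)
    (hHU : ∀ i, H ≤ Subgroup.normalizer ((U i : Subgroup 𝔾) : Set 𝔾))
    (hU4 : ∀ i, Nat.card ↥(U i) = 4)
    (hUE : ∀ i, ∀ v ∈ V, ∀ e ∈ E i, v * e * v⁻¹ * e⁻¹ ∈ U i)
    (hind : iSupIndep (fun o : Option ι =>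
      o.elim (V ⊓ Subgroup.centralizer (H : Set 𝔾)) U))
    (hprod : (V ⊓ Subgroup.centralizer (H : Set 𝔾)) ⊔ (⨆ i, U i) = V)
    {δ : 𝔾} (hδV : δ ∈ Subgroup.normalizer (V : Set 𝔾))
    (hδH : δ ∈ Subgroup.normalizer (H : Set 𝔾)) (hδ3 : δ ^ 3 = 1)
    {W : Subgroup 𝔾} (hWV : W ≤ V) (hW4 : Nat.card W = 4)
    (hδW : δ ∈ Subgroup.normalizer (W : Set 𝔾))
    (hfpf : ∀ w ∈ W, δ * w * δ⁻¹ = w → w = 1)
    (hcomm : ∀ v ∈ V, v * δ * v⁻¹ * δ⁻¹ ∈ W) :
    H ≤ Subgroup.normalizer (W : Set 𝔾) := by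
  classical
  have hEH : ∀ i, E i ≤ H := fun i => hsup ▸ le_iSup E i
  have hU2 : ∀ i, ∀ w ∈ U i, w * w = 1 := fun i w hw => hV2 w (hUV i hw)
  have hdisj : ∀ i j, i ≠ j → U i ⊓ U j = ⊥ := by
    intro i j hij
    have := hind.pairwiseDisjoint
      (show (some i : Option ι) ≠ some j from fun h => hij (Option.some_injective _ h))
    exact this.eq_bot
  have hdisj3 : ∀ i j k, i ≠ j → i ≠ k → U i ⊓ (U j ⊔ U k) = ⊥ := by
    intro i j k hij hik
    have h := hind (some i)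
    have hle : U j ⊔ U k ≤ ⨆ o, ⨆ (_ : o ≠ some i),
        (Option.elim o (V ⊓ Subgroup.centralizer (H : Set 𝔾)) U : Subgroup 𝔾) := by
      apply sup_le
      · exact le_iSup₂_of_le (some j) (fun h => hij (Option.some_injective _ h).symm) le_rfl
      · exact le_iSup₂_of_le (some k) (fun h => hik (Option.some_injective _ h).symm) le_rfl
    exact (h.mono_right hle).eq_bot
  -- elements of order 3
  have hex3 : ∀ i, ∃ e ∈ E i, e ^ 3 = 1 ∧ e ≠ 1 := by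
    intro i
    obtain ⟨φ⟩ := hiso i
    haveI : Fact (Nat.Prime 3) := ⟨Nat.prime_three⟩
    have hc : Nat.card ↥(E i) = 6 := by rw [Nat.card_congr φ.toEquiv]; exact JStruct.sl2_card
    obtain ⟨x, hx⟩ := exists_prime_orderOf_dvd_card' (G := ↥(E i)) 3 (by rw [hc]; norm_num)
    refine ⟨x.1, x.2, ?_, ?_⟩
    · have h1 := pow_orderOf_eq_one x
      rw [hx] at h1
      have h2 := congrArg Subtype.val h1
      simpa using h2
    · intro h
      have h1 : x = 1 := Subtype.ext h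
      rw [h1, orderOf_one] at hx
      norm_num at hx
  -- `δ` permutes the blocks
  have hperm : ∀ i, ∃ j, (U i).map (MulAut.conj δ).toMonoidHom = U j := by
    intro i
    obtain ⟨e, heE, he3, he1⟩ := hex3 i
    obtain ⟨e', he'⟩ : ∃ e', e' = δ * e * δ⁻¹ := ⟨_, rfl⟩
    have he'H : e' ∈ H := by
      rw [he']; exact (Subgroup.mem_normalizer_iff.mp hδH e).mp (hEH i heE)
    have he'3 : e' ^ 3 = 1 := by rw [he', conj_pow, he3]; group
    have he'1 : e' ≠ 1 := by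
      intro h; rw [he'] at h; exact he1 (conj_eq_one_iff.mp h)
    have hex : ∃ j, ∃ v ∈ U j, e' * v * e'⁻¹ ≠ v := by
      by_contra hcon
      push Not at hcon
      apply he'1
      have hC : V ≤ Subgroup.centralizer ({e'} : Set 𝔾) := by
        rw [← hprod]
        apply sup_le
        · intro v hv
          rw [Subgroup.mem_centralizer_singleton_iff]
          have := Subgroup.mem_centralizer_iff.mp (Subgroup.mem_inf.mp hv).2 e' he'H
          exact this.symm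
        · apply iSup_le
          intro j v hv
          rw [Subgroup.mem_centralizer_singleton_iff]
          have := hcon j v hv
          calc v * e' = (e' * v * e'⁻¹) * e' := by rw [this]
            _ = e' * v := by group
      have hmem : e' ∈ H ⊓ Subgroup.centralizer (V : Set 𝔾) := by
        refine Subgroup.mem_inf.mpr ⟨he'H, ?_⟩
        rw [Subgroup.mem_centralizer_iff]
        intro v hv
        exact Subgroup.mem_centralizer_singleton_iff.mp (hC hv)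
      rw [hf, Subgroup.mem_bot] at hmem
      exact hmem
    obtain ⟨j, v, hv, hne⟩ := hex
    refine ⟨j, ?_⟩
    have he'N : e' ∈ Subgroup.normalizer ((U j : Subgroup 𝔾) : Set 𝔾) := hHU j he'H
    have hfp := fpf_of_ne (hU4 j) (hU2 j) he'3 he'N hv hne
    have hsur := surj_of_fpf he'N hfp
    have hle : U j ≤ (U i).map (MulAut.conj δ).toMonoidHom := by
      intro u hu
      obtain ⟨u₁, hu₁, rfl⟩ := hsur u hu
      rw [mem_map_conj]
      have hv₁ : δ⁻¹ * u₁ * δ ∈ V := by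
        have := (Subgroup.mem_normalizer_iff.mp (Subgroup.inv_mem _ hδV) u₁).mp (hUV j hu₁)
        rwa [inv_inv] at this
      have h1 := hUE i _ hv₁ e heE
      have e2 : δ⁻¹ * (u₁ * e' * u₁⁻¹ * e'⁻¹) * δ =
          (δ⁻¹ * u₁ * δ) * e * (δ⁻¹ * u₁ * δ)⁻¹ * e⁻¹ := by
        rw [he']; group
      rw [e2]; exact h1
    have hc : Nat.card ↥((U i).map (MulAut.conj δ).toMonoidHom) ≤ Nat.card ↥(U j) := by
      rw [card_map_conj, hU4 i, hU4 j]
    exact (Subgroup.eq_of_le_of_card_ge hle hc).symm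
  have hconj : ∀ i j, (U i).map (MulAut.conj δ).toMonoidHom = U j →
      ∀ u ∈ U i, δ * u * δ⁻¹ ∈ U j := by
    intro i j h u hu
    rw [← h]; exact conj_mem_map_conj hu
  have hcube : ∀ x : 𝔾, δ * (δ * (δ * x * δ⁻¹) * δ⁻¹) * δ⁻¹ = x := by
    intro x
    have h3 : δ * δ * δ = 1 := by rw [← hδ3, pow_succ, pow_two]
    have : δ * (δ * (δ * x * δ⁻¹) * δ⁻¹) * δ⁻¹ = (δ * δ * δ) * x * (δ * δ * δ)⁻¹ := by group
    rw [this, h3]; simp
  have hne_bot : ∀ i, ∃ u ∈ U i, u ≠ 1 := by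
    intro i
    by_contra hcon
    push Not at hcon
    have h1 : U i = ⊥ := (Subgroup.eq_bot_iff_forall _).mpr hcon
    have h4 := hU4 i
    rw [h1] at h4; simp at h4
  -- the commutator map from a moved block is onto `W`
  have hsurjW : ∀ a b, (∀ u ∈ U a, δ * u * δ⁻¹ ∈ U b) → U a ⊓ U b = ⊥ →
      ∀ w ∈ W, ∃ u ∈ U a, u * δ * u⁻¹ * δ⁻¹ = w := by
    intro a b hab hdis
    let θ : ↥(U a) → ↥W := fun u => ⟨u.1 * δ * u.1⁻¹ * δ⁻¹, hcomm u.1 (hUV a u.2)⟩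
    have hinj : Function.Injective θ := by
      intro u u' h
      have h1 : u.1 * δ * u.1⁻¹ * δ⁻¹ = u'.1 * δ * u'.1⁻¹ * δ⁻¹ := congrArg Subtype.val h
      have h3 : u.1 * δ * u.1⁻¹ = u'.1 * δ * u'.1⁻¹ := mul_right_cancel h1
      have h2 : δ * (u'.1⁻¹ * u.1) * δ⁻¹ = u'.1⁻¹ * u.1 := by
        calc δ * (u'.1⁻¹ * u.1) * δ⁻¹ = u'.1⁻¹ * (u'.1 * δ * u'.1⁻¹) * u.1 * δ⁻¹ := by group
          _ = u'.1⁻¹ * (u.1 * δ * u.1⁻¹) * u.1 * δ⁻¹ := by rw [h3]
          _ = u'.1⁻¹ * u.1 := by group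
      have hx : u'.1⁻¹ * u.1 ∈ U a := (U a).mul_mem ((U a).inv_mem u'.2) u.2
      have hx' : u'.1⁻¹ * u.1 ∈ U b := by rw [← h2]; exact hab _ hx
      have hxx : u'.1⁻¹ * u.1 ∈ U a ⊓ U b := Subgroup.mem_inf.mpr ⟨hx, hx'⟩
      rw [hdis, Subgroup.mem_bot] at hxx
      apply Subtype.ext
      calc u.1 = u'.1 * (u'.1⁻¹ * u.1) := by group
        _ = u'.1 := by rw [hxx, mul_one]
    haveI : Finite ↥W := inferInstance
    have hbij : Function.Bijective θ :=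
      hinj.bijective_of_nat_card_le (by rw [hW4, hU4 a])
    intro w hw
    obtain ⟨u, hu⟩ := hbij.2 ⟨w, hw⟩
    exact ⟨u.1, u.2, congrArg Subtype.val hu⟩
  -- `δ` fixes every block
  have hfixblk : ∀ i, (U i).map (MulAut.conj δ).toMonoidHom = U i := by
    intro i
    obtain ⟨j, hj⟩ := hperm i
    by_cases hij : j = i
    · rw [hij] at hj; exact hj
    exfalso
    obtain ⟨k, hk⟩ := hperm j
    have hij' : i ≠ j := fun h => hij h.symm
    have hUij : ¬ U i ≤ U j := by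
      intro hle
      obtain ⟨u, hu, hu1⟩ := hne_bot i
      have h1 : u ∈ U i ⊓ U j := Subgroup.mem_inf.mpr ⟨hu, hle hu⟩
      rw [hdisj i j hij', Subgroup.mem_bot] at h1
      exact hu1 h1
    have hki : k ≠ i := by
      intro h
      rw [h] at hk
      apply hUij
      intro u hu
      have h1 := hconj i j hj u hu
      have h2 := hconj j i hk _ h1
      have h3 := hconj i j hj _ h2
      rwa [hcube u] at h3
    have hkj : k ≠ j := by
      intro h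
      rw [h] at hk
      apply hUij
      intro u hu
      have h1 : δ * u * δ⁻¹ ∈ U j := hconj i j hj u hu
      rw [← hk, mem_map_conj] at h1
      have h2 : δ⁻¹ * (δ * u * δ⁻¹) * δ = u := by group
      rwa [h2] at h1
    obtain ⟨u, hu, hu1⟩ := hne_bot i
    have hwW : u * δ * u⁻¹ * δ⁻¹ ∈ W := hcomm u (hUV i hu)
    obtain ⟨b, hb, hbe⟩ := hsurjW j k (hconj j k hk) (hdisj j k (fun h => hkj h.symm)) _ hwW
    have hu_eq : u = b * (δ * b⁻¹ * δ⁻¹) * (δ * u * δ⁻¹) := by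
      have h1 : b * (δ * b⁻¹ * δ⁻¹) * (δ * u * δ⁻¹) =
          (b * δ * b⁻¹ * δ⁻¹) * (δ * u * δ⁻¹) := by group
      rw [h1, hbe]; group
    have hmem : u ∈ U j ⊔ U k := by
      rw [hu_eq]
      exact Subgroup.mul_mem _ (Subgroup.mul_mem _ (Subgroup.mem_sup_left hb)
        (Subgroup.mem_sup_right (hconj j k hk _ ((U j).inv_mem hb))))
        (Subgroup.mem_sup_left (hconj i j hj u hu))
    have h1 : u ∈ U i ⊓ (U j ⊔ U k) := Subgroup.mem_inf.mpr ⟨hu, hmem⟩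
    rw [hdisj3 i j k hij' (fun h => hki h.symm), Subgroup.mem_bot] at h1
    exact hu1 h1
  have hδUN : ∀ i, δ ∈ Subgroup.normalizer ((U i : Subgroup 𝔾) : Set 𝔾) := fun i =>
    mem_normalizer_of_map_conj_eq (hfixblk i)
  by_cases hex : ∃ i, ∃ u ∈ U i, δ * u * δ⁻¹ ≠ u
  · obtain ⟨i, u, hu, hne⟩ := hex
    have hfp := fpf_of_ne (hU4 i) (hU2 i) hδ3 (hδUN i) hu hne
    have hsur := surj_of_fpf (hδUN i) hfp
    have hle : U i ≤ W := by
      intro x hx
      obtain ⟨x₁, hx₁, rfl⟩ := hsur x hx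
      exact hcomm x₁ (hUV i hx₁)
    haveI : Finite ↥W := inferInstance
    have hUW : U i = W := Subgroup.eq_of_le_of_card_ge hle (by rw [hW4, hU4 i])
    rw [← hUW]; exact hHU i
  · push Not at hex
    have hsupC : (⨆ i, U i) ≤ Subgroup.centralizer ({δ} : Set 𝔾) := by
      apply iSup_le
      intro i u hu
      rw [Subgroup.mem_centralizer_singleton_iff]
      have := hex i u hu
      calc u * δ = (δ * u * δ⁻¹) * δ := by rw [this]
        _ = δ * u := by group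
    have hsupV : (⨆ i, U i) ≤ V := iSup_le hUV
    have hU₀N : δ ∈ Subgroup.normalizer
        ((V ⊓ Subgroup.centralizer (H : Set 𝔾) : Subgroup 𝔾) : Set 𝔾) :=
      mem_normalizer_inf hδV (normalizer_le_normalizer_centralizer H hδH)
    have hVcent : V ≤ Subgroup.centralizer
        ((V ⊓ Subgroup.centralizer (H : Set 𝔾) : Subgroup 𝔾) : Set 𝔾) := by
      intro v hv
      rw [Subgroup.mem_centralizer_iff]
      intro y hy
      exact hVc y (Subgroup.mem_inf.mp hy).1 v hv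
    have hnorm' : (⨆ i, U i) ≤ Subgroup.normalizer
        ((V ⊓ Subgroup.centralizer (H : Set 𝔾) : Subgroup 𝔾) : Set 𝔾) :=
      hsupV.trans (hVcent.trans (Subgroup.centralizer_le_normalizer _))
    have hWU₀ : W ≤ V ⊓ Subgroup.centralizer (H : Set 𝔾) := by
      intro w hw
      obtain ⟨w₁, hw₁, rfl⟩ := surj_of_fpf hδW hfpf w hw
      have hw₁V : w₁ ∈ (V ⊓ Subgroup.centralizer (H : Set 𝔾)) ⊔ (⨆ i, U i) := by
        rw [hprod]; exact hWV hw₁
      rw [← SetLike.mem_coe, Subgroup.coe_mul_of_right_le_normalizer_left _ _ hnorm',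
        Set.mem_mul] at hw₁V
      obtain ⟨a, ha, b, hb, rfl⟩ := hw₁V
      have ha' : a ∈ V ⊓ Subgroup.centralizer (H : Set 𝔾) := ha
      have hb' : b ∈ ⨆ i, U i := hb
      have hbδ : b * δ = δ * b := Subgroup.mem_centralizer_singleton_iff.mp (hsupC hb')
      have e : (a * b) * δ * (a * b)⁻¹ * δ⁻¹ = a * (δ * a⁻¹ * δ⁻¹) := by
        calc (a * b) * δ * (a * b)⁻¹ * δ⁻¹ = a * (b * δ) * b⁻¹ * a⁻¹ * δ⁻¹ := by group
          _ = a * (δ * b) * b⁻¹ * a⁻¹ * δ⁻¹ := by rw [hbδ]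
          _ = a * (δ * a⁻¹ * δ⁻¹) := by group
      rw [e]
      exact Subgroup.mul_mem _ ha'
        ((Subgroup.mem_normalizer_iff.mp hU₀N a⁻¹).mp (Subgroup.inv_mem _ ha'))
    intro h hh
    apply mem_normalizer_of_map_conj_le
    rintro _ ⟨w, hw, rfl⟩
    simp only [MulEquiv.coe_toMonoidHom, MulAut.conj_apply]
    have h1 := Subgroup.mem_centralizer_iff.mp (Subgroup.mem_inf.mp (hWU₀ hw)).2 h hh
    have e : h * w * h⁻¹ = w := by rw [h1]; group
    rw [e]; exact hw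

/-- The same statement, in the form delivered by the structure theorem for failure of
factorization. -/
theorem block_normalizes' [Finite 𝔾] (P : Subgroup 𝔾 → Prop) (V H : Subgroup 𝔾)
    (hVc : ∀ a ∈ V, ∀ b ∈ V, a * b = b * a) (hV2 : ∀ a ∈ V, a * a = 1)
    (hHV : H ≤ Subgroup.normalizer (V : Set 𝔾))
    (hf : H ⊓ Subgroup.centralizer (V : Set 𝔾) = ⊥)
    (hE : ∀ E : {E : Subgroup 𝔾 // P E},
      H ≤ Subgroup.normalizer ((E : Subgroup 𝔾) : Set 𝔾) ∧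
      Nonempty (↥(E : Subgroup 𝔾) ≃* Matrix.SpecialLinearGroup (Fin 2) (ZMod 2)) ∧
      Nat.card ↥(⁅V, (E : Subgroup 𝔾)⁆) = 2 ^ 2)
    (hsup : (⨆ E : {E : Subgroup 𝔾 // P E}, (E : Subgroup 𝔾)) = H)
    (hind : iSupIndep (fun o : Option {E : Subgroup 𝔾 // P E} =>
      o.elim (V ⊓ Subgroup.centralizer (H : Set 𝔾)) (fun E => ⁅V, (E : Subgroup 𝔾)⁆)))
    (hprod : (V ⊓ Subgroup.centralizer (H : Set 𝔾)) ⊔
      (⨆ E : {E : Subgroup 𝔾 // P E}, ⁅V, (E : Subgroup 𝔾)⁆) = V)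
    {δ : 𝔾} (hδV : δ ∈ Subgroup.normalizer (V : Set 𝔾))
    (hδH : δ ∈ Subgroup.normalizer (H : Set 𝔾)) (hδ3 : δ ^ 3 = 1)
    {W : Subgroup 𝔾} (hWV : W ≤ V) (hW4 : Nat.card W = 4)
    (hδW : δ ∈ Subgroup.normalizer (W : Set 𝔾))
    (hfpf : ∀ w ∈ W, δ * w * δ⁻¹ = w → w = 1)
    (hcomm : ∀ v ∈ V, v * δ * v⁻¹ * δ⁻¹ ∈ W) :
    H ≤ Subgroup.normalizer (W : Set 𝔾) := by
  have hEH : ∀ E : {E : Subgroup 𝔾 // P E}, (E : Subgroup 𝔾) ≤ H := fun E =>
    (le_iSup (fun E : {E : Subgroup 𝔾 // P E} => (E : Subgroup 𝔾)) E).trans hsup.le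
  exact block_normalizes (ι := {E : Subgroup 𝔾 // P E}) V H
    (fun E => (E : Subgroup 𝔾)) (fun E => ⁅V, (E : Subgroup 𝔾)⁆) hVc hV2 hf
    (fun E => (hE E).2.1) hsup
    (fun E => commutator_le_left_of_le_normalizer ((hEH E).trans hHV))
    (fun E h hh => mem_normalizer_commutator (hHV hh) ((hE E).1 hh))
    (fun E => by have := (hE E).2.2; norm_num at this; exact this)
    (fun E v hv e he => by
      have := Subgroup.commutator_mem_commutator hv he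
      rwa [commutatorElement_def] at this)
    hind hprod hδV hδH hδ3 hWV hW4 hδW hfpf hcomm

end Block


section Quotient

variable {𝔛 : Type*} [Group 𝔛]

theorem pCore_quotient_eq_bot_aux [Finite 𝔛] (V C : Subgroup 𝔛) [hVn : V.Normal] [hCn : C.Normal]
    (hCV : ∀ x, x ∈ C ↔ ∀ v ∈ V, v * x = x * v)
    (K : Subgroup 𝔛) (hKsn : K.IsSubnormal) {d : 𝔛} (hdK : d ∈ K) (hd3 : d ^ 3 = 1)
    (hcases : ∀ x ∈ K, x ∈ C ∨ d⁻¹ * x ∈ C ∨ d * x ∈ C)
    (W : Subgroup 𝔛) (hWV : W ≤ V) (hW4 : Nat.card W = 4) (hW2 : ∀ w ∈ W, w * w = 1)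
    (hdW : d ∈ Subgroup.normalizer (W : Set 𝔛))
    (hfpf : ∀ w ∈ W, d * w * d⁻¹ = w → w = 1)
    (hcomm : ∀ v ∈ V, v * d * v⁻¹ * d⁻¹ ∈ W)
    (hgen : ∀ D : Subgroup 𝔛, (∀ x : 𝔛, ∀ w ∈ W, x * w * x⁻¹ ∈ D) → V ≤ D) :
    Cfsg.pCore 2 (𝔛 ⧸ C) = ⊥ := by
  haveI : Fact (Nat.Prime 2) := ⟨Nat.prime_two⟩
  have hP : IsPGroup 2 (Cfsg.pCore 2 (𝔛 ⧸ C)) := pCore_isPGroup
  have hPn : (Cfsg.pCore 2 (𝔛 ⧸ C)).Normal := inferInstance
  have hKhat : (K.map (QuotientGroup.mk' C)).IsSubnormal :=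
    hKsn.map (QuotientGroup.mk'_surjective C)
  have hcz : ∀ c ∈ C, ∀ z ∈ V, c * z * c⁻¹ = z := by
    intro c hc z hz
    have := (hCV c).mp hc z hz
    rw [← this]; group
  -- lifts of elements of the core centralize `W`
  have key : ∀ n : 𝔛, QuotientGroup.mk' C n ∈ Cfsg.pCore 2 (𝔛 ⧸ C) →
      ∀ w ∈ W, w * n = n * w := by
    intro n hn
    have hc : n * d * n⁻¹ * d⁻¹ ∈ C := by
      let π := QuotientGroup.mk' C
      have hg : π (n * d * n⁻¹) ∈ Cfsg.pCore 2 (𝔛 ⧸ C) ⊔ K.map π := by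
        rw [map_mul, map_mul, map_inv]
        exact Subgroup.mul_mem _ (Subgroup.mul_mem _ (Subgroup.mem_sup_left hn)
          (Subgroup.mem_sup_right (Subgroup.mem_map_of_mem _ hdK)))
          (Subgroup.inv_mem _ (Subgroup.mem_sup_left hn))
      have hg3 : (π (n * d * n⁻¹)) ^ 3 = 1 := by
        rw [← map_pow, conj_pow, hd3]; simp
      have hgo : (orderOf (π (n * d * n⁻¹))).Coprime 2 :=
        Nat.Coprime.coprime_dvd_left (orderOf_dvd_of_pow_eq_one hg3) (by norm_num)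
      have hgK := mem_of_isSubnormal_of_mem_sup hKhat hP hg hgo
      obtain ⟨k, hk, hkg⟩ := hgK
      have hπc : π (n * d * n⁻¹ * d⁻¹) = π (k * d⁻¹) := by
        rw [map_mul π (n * d * n⁻¹) d⁻¹, ← hkg, ← map_mul]
      have hcP : π (n * d * n⁻¹ * d⁻¹) ∈ Cfsg.pCore 2 (𝔛 ⧸ C) := by
        have e : n * d * n⁻¹ * d⁻¹ = n * (d * n⁻¹ * d⁻¹) := by group
        rw [e, map_mul]
        refine Subgroup.mul_mem _ hn ?_
        rw [map_mul, map_mul, map_inv π d]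
        exact hPn.conj_mem _ (by rw [map_inv]; exact Subgroup.inv_mem _ hn) _
      have hc3 : (π (n * d * n⁻¹ * d⁻¹)) ^ 3 = 1 := by
        rw [hπc]
        have hkd : k * d⁻¹ ∈ K := K.mul_mem hk (K.inv_mem hdK)
        rcases hcases _ hkd with h | h | h
        · have h1 : π (k * d⁻¹) = 1 := (QuotientGroup.eq_one_iff _).mpr h
          rw [h1, one_pow]
        · have h1 : π (d⁻¹ * (k * d⁻¹)) = 1 := (QuotientGroup.eq_one_iff _).mpr h
          have h2 : π (k * d⁻¹) = π d := by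
            have e : k * d⁻¹ = d * (d⁻¹ * (k * d⁻¹)) := by group
            rw [e, map_mul, h1, mul_one]
          rw [h2, ← map_pow, hd3, map_one]
        · have h1 : π (d * (k * d⁻¹)) = 1 := (QuotientGroup.eq_one_iff _).mpr h
          have h2 : π (k * d⁻¹) = π d⁻¹ := by
            have e : k * d⁻¹ = d⁻¹ * (d * (k * d⁻¹)) := by group
            rw [e, map_mul, h1, mul_one]
          rw [h2, ← map_pow, inv_pow, hd3, inv_one, map_one]
      obtain ⟨e, he⟩ := hP ⟨π (n * d * n⁻¹ * d⁻¹), hcP⟩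
      have he' : (π (n * d * n⁻¹ * d⁻¹)) ^ 2 ^ e = 1 := by
        have := congrArg Subtype.val he
        simpa using this
      have ho : orderOf (π (n * d * n⁻¹ * d⁻¹)) = 1 :=
        Nat.eq_one_of_dvd_coprimes (Nat.Coprime.pow_right e (by norm_num : Nat.Coprime 3 2))
          (orderOf_dvd_of_pow_eq_one hc3) (orderOf_dvd_of_pow_eq_one he')
      exact (QuotientGroup.eq_one_iff _).mp (orderOf_eq_one_iff.mp ho)
    have hnV : ∀ v ∈ V, n * v * n⁻¹ ∈ V := fun v hv => hVn.conj_mem v hv n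
    have hnWmem : ∀ w ∈ W, n * w * n⁻¹ ∈ W := by
      intro w hw
      haveI : Finite ↥W := inferInstance
      obtain ⟨u, hu, rfl⟩ := surj_of_fpf hdW hfpf w hw
      have hu' : n * u * n⁻¹ ∈ V := hnV u (hWV hu)
      have hy : (n * u * n⁻¹) * d * (n * u * n⁻¹)⁻¹ * d⁻¹ ∈ W := hcomm _ hu'
      have huc : (n * u * n⁻¹) * (n * d * n⁻¹ * d⁻¹) =
          (n * d * n⁻¹ * d⁻¹) * (n * u * n⁻¹) := (hCV _).mp hc _ hu'
      have e1 : n * (u * d * u⁻¹ * d⁻¹) * n⁻¹ =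
          (n * d * n⁻¹ * d⁻¹) * ((n * u * n⁻¹) * d * (n * u * n⁻¹)⁻¹ * d⁻¹) *
            (n * d * n⁻¹ * d⁻¹)⁻¹ := by
        calc n * (u * d * u⁻¹ * d⁻¹) * n⁻¹
            = ((n * u * n⁻¹) * (n * d * n⁻¹ * d⁻¹)) * d * (n * u * n⁻¹)⁻¹ * d⁻¹ *
                (n * d * n⁻¹ * d⁻¹)⁻¹ := by group
          _ = ((n * d * n⁻¹ * d⁻¹) * (n * u * n⁻¹)) * d * (n * u * n⁻¹)⁻¹ * d⁻¹ *
                (n * d * n⁻¹ * d⁻¹)⁻¹ := by rw [huc]
          _ = _ := by group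
      rw [e1, hcz _ hc _ (hWV hy)]
      exact hy
    have hnW : n ∈ Subgroup.normalizer (W : Set 𝔛) := by
      apply mem_normalizer_of_map_conj_le
      rintro _ ⟨w, hw, rfl⟩
      simp only [MulEquiv.coe_toMonoidHom, MulAut.conj_apply]
      exact hnWmem w hw
    have hn2 : ∃ k : ℕ, n ^ (2 ^ k) ∈ Subgroup.centralizer (W : Set 𝔛) := by
      obtain ⟨e, he⟩ := hP ⟨QuotientGroup.mk' C n, hn⟩
      have he' : (QuotientGroup.mk' C n) ^ 2 ^ e = 1 := by
        have := congrArg Subtype.val he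
        simpa using this
      rw [← map_pow] at he'
      have hC' : n ^ 2 ^ e ∈ C := (QuotientGroup.eq_one_iff _).mp he'
      refine ⟨e, ?_⟩
      rw [Subgroup.mem_centralizer_iff]
      intro w hw
      exact (hCV _).mp hC' w (hWV hw)
    have hcommute : ∀ w ∈ W, n * (d * w * d⁻¹) * n⁻¹ = d * (n * w * n⁻¹) * d⁻¹ := by
      intro w hw
      have hz : d * (n * w * n⁻¹) * d⁻¹ ∈ W :=
        (Subgroup.mem_normalizer_iff.mp hdW _).mp (hnWmem w hw)
      have e1 : n * (d * w * d⁻¹) * n⁻¹ =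
          (n * d * n⁻¹ * d⁻¹) * (d * (n * w * n⁻¹) * d⁻¹) * (n * d * n⁻¹ * d⁻¹)⁻¹ := by group
      rw [e1, hcz _ hc _ (hWV hz)]
    have hcent := mem_centralizer_of_two_pow hW4 hW2 hd3 hdW hfpf hnW hn2 hcommute
    intro w hw
    exact Subgroup.mem_centralizer_iff.mp hcent w hw
  rw [eq_bot_iff]
  intro m hm
  rw [Subgroup.mem_bot]
  obtain ⟨n, rfl⟩ := QuotientGroup.mk'_surjective C m
  apply (QuotientGroup.eq_one_iff n).mpr
  rw [hCV]
  have hle : V ≤ Subgroup.centralizer ({n} : Set 𝔛) := by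
    apply hgen
    intro x w hw
    rw [Subgroup.mem_centralizer_singleton_iff]
    have hm' : QuotientGroup.mk' C (x⁻¹ * n * x) ∈ Cfsg.pCore 2 (𝔛 ⧸ C) := by
      rw [map_mul, map_mul, map_inv]
      have := hPn.conj_mem _ hm (QuotientGroup.mk' C x)⁻¹
      rwa [inv_inv] at this
    have h1 := key _ hm' w hw
    calc x * w * x⁻¹ * n = x * (w * (x⁻¹ * n * x)) * x⁻¹ := by group
      _ = x * ((x⁻¹ * n * x) * w) * x⁻¹ := by rw [h1]
      _ = n * (x * w * x⁻¹) := by group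
  intro v hv
  exact Subgroup.mem_centralizer_singleton_iff.mp (hle hv)

theorem pCore_quotient_eq_bot [Finite 𝔛] (V : Subgroup 𝔛) [hVn : V.Normal]
    (K : Subgroup 𝔛) (hKsn : K.IsSubnormal) {d : 𝔛} (hdK : d ∈ K) (hd3 : d ^ 3 = 1)
    (hcases : ∀ x ∈ K, x ∈ Subgroup.centralizer (V : Set 𝔛) ∨
      d⁻¹ * x ∈ Subgroup.centralizer (V : Set 𝔛) ∨ d * x ∈ Subgroup.centralizer (V : Set 𝔛))
    (W : Subgroup 𝔛) (hWV : W ≤ V) (hW4 : Nat.card W = 4) (hW2 : ∀ w ∈ W, w * w = 1)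
    (hdW : d ∈ Subgroup.normalizer (W : Set 𝔛))
    (hfpf : ∀ w ∈ W, d * w * d⁻¹ = w → w = 1)
    (hcomm : ∀ v ∈ V, v * d * v⁻¹ * d⁻¹ ∈ W)
    (hgen : ∀ D : Subgroup 𝔛, (∀ x : 𝔛, ∀ w ∈ W, x * w * x⁻¹ ∈ D) → V ≤ D) :
    Cfsg.pCore 2 (𝔛 ⧸ Subgroup.centralizer (V : Set 𝔛)) = ⊥ :=
  pCore_quotient_eq_bot_aux V (Subgroup.centralizer (V : Set 𝔛))
    (fun _ => Subgroup.mem_centralizer_iff) K hKsn hdK hd3 hcases W hWV hW4 hW2 hdW hfpf hcomm hgen

end Quotient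

section Main

variable {𝔛 : Type*} [Group 𝔛]

/-- Let `K` be a subnormal subgroup of the finite `2`-solvable group `𝔛` of shape
`(2-group centralizing V).3`, where `V` is a normal elementary abelian `2`-subgroup generated by the
conjugates of a four-group `W = [V, d]` on which `d ∈ K` of order `3` acts fixed-point-freely.
Then the Thompson subgroup of `𝔛` normalizes `W`. -/
theorem thompson_le_normalizer_of_subnormal [Finite 𝔛] (hsep : Cfsg.IsPSolvable 2 𝔛)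
    (V : Subgroup 𝔛) [hVn : V.Normal] (hV : Cfsg.IsElementaryAbelian 2 V)
    (K : Subgroup 𝔛) (hKsn : K.IsSubnormal) {d : 𝔛} (hdK : d ∈ K) (hd3 : d ^ 3 = 1)
    (hcases : ∀ x ∈ K, x ∈ Subgroup.centralizer (V : Set 𝔛) ∨
      d⁻¹ * x ∈ Subgroup.centralizer (V : Set 𝔛) ∨ d * x ∈ Subgroup.centralizer (V : Set 𝔛))
    (W : Subgroup 𝔛) (hWV : W ≤ V) (hW4 : Nat.card W = 4)
    (hdW : d ∈ Subgroup.normalizer (W : Set 𝔛))
    (hfpf : ∀ w ∈ W, d * w * d⁻¹ = w → w = 1)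
    (hcomm : ∀ v ∈ V, v * d * v⁻¹ * d⁻¹ ∈ W)
    (hgen : ∀ D : Subgroup 𝔛, (∀ x : 𝔛, ∀ w ∈ W, x * w * x⁻¹ ∈ D) → V ≤ D) :
    Cfsg.thompsonSubgroup 2 𝔛 ≤ Subgroup.normalizer (W : Set 𝔛) := by
  haveI : Fact (Nat.Prime 2) := ⟨Nat.prime_two⟩
  obtain ⟨hVc, hV2'⟩ := (isElementaryAbelian_iff 2 V).mp hV
  have hV2 : ∀ a ∈ V, a * a = 1 := fun a ha => by rw [← pow_two]; exact hV2' a ha
  have hW2 : ∀ w ∈ W, w * w = 1 := fun w hw => hV2 w (hWV hw)
  have hOp := pCore_quotient_eq_bot V K hKsn hdK hd3 hcases W hWV hW4 hW2 hdW hfpf hcomm hgen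
  obtain ⟨hVe, hHV, hf, hS1, hS3⟩ := FFB.bridge V hsep hV hOp
  by_cases hH1 : (Cfsg.thompsonSubgroup 2 𝔛).map (FFB.psi V) = ⊥
  · intro j hj
    have h1 : FFB.psi V j ∈ (Cfsg.thompsonSubgroup 2 𝔛).map (FFB.psi V) :=
      Subgroup.mem_map_of_mem _ hj
    rw [hH1, Subgroup.mem_bot] at h1
    have h2 : j ∈ Subgroup.centralizer (V : Set 𝔛) :=
      (FFB.mem_ker_psi V).mp (MonoidHom.mem_ker.mpr h1)
    apply mem_normalizer_of_map_conj_le
    rintro _ ⟨w, hw, rfl⟩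
    simp only [MulEquiv.coe_toMonoidHom, MulAut.conj_apply]
    have h3 := Subgroup.mem_centralizer_iff.mp h2 w (hWV hw)
    have e : j * w * j⁻¹ = w := by rw [← h3]; group
    rw [e]; exact hw
  · obtain ⟨-, hE, -, hsup, hind', hprod⟩ := Cfsg.Agent.S0617.result (p := 2) (FFB.Vimg V) _
      hVe hHV hf hS1 hS3 hH1
    obtain ⟨hVec, hVe2⟩ := (isElementaryAbelian_iff 2 (FFB.Vimg V)).mp hVe
    have hJn : (Cfsg.thompsonSubgroup 2 𝔛).Normal := by
      haveI := Cfsg.H5.thompsonSubgroup_characteristic (G := 𝔛) 2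
      infer_instance
    obtain ⟨Wb, hWb⟩ : ∃ Wb : Subgroup (FFB.Hol V), Wb = (W.subgroupOf V).map (FFB.iota V) :=
      ⟨_, rfl⟩
    have hmemWb : ∀ y : ↥V, FFB.iota V y ∈ Wb ↔ (y : 𝔛) ∈ W := by
      intro y
      rw [hWb]
      constructor
      · rintro ⟨y', hy', h⟩
        have h1 := FFB.iota_injective V h
        rw [← h1]
        exact Subgroup.mem_subgroupOf.mp hy'
      · intro h
        exact ⟨y, Subgroup.mem_subgroupOf.mpr h, rfl⟩
    have hconjι : ∀ (g : 𝔛) (y : ↥V), ∃ y' : ↥V, (y' : 𝔛) = g * y * g⁻¹ ∧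
        FFB.psi V g * FFB.iota V y * (FFB.psi V g)⁻¹ = FFB.iota V y' := fun g y =>
      ⟨⟨g * y * g⁻¹, hVn.conj_mem y y.2 g⟩, rfl, FFB.psi_conj V g y⟩
    have key : (Cfsg.thompsonSubgroup 2 𝔛).map (FFB.psi V) ≤
        Subgroup.normalizer (Wb : Set (FFB.Hol V)) := by
      refine block_normalizes' _ (FFB.Vimg V) _ hVec
        (fun a ha => by rw [← pow_two]; exact hVe2 a ha) hHV hf hE hsup
        hind' hprod (δ := FFB.psi V d) ?_ ?_ ?_ (W := Wb) ?_ ?_ ?_ ?_ ?_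
      · haveI := FFB.vimg_normal V
        rw [Subgroup.normalizer_eq_top]
        exact Subgroup.mem_top _
      · apply mem_normalizer_of_map_conj_le
        rintro _ ⟨_, ⟨j, hj, rfl⟩, rfl⟩
        simp only [MulEquiv.coe_toMonoidHom, MulAut.conj_apply]
        exact ⟨d * j * d⁻¹, hJn.conj_mem j hj d, by simp⟩
      · rw [← map_pow, hd3, map_one]
      · rw [hWb]
        rintro _ ⟨y, -, rfl⟩
        exact ⟨y, rfl⟩
      · rw [hWb, Subgroup.card_map_of_injective (FFB.iota_injective V),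
          Nat.card_congr (Subgroup.subgroupOfEquivOfLe hWV).toEquiv]
        exact hW4
      · apply mem_normalizer_of_map_conj_le
        rintro _ ⟨x, hx, rfl⟩
        simp only [MulEquiv.coe_toMonoidHom, MulAut.conj_apply]
        rw [hWb] at hx
        obtain ⟨y, hy, rfl⟩ := hx
        obtain ⟨y', hy'v, hy'⟩ := hconjι d y
        rw [hy', hmemWb, hy'v]
        exact (Subgroup.mem_normalizer_iff.mp hdW y).mp (Subgroup.mem_subgroupOf.mp hy)
      · intro x hx hfix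
        rw [hWb] at hx
        obtain ⟨y, hy, rfl⟩ := hx
        obtain ⟨y', hy'v, hy'⟩ := hconjι d y
        rw [hy'] at hfix
        have h1 := FFB.iota_injective V hfix
        have h2 : d * (y : 𝔛) * d⁻¹ = y := by rw [← hy'v, h1]
        have h3 := hfpf _ (Subgroup.mem_subgroupOf.mp hy) h2
        have h4 : y = 1 := Subtype.ext h3
        rw [h4, map_one]
      · rintro _ ⟨v, rfl⟩
        obtain ⟨y', hy'v, hy'⟩ := hconjι d v⁻¹
        have e : FFB.iota V v * FFB.psi V d * (FFB.iota V v)⁻¹ * (FFB.psi V d)⁻¹ =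
            FFB.iota V v * (FFB.psi V d * FFB.iota V v⁻¹ * (FFB.psi V d)⁻¹) := by
          rw [map_inv]; group
        rw [e, hy', ← map_mul, hmemWb, Subgroup.coe_mul, hy'v, Subgroup.coe_inv]
        have h1 := hcomm v.1 v.2
        have e2 : (v : 𝔛) * (d * (v : 𝔛)⁻¹ * d⁻¹) = (v : 𝔛) * d * (v : 𝔛)⁻¹ * d⁻¹ := by group
        rw [e2]; exact h1
    intro j hj
    have h1 := key (Subgroup.mem_map_of_mem (FFB.psi V) hj)
    apply mem_normalizer_of_map_conj_le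
    rintro _ ⟨w, hw, rfl⟩
    simp only [MulEquiv.coe_toMonoidHom, MulAut.conj_apply]
    have hwV := hWV hw
    obtain ⟨y', hy'v, hy'⟩ := hconjι j ⟨w, hwV⟩
    have h2 : FFB.psi V j * FFB.iota V ⟨w, hwV⟩ * (FFB.psi V j)⁻¹ ∈ Wb :=
      (Subgroup.mem_normalizer_iff.mp h1 _).mp ((hmemWb ⟨w, hwV⟩).mpr hw)
    rw [hy', hmemWb, hy'v] at h2
    exact h2

end Main

end Cfsg.Agent.Lib.Helper17.JSub
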