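import Mathlib
import Cfsg.Agent.Lib.Helper17.JOut
import Cfsg.Agent.Lib.Helper17.JSub
import Cfsg.Agent.Lib.Helper17.JZero
import Cfsg.Agent.Lib.Helper17.JStrad

set_option autoImplicit false

/-! Maximal `2`-local subgroups containing a `J(T)`-component. -/

namespace Cfsg.Agent.Lib.Helper17.JMaxLoc

open Cfsg Cfsg.Agent.Lib.Helper17 Cfsg.Agent.Lib.Helper27 Cfsg.Agent.Lib.Helper17.JComp
  Cfsg.Agent.Lib.Helper17.JStruct Cfsg.Agent.Lib.Helper17.JUniq Cfsg.Agent.Lib.Helper17.JMap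
  Cfsg.Agent.Lib.Helper17.JMaxEA Cfsg.Agent.Lib.Helper17.JZero
open scoped commutatorElement

variable {G : Type*} [Group G]

theorem ne_bot_of_mem_jOvergroups {T L : Subgroup G} (hLT : L ∈ jOvergroups T) : T ≠ ⊥ := by
  intro h
  apply hLT.2.1
  have : thompsonSubgroupOf 2 T ≤ ⊥ := (thompsonSubgroupOf_le 2 T).trans (le_of_eq h)
  exact this.trans bot_le

/-- `jComponentsZero T` depends on `T` only through `J(T)`. -/
theorem jComponentsZero_of_thompson_eq {T T' K : Subgroup G}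
    (h : thompsonSubgroupOf 2 T' = thompsonSubgroupOf 2 T) (hK : K ∈ jComponentsZero T) :
    K ∈ jComponentsZero T' := by
  refine ⟨isJComponent_of_thompson_eq h hK.1, ?_⟩
  intro S hS1 hS2
  rw [h] at hS1 ⊢
  exact hK.2 S hS1 hS2

theorem jComponentsZero_map [Finite G] (e : G ≃* G) {T K : Subgroup G}
    (hK : K ∈ jComponentsZero T) :
    K.map e.toMonoidHom ∈ jComponentsZero (T.map e.toMonoidHom) := by
  refine ⟨isJComponent_map e hK.1, ?_⟩
  intro S hJS hS
  have hJ : thompsonSubgroupOf 2 (T.map e.toMonoidHom) =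
      (thompsonSubgroupOf 2 T).map e.toMonoidHom := thompsonSubgroupOf_map 2 e T
  have hnorm : Subgroup.normalizer ((wOf (K.map e.toMonoidHom) : Subgroup G) : Set G) =
      (Subgroup.normalizer ((wOf K : Subgroup G) : Set G)).map e.toMonoidHom := by
    rw [wOf_map_equiv]
    exact (Subgroup.map_equiv_normalizer_eq (wOf K) e).symm
  have hS' : IsSylowTwoIn (S.map e.symm.toMonoidHom)
      (Subgroup.normalizer ((wOf K : Subgroup G) : Set G)) := by
    have h1 := isSylowTwoIn_map e.symm hS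
    rw [hnorm, map_map_symm] at h1
    exact h1
  have hJS' : thompsonSubgroupOf 2 T ≤ S.map e.symm.toMonoidHom := by
    rw [hJ] at hJS
    have h1 := Subgroup.map_mono (f := e.symm.toMonoidHom) hJS
    rwa [map_map_symm] at h1
  have h := hK.2 _ hJS' hS'
  rw [hJ, ← h, ← thompsonSubgroupOf_map, map_symm_map]

theorem jComponentsZero_conj [Finite G] {T K : Subgroup G} (hK : K ∈ jComponentsZero T) {x : G}
    (hx : x ∈ Subgroup.normalizer ((thompsonSubgroupOf 2 T : Subgroup G) : Set G)) :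
    K.map (MulAut.conj x).toMonoidHom ∈ jComponentsZero T := by
  have h1 := jComponentsZero_map (MulAut.conj x) hK
  have h2 : thompsonSubgroupOf 2 (T.map (MulAut.conj x).toMonoidHom) = thompsonSubgroupOf 2 T := by
    rw [thompsonSubgroupOf_map]
    exact map_conj_eq_of_mem_normalizer hx
  exact jComponentsZero_of_thompson_eq h2.symm h1

/-- Every `2`-local subgroup lies in a maximal one. -/
theorem exists_isMaximalTwoLocal_ge [Finite G] {Y : Subgroup G} (hY : IsTwoLocal Y) :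
    ∃ L, IsMaximalTwoLocal L ∧ Y ≤ L := by
  have hwf : WellFounded ((· > ·) : Subgroup G → Subgroup G → Prop) := wellFounded_gt
  obtain ⟨m, ⟨hm2, hYm⟩, hmax⟩ :=
    hwf.has_min {N : Subgroup G | IsTwoLocal N ∧ Y ≤ N} ⟨Y, hY, le_rfl⟩
  refine ⟨m, ⟨hm2, fun N hN hmN => ?_⟩, hYm⟩
  by_contra hne
  exact hmax N ⟨hN, hYm.trans hmN⟩ (lt_of_le_of_ne hmN (fun h => hne h.symm))

variable [Finite G]

/-- `W_K ≤ V` for a `J(T)`-component `K` of `L ∈ 𝓛(T)`. -/
theorem wOf_le_VG' (hL : IsCharacteristicTwoType G)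
    (hN : ∀ N : Subgroup G, IsTwoLocal N → Group.IsSolvable ↥N)
    (hZ : ∀ S : Sylow 2 G, Subgroup.centralizer (omegaCenterOf (S : Subgroup G) : Set G) ≤
      Subgroup.normalizer ((S : Subgroup G) : Set G))
    {T L K : Subgroup G} (hT : IsPGroup 2 ↥T) (hT1 : T ≠ ⊥) (hLT : L ∈ jOvergroups T)
    (hK : IsJComponent T K) (hKL : K ≤ L) : wOf K ≤ VG L := by
  obtain ⟨d, hd, hdQ, hd3⟩ := exists_d hK
  have hdL := hKL hd
  have h3 := hK.2.2.1
  by_cases hex : ∃ v ∈ VG L, ⁅v, d⁆ ≠ 1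
  · obtain ⟨v, hv, hne⟩ := hex
    have hzW : ⁅v, d⁆ ∈ wOf K := commutator_VG_mem_wOf hL hN hZ hT hT1 hLT hK hKL hd hd3 hv
    have hzV : ⁅v, d⁆ ∈ VG L := by
      have e : ⁅v, d⁆ = v * (d * v⁻¹ * d⁻¹) := by rw [commutatorElement_def]; group
      rw [e]
      exact (VG L).mul_mem hv (conj_mem_VG hLT hdL ((VG L).inv_mem hv))
    exact wOf_le_VG hLT hK hKL hne hzV hzW
  · exfalso
    push Not at hex
    have hdC : d ∈ CG L := by
      apply mem_CG_of_comm hdL
      intro v hv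
      have h1 := hex v hv
      rw [commutatorElement_def] at h1
      calc d * v = (v * d * v⁻¹ * d⁻¹)⁻¹ * v * d := by group
        _ = v * d := by rw [h1]; group
    have hQC : pCoreOf 2 K ≤ CG L := component_pCoreOf_le_CG hN hLT hK hKL
    have hKC : K ≤ CG L := by
      intro x hx
      rcases cases_of_mem h3 hd hdQ hd3 hx with h | h | h
      · exact hQC h
      · have : x = d * (d⁻¹ * x) := by group
        rw [this]; exact (CG L).mul_mem hdC (hQC h)
      · have : x = d⁻¹ * (d * x) := by group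
        rw [this]; exact (CG L).mul_mem ((CG L).inv_mem hdC) (hQC h)
    have hKT : K ≤ Subgroup.normalizer (T : Set G) := hKC.trans (CG_le_normalizer hZ hLT)
    have hcomm : ⁅K, thompsonSubgroupOf 2 T⁆ ≤ T := by
      rw [Subgroup.commutator_le]
      intro k hk j hj
      have hjT : j ∈ T := thompsonSubgroupOf_le 2 T hj
      rw [commutatorElement_def]
      exact T.mul_mem ((Subgroup.mem_normalizer_iff.mp (hKT hk) j).mp hjT) (T.inv_mem hjT)
    rw [hK.2.1] at hcomm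
    obtain ⟨k, hk⟩ := hT ⟨d, hcomm hd⟩
    have hk' : d ^ (2 ^ k) = 1 := by simpa using congrArg Subtype.val hk
    exact hdQ (mem_pCoreOf_of_two_pow h3 hd hk')

/-- Distinct `J(T)`-components of `L ∈ 𝓛(T)` centralize each other's `W`. -/
theorem component_centralizes_wOf (hL : IsCharacteristicTwoType G)
    (hN : ∀ N : Subgroup G, IsTwoLocal N → Group.IsSolvable ↥N)
    (hZ : ∀ S : Sylow 2 G, Subgroup.centralizer (omegaCenterOf (S : Subgroup G) : Set G) ≤
      Subgroup.normalizer ((S : Subgroup G) : Set G))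
    {T L K₁ K₂ : Subgroup G} (hT : IsPGroup 2 ↥T) (hT1 : T ≠ ⊥) (hLT : L ∈ jOvergroups T)
    (hK₁ : IsJComponent T K₁) (hK₂ : IsJComponent T K₂) (hKL₁ : K₁ ≤ L) (hKL₂ : K₂ ≤ L)
    (hne : K₁ ≠ K₂) : K₂ ≤ Subgroup.centralizer ((wOf K₁ : Subgroup G) : Set G) := by
  have hS := hLT.1
  have hWV₁ := wOf_le_VG' hL hN hZ hT hT1 hLT hK₁ hKL₁
  obtain ⟨d₁, hd₁, hdQ₁, hd₁3⟩ := exists_d hK₁
  obtain ⟨d₂, hd₂, hdQ₂, hd₂3⟩ := exists_d hK₂
  have hc : ⁅d₂, d₁⁆ ∈ CG L :=
    commutator_RG_mem hN hLT (component_le_RG hS hK₂ hKL₂ hd₂) (component_le_RG hS hK₁ hKL₁ hd₁)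
  have hconj : ∀ w ∈ wOf K₁, d₂ * w * d₂⁻¹ ∈ wOf K₁ := fun w hw =>
    conj_mem_wOf hL hN hZ hT hT1 hLT hK₁ hKL₁ hd₁ hdQ₁ hd₁3 hWV₁ (hKL₂ hd₂) hc hw
  have hd₂N : d₂ ∈ Subgroup.normalizer ((wOf K₁ : Subgroup G) : Set G) := by
    apply mem_normalizer_of_map_conj_le
    rintro _ ⟨w, hw, rfl⟩
    simp only [MulEquiv.coe_toMonoidHom, MulAut.conj_apply]
    exact hconj w hw
  have hd₂C : ∀ w ∈ wOf K₁, d₂ * w * d₂⁻¹ = w := by
    by_contra hcon
    push Not at hcon
    obtain ⟨w, hw, hwne⟩ := hcon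
    have hfp := JSub.fpf_of_ne hK₁.2.2.2.2.1 hK₁.2.2.2.2.2 hd₂3 hd₂N hw hwne
    haveI : Finite ↥(wOf K₁) := inferInstance
    have hsur := JSub.surj_of_fpf hd₂N hfp
    have hle : wOf K₁ ≤ wOf K₂ := by
      intro x hx
      obtain ⟨u, hu, rfl⟩ := hsur x hx
      have := commutator_VG_mem_wOf hL hN hZ hT hT1 hLT hK₂ hKL₂ hd₂ hd₂3 (hWV₁ hu)
      rwa [commutatorElement_def] at this
    have hw1 : w ≠ 1 := by
      rintro rfl
      apply hwne
      group
    apply hne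
    apply le_antisymm
    · exact component_le_of_common hL hN hZ hT hT1 hLT hK₂ hK₁ hKL₂ hKL₁ hw1 (hWV₁ hw)
        (hle hw) hw
    · exact component_le_of_common hL hN hZ hT hT1 hLT hK₁ hK₂ hKL₁ hKL₂ hw1 (hWV₁ hw)
        hw (hle hw)
  have hQC : pCoreOf 2 K₂ ≤ Subgroup.centralizer ((wOf K₁ : Subgroup G) : Set G) := by
    intro q hq
    rw [Subgroup.mem_centralizer_iff]
    intro w hw
    exact (CG_comm (component_pCoreOf_le_CG hN hLT hK₂ hKL₂ hq) (hWV₁ hw)).symm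
  have hdC : d₂ ∈ Subgroup.centralizer ((wOf K₁ : Subgroup G) : Set G) := by
    rw [Subgroup.mem_centralizer_iff]
    intro w hw
    have := hd₂C w hw
    calc w * d₂ = (d₂ * w * d₂⁻¹) * d₂ := by rw [this]
      _ = d₂ * w := by group
  intro x hx
  rcases cases_of_mem hK₂.2.2.1 hd₂ hdQ₂ hd₂3 hx with h | h | h
  · exact hQC h
  · have : x = d₂ * (d₂⁻¹ * x) := by group
    rw [this]; exact Subgroup.mul_mem _ hdC (hQC h)
  · have : x = d₂⁻¹ * (d₂ * x) := by group
    rw [this]; exact Subgroup.mul_mem _ (Subgroup.inv_mem _ hdC) (hQC h)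

/-- `J(T)`-components of `L ∈ 𝓛(T)` normalize each other's `W`. -/
theorem component_le_normalizer_wOf (hL : IsCharacteristicTwoType G)
    (hN : ∀ N : Subgroup G, IsTwoLocal N → Group.IsSolvable ↥N)
    (hZ : ∀ S : Sylow 2 G, Subgroup.centralizer (omegaCenterOf (S : Subgroup G) : Set G) ≤
      Subgroup.normalizer ((S : Subgroup G) : Set G))
    {T L K₁ K₂ : Subgroup G} (hT : IsPGroup 2 ↥T) (hT1 : T ≠ ⊥) (hLT : L ∈ jOvergroups T)
    (hK₁ : IsJComponent T K₁) (hK₂ : IsJComponent T K₂) (hKL₁ : K₁ ≤ L) (hKL₂ : K₂ ≤ L) :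
    K₂ ≤ Subgroup.normalizer ((wOf K₁ : Subgroup G) : Set G) := by
  by_cases hne : K₁ = K₂
  · rw [← hne]
    exact Subgroup.le_normalizer.trans (normalizer_le_normalizer_wOf hK₁.2.2.1)
  · exact (component_centralizes_wOf hL hN hZ hT hT1 hLT hK₁ hK₂ hKL₁ hKL₂ hne).trans
      (Subgroup.centralizer_le_normalizer _)

/-- A member `L` of `𝓛(T)` is generated by `N_L(J(T))` and its `J(T)`-components. -/
theorem le_of_components_le
    (hN : ∀ N : Subgroup G, IsTwoLocal N → Group.IsSolvable ↥N)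
    (hZ : ∀ S : Sylow 2 G, Subgroup.centralizer (omegaCenterOf (S : Subgroup G) : Set G) ≤
      Subgroup.normalizer ((S : Subgroup G) : Set G))
    {T L M' : Subgroup G} (hLT : L ∈ jOvergroups T)
    (hNJ : L ⊓ Subgroup.normalizer ((thompsonSubgroupOf 2 T : Subgroup G) : Set G) ≤ M')
    (hcomp : ∀ K, IsJComponent T K → K ≤ L → K ≤ M') : L ≤ M' := by
  have hS := hLT.1
  have hTM : T ≤ M' := (le_inf hS.1 (le_normalizer_thompson T)).trans hNJ
  have hCM : CG L ≤ M' :=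
    (le_inf (CG_le L)
      ((CG_le_normalizer hZ hLT).trans (normalizer_le_normalizer_thompson T))).trans hNJ
  have hJM : thompsonSubgroupOf 2 T ≤ M' := (thompsonSubgroupOf_le 2 T).trans hTM
  have hYM := JOut.thompson_le_of_components_le hN hZ hLT hCM hJM hcomp
  have hYL : thompsonSubgroupOf 2 L ≤ L := thompsonSubgroupOf_le 2 L
  have hLY : L ≤ Subgroup.normalizer ((thompsonSubgroupOf 2 L : Subgroup G) : Set G) :=
    le_normalizer_thompson L
  have hSY := JOut.isSylowTwoIn_inf hS hYL hLY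
  have hJP : thompsonSubgroupOf 2 T ≤ T ⊓ thompsonSubgroupOf 2 L :=
    le_inf (thompsonSubgroupOf_le 2 T) (thompson_le_thompson hS)
  have hJeq := thompson_eq_of_le hJP inf_le_left
  intro g hg
  have h1 : (T ⊓ thompsonSubgroupOf 2 L).map (MulAut.conj g).toMonoidHom ≤
      thompsonSubgroupOf 2 L := by
    have h := map_conj_eq_of_mem_normalizer (hLY hg)
    calc (T ⊓ thompsonSubgroupOf 2 L).map (MulAut.conj g).toMonoidHom
        ≤ (thompsonSubgroupOf 2 L).map (MulAut.conj g).toMonoidHom :=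
          Subgroup.map_mono inf_le_right
      _ = thompsonSubgroupOf 2 L := h
  have h2 : IsPGroup 2 ↥((T ⊓ thompsonSubgroupOf 2 L).map (MulAut.conj g).toMonoidHom) :=
    hSY.2.1.map _
  obtain ⟨y, hy, hle⟩ := exists_conj_le hSY h1 h2
  rw [← map_conj_mul] at hle
  have h3 : y * g ∈ Subgroup.normalizer ((T ⊓ thompsonSubgroupOf 2 L : Subgroup G) : Set G) :=
    mem_normalizer_of_map_conj_le hle
  have h4 := normalizer_le_normalizer_thompson _ h3
  rw [hJeq] at h4
  have h5 : y * g ∈ M' := hNJ ⟨L.mul_mem (hYL hy) hg, h4⟩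
  have : g = y⁻¹ * (y * g) := by group
  rw [this]
  exact M'.mul_mem (M'.inv_mem (hYM hy)) h5

end Cfsg.Agent.Lib.Helper17.JMaxLoc
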