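import Cfsg.Agent.Lib.Helper28.BSGSPerm

/-! # S2088-[B] (helper7's L3(4) front): the seven generators as packed tables on helper28's 24 points,
and the extra strong generators of the two Schreier-Sims chains as words in the top generators -/

set_option autoImplicit false

namespace Cfsg.Agent.Lib.Helper7.L34.Helper17

/-- the tables of `y, v, s, t` (and of their inverses) -/
def topG : List (ℕ × ℕ) := [
  (979360321807190032150051334485757984, 976844568201080232813473458146659360),
  (976967525975146326061018267377109024, 960723930279081571572176547144665120),
  (960174762236172527300181729330502688, 982786895959030766067810880335856672),
  (984048365512595265965410801738502176, 984754419788800394944301477929767968)]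

/-- the extra strong generators of the chain of `<y,v,s,t>`, as words in `y, v, s, t` -/
def itemsG : List ((ℕ × ℕ) × List ℕ) := [
  ((980875182521420409140100838005516320, 979140546200020215210228852175522848), [3, 6, 0, 6, 4]),
  ((984559288045672395699075860841728032, 984436632068016323118584907140532256), [2, 4, 1, 6, 0]),
  ((979121071158219704299181131031480352, 979121071158219704299181131031480352), [0, 0, 6, 3, 6, 1, 3]),
  ((972606645568131968584696805283956768, 976531636853126291160407323722221600), [1, 7, 3, 1, 5, 7])]

/-- the tables of `i, j, t'` (and of their inverses) -/
def topH : List (ℕ × ℕ) := [
  (976907894520423640927997288916428832, 977719166746614205159844388160284704),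
  (970174446155353408420897887135284256, 980355541136540708751864682592287776),
  (976535332656625866811670459970588704, 976535332656625866811670459970588704)]

/-- the extra strong generators of the chain of `<i,j,t'>`, as words in `i, j, t'` -/
def itemsH : List ((ℕ × ℕ) × List ℕ) := [
  ((974422238081544939122441376219924512, 974422238081544939122441376219924512), [0, 4, 1]),
  ((976531636853126291160407323722221600, 972606645568131968584696805283956768), [0, 4, 0])]

/-- the table of the identity -/
def idT : ℕ := 984818244535754528103549039458486304

end Cfsg.Agent.Lib.Helper7.L34.Helper17
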