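import Mathlib
import Cfsg.Agent.Lib.Helper28.L34
import Cfsg.Agent.Lib.Helper21.SuzOP3
import Cfsg.Agent.H5.TCkSound
import Cfsg.Agent.H5.StemTC

/-!
# S2088-[B] (helper7's L3(4) front): glue between `PSL(3, K4)`, helper28's action on the 24 Golay
points, packed tables and path certificates
-/

set_option autoImplicit false

namespace Cfsg.Agent.Lib.Helper7.L34.Helper17

open Cfsg Cfsg.H5.TCk
open Cfsg.Agent.Lib.Helper6.FFour
open Cfsg.Agent.Lib.Helper28 (psi psiFun psi_apply psi_scalar psi_transvection_ne_one ptInv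
  pt_ptInv ptInv_pt)
open Cfsg.Agent.Lib.Helper28.BSGS
open Cfsg.Agent.Lib.Helper22.SuzOut

/-! ## the faithful action of `PSL(3, K4)` on `Fin 24` -/

theorem center_le_ker4 :
    Subgroup.center (Matrix.SpecialLinearGroup (Fin 3) K4) ≤ (psi).ker := by
  intro A hA
  rw [MonoidHom.mem_ker]
  obtain ⟨r, hr, hrA⟩ := Matrix.SpecialLinearGroup.mem_center_iff.mp hA
  have hr0 : r ≠ 0 := by
    rintro rfl
    simp at hr
  exact psi_scalar A r hr0 hrA.symm

/-- the action of `PSL(3, K4)` on the Golay points -/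
noncomputable def psiBar4 :
    Matrix.ProjectiveSpecialLinearGroup (Fin 3) K4 →* Equiv.Perm GolayPt :=
  QuotientGroup.lift _ psi center_le_ker4

theorem psiBar4_mk (A : Matrix.SpecialLinearGroup (Fin 3) K4) :
    psiBar4 (QuotientGroup.mk A) = psi A := rfl

theorem psiBar4_injective : Function.Injective psiBar4 := by
  haveI : IsSimpleGroup (Matrix.ProjectiveSpecialLinearGroup (Fin 3) K4) :=
    Cfsg.Agent.Lib.Helper15.PSLn_isSimpleGroup (by rw [Fintype.card_fin])
  rw [← MonoidHom.ker_eq_bot_iff]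
  rcases psiBar4.normal_ker.eq_bot_or_eq_top with h | h
  · exact h
  · exfalso
    have h1 : (QuotientGroup.mk (Matrix.SpecialLinearGroup.transvection
        (show (0 : Fin 3) ≠ 1 by decide) (1 : K4)) :
        Matrix.ProjectiveSpecialLinearGroup (Fin 3) K4) ∈ psiBar4.ker := by
      rw [h]; exact Subgroup.mem_top _
    rw [MonoidHom.mem_ker, psiBar4_mk] at h1
    exact psi_transvection_ne_one h1

/-- the numbering of the Golay points -/
def e24 : GolayPt ≃ Fin 24 := ⟨ptInv, Helper4.pt, pt_ptInv, ptInv_pt⟩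

/-- the action of `PSL(3, K4)` on `Fin 24` -/
noncomputable def Psi : Matrix.ProjectiveSpecialLinearGroup (Fin 3) K4 →* Equiv.Perm (Fin 24) :=
  (e24.permCongrHom).toMonoidHom.comp psiBar4

theorem Psi_mk_apply (A : Matrix.SpecialLinearGroup (Fin 3) K4) (k : Fin 24) :
    Psi (QuotientGroup.mk A) k =
      ptInv (psiFun (A : Matrix (Fin 3) (Fin 3) K4) (Helper4.pt k)) := rfl

theorem Psi_injective : Function.Injective Psi := by
  intro a b hab
  apply psiBar4_injective
  exact (e24.permCongrHom).injective hab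

theorem Psi_mk_eq (A : Matrix.SpecialLinearGroup (Fin 3) K4) (tu tv : ℕ)
    (hp : pairOK 24 5 tu tv = true)
    (h : ∀ k : Fin 24,
      (ptInv (psiFun (A : Matrix (Fin 3) (Fin 3) K4) (Helper4.pt k))).val = look 5 tu k.val) :
    Psi (QuotientGroup.mk A) = permOf 24 5 tu tv := by
  apply Equiv.ext
  intro k
  apply Fin.ext
  rw [permOf_apply hp, Psi_mk_apply]
  exact h k

/-! ## words and paths -/

theorem ev_eq_pathPerm (n w : ℕ) (gens : List (ℕ × ℕ)) (γ : ℕ → Equiv.Perm (Fin n))
    (hγ : ∀ i, γ i = permOf n w (gens.getD i (0, 0)).1 (gens.getD i (0, 0)).2) (cs : List ℕ) :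
    ev γ cs = pathPerm n w gens cs := by
  induction cs with
  | nil => rfl
  | cons c cs ih =>
    rw [pathPerm_cons, ← ih]
    show gl γ c * ev γ cs = _
    congr 1
    unfold gl letterPerm
    rw [hγ]

/-- a word whose path certificate gives the identity tables evaluates to one -/
theorem ev_eq_one_of_pathOK {G : Type*} [Group G] (n w : ℕ) [NeZero n] (Φ : G →* Equiv.Perm (Fin n))
    (hΦ : Function.Injective Φ) (gens : List (ℕ × ℕ)) (hg : gensOK n w gens = true) (γ : ℕ → G)
    (hγ : ∀ i, Φ (γ i) = permOf n w (gens.getD i (0, 0)).1 (gens.getD i (0, 0)).2)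
    (it : ℕ) (hit : ∀ k : Fin n, look w it k.val = k.val)
    (r : List ℕ) (hr : pathOK n w gens (0, it, it) r = true) : ev γ r = 1 := by
  apply hΦ
  rw [map_one, Cfsg.H5.StemTC.map_ev, ev_eq_pathPerm n w gens _ hγ]
  obtain ⟨hp, heq, -⟩ := path_sound n w gens hg (0, it, it) r hr
  rw [← heq]
  apply Equiv.ext
  intro k
  apply Fin.ext
  rw [permOf_apply hp]
  exact hit k

/-! ## generated subgroups -/

theorem map_closure_eq_genGroup {G : Type*} [Group G] (n w : ℕ) [NeZero n] (Φ : G →* Equiv.Perm (Fin n))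
    (k : ℕ) (γ : ℕ → G) (gens : List (ℕ × ℕ)) (hlen : gens.length = k)
    (hγ : ∀ i, Φ (γ i) = permOf n w (gens.getD i (0, 0)).1 (gens.getD i (0, 0)).2) :
    (Subgroup.closure (Set.range fun i : Fin k => γ i.val)).map Φ = genGroup n w gens := by
  rw [MonoidHom.map_closure]
  unfold genGroup
  congr 1
  ext s
  constructor
  · rintro ⟨x, ⟨i, rfl⟩, rfl⟩
    show Φ (γ i.val) ∈ semGens n w gens
    rw [hγ]
    have hi : i.val < gens.length := by rw [hlen]; exact i.isLt
    rw [List.getD_eq_getElem _ _ hi]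
    exact mem_semGens n w (List.getElem_mem hi)
  · intro hs
    obtain ⟨p, hp, rfl⟩ := List.mem_map.mp hs
    obtain ⟨i, hi, rfl⟩ := List.getElem_of_mem hp
    refine ⟨γ i, ⟨⟨i, by rw [← hlen]; exact hi⟩, rfl⟩, ?_⟩
    rw [hγ, List.getD_eq_getElem _ _ hi]

theorem card_closure_eq {G : Type*} [Group G] (n w : ℕ) [NeZero n] (Φ : G →* Equiv.Perm (Fin n))
    (hΦ : Function.Injective Φ)
    (k : ℕ) (γ : ℕ → G) (gens : List (ℕ × ℕ)) (hlen : gens.length = k)
    (hγ : ∀ i, Φ (γ i) = permOf n w (gens.getD i (0, 0)).1 (gens.getD i (0, 0)).2) :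
    Nat.card (Subgroup.closure (Set.range fun i : Fin k => γ i.val)) =
      Nat.card (genGroup n w gens) := by
  rw [← map_closure_eq_genGroup n w Φ k γ gens hlen hγ]
  exact (Subgroup.card_map_of_injective hΦ).symm

theorem permOf_zero : permOf 24 5 0 0 = 1 := by
  unfold permOf
  rw [dif_neg]
  decide

end Cfsg.Agent.Lib.Helper7.L34.Helper17
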