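import Cfsg.Agent.Lib.Helper17.L34PHCertA
import Cfsg.Agent.Lib.Helper17.L34PHCertS0

/-!
# A verified Schreier–Sims chain on 24 points: 3^2:Q8 = <i,j,t'> on the 24 Golay points
-/

set_option autoImplicit false
set_option maxRecDepth 100000

namespace Cfsg.Agent.Lib.Helper7.L34.Helper17.PH

open Cfsg.Agent.Lib.Helper28.BSGS Cfsg.Agent.Lib.Helper11.Ico

theorem sift0_all :
    gens.all (fun g => tr0.all fun e => siftB 24 5 ((2, tr0) :: rest1) [g.1, e.2.1]) = true := by
  apply all_getD gens (0, 0)
  intro i hi
  rw [gens_length] at hi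
  interval_cases i
  · exact sift0_0
  · exact sift0_1
  · exact sift0_2
  · exact sift0_3
  · exact sift0_4

theorem level0_ok : levelOK 24 5 gens (2, tr0) rest1 = true := by
  show ((decide ((2 : ℕ) < 24) && headOK 24 5 2 tr0 && tr0.all (entryOK 24 5 2) &&
    nodupB (tr0.map fun e => e.1) &&
    orbitOK 5 gens [2] ((tr0.map fun e => e.1).tail)) &&
    gens.all (fun g => tr0.all fun e => siftB 24 5 ((2, tr0) :: rest1) [g.1, e.2.1])) = true
  rw [Bool.and_eq_true]
  exact ⟨l0_static, sift0_all⟩

theorem chain0_ok : checkChain 24 5 gens rest0 = true := by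
  show (levelOK 24 5 gens (2, tr0) rest1 &&
    checkChain 24 5 (nextGens 5 gens 2) rest1) = true
  rw [level0_ok, nextGens0, chain1_ok]
  rfl

theorem chain_ok : checkChain 24 5 gens levels = true := chain0_ok

/-- **The group generated by the tables has order 72.** -/
theorem card_genGroup : Nat.card (genGroup 24 5 gens) = 72 := by
  rw [← size_ok]
  exact (perm_main 24 5 gens levels gens_ok chain_ok).1

end Cfsg.Agent.Lib.Helper7.L34.Helper17.PH
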