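import Mathlib
import Cfsg.Agent.Lib.Helper17.L34BGlue
import Cfsg.Agent.Lib.Helper17.L34BData
import Cfsg.Agent.Lib.Helper17.L34PGCert
import Cfsg.Agent.Lib.Helper17.L34PHCert
import Cfsg.Agent.Lib.Helper7.L34Data
import Cfsg.Agent.Lib.Helper16.PSL42

/-!
# S2088-[B] (helper7's L3(4) front): the concrete generators of `PSL(3, K4)`, their tables on the 24
Golay points, the relator checks and the two orders
-/

set_option autoImplicit false

namespace Cfsg.Agent.Lib.Helper7.L34.Helper17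

open Cfsg Cfsg.H5.TCk
open Cfsg.Agent.Lib.Helper6.FFour
open Cfsg.Agent.Lib.Helper28 (psi psiFun ptInv)
open Cfsg.Agent.Lib.Helper28.BSGS
open Cfsg.Agent.Lib.Helper22.SuzOut

/-! ## the seven matrices -/

def mY : Matrix (Fin 3) (Fin 3) K4 := !![K4.o, K4.o, K4.i; K4.i, K4.v, K4.v; K4.i, K4.w, K4.o]
def mV : Matrix (Fin 3) (Fin 3) K4 := !![K4.i, K4.w, K4.o; K4.o, K4.v, K4.o; K4.v, K4.i, K4.w]
def mS : Matrix (Fin 3) (Fin 3) K4 := !![K4.i, K4.i, K4.w; K4.i, K4.w, K4.v; K4.w, K4.v, K4.v]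
def mT : Matrix (Fin 3) (Fin 3) K4 := !![K4.o, K4.i, K4.v; K4.i, K4.o, K4.w; K4.i, K4.i, K4.o]
def mI : Matrix (Fin 3) (Fin 3) K4 := !![K4.i, K4.v, K4.v; K4.i, K4.i, K4.w; K4.v, K4.i, K4.v]
def mJ : Matrix (Fin 3) (Fin 3) K4 := !![K4.i, K4.i, K4.v; K4.w, K4.i, K4.w; K4.i, K4.w, K4.w]
def mT' : Matrix (Fin 3) (Fin 3) K4 := !![K4.o, K4.o, K4.i; K4.o, K4.i, K4.o; K4.i, K4.o, K4.o]

theorem det_mY : mY.det = 1 := by rw [Matrix.det_fin_three]; decide
theorem det_mV : mV.det = 1 := by rw [Matrix.det_fin_three]; decide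
theorem det_mS : mS.det = 1 := by rw [Matrix.det_fin_three]; decide
theorem det_mT : mT.det = 1 := by rw [Matrix.det_fin_three]; decide
theorem det_mI : mI.det = 1 := by rw [Matrix.det_fin_three]; decide
theorem det_mJ : mJ.det = 1 := by rw [Matrix.det_fin_three]; decide
theorem det_mT' : mT'.det = 1 := by rw [Matrix.det_fin_three]; decide

def sY : Matrix.SpecialLinearGroup (Fin 3) K4 := ⟨mY, det_mY⟩
def sV : Matrix.SpecialLinearGroup (Fin 3) K4 := ⟨mV, det_mV⟩
def sS : Matrix.SpecialLinearGroup (Fin 3) K4 := ⟨mS, det_mS⟩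
def sT : Matrix.SpecialLinearGroup (Fin 3) K4 := ⟨mT, det_mT⟩
def sI : Matrix.SpecialLinearGroup (Fin 3) K4 := ⟨mI, det_mI⟩
def sJ : Matrix.SpecialLinearGroup (Fin 3) K4 := ⟨mJ, det_mJ⟩
def sT' : Matrix.SpecialLinearGroup (Fin 3) K4 := ⟨mT', det_mT'⟩

/-! ## their tables -/

set_option maxRecDepth 100000 in
theorem tab_Y : ∀ k : Fin 24, (ptInv (psiFun mY (Helper4.pt k))).val =
    look 5 (topG.getD 0 (0, 0)).1 k.val := by decide +kernel

set_option maxRecDepth 100000 in
theorem tab_V : ∀ k : Fin 24, (ptInv (psiFun mV (Helper4.pt k))).val =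
    look 5 (topG.getD 1 (0, 0)).1 k.val := by decide +kernel

set_option maxRecDepth 100000 in
theorem tab_S : ∀ k : Fin 24, (ptInv (psiFun mS (Helper4.pt k))).val =
    look 5 (topG.getD 2 (0, 0)).1 k.val := by decide +kernel

set_option maxRecDepth 100000 in
theorem tab_T : ∀ k : Fin 24, (ptInv (psiFun mT (Helper4.pt k))).val =
    look 5 (topG.getD 3 (0, 0)).1 k.val := by decide +kernel

set_option maxRecDepth 100000 in
theorem tab_I : ∀ k : Fin 24, (ptInv (psiFun mI (Helper4.pt k))).val =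
    look 5 (topH.getD 0 (0, 0)).1 k.val := by decide +kernel

set_option maxRecDepth 100000 in
theorem tab_J : ∀ k : Fin 24, (ptInv (psiFun mJ (Helper4.pt k))).val =
    look 5 (topH.getD 1 (0, 0)).1 k.val := by decide +kernel

set_option maxRecDepth 100000 in
theorem tab_T' : ∀ k : Fin 24, (ptInv (psiFun mT' (Helper4.pt k))).val =
    look 5 (topH.getD 2 (0, 0)).1 k.val := by decide +kernel

theorem topG_ok : gensOK 24 5 topG = true := by decide +kernel

theorem topH_ok : gensOK 24 5 topH = true := by decide +kernel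

/-- the generators `y, v, s, t` of `PSL(3, K4)` -/
noncomputable def gK : ℕ → Matrix.ProjectiveSpecialLinearGroup (Fin 3) K4
  | 0 => QuotientGroup.mk sY
  | 1 => QuotientGroup.mk sV
  | 2 => QuotientGroup.mk sS
  | 3 => QuotientGroup.mk sT
  | _ => 1

/-- the generators `i, j, t'` of the subgroup `3^2:Q8` of `PSL(3, K4)` -/
noncomputable def hK : ℕ → Matrix.ProjectiveSpecialLinearGroup (Fin 3) K4
  | 0 => QuotientGroup.mk sI
  | 1 => QuotientGroup.mk sJ
  | 2 => QuotientGroup.mk sT'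
  | _ => 1

theorem Psi_gK : ∀ i, Psi (gK i) = permOf 24 5 (topG.getD i (0, 0)).1 (topG.getD i (0, 0)).2
  | 0 => Psi_mk_eq sY _ _ (gensOK_spec 24 5 topG_ok _ (by decide)) tab_Y
  | 1 => Psi_mk_eq sV _ _ (gensOK_spec 24 5 topG_ok _ (by decide)) tab_V
  | 2 => Psi_mk_eq sS _ _ (gensOK_spec 24 5 topG_ok _ (by decide)) tab_S
  | 3 => Psi_mk_eq sT _ _ (gensOK_spec 24 5 topG_ok _ (by decide)) tab_T
  | (i + 4) => by
    have h : topG.getD (i + 4) (0, 0) = (0, 0) :=
      List.getD_eq_default _ _ (by show 4 ≤ i + 4; omega)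
    rw [h]
    show Psi 1 = _
    rw [map_one]
    exact permOf_zero.symm

theorem Psi_hK : ∀ i, Psi (hK i) = permOf 24 5 (topH.getD i (0, 0)).1 (topH.getD i (0, 0)).2
  | 0 => Psi_mk_eq sI _ _ (gensOK_spec 24 5 topH_ok _ (by decide)) tab_I
  | 1 => Psi_mk_eq sJ _ _ (gensOK_spec 24 5 topH_ok _ (by decide)) tab_J
  | 2 => Psi_mk_eq sT' _ _ (gensOK_spec 24 5 topH_ok _ (by decide)) tab_T'
  | (i + 3) => by
    have h : topH.getD (i + 3) (0, 0) = (0, 0) :=
      List.getD_eq_default _ _ (by show 3 ≤ i + 3; omega)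
    rw [h]
    show Psi 1 = _
    rw [map_one]
    exact permOf_zero.symm

/-! ## the relators -/

theorem look_idT : ∀ k : Fin 24, look 5 idT k.val = k.val := by decide +kernel

theorem relsCov_ok : relsCov.all (fun r => pathOK 24 5 topG (0, idT, idT) r) = true := by
  decide +kernel

theorem wordK_ok : (pathOK 24 5 topG (0, idT, idT) wordKa &&
    pathOK 24 5 topG (0, idT, idT) wordKb) = true := by
  decide +kernel

theorem rels3_ok : rels3.all (fun r => pathOK 24 5 topH (0, idT, idT) r) = true := by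
  decide +kernel

/-! ## the orders -/

theorem seqG_ok : seqOK 24 5 topG itemsG = true := by decide +kernel

theorem seqH_ok : seqOK 24 5 topH itemsH = true := by decide +kernel

theorem gensG_eq : topG ++ itemsG.map (fun it => it.1) = PG.gens := by decide +kernel

theorem gensH_eq : topH ++ itemsH.map (fun it => it.1) = PH.gens := by decide +kernel

theorem card_genGroup_topG : Nat.card (genGroup 24 5 topG) = 20160 := by
  rw [← (seq_sound 24 5 topG itemsG topG_ok seqG_ok).2, gensG_eq]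
  exact PG.card_genGroup

theorem card_genGroup_topH : Nat.card (genGroup 24 5 topH) = 72 := by
  rw [← (seq_sound 24 5 topH itemsH topH_ok seqH_ok).2, gensH_eq]
  exact PH.card_genGroup

/-! ## the concrete statement -/

theorem exists_l34_data_K4 :
    ∃ g h : ℕ → Matrix.ProjectiveSpecialLinearGroup (Fin 3) K4,
      Subgroup.closure (Set.range fun i : Fin 4 => g i.val) = ⊤ ∧ (∀ r ∈ relsCov, ev g r = 1) ∧
      ev g wordKa = 1 ∧ ev g wordKb = 1 ∧
      Nat.card (Subgroup.closure (Set.range fun i : Fin 3 => h i.val)) = 72 ∧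
      (∀ r ∈ rels3, ev h r = 1) := by
  have hW := wordK_ok
  rw [Bool.and_eq_true] at hW
  refine ⟨gK, hK, ?_, ?_, ?_, ?_, ?_, ?_⟩
  · apply Subgroup.eq_top_of_card_eq
    rw [card_closure_eq 24 5 Psi Psi_injective 4 gK topG rfl Psi_gK, card_genGroup_topG]
    exact (Cfsg.Agent.Lib.Helper16.card_PSL34 (F := K4) (by decide)).symm
  · intro r hr
    exact ev_eq_one_of_pathOK 24 5 Psi Psi_injective topG topG_ok gK Psi_gK idT look_idT r
      (List.all_eq_true.mp relsCov_ok r hr)
  · exact ev_eq_one_of_pathOK 24 5 Psi Psi_injective topG topG_ok gK Psi_gK idT look_idT _ hW.1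
  · exact ev_eq_one_of_pathOK 24 5 Psi Psi_injective topG topG_ok gK Psi_gK idT look_idT _ hW.2
  · rw [card_closure_eq 24 5 Psi Psi_injective 3 hK topH rfl Psi_hK, card_genGroup_topH]
  · intro r hr
    exact ev_eq_one_of_pathOK 24 5 Psi Psi_injective topH topH_ok hK Psi_hK idT look_idT r
      (List.all_eq_true.mp rels3_ok r hr)

end Cfsg.Agent.Lib.Helper7.L34.Helper17
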