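import Mathlib
import Cfsg.Prelude.Def_Classical

/-!
# S2095 piece [TR]: field transport for `PΩ_{2m+1}`

A ring isomorphism `F ≃+* F'` induces `GL(ι, F) ≃* GL(ι, F')`, which maps the isometry group of
`quadFormOdd m F` onto that of `quadFormOdd m F'`; an isomorphism of groups induces isomorphisms of the
commutator subgroups and of the quotients by the centres.
-/

set_option autoImplicit false

namespace Cfsg.Agent.Lib.Helper2.O73Mult

open Cfsg Matrix

namespace Helper17

/-- an isomorphism of groups induces an isomorphism of the commutator subgroups -/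
theorem nonempty_commutator_equiv {A B : Type*} [Group A] [Group B] (ψ : A ≃* B) :
    Nonempty (commutator A ≃* commutator B) := by
  have h : (commutator A).map (ψ : A →* B) = commutator B := by
    rw [commutator_def, Subgroup.map_commutator, ← MonoidHom.range_eq_map,
      MonoidHom.range_eq_top.mpr ψ.surjective, ← commutator_def]
  exact ⟨(ψ.subgroupMap (commutator A)).trans (MulEquiv.subgroupCongr h)⟩

/-- an isomorphism of groups induces an isomorphism of the quotients by the centres -/
theorem nonempty_quot_center_equiv {C D : Type*} [Group C] [Group D] (χ : C ≃* D) :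
    Nonempty (C ⧸ Subgroup.center C ≃* D ⧸ Subgroup.center D) := by
  have h : (Subgroup.center C).map (χ : C →* D) = Subgroup.center D := by
    ext x
    constructor
    · rintro ⟨c, hc, rfl⟩
      rw [Subgroup.mem_center_iff]
      intro y
      obtain ⟨y', rfl⟩ := χ.surjective y
      have := Subgroup.mem_center_iff.mp hc y'
      show χ y' * χ c = χ c * χ y'
      rw [← map_mul, ← map_mul, this]
    · intro hx
      refine ⟨χ.symm x, ?_, χ.apply_symm_apply x⟩
      show χ.symm x ∈ Subgroup.center C
      rw [Subgroup.mem_center_iff]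
      intro y
      have := Subgroup.mem_center_iff.mp hx (χ y)
      apply χ.injective
      rw [map_mul, map_mul, χ.apply_symm_apply]
      exact this
  exact ⟨QuotientGroup.congr (Subgroup.center C) (Subgroup.center D) χ h⟩

variable {ι : Type} [Fintype ι] [DecidableEq ι] {F F' : Type*} [Field F] [Field F']

/-- the isomorphism of general linear groups induced by an isomorphism of fields -/
noncomputable def glEquiv (e : F ≃+* F') :
    Matrix.GeneralLinearGroup ι F ≃* Matrix.GeneralLinearGroup ι F' :=
  Units.mapEquiv (e.mapMatrix (m := ι)).toMulEquiv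

theorem glEquiv_mulVec (e : F ≃+* F') (g : Matrix.GeneralLinearGroup ι F) (u : ι → F) :
    ((glEquiv e g : Matrix.GeneralLinearGroup ι F') : Matrix ι ι F') *ᵥ (fun i => e (u i)) =
      fun i => e (((g : Matrix ι ι F) *ᵥ u) i) := by
  funext i
  have := RingHom.map_mulVec (e : F →+* F') (g : Matrix ι ι F) u i
  exact this.symm

theorem mem_isometryGroup_iff (Q : (ι → F) → F) (g : Matrix.GeneralLinearGroup ι F) :
    g ∈ isometryGroup F Q ↔ ∀ u : ι → F, Q ((g : Matrix ι ι F) *ᵥ u) = Q u := by
  constructor
  · intro h u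
    exact h u u
  · intro h u _
    exact h u

theorem glEquiv_mem_iff (e : F ≃+* F') (Q : (ι → F) → F) (Q' : (ι → F') → F')
    (hQ : ∀ v : ι → F, Q' (fun i => e (v i)) = e (Q v)) (g : Matrix.GeneralLinearGroup ι F) :
    glEquiv e g ∈ isometryGroup F' Q' ↔ g ∈ isometryGroup F Q := by
  rw [mem_isometryGroup_iff, mem_isometryGroup_iff]
  constructor
  · intro h u
    apply e.injective
    rw [← hQ, ← hQ, ← glEquiv_mulVec]
    exact h _
  · intro h u'
    have hu : u' = fun i => e (e.symm (u' i)) := by
      funext i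
      rw [e.apply_symm_apply]
    rw [hu, glEquiv_mulVec, hQ, hQ, h]

theorem nonempty_isometry_equiv (e : F ≃+* F') (Q : (ι → F) → F) (Q' : (ι → F') → F')
    (hQ : ∀ v : ι → F, Q' (fun i => e (v i)) = e (Q v)) :
    Nonempty (isometryGroup F Q ≃* isometryGroup F' Q') := by
  have h : (isometryGroup F Q).map
      ((glEquiv e : Matrix.GeneralLinearGroup ι F ≃* Matrix.GeneralLinearGroup ι F') :
        Matrix.GeneralLinearGroup ι F →* Matrix.GeneralLinearGroup ι F') = isometryGroup F' Q' := by
    ext x
    constructor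
    · rintro ⟨g, hg, rfl⟩
      exact (glEquiv_mem_iff e Q Q' hQ g).mpr hg
    · intro hx
      refine ⟨(glEquiv e).symm x, ?_, (glEquiv e).apply_symm_apply x⟩
      apply (glEquiv_mem_iff e Q Q' hQ _).mp
      rw [(glEquiv e).apply_symm_apply]
      exact hx
  exact ⟨((glEquiv e).subgroupMap (isometryGroup F Q)).trans (MulEquiv.subgroupCongr h)⟩

theorem quadFormOdd_map (e : F ≃+* F') (m : ℕ) (v : Unit ⊕ (Fin m ⊕ Fin m) → F) :
    quadFormOdd m F' (fun i => e (v i)) = e (quadFormOdd m F v) := by
  unfold quadFormOdd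
  rw [map_add, map_pow, map_sum]
  congr 1
  apply Finset.sum_congr rfl
  intro i _
  rw [map_mul]

end Helper17

open Helper17

theorem pomega_odd_equiv {F F' : Type*} [Field F] [Field F'] (e : F ≃+* F') (m : ℕ) :
    Nonempty (Cfsg.POmega F (Cfsg.quadFormOdd m F) ≃* Cfsg.POmega F' (Cfsg.quadFormOdd m F')) := by
  obtain ⟨ψ⟩ := nonempty_isometry_equiv e (quadFormOdd m F) (quadFormOdd m F')
    (quadFormOdd_map e m)
  obtain ⟨χ⟩ := nonempty_commutator_equiv ψ
  exact nonempty_quot_center_equiv χ

theorem pomega7_equiv {F : Type*} [Field F] [Fintype F] (hF : Fintype.card F = 3) :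
    Nonempty (Cfsg.POmega F (Cfsg.quadFormOdd 3 F) ≃*
      Cfsg.POmega (ZMod 3) (Cfsg.quadFormOdd 3 (ZMod 3))) :=
  pomega_odd_equiv (ZMod.ringEquivOfPrime F Nat.prime_three hF).symm 3

end Cfsg.Agent.Lib.Helper2.O73Mult
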