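import Mathlib
import Cfsg.Agent.Lib.Helper7.L34Data
import Cfsg.Agent.Lib.Helper6.FFour
import Cfsg.Agent.Lib.Helper17.O73MultTR

/-!
# S2088-[B] (helper7's L3(4) front): transport of the generator data along a group isomorphism, and
`PSL(3, K4) ≃* PSL(3, F)` for a field `F` with four elements (insurance copy of helper19's [B1])
-/

set_option autoImplicit false

namespace Cfsg.Agent.Lib.Helper7.L34.Helper17

universe u

open Cfsg Cfsg.H5.TCk
open Cfsg.Agent.Lib.Helper6.FFour

/-- a ring isomorphism induces an isomorphism of special linear groups -/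
noncomputable def slEquiv {R S : Type*} [CommRing R] [CommRing S] (e : R ≃+* S) :
    Matrix.SpecialLinearGroup (Fin 3) R ≃* Matrix.SpecialLinearGroup (Fin 3) S where
  toFun := Matrix.SpecialLinearGroup.map (e : R →+* S)
  invFun := Matrix.SpecialLinearGroup.map (e.symm : S →+* R)
  left_inv := by
    intro A
    apply Subtype.ext
    ext i j
    simp [Matrix.SpecialLinearGroup.map_apply_coe, RingHom.mapMatrix_apply]
  right_inv := by
    intro A
    apply Subtype.ext
    ext i j
    simp [Matrix.SpecialLinearGroup.map_apply_coe, RingHom.mapMatrix_apply]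
  map_mul' := map_mul _

theorem nonempty_psl3_equiv {F : Type u} [Field F] [Fintype F] (hF : Fintype.card F = 4) :
    Nonempty (Matrix.ProjectiveSpecialLinearGroup (Fin 3) K4 ≃*
      Matrix.ProjectiveSpecialLinearGroup (Fin 3) F) := by
  have hc : Fintype.card K4 = Fintype.card F := by rw [hF]; decide
  exact Cfsg.Agent.Lib.Helper2.O73Mult.Helper17.nonempty_quot_center_equiv
    (slEquiv (FiniteField.ringEquivOfCardEq hc))

theorem transport_data {G : Type*} {G' : Type*} [Group G] [Group G'] (e : G ≃* G')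
    (hK : ∃ g h : ℕ → G,
      Subgroup.closure (Set.range fun i : Fin 4 => g i.val) = ⊤ ∧ (∀ r ∈ relsCov, ev g r = 1) ∧
      ev g wordKa = 1 ∧ ev g wordKb = 1 ∧
      Nat.card (Subgroup.closure (Set.range fun i : Fin 3 => h i.val)) = 72 ∧
      (∀ r ∈ rels3, ev h r = 1)) :
    ∃ g h : ℕ → G',
      Subgroup.closure (Set.range fun i : Fin 4 => g i.val) = ⊤ ∧ (∀ r ∈ relsCov, ev g r = 1) ∧
      ev g wordKa = 1 ∧ ev g wordKb = 1 ∧
      Nat.card (Subgroup.closure (Set.range fun i : Fin 3 => h i.val)) = 72 ∧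
      (∀ r ∈ rels3, ev h r = 1) := by
  obtain ⟨g, h, h1, h2, h3, h4, h5, h6⟩ := hK
  have hev : ∀ (γ : ℕ → G) (w : List ℕ), ev (fun i => e (γ i)) w = e (ev γ w) :=
    fun γ w => (Cfsg.H5.StemTC.map_ev e.toMonoidHom γ w).symm
  refine ⟨fun i => e (g i), fun i => e (h i), ?_, ?_, ?_, ?_, ?_, ?_⟩
  · have hs : (Set.range fun i : Fin 4 => e (g i.val)) =
        e.toMonoidHom '' (Set.range fun i : Fin 4 => g i.val) := by
      rw [← Set.range_comp]; rfl
    rw [hs, ← MonoidHom.map_closure, h1, ← MonoidHom.range_eq_map, MonoidHom.range_eq_top]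
    exact e.surjective
  · intro r hr; rw [hev, h2 r hr, map_one]
  · rw [hev, h3, map_one]
  · rw [hev, h4, map_one]
  · have hs : (Set.range fun i : Fin 3 => e (h i.val)) =
        e.toMonoidHom '' (Set.range fun i : Fin 3 => h i.val) := by
      rw [← Set.range_comp]; rfl
    rw [hs, ← MonoidHom.map_closure, Subgroup.card_map_of_injective e.injective, h5]
  · intro r hr; rw [hev, h6 r hr, map_one]

end Cfsg.Agent.Lib.Helper7.L34.Helper17
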