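import Mathlib
import Cfsg.Agent.Lib.Helper7.L34Data
import Cfsg.Agent.Lib.Helper16.PSL42
import Cfsg.Agent.Lib.Helper17.L34BCert
import Cfsg.Agent.Lib.Helper17.L34BTr

/-!
# S2088-[B] (helper7's L3(4) front): THE BRIDGE - the generators inside `PSL₃(F)`, `|F| = 4`
-/

set_option autoImplicit false

namespace Cfsg.Agent.Lib.Helper7.L34

open Cfsg Cfsg.H5.TCk

universe u

/-- [B] the generators inside `PSL₃(F)`, `|F| = 4` (matrices in `notes/S2088_data_helper7.md`) -/
theorem exists_l34_data {F : Type u} [Field F] [Fintype F] (hF : Fintype.card F = 4) :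
    Nat.card (Matrix.ProjectiveSpecialLinearGroup (Fin 3) F) = 20160 ∧
    ∃ g h : ℕ → Matrix.ProjectiveSpecialLinearGroup (Fin 3) F,
      Subgroup.closure (Set.range fun i : Fin 4 => g i.val) = ⊤ ∧ (∀ r ∈ relsCov, ev g r = 1) ∧
      ev g wordKa = 1 ∧ ev g wordKb = 1 ∧
      Nat.card (Subgroup.closure (Set.range fun i : Fin 3 => h i.val)) = 72 ∧
      (∀ r ∈ rels3, ev h r = 1) := by
  obtain ⟨e⟩ := Helper17.nonempty_psl3_equiv hF
  exact ⟨Cfsg.Agent.Lib.Helper16.card_PSL34 hF,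
    Helper17.transport_data e Helper17.exists_l34_data_K4⟩

end Cfsg.Agent.Lib.Helper7.L34
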