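import Cfsg.Agent.Lib.Helper17.L34PHData
import Cfsg.Agent.Lib.Helper11.IcoChunk

set_option autoImplicit false
set_option maxRecDepth 100000
set_option maxHeartbeats 0

namespace Cfsg.Agent.Lib.Helper7.L34.Helper17.PH

open Cfsg.Agent.Lib.Helper28.BSGS Cfsg.Agent.Lib.Helper11.Ico

theorem gens_ok : gensOK 24 5 gens = true := by decide +kernel

theorem size_ok : codeSize levels = 72 := by decide +kernel

theorem gens_length : gens.length = 5 := by decide +kernel

theorem nextGens0 : nextGens 5 gens 2 = gens.drop 3 := by decide +kernel

theorem l0_static : (decide ((2 : ℕ) < 24) && headOK 24 5 2 tr0 && tr0.all (entryOK 24 5 2) &&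
    nodupB (tr0.map fun e => e.1) &&
    orbitOK 5 gens [2] ((tr0.map fun e => e.1).tail)) = true := by decide +kernel

/-- the tail of the chain, checked in one go -/
theorem chain1_ok : checkChain 24 5 (gens.drop 3) rest1 = true := by decide +kernel

end Cfsg.Agent.Lib.Helper7.L34.Helper17.PH
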