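import Cfsg.Agent.Lib.Helper28.BSGSPerm

/-! # Data of a verified Schreier–Sims chain on 24 points: 3^2:Q8 = <i,j,t'> on the 24 Golay points (emitted by helper15's generic emitter) -/

set_option autoImplicit false
set_option maxRecDepth 100000

namespace Cfsg.Agent.Lib.Helper7.L34.Helper17.PH

open Cfsg.Agent.Lib.Helper28.BSGS

def gens : List (ℕ × ℕ) := [
  (976907894520423640927997288916428832, 977719166746614205159844388160284704),
  (970174446155353408420897887135284256, 980355541136540708751864682592287776),
  (976535332656625866811670459970588704, 976535332656625866811670459970588704),
  (974422238081544939122441376219924512, 974422238081544939122441376219924512),
  (976531636853126291160407323722221600, 972606645568131968584696805283956768)]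

def tr0 : List Entry := [
  (2, 984818244535754528103549039458486304, 984818244535754528103549039458486304),
  (10, 976907894520423640927997288916428832, 977719166746614205159844388160284704),
  (15, 970174446155353408420897887135284256, 980355541136540708751864682592287776),
  (4, 976535332656625866811670459970588704, 976535332656625866811670459970588704),
  (9, 973743955817971608901931089527481376, 972405283659582570282337122104124448),
  (12, 962496292700805019089393482289360928, 980307694642310743172327377916373024),
  (18, 962175330714877355088953034358114336, 972684074651876144100764497210460192),
  (6, 973983377551050818733325780631754784, 977954848816392443587152484102260768),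
  (3, 962225937928949481950471138006141984, 981716224128048982828018616042065952),
  (21, 981443750747095834922274724285568032, 969771221965106185775488586808054816),
  (8, 984076417752365759645814875267702816, 984084145625698638981344240645874720),
  (7, 970398603952780882525231244152020000, 976903988488357046571053803337134112)]

def tr1 : List Entry := [
  (3, 984818244535754528103549039458486304, 984818244535754528103549039458486304),
  (4, 974422238081544939122441376219924512, 974422238081544939122441376219924512)]

def tr2 : List Entry := [
  (5, 984818244535754528103549039458486304, 984818244535754528103549039458486304),
  (14, 976531636853126291160407323722221600, 972606645568131968584696805283956768),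
  (17, 972606645568131968584696805283956768, 976531636853126291160407323722221600)]

def rest3 : List CLevel := []

def rest2 : List CLevel := (5, tr2) :: rest3

def rest1 : List CLevel := (3, tr1) :: rest2

def rest0 : List CLevel := (2, tr0) :: rest1

def levels : List CLevel := rest0

end Cfsg.Agent.Lib.Helper7.L34.Helper17.PH
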