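import Cfsg.Agent.Lib.Helper17.WeaklyClosed
import Cfsg.Agent.Lib.Helper17.CharP

set_option autoImplicit false

namespace Cfsg.Agent.Lib.Helper17

open Cfsg
open Cfsg.Agent.Lib.Helper9

section Large

variable {G : Type*} [Group G] {p : ℕ}

/-- The centre of a nontrivial finite `p`-subgroup is nontrivial (internal form). -/
theorem center_ne_bot_of_pgroup [Finite G] [Fact p.Prime] {R : Subgroup G} (hR : IsPGroup p R)
    (hR1 : R ≠ ⊥) : R ⊓ Subgroup.centralizer (R : Set G) ≠ ⊥ := by
  have : Nontrivial R := (Subgroup.nontrivial_iff_ne_bot R).mpr hR1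
  have hc := hR.center_nontrivial
  obtain ⟨z, hz⟩ := exists_ne (1 : Subgroup.center R)
  intro hbot
  apply hz
  have hmem : ((z : R) : G) ∈ R ⊓ Subgroup.centralizer (R : Set G) := by
    refine Subgroup.mem_inf.mpr ⟨(z : R).2, ?_⟩
    rw [Subgroup.mem_centralizer_iff]
    intro r hr
    have := (Subgroup.mem_center_iff.mp z.2) ⟨r, hr⟩
    exact congrArg Subtype.val this
  rw [hbot, Subgroup.mem_bot] at hmem
  apply Subtype.ext
  apply Subtype.ext
  exact hmem

theorem normalizer_le_normalizer_center (R : Subgroup G) :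
    Subgroup.normalizer (R : Set G) ≤
      Subgroup.normalizer ((R ⊓ Subgroup.centralizer (R : Set G) : Subgroup G) : Set G) := by
  intro n hn
  exact mem_normalizer_inf hn (normalizer_le_normalizer_centralizer R hn)

/-- A large subgroup is normal in `N_G(R)` for every `p`-subgroup `R` containing it. -/
theorem IsLarge.normalizer_le [Finite G] [Fact p.Prime] {Q : Subgroup G} (hL : IsLarge Q)
    {R : Subgroup G} (hR : IsPGroup p R) (hQR : Q ≤ R) :
    Subgroup.normalizer (R : Set G) ≤ Subgroup.normalizer (Q : Set G) := by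
  by_cases hR1 : R = ⊥
  · have hQ : Q = ⊥ := le_bot_iff.mp (hR1 ▸ hQR)
    rw [hQ]
    have : Subgroup.normalizer (((⊥ : Subgroup G)) : Set G) = ⊤ :=
      Subgroup.normalizer_eq_top_iff.mpr inferInstance
    rw [this]; exact le_top
  · have hZ := center_ne_bot_of_pgroup hR hR1
    have hZC : R ⊓ Subgroup.centralizer (R : Set G) ≤ Subgroup.centralizer (Q : Set G) :=
      inf_le_right.trans (Subgroup.centralizer_le (SetLike.coe_subset_coe.mpr hQR))
    exact (normalizer_le_normalizer_center R).trans (hL.2 _ hZC hZ)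

/-- A large `p`-subgroup is weakly closed in every Sylow `p`-subgroup containing it. -/
theorem IsLarge.isWeaklyClosed [Finite G] [Fact p.Prime] {Q : Subgroup G} (hL : IsLarge Q)
    (T : Sylow p G) (hQT : Q ≤ (T : Subgroup G)) : IsWeaklyClosed Q (T : Subgroup G) :=
  isWeaklyClosed_of_normalizer_le (fun _ hR hQR => IsLarge.normalizer_le hL hR hQR) T hQT

/-- For a large `p`-subgroup `Q` and `g ∉ N_G(Q)`: `C_G(Q) ∩ C_G(Q^g) = 1`. -/
theorem IsLarge.centralizer_inf_eq_bot [Finite G] [Fact p.Prime] {Q : Subgroup G}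
    (hL : IsLarge Q) (hQp : IsPGroup p Q) {g : G}
    (hg : g ∉ Subgroup.normalizer (Q : Set G)) :
    Subgroup.centralizer (Q : Set G) ⊓
      Subgroup.centralizer ((Q.map (MulAut.conj g).toMonoidHom : Subgroup G) : Set G) = ⊥ := by
  by_contra hU
  apply hg
  obtain ⟨T, hQT⟩ := hQp.exists_le_sylow
  have hW := IsLarge.isWeaklyClosed hL T hQT
  have hX := hL.2 _ inf_le_left hU
  -- Q and Q^g lie in N(U)
  have hQX : Q ≤ Subgroup.normalizer ((Subgroup.centralizer (Q : Set G) ⊓
      Subgroup.centralizer ((Q.map (MulAut.conj g).toMonoidHom : Subgroup G) : Set G) : Subgroup G) : Set G) :=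
    (Subgroup.le_centralizer_iff.mp inf_le_left).trans (Subgroup.centralizer_le_normalizer _)
  have hQgX : Q.map (MulAut.conj g).toMonoidHom ≤ Subgroup.normalizer ((Subgroup.centralizer (Q : Set G) ⊓
      Subgroup.centralizer ((Q.map (MulAut.conj g).toMonoidHom : Subgroup G) : Set G) : Subgroup G) : Set G) :=
    (Subgroup.le_centralizer_iff.mp inf_le_right).trans (Subgroup.centralizer_le_normalizer _)
  obtain ⟨x, hx, hxeq⟩ := weaklyClosed_conj_in_subgroup T Q hW _ hQX g hQgX
  apply mem_normalizer_of_map_conj_eq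
  rw [← hxeq]
  exact map_conj_eq_of_mem_normalizer (hX hx)

end Large

end Cfsg.Agent.Lib.Helper17
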