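import Cfsg.Agent.Lib.Helper29.Law.Defs
import Cfsg.Prelude.Def_Classical

/-!
# S2355 farm (architect helper29), leaf [OMINUS]

`g ↦ diag(g, g⁻ᵀ, 1)` embeds `GL_m(F)` into the isometry group of the quadratic form
`Σ x_i y_i + (z₁² + a z₁ z₂ + b z₂²)`.
-/

set_option autoImplicit false

namespace Cfsg.Agent.Lib.Helper29.Law

open Matrix

namespace Helper17

variable {F : Type*} [Field F] {m : ℕ}

/-- the block matrix `diag(g, g⁻ᵀ, 1)` -/
noncomputable def blockM (g : GL (Fin m) F) :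
    Matrix ((Fin m ⊕ Fin m) ⊕ Fin 2) ((Fin m ⊕ Fin m) ⊕ Fin 2) F :=
  fromBlocks (fromBlocks (g : Matrix (Fin m) (Fin m) F) 0 0
    ((g⁻¹ : GL (Fin m) F) : Matrix (Fin m) (Fin m) F)ᵀ) 0 0 1

theorem blockM_one : blockM (1 : GL (Fin m) F) = 1 := by
  unfold blockM
  rw [inv_one, Units.val_one, Matrix.transpose_one, Matrix.fromBlocks_one, Matrix.fromBlocks_one]

theorem blockM_mul (g h : GL (Fin m) F) : blockM (g * h) = blockM g * blockM h := by
  unfold blockM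
  rw [Matrix.fromBlocks_multiply, Matrix.fromBlocks_multiply]
  simp only [_root_.mul_inv_rev, Units.val_mul, Matrix.transpose_mul, Matrix.mul_zero, Matrix.zero_mul,
    add_zero, zero_add, Matrix.mul_one]

/-- `g ↦ diag(g, g⁻ᵀ, 1)` as a monoid homomorphism into the matrices -/
noncomputable def blockHom (F : Type*) [Field F] (m : ℕ) :
    GL (Fin m) F →* Matrix ((Fin m ⊕ Fin m) ⊕ Fin 2) ((Fin m ⊕ Fin m) ⊕ Fin 2) F where
  toFun := blockM
  map_one' := blockM_one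
  map_mul' := blockM_mul

theorem blockM_mulVec_inl_inl (g : GL (Fin m) F) (u : (Fin m ⊕ Fin m) ⊕ Fin 2 → F) (i : Fin m) :
    (blockM g *ᵥ u) (Sum.inl (Sum.inl i)) =
      ((g : Matrix (Fin m) (Fin m) F) *ᵥ fun k => u (Sum.inl (Sum.inl k))) i := by
  unfold blockM
  rw [Matrix.fromBlocks_mulVec, Sum.elim_inl, Matrix.zero_mulVec, add_zero,
    Matrix.fromBlocks_mulVec, Sum.elim_inl, Matrix.zero_mulVec, add_zero]
  rfl

theorem blockM_mulVec_inl_inr (g : GL (Fin m) F) (u : (Fin m ⊕ Fin m) ⊕ Fin 2 → F) (i : Fin m) :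
    (blockM g *ᵥ u) (Sum.inl (Sum.inr i)) =
      (((g⁻¹ : GL (Fin m) F) : Matrix (Fin m) (Fin m) F)ᵀ *ᵥ
        fun k => u (Sum.inl (Sum.inr k))) i := by
  unfold blockM
  rw [Matrix.fromBlocks_mulVec, Sum.elim_inl, Matrix.zero_mulVec, add_zero,
    Matrix.fromBlocks_mulVec, Sum.elim_inr, Matrix.zero_mulVec, zero_add]
  rfl

theorem blockM_mulVec_inr (g : GL (Fin m) F) (u : (Fin m ⊕ Fin m) ⊕ Fin 2 → F) (j : Fin 2) :
    (blockM g *ᵥ u) (Sum.inr j) = u (Sum.inr j) := by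
  unfold blockM
  rw [Matrix.fromBlocks_mulVec, Sum.elim_inr, Matrix.zero_mulVec, zero_add, Matrix.one_mulVec]
  rfl

theorem dot_eq (g : GL (Fin m) F) (x y : Fin m → F) :
    ((g : Matrix (Fin m) (Fin m) F) *ᵥ x) ⬝ᵥ
      (((g⁻¹ : GL (Fin m) F) : Matrix (Fin m) (Fin m) F)ᵀ *ᵥ y) = x ⬝ᵥ y := by
  rw [Matrix.dotProduct_mulVec, Matrix.vecMul_transpose, Matrix.mulVec_mulVec, ← Units.val_mul,
    inv_mul_cancel, Units.val_one, Matrix.one_mulVec]

theorem quadFormMinus_blockM (a b : F) (g : GL (Fin m) F) (u : (Fin m ⊕ Fin m) ⊕ Fin 2 → F) :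
    Cfsg.quadFormMinus m F a b (blockM g *ᵥ u) = Cfsg.quadFormMinus m F a b u := by
  unfold Cfsg.quadFormMinus
  rw [blockM_mulVec_inr, blockM_mulVec_inr]
  congr 1
  have h := dot_eq g (fun k => u (Sum.inl (Sum.inl k))) (fun k => u (Sum.inl (Sum.inr k)))
  unfold dotProduct at h
  rw [← h]
  refine Finset.sum_congr rfl fun i _ => ?_
  rw [blockM_mulVec_inl_inl, blockM_mulVec_inl_inr]

end Helper17

/-- [OMINUS] `g ↦ fromBlocks (fromBlocks g 0 0 (g⁻¹)ᵀ) 0 0 1` preserves `Σ x_i y_i + (binary form)`. -/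
theorem exists_GL_to_isomMinus (F : Type*) [Field F] (m : ℕ) (a b : F) :
    ∃ φ : Matrix.GeneralLinearGroup (Fin m) F →* Cfsg.isometryGroup F (Cfsg.quadFormMinus m F a b),
      Function.Injective φ := by
  have hmem : ∀ g : GL (Fin m) F, (Helper17.blockHom F m).toHomUnits g ∈
      Cfsg.isometryGroup F (Cfsg.quadFormMinus m F a b) := by
    intro g u v
    show Cfsg.quadFormMinus m F a b
      ((((Helper17.blockHom F m).toHomUnits g :
        (Matrix ((Fin m ⊕ Fin m) ⊕ Fin 2) ((Fin m ⊕ Fin m) ⊕ Fin 2) F)ˣ) :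
        Matrix ((Fin m ⊕ Fin m) ⊕ Fin 2) ((Fin m ⊕ Fin m) ⊕ Fin 2) F) *ᵥ u) =
      Cfsg.quadFormMinus m F a b u
    rw [MonoidHom.coe_toHomUnits]
    exact Helper17.quadFormMinus_blockM a b g u
  refine ⟨((Helper17.blockHom F m).toHomUnits).codRestrict _ hmem, ?_⟩
  intro g h hgh
  have h1 : (Helper17.blockHom F m).toHomUnits g = (Helper17.blockHom F m).toHomUnits h :=
    congrArg Subtype.val hgh
  have h2 : Helper17.blockM g = Helper17.blockM h := by
    have := congrArg Units.val h1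
    rwa [MonoidHom.coe_toHomUnits, MonoidHom.coe_toHomUnits] at this
  unfold Helper17.blockM at h2
  rw [Matrix.fromBlocks_inj] at h2
  have h3 := h2.1
  rw [Matrix.fromBlocks_inj] at h3
  exact Units.ext h3.1

end Cfsg.Agent.Lib.Helper29.Law
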