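import Cfsg.Agent.Lib.Helper29.Law.Defs
import Cfsg.Prelude.Def_Classical

/-!
# S2355 farm (architect helper29), leaf [UD]

If `w` is a law in `PSU_n(q)` and the rational `SL₂` (matrices with `q`-power-fixed entries) embeds
into `SU_n(q)`, then `q ≤ D` for every `SLBound w D`.
-/

set_option autoImplicit false

namespace Cfsg.Agent.Lib.Helper29.Law

open Matrix

/-- [UD] derivation of `q ≤ D` from the embedding of the rational `SL₂` into `SUₙ`. -/
theorem psu_q_le_of {w : FreeGroup ℕ} {D : ℕ} (hS : SLBound w D) (F : Type) [Field F] [Fintype F]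
    [DecidableEq F] (q n : ℕ)
    (φ : Matrix.SpecialLinearGroup (Fin 2) F →* Matrix.SpecialLinearGroup (Fin n) F)
    (hφ : Function.Injective φ)
    (hmem : ∀ g : Matrix.SpecialLinearGroup (Fin 2) F,
        (∀ a b, ((g : Matrix (Fin 2) (Fin 2) F) a b) ^ q = (g : Matrix (Fin 2) (Fin 2) F) a b) →
        φ g ∈ Cfsg.SU n F q)
    (hadd : ∀ x y : F, (x + y) ^ q = x ^ q + y ^ q)
    (hcard : q ≤ (Finset.univ.filter fun x : F => x ^ q = x).card)
    (hlaw : IsLaw w (Cfsg.PSU n F q)) : q ≤ D := by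
  by_contra hcon
  push Not at hcon
  have hq : q ≠ 0 := by omega
  obtain ⟨τ, hτ, a, b, hab, hne⟩ :=
    hS F (Finset.univ.filter fun x : F => x ^ q = x) (lt_of_lt_of_le hcon hcard)
  have hτq : τ ^ q = τ := (Finset.mem_filter.1 hτ).2
  have hpow : ∀ k : ℕ, (τ ^ k) ^ q = τ ^ k := fun k => by
    rw [← pow_mul, mul_comm, pow_mul, hτq]
  have hgen : ∀ i, φ (gen F τ i) ∈ Cfsg.SU n F q := by
    intro i
    apply hmem
    intro a b
    fin_cases a <;> fin_cases b
    · show (1 + τ ^ (i + 1) * τ ^ (i + 1)) ^ q = 1 + τ ^ (i + 1) * τ ^ (i + 1)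
      rw [hadd, one_pow, mul_pow, hpow]
    · exact hpow (i + 1)
    · exact hpow (i + 1)
    · exact one_pow q
  have h12 : φ (E12 F) ∈ Cfsg.SU n F q := by
    apply hmem
    intro a b
    fin_cases a <;> fin_cases b
    · exact one_pow q
    · exact one_pow q
    · exact zero_pow hq
    · exact one_pow q
  have h21 : φ (E21 F) ∈ Cfsg.SU n F q := by
    apply hmem
    intro a b
    fin_cases a <;> fin_cases b
    · exact one_pow q
    · exact zero_pow hq
    · exact one_pow q
    · exact one_pow q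
  have hc := hlaw.lift_mem_center (fun i => (⟨φ (gen F τ i), hgen i⟩ : Cfsg.SU n F q))
  have hval : ((FreeGroup.lift (fun i => (⟨φ (gen F τ i), hgen i⟩ : Cfsg.SU n F q)) w :
      Cfsg.SU n F q) : SpecialLinearGroup (Fin n) F) =
      φ (FreeGroup.lift (fun i => gen F τ i) w) := by
    have h1 := lift_comp (Cfsg.SU n F q).subtype
      (fun i => (⟨φ (gen F τ i), hgen i⟩ : Cfsg.SU n F q)) w
    rw [← lift_comp φ (fun i => gen F τ i) w]
    exact h1.symm
  rw [Subgroup.mem_center_iff] at hc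
  have c1 := congrArg Subtype.val (hc ⟨φ (E12 F), h12⟩)
  have c2 := congrArg Subtype.val (hc ⟨φ (E21 F), h21⟩)
  rw [Subgroup.coe_mul, Subgroup.coe_mul, hval] at c1 c2
  have d1 : FreeGroup.lift (fun i => gen F τ i) w * E12 F =
      E12 F * FreeGroup.lift (fun i => gen F τ i) w := by
    apply hφ
    rw [map_mul, map_mul]
    exact c1.symm
  have d2 : FreeGroup.lift (fun i => gen F τ i) w * E21 F =
      E21 F * FreeGroup.lift (fun i => gen F τ i) w := by
    apply hφ
    rw [map_mul, map_mul]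
    exact c2.symm
  exact hne (offDiag_eq_zero_of_commute _ d1 d2 a b hab)

end Cfsg.Agent.Lib.Helper29.Law
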