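import Mathlib
import Cfsg.Agent.Lib.Helper17.M11Invol
import Cfsg.Agent.Lib.Helper11.M11H

/-!
# The involution column of the character table of a simple group of order 7920 (helper17)

On top of helper11's `M11.char_list` (degrees and values at the elements of order 5) and
`M11Invol` (`|C(t)| = 48`): all involutions are conjugate and the values of the ten irreducible
characters at an involution are `1, 2, -2, -2, 3, 0, 0, 4, -3, -1` (after reordering the three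
characters of degree 10).
-/

set_option autoImplicit false

namespace Cfsg.Agent.Lib.Helper17.M11InvCol

open Cfsg
open scoped ComplexConjugate
open Cfsg.Agent.Lib.Helper17.M11Invol

/-- the four conjuncts of helper11's `char_list`, for explicit characters -/
def ListAt {G : Type*} [Group G] [Fintype (IrrCharacter G)]
    (χ₁ χ₂ χ₃ χ₄ χ₅ χ₆ χ₇ χ₈ χ₉ χ₁₀ : IrrCharacter G) : Prop :=
  (Finset.univ : Finset (IrrCharacter G)).val =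
      χ₁ ::ₘ χ₂ ::ₘ χ₃ ::ₘ χ₄ ::ₘ χ₅ ::ₘ χ₆ ::ₘ χ₇ ::ₘ χ₈ ::ₘ χ₉ ::ₘ {χ₁₀} ∧
    χ₁ = Cfsg.Agent.Lib.Helper2.trivialIrr G ∧
    ((χ₁ : G → ℂ) 1 = 1 ∧ (χ₂ : G → ℂ) 1 = 10 ∧ (χ₃ : G → ℂ) 1 = 10 ∧ (χ₄ : G → ℂ) 1 = 10 ∧
      (χ₅ : G → ℂ) 1 = 11 ∧ (χ₆ : G → ℂ) 1 = 16 ∧ (χ₇ : G → ℂ) 1 = 16 ∧ (χ₈ : G → ℂ) 1 = 44 ∧
      (χ₉ : G → ℂ) 1 = 45 ∧ (χ₁₀ : G → ℂ) 1 = 55) ∧
    ∀ y : G, orderOf y = 5 → ((χ₁ : G → ℂ) y = 1 ∧ (χ₂ : G → ℂ) y = 0 ∧ (χ₃ : G → ℂ) y = 0 ∧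
      (χ₄ : G → ℂ) y = 0 ∧ (χ₅ : G → ℂ) y = 1 ∧ (χ₆ : G → ℂ) y = 1 ∧ (χ₇ : G → ℂ) y = 1 ∧
      (χ₈ : G → ℂ) y = -1 ∧ (χ₉ : G → ℂ) y = 0 ∧ (χ₁₀ : G → ℂ) y = 0)

/-- the values at an involution -/
def ColAt {G : Type*} [Group G] (χ₁ χ₂ χ₃ χ₄ χ₅ χ₆ χ₇ χ₈ χ₉ χ₁₀ : IrrCharacter G) (t : G) : Prop :=
  (χ₁ : G → ℂ) t = 1 ∧ (χ₂ : G → ℂ) t = 2 ∧ (χ₃ : G → ℂ) t = -2 ∧ (χ₄ : G → ℂ) t = -2 ∧
    (χ₅ : G → ℂ) t = 3 ∧ (χ₆ : G → ℂ) t = 0 ∧ (χ₇ : G → ℂ) t = 0 ∧ (χ₈ : G → ℂ) t = 4 ∧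
    (χ₉ : G → ℂ) t = -3 ∧ (χ₁₀ : G → ℂ) t = -1

section

variable {G : Type*} [Group G] [Fintype (IrrCharacter G)]
  {χ₁ χ₂ χ₃ χ₄ χ₅ χ₆ χ₇ χ₈ χ₉ χ₁₀ : IrrCharacter G}

theorem ListAt.data (h : ListAt χ₁ χ₂ χ₃ χ₄ χ₅ χ₆ χ₇ χ₈ χ₉ χ₁₀) : Data G :=
  data_of_list ⟨χ₁, χ₂, χ₃, χ₄, χ₅, χ₆, χ₇, χ₈, χ₉, χ₁₀, h⟩

theorem ListAt.sum (h : ListAt χ₁ χ₂ χ₃ χ₄ χ₅ χ₆ χ₇ χ₈ χ₉ χ₁₀) (F : IrrCharacter G → ℂ) :
    ∑ χ, F χ = F χ₁ + F χ₂ + F χ₃ + F χ₄ + F χ₅ + F χ₆ + F χ₇ + F χ₈ + F χ₉ + F χ₁₀ := by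
  rw [Finset.sum_eq_multiset_sum, h.1]
  simp only [Multiset.map_cons, Multiset.sum_cons, Multiset.map_singleton, Multiset.sum_singleton]
  ring

theorem ListAt.swap23 (h : ListAt χ₁ χ₂ χ₃ χ₄ χ₅ χ₆ χ₇ χ₈ χ₉ χ₁₀) :
    ListAt χ₁ χ₃ χ₂ χ₄ χ₅ χ₆ χ₇ χ₈ χ₉ χ₁₀ := by
  obtain ⟨hv, htriv, ⟨d1, d2, d3, d4, d5, d6, d7, d8, d9, d10⟩, hval⟩ := h
  refine ⟨?_, htriv, ⟨d1, d3, d2, d4, d5, d6, d7, d8, d9, d10⟩, ?_⟩
  · rw [hv, Multiset.cons_swap χ₂ χ₃]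
  · intro y hy
    obtain ⟨v1, v2, v3, v4, v5, v6, v7, v8, v9, v10⟩ := hval y hy
    exact ⟨v1, v3, v2, v4, v5, v6, v7, v8, v9, v10⟩

theorem ListAt.swap34 (h : ListAt χ₁ χ₂ χ₃ χ₄ χ₅ χ₆ χ₇ χ₈ χ₉ χ₁₀) :
    ListAt χ₁ χ₂ χ₄ χ₃ χ₅ χ₆ χ₇ χ₈ χ₉ χ₁₀ := by
  obtain ⟨hv, htriv, ⟨d1, d2, d3, d4, d5, d6, d7, d8, d9, d10⟩, hval⟩ := h
  refine ⟨?_, htriv, ⟨d1, d2, d4, d3, d5, d6, d7, d8, d9, d10⟩, ?_⟩
  · rw [hv, Multiset.cons_swap χ₃ χ₄]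
  · intro y hy
    obtain ⟨v1, v2, v3, v4, v5, v6, v7, v8, v9, v10⟩ := hval y hy
    exact ⟨v1, v2, v4, v3, v5, v6, v7, v8, v9, v10⟩

end

theorem sq_le_bound (x : ℤ) (h : x * x ≤ 22) : -4 ≤ x ∧ x ≤ 4 := by
  constructor <;> nlinarith

/-- the integer arithmetic pinning down the involution column -/
theorem col_arith (p2 p3 p4 p9 p10 : ℕ)
    (hnorm : (2 * (p2 : ℤ) - 10) * (2 * p2 - 10) + (2 * p3 - 10) * (2 * p3 - 10)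
      + (2 * p4 - 10) * (2 * p4 - 10) + (2 * p9 - 45) * (2 * p9 - 45)
      + (2 * p10 - 55) * (2 * p10 - 55) = 22)
    (hdeg : 2 * ((2 * (p2 : ℤ) - 10) + (2 * p3 - 10) + (2 * p4 - 10)) + 9 * (2 * p9 - 45)
      + 11 * (2 * p10 - 55) = -42) :
    p9 = 21 ∧ p10 = 27 ∧ ((p2 = 6 ∧ p3 = 4 ∧ p4 = 4) ∨ (p2 = 4 ∧ p3 = 6 ∧ p4 = 4) ∨
      (p2 = 4 ∧ p3 = 4 ∧ p4 = 6)) := by
  have n2 := mul_self_nonneg (2 * (p2 : ℤ) - 10)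
  have n3 := mul_self_nonneg (2 * (p3 : ℤ) - 10)
  have n4 := mul_self_nonneg (2 * (p4 : ℤ) - 10)
  have n9 := mul_self_nonneg (2 * (p9 : ℤ) - 45)
  have n10 := mul_self_nonneg (2 * (p10 : ℤ) - 55)
  have b2 := sq_le_bound (2 * (p2 : ℤ) - 10) (by linarith)
  have b3 := sq_le_bound (2 * (p3 : ℤ) - 10) (by linarith)
  have b4 := sq_le_bound (2 * (p4 : ℤ) - 10) (by linarith)
  have b9 := sq_le_bound (2 * (p9 : ℤ) - 45) (by linarith)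
  have b10 := sq_le_bound (2 * (p10 : ℤ) - 55) (by linarith)
  have l2 : 3 ≤ p2 := by omega
  have u2 : p2 ≤ 7 := by omega
  have l3 : 3 ≤ p3 := by omega
  have u3 : p3 ≤ 7 := by omega
  have l4 : 3 ≤ p4 := by omega
  have u4 : p4 ≤ 7 := by omega
  have l9 : 21 ≤ p9 := by omega
  have u9 : p9 ≤ 24 := by omega
  have l10 : 26 ≤ p10 := by omega
  have u10 : p10 ≤ 29 := by omega
  clear n2 n3 n4 n9 n10 b2 b3 b4 b9 b10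
  interval_cases p9 <;> interval_cases p10 <;> interval_cases p2 <;> interval_cases p3 <;>
    interval_cases p4 <;> omega

section Main

variable {G : Type*} [Group G] [Fintype G] [Fintype (IrrCharacter G)]
  {χ₁ χ₂ χ₃ χ₄ χ₅ χ₆ χ₇ χ₈ χ₉ χ₁₀ : IrrCharacter G}

/-- all involutions of a simple group of order 7920 are conjugate -/
theorem isConj_of_involutions [IsSimpleGroup G] (hord : Nat.card G = 7920) (hdata : Data G)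
    {t t' : G} (ht : orderOf t = 2) (ht' : orderOf t' = 2) : IsConj t t' := by
  obtain ⟨y, hy⟩ := exists_five hord
  obtain ⟨s, hts, hsy⟩ := exists_inverting hord hdata ht hy
  obtain ⟨s', hts', hsy'⟩ := exists_inverting hord hdata ht' hy
  have hC := centralizer_five hord hy
  have hodd : Odd (orderOf y) := by rw [hy]; exact ⟨2, by norm_num⟩
  have e : s * y * s⁻¹ = s' * y * s'⁻¹ := hsy.trans hsy'.symm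
  have hz : s⁻¹ * s' ∈ Subgroup.zpowers y := by
    rw [← hC, Subgroup.mem_centralizer_iff]
    intro w hw
    rw [Set.mem_singleton_iff] at hw
    rw [hw]
    calc y * (s⁻¹ * s') = s⁻¹ * (s * y * s⁻¹) * s' := by group
      _ = s⁻¹ * (s' * y * s'⁻¹) * s' := by rw [e]
      _ = s⁻¹ * s' * y := by group
  have hconj : IsConj s (s * (s⁻¹ * s')) :=
    Cfsg.Agent.Lib.Helper21.BSWCount.isConj_mul_of_mem_zpowers hodd hsy hz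
  rw [mul_inv_cancel_left] at hconj
  exact hts.trans (hconj.trans hts'.symm)

/-- the involution column at an involution inverting an element of order 5 -/
theorem col_inverting [IsSimpleGroup G] (hord : Nat.card G = 7920)
    (h : ListAt χ₁ χ₂ χ₃ χ₄ χ₅ χ₆ χ₇ χ₈ χ₉ χ₁₀)
    {s y : G} (hs : orderOf s = 2) (hy : orderOf y = 5) (hsy : s * y * s⁻¹ = y⁻¹) :
    ColAt χ₁ χ₂ χ₃ χ₄ χ₅ χ₆ χ₇ χ₈ χ₉ χ₁₀ s ∨ ColAt χ₁ χ₃ χ₂ χ₄ χ₅ χ₆ χ₇ χ₈ χ₉ χ₁₀ s ∨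
      ColAt χ₁ χ₄ χ₂ χ₃ χ₅ χ₆ χ₇ χ₈ χ₉ χ₁₀ s := by
  classical
  have hdata : Data G := h.data
  have hsum := h.sum
  obtain ⟨-, htriv, ⟨-, d2, d3, d4, d5, d6, d7, d8, d9, d10⟩, hval⟩ := h
  have h1 : ∀ g : G, (χ₁ : G → ℂ) g = 1 := by
    intro g
    rw [htriv]
    rfl
  have hyi : orderOf y⁻¹ = 5 := by rw [orderOf_inv, hy]
  obtain ⟨-, v2, v3, v4, v5, v6, v7, v8, v9, v10⟩ := hval y⁻¹ hyi
  haveI : Fact (Nat.Prime 2) := ⟨Nat.prime_two⟩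
  obtain ⟨M, hM⟩ := Cfsg.Agent.Lib.Helper25.exists_isPModular 2 Nat.prime_two
  have hzero : ∀ χ : IrrCharacter G, (χ : G → ℂ) 1 = 16 → (χ : G → ℂ) s = 0 := by
    intro χ h16
    have hdeg : charDegree (χ : G → ℂ) = 16 := by
      have h2 := Cfsg.Agent.Lib.Helper25.char_one_eq_charDegree
        (Cfsg.Agent.Lib.Helper25.isCharacter_of_irr χ.2)
      rw [h16] at h2
      exact_mod_cast h2.symm
    apply Cfsg.Agent.Lib.Helper7.irr_eq_zero_of_singular_of_not_dvd hM χ ?_ s (dvd_of_eq hs.symm)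
    rw [hdeg, hord]
    norm_num
  have e6 := hzero χ₆ d6
  have e7 := hzero χ₇ d7
  have hchar : ∀ χ : IrrCharacter G, IsCharacter G (χ : G → ℂ) :=
    fun χ => Cfsg.Agent.Lib.Helper25.isCharacter_of_irr χ.2
  obtain ⟨p2, hp2, c2⟩ := invol_val (hchar χ₂) (n := 10) (by rw [d2]; norm_num) hs
  obtain ⟨p3, hp3, c3⟩ := invol_val (hchar χ₃) (n := 10) (by rw [d3]; norm_num) hs
  obtain ⟨p4, hp4, c4⟩ := invol_val (hchar χ₄) (n := 10) (by rw [d4]; norm_num) hs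
  obtain ⟨p5, hp5, c5⟩ := invol_val (hchar χ₅) (n := 11) (by rw [d5]; norm_num) hs
  obtain ⟨p9, hp9, c9⟩ := invol_val (hchar χ₉) (n := 45) (by rw [d9]; norm_num) hs
  obtain ⟨p10, hp10, c10⟩ := invol_val (hchar χ₁₀) (n := 55) (by rw [d10]; norm_num) hs
  push_cast at c2 c3 c4 c5 c9 c10
  -- column orthogonality against `y⁻¹`
  have hnc : ¬ IsConj s y⁻¹ := by
    intro hc
    have h2 := orderOf_eq_of_isConj hc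
    rw [hs, hyi] at h2
    norm_num at h2
  have hcol := Cfsg.Agent.Lib.Helper2.column_orthogonality s y⁻¹
  rw [if_neg hnc] at hcol
  have hF := hsum (fun χ => (χ : G → ℂ) s * conj ((χ : G → ℂ) y⁻¹))
  beta_reduce at hF
  rw [hF, h1 s, h1 y⁻¹, v2, v3, v4, v5, v6, v7, v8, v9, v10, e6, e7] at hcol
  simp only [map_one, map_zero, map_neg] at hcol
  have hd : (χ₈ : G → ℂ) s = 1 + (χ₅ : G → ℂ) s := by linear_combination (-1 : ℂ) * hcol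
  -- `|C(s)| = 48` and the Brauer-Suzuki-Wall identity
  have hN := card_centralizer_involution hord hdata s hs
  have hs2 := mul_self_of_orderOf_two hs
  have hC := centralizer_five hord hy
  have hodd : Odd (orderOf y) := by rw [hy]; exact ⟨2, by norm_num⟩
  have hb := Cfsg.Agent.Lib.Helper21.BSWCount.bsw_identity s y hodd hC hs2 hsy
  have hS := hsum (fun χ => (χ : G → ℂ) s * (χ : G → ℂ) s * (χ : G → ℂ) y⁻¹ / (χ : G → ℂ) 1)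
  beta_reduce at hS
  rw [hS, h1 s, h1 y⁻¹, h1 1, v2, v3, v4, v5, v6, v7, v8, v9, v10, e6, e7, d5, d8, hd, c5, hN, hy,
    hord] at hb
  simp only [mul_zero, zero_div, zero_mul, add_zero] at hb
  have hp5eq : 3 * p5 * p5 + 91 = 34 * p5 := by
    have h2 : ((3 * p5 * p5 + 91 : ℕ) : ℂ) = ((34 * p5 : ℕ) : ℂ) := by
      push_cast at hb ⊢
      linear_combination (-1 / 720 : ℂ) * hb
    exact_mod_cast h2
  have hp5v : p5 = 7 := by interval_cases p5 <;> omega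
  have c5' : (χ₅ : G → ℂ) s = 3 := by rw [c5, hp5v]; norm_num
  have c8' : (χ₈ : G → ℂ) s = 4 := by rw [hd, c5']; norm_num
  -- column orthogonality of `s` against itself
  have hss := Cfsg.Agent.Lib.Helper2.column_orthogonality s s
  rw [if_pos (IsConj.refl s), hN] at hss
  have hF2 := hsum (fun χ => (χ : G → ℂ) s * conj ((χ : G → ℂ) s))
  beta_reduce at hF2
  rw [hF2, h1 s, c2, c3, c4, c5', e6, e7, c8', c9, c10] at hss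
  simp only [map_one, map_zero, map_sub, map_mul, map_natCast, map_ofNat] at hss
  -- column orthogonality of `s` against `1`
  have hn1 : ¬ IsConj s 1 := by
    intro hc
    have h2 := orderOf_eq_of_isConj hc
    rw [hs, orderOf_one] at h2
    norm_num at h2
  have hs1 := Cfsg.Agent.Lib.Helper2.column_orthogonality s 1
  rw [if_neg hn1] at hs1
  have hF3 := hsum (fun χ => (χ : G → ℂ) s * conj ((χ : G → ℂ) 1))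
  beta_reduce at hF3
  rw [hF3, h1 s, h1 1, d2, d3, d4, d5, d6, d7, d8, d9, d10, c2, c3, c4, c5', e6, e7, c8', c9, c10]
    at hs1
  simp only [map_one, map_ofNat] at hs1
  have hnormZ : (2 * (p2 : ℤ) - 10) * (2 * p2 - 10) + (2 * p3 - 10) * (2 * p3 - 10)
      + (2 * p4 - 10) * (2 * p4 - 10) + (2 * p9 - 45) * (2 * p9 - 45)
      + (2 * p10 - 55) * (2 * p10 - 55) = 22 := by
    have h2 : (((2 * (p2 : ℤ) - 10) * (2 * p2 - 10) + (2 * p3 - 10) * (2 * p3 - 10)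
      + (2 * p4 - 10) * (2 * p4 - 10) + (2 * p9 - 45) * (2 * p9 - 45)
      + (2 * p10 - 55) * (2 * p10 - 55) : ℤ) : ℂ) = ((22 : ℤ) : ℂ) := by
      push_cast at hss ⊢
      linear_combination hss
    exact_mod_cast h2
  have hdegZ : 2 * ((2 * (p2 : ℤ) - 10) + (2 * p3 - 10) + (2 * p4 - 10)) + 9 * (2 * p9 - 45)
      + 11 * (2 * p10 - 55) = -42 := by
    have h2 : ((2 * ((2 * (p2 : ℤ) - 10) + (2 * p3 - 10) + (2 * p4 - 10)) + 9 * (2 * p9 - 45)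
      + 11 * (2 * p10 - 55) : ℤ) : ℂ) = ((-42 : ℤ) : ℂ) := by
      push_cast at hs1 ⊢
      linear_combination (1 / 5 : ℂ) * hs1
    exact_mod_cast h2
  obtain ⟨h9, h10, hcases⟩ := col_arith p2 p3 p4 p9 p10 hnormZ hdegZ
  have c9' : (χ₉ : G → ℂ) s = -3 := by rw [c9, h9]; norm_num
  have c10' : (χ₁₀ : G → ℂ) s = -1 := by rw [c10, h10]; norm_num
  rcases hcases with ⟨a2, a3, a4⟩ | ⟨a2, a3, a4⟩ | ⟨a2, a3, a4⟩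
  · left
    exact ⟨h1 s, by rw [c2, a2]; norm_num, by rw [c3, a3]; norm_num, by rw [c4, a4]; norm_num,
      c5', e6, e7, c8', c9', c10'⟩
  · right; left
    exact ⟨h1 s, by rw [c3, a3]; norm_num, by rw [c2, a2]; norm_num, by rw [c4, a4]; norm_num,
      c5', e6, e7, c8', c9', c10'⟩
  · right; right
    exact ⟨h1 s, by rw [c4, a4]; norm_num, by rw [c2, a2]; norm_num, by rw [c3, a3]; norm_num,
      c5', e6, e7, c8', c9', c10'⟩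

omit [Fintype G] [Fintype (IrrCharacter G)] in
theorem ColAt.of_isConj {t t' : G} (hc : IsConj t t')
    (h : ColAt χ₁ χ₂ χ₃ χ₄ χ₅ χ₆ χ₇ χ₈ χ₉ χ₁₀ t) : ColAt χ₁ χ₂ χ₃ χ₄ χ₅ χ₆ χ₇ χ₈ χ₉ χ₁₀ t' := by
  have tr : ∀ χ : IrrCharacter G, (χ : G → ℂ) t' = (χ : G → ℂ) t := fun χ =>
    (Cfsg.Agent.Lib.Helper2.IsClassFunction.eq_of_isConj
      (Cfsg.Agent.Lib.Helper2.IrrCharacter.isClassFunction χ) hc).symm
  unfold ColAt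
  rw [tr χ₁, tr χ₂, tr χ₃, tr χ₄, tr χ₅, tr χ₆, tr χ₇, tr χ₈, tr χ₉, tr χ₁₀]
  exact h

/-- for a correctly ordered list: the conclusion -/
theorem finish [IsSimpleGroup G] (hord : Nat.card G = 7920)
    (h : ListAt χ₁ χ₂ χ₃ χ₄ χ₅ χ₆ χ₇ χ₈ χ₉ χ₁₀) {t0 : G} (ht0 : orderOf t0 = 2)
    (hcol : ColAt χ₁ χ₂ χ₃ χ₄ χ₅ χ₆ χ₇ χ₈ χ₉ χ₁₀ t0) :
    ∃ χ₁ χ₂ χ₃ χ₄ χ₅ χ₆ χ₇ χ₈ χ₉ χ₁₀ : IrrCharacter G,
      ListAt χ₁ χ₂ χ₃ χ₄ χ₅ χ₆ χ₇ χ₈ χ₉ χ₁₀ ∧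
      (∀ t : G, orderOf t = 2 → ColAt χ₁ χ₂ χ₃ χ₄ χ₅ χ₆ χ₇ χ₈ χ₉ χ₁₀ t) ∧
      (∀ t t' : G, orderOf t = 2 → orderOf t' = 2 → IsConj t t') :=
  ⟨χ₁, χ₂, χ₃, χ₄, χ₅, χ₆, χ₇, χ₈, χ₉, χ₁₀, h,
    fun _ ht => hcol.of_isConj (isConj_of_involutions hord h.data ht0 ht),
    fun _ _ ht ht' => isConj_of_involutions hord h.data ht ht'⟩

end Main

/-- **The involution column** of a simple group of order 7920 (with `ListAt`, `ColAt`). -/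
theorem char_list_invol' {G : Type*} [Group G] [Finite G] [IsSimpleGroup G]
    [Fintype (IrrCharacter G)] (hord : Nat.card G = 7920) :
    ∃ χ₁ χ₂ χ₃ χ₄ χ₅ χ₆ χ₇ χ₈ χ₉ χ₁₀ : IrrCharacter G,
      ListAt χ₁ χ₂ χ₃ χ₄ χ₅ χ₆ χ₇ χ₈ χ₉ χ₁₀ ∧
      (∀ t : G, orderOf t = 2 → ColAt χ₁ χ₂ χ₃ χ₄ χ₅ χ₆ χ₇ χ₈ χ₉ χ₁₀ t) ∧
      (∀ t t' : G, orderOf t = 2 → orderOf t' = 2 → IsConj t t') := by
  letI : Fintype G := Fintype.ofFinite G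
  obtain ⟨χ₁, χ₂, χ₃, χ₄, χ₅, χ₆, χ₇, χ₈, χ₉, χ₁₀, hl⟩ := Cfsg.Agent.Lib.Helper11.M11.char_list hord
  have hl' : ListAt χ₁ χ₂ χ₃ χ₄ χ₅ χ₆ χ₇ χ₈ χ₉ χ₁₀ := hl
  haveI : Fact (Nat.Prime 2) := ⟨Nat.prime_two⟩
  obtain ⟨t0, ht0⟩ : ∃ t0 : G, orderOf t0 = 2 :=
    exists_prime_orderOf_dvd_card' 2 (by rw [hord]; norm_num)
  obtain ⟨y, hy⟩ := exists_five hord
  obtain ⟨s, hts, hsy⟩ := exists_inverting hord hl'.data ht0 hy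
  have hs : orderOf s = 2 := by rw [orderOf_eq_of_isConj hts, ht0]
  rcases col_inverting hord hl' hs hy hsy with hc | hc | hc
  · exact finish hord hl' hs hc
  · exact finish hord hl'.swap23 hs hc
  · exact finish hord hl'.swap34.swap23 hs hc

/-- **The involution column**, fully expanded. -/
theorem char_list_invol {G : Type*} [Group G] [Finite G] [IsSimpleGroup G]
    [Fintype (IrrCharacter G)] (hord : Nat.card G = 7920) :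
    ∃ χ₁ χ₂ χ₃ χ₄ χ₅ χ₆ χ₇ χ₈ χ₉ χ₁₀ : IrrCharacter G,
      (Finset.univ : Finset (IrrCharacter G)).val =
        χ₁ ::ₘ χ₂ ::ₘ χ₃ ::ₘ χ₄ ::ₘ χ₅ ::ₘ χ₆ ::ₘ χ₇ ::ₘ χ₈ ::ₘ χ₉ ::ₘ {χ₁₀} ∧
      χ₁ = Cfsg.Agent.Lib.Helper2.trivialIrr G ∧
      ((χ₁ : G → ℂ) 1 = 1 ∧ (χ₂ : G → ℂ) 1 = 10 ∧ (χ₃ : G → ℂ) 1 = 10 ∧ (χ₄ : G → ℂ) 1 = 10 ∧
        (χ₅ : G → ℂ) 1 = 11 ∧ (χ₆ : G → ℂ) 1 = 16 ∧ (χ₇ : G → ℂ) 1 = 16 ∧ (χ₈ : G → ℂ) 1 = 44 ∧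
        (χ₉ : G → ℂ) 1 = 45 ∧ (χ₁₀ : G → ℂ) 1 = 55) ∧
      (∀ y : G, orderOf y = 5 → ((χ₁ : G → ℂ) y = 1 ∧ (χ₂ : G → ℂ) y = 0 ∧ (χ₃ : G → ℂ) y = 0 ∧
        (χ₄ : G → ℂ) y = 0 ∧ (χ₅ : G → ℂ) y = 1 ∧ (χ₆ : G → ℂ) y = 1 ∧ (χ₇ : G → ℂ) y = 1 ∧
        (χ₈ : G → ℂ) y = -1 ∧ (χ₉ : G → ℂ) y = 0 ∧ (χ₁₀ : G → ℂ) y = 0)) ∧
      (∀ t : G, orderOf t = 2 → ((χ₁ : G → ℂ) t = 1 ∧ (χ₂ : G → ℂ) t = 2 ∧ (χ₃ : G → ℂ) t = -2 ∧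
        (χ₄ : G → ℂ) t = -2 ∧ (χ₅ : G → ℂ) t = 3 ∧ (χ₆ : G → ℂ) t = 0 ∧ (χ₇ : G → ℂ) t = 0 ∧
        (χ₈ : G → ℂ) t = 4 ∧ (χ₉ : G → ℂ) t = -3 ∧ (χ₁₀ : G → ℂ) t = -1)) ∧
      (∀ t t' : G, orderOf t = 2 → orderOf t' = 2 → IsConj t t') := by
  obtain ⟨χ₁, χ₂, χ₃, χ₄, χ₅, χ₆, χ₇, χ₈, χ₉, χ₁₀, ⟨a, b, c, d⟩, hcol, hcl⟩ := char_list_invol' hord
  exact ⟨χ₁, χ₂, χ₃, χ₄, χ₅, χ₆, χ₇, χ₈, χ₉, χ₁₀, a, b, c, d, fun t ht => hcol t ht, hcl⟩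

end Cfsg.Agent.Lib.Helper17.M11InvCol
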