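import Mathlib
import Cfsg.Prelude.Def_KGroupFacts

/-!
# S2036 piece (C): packaging

If the kernels of the finite stem extensions of `G` are `{2,3}`-groups, `9` does not divide their
orders, they have order `≤ 4` when of exponent dividing `8` and order `≤ 2` when of exponent dividing
`2`, then they are all quotients of `C12`.  (Apply the hypotheses to `Γ ⧸ Z^8 → G` and `Γ ⧸ Z^2 → G`,
whose kernels `Z ⧸ Z^e` have as many elements as the `e`-torsion of `Z`.)
-/

set_option autoImplicit false
set_option linter.style.haveILetI false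

namespace Cfsg.Agent.Lib.Helper6.M22Mult

open Cfsg

universe u v

namespace Helper17

/-- a finite cyclic group whose order divides `N` is a quotient of `ZMod N` -/
theorem exists_surj_of_cyclic' {Z : Type*} [Group Z] [Finite Z] [IsCyclic Z] (N : ℕ) [NeZero N]
    (h : Nat.card Z ∣ N) : ∃ π : Multiplicative (ZMod N) →* Z, Function.Surjective π := by
  obtain ⟨g, hg⟩ := IsCyclic.exists_generator (α := Z)
  have hgN : g ^ N = 1 := by
    obtain ⟨m, hm⟩ := h
    rw [hm, pow_mul, pow_card_eq_one', one_pow]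
  let π : Multiplicative (ZMod N) →* Z :=
    { toFun := fun x => g ^ (Multiplicative.toAdd x).val
      map_one' := by
        show g ^ (0 : ZMod N).val = 1
        rw [ZMod.val_zero, pow_zero]
      map_mul' := by
        intro x y
        show g ^ (Multiplicative.toAdd x + Multiplicative.toAdd y).val =
          g ^ (Multiplicative.toAdd x).val * g ^ (Multiplicative.toAdd y).val
        rw [ZMod.val_add, ← pow_eq_pow_mod _ hgN, pow_add] }
  refine ⟨π, ?_⟩
  intro z
  have hz : z ∈ Submonoid.powers g := mem_powers_iff_mem_zpowers.mpr (hg z)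
  obtain ⟨m, hm⟩ := (Submonoid.mem_powers_iff z g).mp hz
  refine ⟨Multiplicative.ofAdd (m : ZMod N), ?_⟩
  show g ^ ((m : ZMod N)).val = z
  rw [ZMod.val_natCast, ← pow_eq_pow_mod _ hgN, hm]

/-- the quotient of a stem extension by a subgroup of its kernel -/
theorem quot_stem {Γ : Type u} {G : Type v} [Group Γ] [Finite Γ] [Group G] (σ : Γ →* G)
    (hσ : IsStemExtension σ) (N : Subgroup Γ) (hN : N ≤ σ.ker) :
    ∃ (Δ : Type u) (_ : Group Δ) (_ : Finite Δ) (τ : Δ →* G) (q : Γ →* Δ), IsStemExtension τ ∧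
      Function.Surjective q ∧ (∀ x, τ (q x) = σ x) ∧ (∀ x, q x = 1 ↔ x ∈ N) ∧
      Nat.card σ.ker = Nat.card τ.ker * Nat.card N := by
  obtain ⟨hsurj, hcen, hcomm⟩ := hσ
  haveI : N.Normal := by
    constructor
    intro g hg y
    have := Subgroup.mem_center_iff.1 (hcen (hN hg)) y
    rw [this, mul_assoc, mul_inv_cancel, mul_one]
    exact hg
  set σ' : Γ ⧸ N →* G := QuotientGroup.lift N σ (fun y hy => (MonoidHom.mem_ker).1 (hN hy))
    with hσ'
  have hσ'mk : ∀ g : Γ, σ' (QuotientGroup.mk g) = σ g := fun g => rfl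
  have hsurj' : Function.Surjective σ' := by
    intro g
    obtain ⟨y, hy⟩ := hsurj g
    exact ⟨QuotientGroup.mk y, by rw [hσ'mk, hy]⟩
  have hstem : IsStemExtension σ' := by
    refine ⟨hsurj', ?_, ?_⟩
    · intro y hy
      obtain ⟨g, rfl⟩ := QuotientGroup.mk_surjective y
      rw [MonoidHom.mem_ker, hσ'mk] at hy
      have hg : g ∈ Subgroup.center Γ := hcen ((MonoidHom.mem_ker).2 hy)
      rw [Subgroup.mem_center_iff]
      intro w
      obtain ⟨w', rfl⟩ := QuotientGroup.mk_surjective w
      rw [← QuotientGroup.mk_mul, ← QuotientGroup.mk_mul, Subgroup.mem_center_iff.1 hg w']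
    · intro y hy
      obtain ⟨g, rfl⟩ := QuotientGroup.mk_surjective y
      rw [MonoidHom.mem_ker, hσ'mk] at hy
      have hg : g ∈ commutator Γ := hcomm ((MonoidHom.mem_ker).2 hy)
      have hle : (commutator Γ).map (QuotientGroup.mk' N) ≤ commutator (Γ ⧸ N) := by
        rw [commutator_def, commutator_def, Subgroup.map_commutator]
        exact Subgroup.commutator_mono le_top le_top
      exact hle ⟨g, hg, rfl⟩
  haveI : Finite G := Finite.of_surjective σ hsurj
  have hidx : σ.ker.index = Nat.card G := by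
    rw [Subgroup.index_ker, MonoidHom.range_eq_top.mpr hsurj, Subgroup.card_top]
  have hidx' : σ'.ker.index = Nat.card G := by
    rw [Subgroup.index_ker, MonoidHom.range_eq_top.mpr hsurj', Subgroup.card_top]
  have hG0 : 0 < Nat.card G := Nat.card_pos
  have h1 : Nat.card σ.ker * Nat.card G = Nat.card Γ := by
    rw [← hidx]; exact Subgroup.card_mul_index σ.ker
  have h2 : Nat.card σ'.ker * Nat.card G = Nat.card (Γ ⧸ N) := by
    rw [← hidx']; exact Subgroup.card_mul_index σ'.ker
  have hΓq : Nat.card Γ = Nat.card (Γ ⧸ N) * Nat.card N :=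
    Subgroup.card_eq_card_quotient_mul_card_subgroup N
  have h3 : Nat.card σ.ker = Nat.card σ'.ker * Nat.card N := by
    have : Nat.card σ.ker * Nat.card G = (Nat.card σ'.ker * Nat.card N) * Nat.card G := by
      rw [h1, hΓq, ← h2]; ring
    exact Nat.eq_of_mul_eq_mul_right hG0 this
  exact ⟨Γ ⧸ N, inferInstance, inferInstance, σ', QuotientGroup.mk' N, hstem,
    QuotientGroup.mk'_surjective N, hσ'mk, fun x => QuotientGroup.eq_one_iff x, h3⟩

/-- the `e`-th power map of a commutative group -/
def powHom {A : Type*} [Group A] (hcomm : ∀ a b : A, a * b = b * a) (e : ℕ) : A →* A where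
  toFun a := a ^ e
  map_one' := one_pow e
  map_mul' a b := Commute.mul_pow (hcomm a b) e

/-- the stem extension `Γ ⧸ Z^e → G`: its kernel has exponent dividing `e` and as many elements as
the `e`-torsion of `Z = ker σ` -/
theorem pow_quot {Γ : Type u} {G : Type v} [Group Γ] [Finite Γ] [Group G] (σ : Γ →* G)
    (hσ : IsStemExtension σ) (e : ℕ) :
    ∃ (Δ : Type u) (_ : Group Δ) (_ : Finite Δ) (τ : Δ →* G), IsStemExtension τ ∧
      (∀ y ∈ τ.ker, y ^ e = 1) ∧ Nat.card τ.ker = Nat.card {a : σ.ker // a ^ e = 1} := by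
  have hcomm : ∀ a b : σ.ker, a * b = b * a := by
    intro a b
    apply Subtype.ext
    exact Subgroup.mem_center_iff.mp (hσ.2.1 b.2) a
  obtain ⟨Δ, iG, iF, τ, q, hτ, hq, hτq, hqN, hcard⟩ :=
    quot_stem σ hσ ((powHom hcomm e).range.map σ.ker.subtype) (by
      rintro _ ⟨y, _, rfl⟩
      exact y.2)
  refine ⟨Δ, iG, iF, τ, hτ, ?_, ?_⟩
  · intro y hy
    obtain ⟨x, rfl⟩ := hq y
    have hx : x ∈ σ.ker := by
      rw [MonoidHom.mem_ker, ← hτq]
      exact MonoidHom.mem_ker.mp hy
    rw [← map_pow, hqN]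
    exact ⟨powHom hcomm e ⟨x, hx⟩, ⟨⟨x, hx⟩, rfl⟩, rfl⟩
  · have h1 : Nat.card ((powHom hcomm e).range.map σ.ker.subtype) =
        Nat.card (powHom hcomm e).range :=
      Subgroup.card_map_of_injective (Subgroup.subtype_injective _)
    have h2 : Nat.card σ.ker = Nat.card (powHom hcomm e).ker * Nat.card (powHom hcomm e).range := by
      rw [← Subgroup.index_ker, Subgroup.card_mul_index]
    have h3 : Nat.card (powHom hcomm e).ker = Nat.card {a : σ.ker // a ^ e = 1} :=
      Nat.card_congr (Equiv.subtypeEquivRight (fun a => by rw [MonoidHom.mem_ker]; rfl))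
    have hpos : 0 < Nat.card (powHom hcomm e).range := Nat.card_pos
    have h4 : Nat.card τ.ker * Nat.card (powHom hcomm e).range =
        Nat.card (powHom hcomm e).ker * Nat.card (powHom hcomm e).range := by
      rw [← h1, ← hcard, h2, h1]
    rw [← h3]
    exact Nat.eq_of_mul_eq_mul_right hpos h4

/-- finite abelian arithmetic: a `{2,3}`-group with `9 ∤` order, at most four solutions of `a^8 = 1` and
at most two of `a^2 = 1` is cyclic of order dividing `12` -/
theorem cyclic_dvd_twelve {A : Type*} [Group A] [Finite A] (hcomm : ∀ a b : A, a * b = b * a)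
    (hp : ∀ p : ℕ, p.Prime → p ∣ Nat.card A → p = 2 ∨ p = 3)
    (h3 : (Nat.card A).factorization 3 ≤ 1)
    (h8 : Nat.card {a : A // a ^ 8 = 1} ≤ 4)
    (h2 : Nat.card {a : A // a ^ 2 = 1} ≤ 2) :
    IsCyclic A ∧ Nat.card A ∣ 12 := by
  haveI : Fact (Nat.Prime 2) := ⟨Nat.prime_two⟩
  haveI : Fact (Nat.Prime 3) := ⟨Nat.prime_three⟩
  have hn0 : Nat.card A ≠ 0 := Nat.card_pos.ne'
  -- `8 ∤ |A|`
  have h8' : ¬ 2 ^ 3 ∣ Nat.card A := by
    intro hd
    obtain ⟨K, hK⟩ := Sylow.exists_subgroup_card_pow_prime 2 hd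
    have hpow : ∀ k : K, (k : A) ^ 8 = 1 := by
      intro k
      have h := pow_card_eq_one' (G := K) (x := k)
      rw [hK] at h
      have h' := congrArg Subtype.val h
      simpa using h'
    have hinj : Function.Injective (fun k : K => (⟨(k : A), hpow k⟩ : {a : A // a ^ 8 = 1})) := by
      intro k k' h
      exact Subtype.ext (congrArg (fun z : {a : A // a ^ 8 = 1} => (z : A)) h)
    have := Nat.card_le_card_of_injective _ hinj
    rw [hK] at this
    omega
  have ha : (Nat.card A).factorization 2 ≤ 2 := by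
    by_contra hcon
    push Not at hcon
    exact h8' ((Nat.Prime.pow_dvd_iff_le_factorization Nat.prime_two hn0).mpr hcon)
  -- the order is `2^a 3^b`
  have hn : Nat.card A = 2 ^ (Nat.card A).factorization 2 * 3 ^ (Nat.card A).factorization 3 := by
    apply Nat.eq_of_factorization_eq hn0 (by positivity)
    intro p
    rw [Nat.factorization_mul (by positivity) (by positivity),
      Nat.Prime.factorization_pow Nat.prime_two, Nat.Prime.factorization_pow Nat.prime_three]
    simp only [Finsupp.coe_add, Pi.add_apply]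
    by_cases hp2 : p = 2
    · subst hp2
      simp
    · by_cases hp3 : p = 3
      · subst hp3
        simp
      · rw [Finsupp.single_apply, Finsupp.single_apply, if_neg (Ne.symm hp2), if_neg (Ne.symm hp3)]
        by_cases hpp : p.Prime
        · apply Nat.factorization_eq_zero_of_not_dvd
          intro hd
          rcases hp p hpp hd with h | h
          · exact hp2 h
          · exact hp3 h
        · exact Nat.factorization_eq_zero_of_not_prime _ hpp
  have hdvd12 : Nat.card A ∣ 12 := by
    rw [hn]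
    have e1 : (2 : ℕ) ^ (Nat.card A).factorization 2 ∣ 2 ^ 2 := pow_dvd_pow 2 ha
    have e2 : (3 : ℕ) ^ (Nat.card A).factorization 3 ∣ 3 ^ 1 := pow_dvd_pow 3 h3
    have := Nat.mul_dvd_mul e1 e2
    norm_num at this ⊢
    exact this
  -- an element of order `2^a`
  have hx : ∃ x : A, orderOf x = 2 ^ (Nat.card A).factorization 2 := by
    obtain h0 | h1 | h2' : (Nat.card A).factorization 2 = 0 ∨ (Nat.card A).factorization 2 = 1 ∨
        (Nat.card A).factorization 2 = 2 := by omega
    · exact ⟨1, by rw [h0, orderOf_one, pow_zero]⟩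
    · have hd : 2 ∣ Nat.card A := Nat.dvd_of_factorization_pos (by rw [h1]; norm_num)
      obtain ⟨x, hx⟩ := exists_prime_orderOf_dvd_card' 2 hd
      exact ⟨x, by rw [hx, h1, pow_one]⟩
    · have hd : 2 ^ 2 ∣ Nat.card A := by
        have := Nat.ordProj_dvd (Nat.card A) 2
        rwa [h2'] at this
      obtain ⟨K, hK⟩ := Sylow.exists_subgroup_card_pow_prime 2 hd
      have hex : ∃ k : K, (k : A) ^ 2 ≠ 1 := by
        by_contra hall
        push Not at hall
        have hinj : Function.Injective
            (fun k : K => (⟨(k : A), hall k⟩ : {a : A // a ^ 2 = 1})) := by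
          intro k k' h
          exact Subtype.ext (congrArg (fun z : {a : A // a ^ 2 = 1} => (z : A)) h)
        have := Nat.card_le_card_of_injective _ hinj
        rw [hK] at this
        omega
      obtain ⟨k, hk⟩ := hex
      have hk4 : (k : A) ^ 2 ^ 2 = 1 := by
        have h := pow_card_eq_one' (G := K) (x := k)
        rw [hK] at h
        have h' := congrArg Subtype.val h
        simpa using h'
      obtain ⟨j, hj, hoj⟩ := (Nat.dvd_prime_pow Nat.prime_two).mp (orderOf_dvd_of_pow_eq_one hk4)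
      refine ⟨(k : A), ?_⟩
      rw [h2']
      obtain rfl | rfl | rfl : j = 0 ∨ j = 1 ∨ j = 2 := by omega
      · exfalso
        apply hk
        rw [pow_zero, orderOf_eq_one_iff] at hoj
        rw [hoj, one_pow]
      · exfalso
        apply hk
        rw [pow_one] at hoj
        rw [← hoj]
        exact pow_orderOf_eq_one _
      · exact hoj
  have hy : ∃ y : A, orderOf y = 3 ^ (Nat.card A).factorization 3 := by
    obtain h0 | h1 : (Nat.card A).factorization 3 = 0 ∨ (Nat.card A).factorization 3 = 1 := by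
      omega
    · exact ⟨1, by rw [h0, orderOf_one, pow_zero]⟩
    · have hd : 3 ∣ Nat.card A := Nat.dvd_of_factorization_pos (by rw [h1]; norm_num)
      obtain ⟨y, hy⟩ := exists_prime_orderOf_dvd_card' 3 hd
      exact ⟨y, by rw [hy, h1, pow_one]⟩
  obtain ⟨x, hx⟩ := hx
  obtain ⟨y, hy⟩ := hy
  have hxy : orderOf (x * y) = Nat.card A := by
    rw [Commute.orderOf_mul_eq_mul_orderOf_of_coprime (show Commute x y from hcomm x y)
      (by rw [hx, hy]; exact Nat.Coprime.pow _ _ (by norm_num)), hx, hy, ← hn]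
  exact ⟨isCyclic_of_orderOf_eq_card (x * y) hxy, hdvd12⟩

end Helper17

open Helper17

/-- C: if the kernels of the finite stem extensions of `G` are `{2,3}`-groups, have `9 ∤` order, have order
`≤ 4` when of exponent dividing `8` and order `≤ 2` when of exponent dividing `2`, then they are all
quotients of `C12`.  (Apply the hypotheses to the stem extensions `Γ ⧸ Z^8 → G` and `Γ ⧸ Z^2 → G`.) -/
theorem surj_of_bounds {G : Type u} [Group G] [Finite G]
    (hp : ∀ (Γ : Type u) [Group Γ] [Finite Γ] (σ : Γ →* G), IsStemExtension σ →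
      ∀ p : ℕ, p.Prime → p ∣ Nat.card σ.ker → p = 2 ∨ p = 3)
    (h3 : ∀ (Γ : Type u) [Group Γ] [Finite Γ] (σ : Γ →* G), IsStemExtension σ →
      (Nat.card σ.ker).factorization 3 ≤ 1)
    (h8 : ∀ (Γ : Type u) [Group Γ] [Finite Γ] (σ : Γ →* G), IsStemExtension σ →
      (∀ z ∈ σ.ker, z ^ 8 = 1) → Nat.card σ.ker ≤ 4)
    (h2 : ∀ (Γ : Type u) [Group Γ] [Finite Γ] (σ : Γ →* G), IsStemExtension σ →
      (∀ z ∈ σ.ker, z ^ 2 = 1) → Nat.card σ.ker ≤ 2)
    (Γ : Type u) [Group Γ] [Finite Γ] (σ : Γ →* G) (hσ : IsStemExtension σ) :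
    ∃ π : Multiplicative (ZMod 12) →* σ.ker, Function.Surjective π := by
  have hcomm : ∀ a b : σ.ker, a * b = b * a := by
    intro a b
    apply Subtype.ext
    exact Subgroup.mem_center_iff.mp (hσ.2.1 b.2) a
  obtain ⟨Δ8, i1, i2, τ8, hτ8, hexp8, hc8⟩ := pow_quot σ hσ 8
  obtain ⟨Δ2, j1, j2, τ2, hτ2, hexp2, hc2⟩ := pow_quot σ hσ 2
  have k8 := h8 Δ8 τ8 hτ8 hexp8
  rw [hc8] at k8
  have k2 := h2 Δ2 τ2 hτ2 hexp2
  rw [hc2] at k2
  obtain ⟨hcyc, hdvd⟩ := cyclic_dvd_twelve hcomm (hp Γ σ hσ) (h3 Γ σ hσ) k8 k2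
  haveI := hcyc
  exact exists_surj_of_cyclic' 12 hdvd

end Cfsg.Agent.Lib.Helper6.M22Mult
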