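import Cfsg.Agent.Lib.Helper17.McLWMTab

set_option autoImplicit false
set_option maxRecDepth 100000

namespace Cfsg.Agent.Lib.Helper12.McLW.Helper17

theorem chk_0 : chk 0 = true := by decide +kernel

theorem chk_1 : chk 1 = true := by decide +kernel

theorem chk_2 : chk 2 = true := by decide +kernel

theorem chk_3 : chk 3 = true := by decide +kernel

theorem chk_4 : chk 4 = true := by decide +kernel

theorem chk_5 : chk 5 = true := by decide +kernel

theorem chk_6 : chk 6 = true := by decide +kernel

theorem chk_7 : chk 7 = true := by decide +kernel

theorem chk_8 : chk 8 = true := by decide +kernel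

end Cfsg.Agent.Lib.Helper12.McLW.Helper17
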