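import Cfsg.Agent.Lib.Helper17.McLWMTab

set_option autoImplicit false
set_option maxRecDepth 100000

namespace Cfsg.Agent.Lib.Helper12.McLW.Helper17

theorem chk_9 : chk 9 = true := by decide +kernel

theorem chk_10 : chk 10 = true := by decide +kernel

theorem chk_11 : chk 11 = true := by decide +kernel

theorem chk_12 : chk 12 = true := by decide +kernel

theorem chk_13 : chk 13 = true := by decide +kernel

theorem chk_14 : chk 14 = true := by decide +kernel

theorem chk_15 : chk 15 = true := by decide +kernel

theorem chk_16 : chk 16 = true := by decide +kernel

theorem chk_17 : chk 17 = true := by decide +kernel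

end Cfsg.Agent.Lib.Helper12.McLW.Helper17
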