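import Cfsg.Agent.Lib.Helper17.McLWMC8

set_option autoImplicit false
set_option maxRecDepth 100000

namespace Cfsg.Agent.Lib.Helper12.McLW.Helper17

theorem chk_99 : chk 99 = true := by decide +kernel

theorem chk_100 : chk 100 = true := by decide +kernel

theorem chk_101 : chk 101 = true := by decide +kernel

theorem chk_102 : chk 102 = true := by decide +kernel

theorem chk_103 : chk 103 = true := by decide +kernel

theorem chk_104 : chk 104 = true := by decide +kernel

theorem chk_105 : chk 105 = true := by decide +kernel

theorem chk_106 : chk 106 = true := by decide +kernel

theorem chk_107 : chk 107 = true := by decide +kernel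

end Cfsg.Agent.Lib.Helper12.McLW.Helper17
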