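import Cfsg.Agent.Lib.Helper17.McLWMC9

set_option autoImplicit false
set_option maxRecDepth 100000

namespace Cfsg.Agent.Lib.Helper12.McLW.Helper17

theorem chk_108 : chk 108 = true := by decide +kernel

theorem chk_109 : chk 109 = true := by decide +kernel

theorem chk_110 : chk 110 = true := by decide +kernel

theorem chk_111 : chk 111 = true := by decide +kernel

theorem chk_112 : chk 112 = true := by decide +kernel

theorem chk_113 : chk 113 = true := by decide +kernel

theorem chk_114 : chk 114 = true := by decide +kernel

theorem chk_115 : chk 115 = true := by decide +kernel

theorem chk_116 : chk 116 = true := by decide +kernel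

end Cfsg.Agent.Lib.Helper12.McLW.Helper17
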