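import Cfsg.Agent.Lib.Helper17.McLWMC10

set_option autoImplicit false
set_option maxRecDepth 100000

namespace Cfsg.Agent.Lib.Helper12.McLW.Helper17

theorem chk_117 : chk 117 = true := by decide +kernel

theorem chk_118 : chk 118 = true := by decide +kernel

theorem chk_119 : chk 119 = true := by decide +kernel

theorem chk_120 : chk 120 = true := by decide +kernel

theorem chk_121 : chk 121 = true := by decide +kernel

theorem chk_122 : chk 122 = true := by decide +kernel

theorem chk_123 : chk 123 = true := by decide +kernel

theorem chk_124 : chk 124 = true := by decide +kernel

theorem chk_125 : chk 125 = true := by decide +kernel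

end Cfsg.Agent.Lib.Helper12.McLW.Helper17
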