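import Cfsg.Agent.Lib.Helper17.McLWMC11

set_option autoImplicit false
set_option maxRecDepth 100000

namespace Cfsg.Agent.Lib.Helper12.McLW.Helper17

theorem chk_126 : chk 126 = true := by decide +kernel

theorem chk_127 : chk 127 = true := by decide +kernel

theorem chk_128 : chk 128 = true := by decide +kernel

theorem chk_129 : chk 129 = true := by decide +kernel

theorem chk_130 : chk 130 = true := by decide +kernel

theorem chk_131 : chk 131 = true := by decide +kernel

theorem chk_132 : chk 132 = true := by decide +kernel

theorem chk_133 : chk 133 = true := by decide +kernel

theorem chk_134 : chk 134 = true := by decide +kernel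

end Cfsg.Agent.Lib.Helper12.McLW.Helper17
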