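import Cfsg.Agent.Lib.Helper17.McLWMC12

set_option autoImplicit false
set_option maxRecDepth 100000

namespace Cfsg.Agent.Lib.Helper12.McLW.Helper17

theorem chk_135 : chk 135 = true := by decide +kernel

theorem chk_136 : chk 136 = true := by decide +kernel

theorem chk_137 : chk 137 = true := by decide +kernel

theorem chk_138 : chk 138 = true := by decide +kernel

theorem chk_139 : chk 139 = true := by decide +kernel

theorem chk_140 : chk 140 = true := by decide +kernel

theorem chk_141 : chk 141 = true := by decide +kernel

theorem chk_142 : chk 142 = true := by decide +kernel

theorem chk_143 : chk 143 = true := by decide +kernel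

end Cfsg.Agent.Lib.Helper12.McLW.Helper17
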