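import Cfsg.Agent.Lib.Helper17.McLWMC13

set_option autoImplicit false
set_option maxRecDepth 100000

namespace Cfsg.Agent.Lib.Helper12.McLW.Helper17

theorem chk_144 : chk 144 = true := by decide +kernel

theorem chk_145 : chk 145 = true := by decide +kernel

theorem chk_146 : chk 146 = true := by decide +kernel

theorem chk_147 : chk 147 = true := by decide +kernel

theorem chk_148 : chk 148 = true := by decide +kernel

theorem chk_149 : chk 149 = true := by decide +kernel

theorem chk_150 : chk 150 = true := by decide +kernel

theorem chk_151 : chk 151 = true := by decide +kernel

theorem chk_152 : chk 152 = true := by decide +kernel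

end Cfsg.Agent.Lib.Helper12.McLW.Helper17
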