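import Cfsg.Agent.Lib.Helper17.McLWMC14

set_option autoImplicit false
set_option maxRecDepth 100000

namespace Cfsg.Agent.Lib.Helper12.McLW.Helper17

theorem chk_153 : chk 153 = true := by decide +kernel

theorem chk_154 : chk 154 = true := by decide +kernel

theorem chk_155 : chk 155 = true := by decide +kernel

theorem chk_156 : chk 156 = true := by decide +kernel

theorem chk_157 : chk 157 = true := by decide +kernel

theorem chk_158 : chk 158 = true := by decide +kernel

theorem chk_159 : chk 159 = true := by decide +kernel

theorem chk_160 : chk 160 = true := by decide +kernel

theorem chk_161 : chk 161 = true := by decide +kernel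

end Cfsg.Agent.Lib.Helper12.McLW.Helper17
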