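import Cfsg.Agent.Lib.Helper17.McLWMC15

set_option autoImplicit false
set_option maxRecDepth 100000

namespace Cfsg.Agent.Lib.Helper12.McLW.Helper17

theorem chk_162 : chk 162 = true := by decide +kernel

theorem chk_163 : chk 163 = true := by decide +kernel

theorem chk_164 : chk 164 = true := by decide +kernel

theorem chk_165 : chk 165 = true := by decide +kernel

theorem chk_166 : chk 166 = true := by decide +kernel

theorem chk_167 : chk 167 = true := by decide +kernel

theorem chk_168 : chk 168 = true := by decide +kernel

theorem chk_169 : chk 169 = true := by decide +kernel

theorem chk_170 : chk 170 = true := by decide +kernel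

end Cfsg.Agent.Lib.Helper12.McLW.Helper17
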