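import Cfsg.Agent.Lib.Helper17.McLWMC16

set_option autoImplicit false
set_option maxRecDepth 100000

namespace Cfsg.Agent.Lib.Helper12.McLW.Helper17

theorem chk_171 : chk 171 = true := by decide +kernel

theorem chk_172 : chk 172 = true := by decide +kernel

theorem chk_173 : chk 173 = true := by decide +kernel

theorem chk_174 : chk 174 = true := by decide +kernel

theorem chk_175 : chk 175 = true := by decide +kernel

theorem chk_176 : chk 176 = true := by decide +kernel

theorem chk_177 : chk 177 = true := by decide +kernel

theorem chk_178 : chk 178 = true := by decide +kernel

theorem chk_179 : chk 179 = true := by decide +kernel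

end Cfsg.Agent.Lib.Helper12.McLW.Helper17
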