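import Cfsg.Agent.Lib.Helper17.McLWMTab

set_option autoImplicit false
set_option maxRecDepth 100000

namespace Cfsg.Agent.Lib.Helper12.McLW.Helper17

theorem chk_18 : chk 18 = true := by decide +kernel

theorem chk_19 : chk 19 = true := by decide +kernel

theorem chk_20 : chk 20 = true := by decide +kernel

theorem chk_21 : chk 21 = true := by decide +kernel

theorem chk_22 : chk 22 = true := by decide +kernel

theorem chk_23 : chk 23 = true := by decide +kernel

theorem chk_24 : chk 24 = true := by decide +kernel

theorem chk_25 : chk 25 = true := by decide +kernel

theorem chk_26 : chk 26 = true := by decide +kernel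

end Cfsg.Agent.Lib.Helper12.McLW.Helper17
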