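import Cfsg.Agent.Lib.Helper17.McLWMC17

set_option autoImplicit false
set_option maxRecDepth 100000

namespace Cfsg.Agent.Lib.Helper12.McLW.Helper17

theorem chk_180 : chk 180 = true := by decide +kernel

theorem chk_181 : chk 181 = true := by decide +kernel

theorem chk_182 : chk 182 = true := by decide +kernel

theorem chk_183 : chk 183 = true := by decide +kernel

theorem chk_184 : chk 184 = true := by decide +kernel

theorem chk_185 : chk 185 = true := by decide +kernel

theorem chk_186 : chk 186 = true := by decide +kernel

theorem chk_187 : chk 187 = true := by decide +kernel

theorem chk_188 : chk 188 = true := by decide +kernel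

end Cfsg.Agent.Lib.Helper12.McLW.Helper17
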