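import Cfsg.Agent.Lib.Helper17.McLWMC18

set_option autoImplicit false
set_option maxRecDepth 100000

namespace Cfsg.Agent.Lib.Helper12.McLW.Helper17

theorem chk_189 : chk 189 = true := by decide +kernel

theorem chk_190 : chk 190 = true := by decide +kernel

theorem chk_191 : chk 191 = true := by decide +kernel

theorem chk_192 : chk 192 = true := by decide +kernel

theorem chk_193 : chk 193 = true := by decide +kernel

theorem chk_194 : chk 194 = true := by decide +kernel

theorem chk_195 : chk 195 = true := by decide +kernel

theorem chk_196 : chk 196 = true := by decide +kernel

theorem chk_197 : chk 197 = true := by decide +kernel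

end Cfsg.Agent.Lib.Helper12.McLW.Helper17
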