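import Cfsg.Agent.Lib.Helper17.McLWMC19

set_option autoImplicit false
set_option maxRecDepth 100000

namespace Cfsg.Agent.Lib.Helper12.McLW.Helper17

theorem chk_198 : chk 198 = true := by decide +kernel

theorem chk_199 : chk 199 = true := by decide +kernel

theorem chk_200 : chk 200 = true := by decide +kernel

theorem chk_201 : chk 201 = true := by decide +kernel

theorem chk_202 : chk 202 = true := by decide +kernel

theorem chk_203 : chk 203 = true := by decide +kernel

theorem chk_204 : chk 204 = true := by decide +kernel

theorem chk_205 : chk 205 = true := by decide +kernel

theorem chk_206 : chk 206 = true := by decide +kernel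

end Cfsg.Agent.Lib.Helper12.McLW.Helper17
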