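import Cfsg.Agent.Lib.Helper17.McLWMC20

set_option autoImplicit false
set_option maxRecDepth 100000

namespace Cfsg.Agent.Lib.Helper12.McLW.Helper17

theorem chk_207 : chk 207 = true := by decide +kernel

theorem chk_208 : chk 208 = true := by decide +kernel

theorem chk_209 : chk 209 = true := by decide +kernel

theorem chk_210 : chk 210 = true := by decide +kernel

theorem chk_211 : chk 211 = true := by decide +kernel

theorem chk_212 : chk 212 = true := by decide +kernel

theorem chk_213 : chk 213 = true := by decide +kernel

theorem chk_214 : chk 214 = true := by decide +kernel

theorem chk_215 : chk 215 = true := by decide +kernel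

end Cfsg.Agent.Lib.Helper12.McLW.Helper17
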