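import Cfsg.Agent.Lib.Helper17.McLWMC21

set_option autoImplicit false
set_option maxRecDepth 100000

namespace Cfsg.Agent.Lib.Helper12.McLW.Helper17

theorem chk_216 : chk 216 = true := by decide +kernel

theorem chk_217 : chk 217 = true := by decide +kernel

theorem chk_218 : chk 218 = true := by decide +kernel

theorem chk_219 : chk 219 = true := by decide +kernel

theorem chk_220 : chk 220 = true := by decide +kernel

theorem chk_221 : chk 221 = true := by decide +kernel

theorem chk_222 : chk 222 = true := by decide +kernel

theorem chk_223 : chk 223 = true := by decide +kernel

theorem chk_224 : chk 224 = true := by decide +kernel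

end Cfsg.Agent.Lib.Helper12.McLW.Helper17
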