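import Cfsg.Agent.Lib.Helper17.McLWMC22

set_option autoImplicit false
set_option maxRecDepth 100000

namespace Cfsg.Agent.Lib.Helper12.McLW.Helper17

theorem chk_225 : chk 225 = true := by decide +kernel

theorem chk_226 : chk 226 = true := by decide +kernel

theorem chk_227 : chk 227 = true := by decide +kernel

theorem chk_228 : chk 228 = true := by decide +kernel

theorem chk_229 : chk 229 = true := by decide +kernel

theorem chk_230 : chk 230 = true := by decide +kernel

theorem chk_231 : chk 231 = true := by decide +kernel

theorem chk_232 : chk 232 = true := by decide +kernel

theorem chk_233 : chk 233 = true := by decide +kernel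

end Cfsg.Agent.Lib.Helper12.McLW.Helper17
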