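import Cfsg.Agent.Lib.Helper17.McLWMC23

set_option autoImplicit false
set_option maxRecDepth 100000

namespace Cfsg.Agent.Lib.Helper12.McLW.Helper17

theorem chk_234 : chk 234 = true := by decide +kernel

theorem chk_235 : chk 235 = true := by decide +kernel

theorem chk_236 : chk 236 = true := by decide +kernel

theorem chk_237 : chk 237 = true := by decide +kernel

theorem chk_238 : chk 238 = true := by decide +kernel

theorem chk_239 : chk 239 = true := by decide +kernel

theorem chk_240 : chk 240 = true := by decide +kernel

theorem chk_241 : chk 241 = true := by decide +kernel

theorem chk_242 : chk 242 = true := by decide +kernel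

end Cfsg.Agent.Lib.Helper12.McLW.Helper17
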