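import Cfsg.Agent.Lib.Helper17.McLWMC24

set_option autoImplicit false
set_option maxRecDepth 100000

namespace Cfsg.Agent.Lib.Helper12.McLW.Helper17

theorem chk_243 : chk 243 = true := by decide +kernel

theorem chk_244 : chk 244 = true := by decide +kernel

theorem chk_245 : chk 245 = true := by decide +kernel

theorem chk_246 : chk 246 = true := by decide +kernel

theorem chk_247 : chk 247 = true := by decide +kernel

theorem chk_248 : chk 248 = true := by decide +kernel

theorem chk_249 : chk 249 = true := by decide +kernel

theorem chk_250 : chk 250 = true := by decide +kernel

theorem chk_251 : chk 251 = true := by decide +kernel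

end Cfsg.Agent.Lib.Helper12.McLW.Helper17
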