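import Cfsg.Agent.Lib.Helper17.McLWMC25

set_option autoImplicit false
set_option maxRecDepth 100000

namespace Cfsg.Agent.Lib.Helper12.McLW.Helper17

theorem chk_252 : chk 252 = true := by decide +kernel

theorem chk_253 : chk 253 = true := by decide +kernel

theorem chk_254 : chk 254 = true := by decide +kernel

theorem chk_255 : chk 255 = true := by decide +kernel

theorem chk_256 : chk 256 = true := by decide +kernel

theorem chk_257 : chk 257 = true := by decide +kernel

theorem chk_258 : chk 258 = true := by decide +kernel

theorem chk_259 : chk 259 = true := by decide +kernel

theorem chk_260 : chk 260 = true := by decide +kernel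

end Cfsg.Agent.Lib.Helper12.McLW.Helper17
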