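import Cfsg.Agent.Lib.Helper17.McLWMC26

set_option autoImplicit false
set_option maxRecDepth 100000

namespace Cfsg.Agent.Lib.Helper12.McLW.Helper17

theorem chk_261 : chk 261 = true := by decide +kernel

theorem chk_262 : chk 262 = true := by decide +kernel

theorem chk_263 : chk 263 = true := by decide +kernel

theorem chk_264 : chk 264 = true := by decide +kernel

theorem chk_265 : chk 265 = true := by decide +kernel

theorem chk_266 : chk 266 = true := by decide +kernel

theorem chk_267 : chk 267 = true := by decide +kernel

theorem chk_268 : chk 268 = true := by decide +kernel

theorem chk_269 : chk 269 = true := by decide +kernel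

end Cfsg.Agent.Lib.Helper12.McLW.Helper17
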