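import Cfsg.Agent.Lib.Helper17.McLWMC0

set_option autoImplicit false
set_option maxRecDepth 100000

namespace Cfsg.Agent.Lib.Helper12.McLW.Helper17

theorem chk_27 : chk 27 = true := by decide +kernel

theorem chk_28 : chk 28 = true := by decide +kernel

theorem chk_29 : chk 29 = true := by decide +kernel

theorem chk_30 : chk 30 = true := by decide +kernel

theorem chk_31 : chk 31 = true := by decide +kernel

theorem chk_32 : chk 32 = true := by decide +kernel

theorem chk_33 : chk 33 = true := by decide +kernel

theorem chk_34 : chk 34 = true := by decide +kernel

theorem chk_35 : chk 35 = true := by decide +kernel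

end Cfsg.Agent.Lib.Helper12.McLW.Helper17
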