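import Cfsg.Agent.Lib.Helper17.McLWMC27

set_option autoImplicit false
set_option maxRecDepth 100000

namespace Cfsg.Agent.Lib.Helper12.McLW.Helper17

theorem chk_270 : chk 270 = true := by decide +kernel

theorem chk_271 : chk 271 = true := by decide +kernel

theorem chk_272 : chk 272 = true := by decide +kernel

theorem chk_273 : chk 273 = true := by decide +kernel

theorem chk_274 : chk 274 = true := by decide +kernel

theorem chk_275 : chk 275 = true := by decide +kernel

theorem chk_276 : chk 276 = true := by decide +kernel

theorem chk_277 : chk 277 = true := by decide +kernel

theorem chk_278 : chk 278 = true := by decide +kernel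

end Cfsg.Agent.Lib.Helper12.McLW.Helper17
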