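import Cfsg.Agent.Lib.Helper17.McLWMC28

set_option autoImplicit false
set_option maxRecDepth 100000

namespace Cfsg.Agent.Lib.Helper12.McLW.Helper17

theorem chk_279 : chk 279 = true := by decide +kernel

theorem chk_280 : chk 280 = true := by decide +kernel

theorem chk_281 : chk 281 = true := by decide +kernel

theorem chk_282 : chk 282 = true := by decide +kernel

theorem chk_283 : chk 283 = true := by decide +kernel

theorem chk_284 : chk 284 = true := by decide +kernel

theorem chk_285 : chk 285 = true := by decide +kernel

theorem chk_286 : chk 286 = true := by decide +kernel

theorem chk_287 : chk 287 = true := by decide +kernel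

end Cfsg.Agent.Lib.Helper12.McLW.Helper17
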