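import Cfsg.Agent.Lib.Helper17.McLWMC29

set_option autoImplicit false
set_option maxRecDepth 100000

namespace Cfsg.Agent.Lib.Helper12.McLW.Helper17

theorem chk_288 : chk 288 = true := by decide +kernel

theorem chk_289 : chk 289 = true := by decide +kernel

theorem chk_290 : chk 290 = true := by decide +kernel

theorem chk_291 : chk 291 = true := by decide +kernel

theorem chk_292 : chk 292 = true := by decide +kernel

theorem chk_293 : chk 293 = true := by decide +kernel

theorem chk_294 : chk 294 = true := by decide +kernel

theorem chk_295 : chk 295 = true := by decide +kernel

theorem chk_296 : chk 296 = true := by decide +kernel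

end Cfsg.Agent.Lib.Helper12.McLW.Helper17
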