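import Cfsg.Agent.Lib.Helper17.McLWMC30

set_option autoImplicit false
set_option maxRecDepth 100000

namespace Cfsg.Agent.Lib.Helper12.McLW.Helper17

theorem chk_297 : chk 297 = true := by decide +kernel

theorem chk_298 : chk 298 = true := by decide +kernel

theorem chk_299 : chk 299 = true := by decide +kernel

theorem chk_300 : chk 300 = true := by decide +kernel

theorem chk_301 : chk 301 = true := by decide +kernel

theorem chk_302 : chk 302 = true := by decide +kernel

theorem chk_303 : chk 303 = true := by decide +kernel

theorem chk_304 : chk 304 = true := by decide +kernel

theorem chk_305 : chk 305 = true := by decide +kernel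

end Cfsg.Agent.Lib.Helper12.McLW.Helper17
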