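import Cfsg.Agent.Lib.Helper17.McLWMC31

set_option autoImplicit false
set_option maxRecDepth 100000

namespace Cfsg.Agent.Lib.Helper12.McLW.Helper17

theorem chk_306 : chk 306 = true := by decide +kernel

theorem chk_307 : chk 307 = true := by decide +kernel

theorem chk_308 : chk 308 = true := by decide +kernel

theorem chk_309 : chk 309 = true := by decide +kernel

theorem chk_310 : chk 310 = true := by decide +kernel

theorem chk_311 : chk 311 = true := by decide +kernel

theorem chk_312 : chk 312 = true := by decide +kernel

theorem chk_313 : chk 313 = true := by decide +kernel

theorem chk_314 : chk 314 = true := by decide +kernel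

end Cfsg.Agent.Lib.Helper12.McLW.Helper17
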