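import Cfsg.Agent.Lib.Helper17.McLWMC32

set_option autoImplicit false
set_option maxRecDepth 100000

namespace Cfsg.Agent.Lib.Helper12.McLW.Helper17

theorem chk_315 : chk 315 = true := by decide +kernel

theorem chk_316 : chk 316 = true := by decide +kernel

theorem chk_317 : chk 317 = true := by decide +kernel

theorem chk_318 : chk 318 = true := by decide +kernel

theorem chk_319 : chk 319 = true := by decide +kernel

theorem chk_320 : chk 320 = true := by decide +kernel

theorem chk_321 : chk 321 = true := by decide +kernel

theorem chk_322 : chk 322 = true := by decide +kernel

theorem chk_323 : chk 323 = true := by decide +kernel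

end Cfsg.Agent.Lib.Helper12.McLW.Helper17
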