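import Cfsg.Agent.Lib.Helper17.McLWMC33

set_option autoImplicit false
set_option maxRecDepth 100000

namespace Cfsg.Agent.Lib.Helper12.McLW.Helper17

theorem chk_324 : chk 324 = true := by decide +kernel

theorem chk_325 : chk 325 = true := by decide +kernel

theorem chk_326 : chk 326 = true := by decide +kernel

theorem chk_327 : chk 327 = true := by decide +kernel

theorem chk_328 : chk 328 = true := by decide +kernel

theorem chk_329 : chk 329 = true := by decide +kernel

theorem chk_330 : chk 330 = true := by decide +kernel

theorem chk_331 : chk 331 = true := by decide +kernel

theorem chk_332 : chk 332 = true := by decide +kernel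

end Cfsg.Agent.Lib.Helper12.McLW.Helper17
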