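import Cfsg.Agent.Lib.Helper17.McLWMC34

set_option autoImplicit false
set_option maxRecDepth 100000

namespace Cfsg.Agent.Lib.Helper12.McLW.Helper17

theorem chk_333 : chk 333 = true := by decide +kernel

theorem chk_334 : chk 334 = true := by decide +kernel

theorem chk_335 : chk 335 = true := by decide +kernel

theorem chk_336 : chk 336 = true := by decide +kernel

theorem chk_337 : chk 337 = true := by decide +kernel

theorem chk_338 : chk 338 = true := by decide +kernel

theorem chk_339 : chk 339 = true := by decide +kernel

theorem chk_340 : chk 340 = true := by decide +kernel

theorem chk_341 : chk 341 = true := by decide +kernel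

end Cfsg.Agent.Lib.Helper12.McLW.Helper17
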