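import Cfsg.Agent.Lib.Helper17.McLWMC35

set_option autoImplicit false
set_option maxRecDepth 100000

namespace Cfsg.Agent.Lib.Helper12.McLW.Helper17

theorem chk_342 : chk 342 = true := by decide +kernel

theorem chk_343 : chk 343 = true := by decide +kernel

theorem chk_344 : chk 344 = true := by decide +kernel

theorem chk_345 : chk 345 = true := by decide +kernel

theorem chk_346 : chk 346 = true := by decide +kernel

theorem chk_347 : chk 347 = true := by decide +kernel

theorem chk_348 : chk 348 = true := by decide +kernel

theorem chk_349 : chk 349 = true := by decide +kernel

theorem chk_350 : chk 350 = true := by decide +kernel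

end Cfsg.Agent.Lib.Helper12.McLW.Helper17
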