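import Cfsg.Agent.Lib.Helper17.McLWMC36

set_option autoImplicit false
set_option maxRecDepth 100000

namespace Cfsg.Agent.Lib.Helper12.McLW.Helper17

theorem chk_351 : chk 351 = true := by decide +kernel

theorem chk_352 : chk 352 = true := by decide +kernel

theorem chk_353 : chk 353 = true := by decide +kernel

theorem chk_354 : chk 354 = true := by decide +kernel

theorem chk_355 : chk 355 = true := by decide +kernel

theorem chk_356 : chk 356 = true := by decide +kernel

theorem chk_357 : chk 357 = true := by decide +kernel

theorem chk_358 : chk 358 = true := by decide +kernel

theorem chk_359 : chk 359 = true := by decide +kernel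

end Cfsg.Agent.Lib.Helper12.McLW.Helper17
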