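import Cfsg.Agent.Lib.Helper17.McLWMC1

set_option autoImplicit false
set_option maxRecDepth 100000

namespace Cfsg.Agent.Lib.Helper12.McLW.Helper17

theorem chk_36 : chk 36 = true := by decide +kernel

theorem chk_37 : chk 37 = true := by decide +kernel

theorem chk_38 : chk 38 = true := by decide +kernel

theorem chk_39 : chk 39 = true := by decide +kernel

theorem chk_40 : chk 40 = true := by decide +kernel

theorem chk_41 : chk 41 = true := by decide +kernel

theorem chk_42 : chk 42 = true := by decide +kernel

theorem chk_43 : chk 43 = true := by decide +kernel

theorem chk_44 : chk 44 = true := by decide +kernel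

end Cfsg.Agent.Lib.Helper12.McLW.Helper17
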