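import Cfsg.Agent.Lib.Helper17.McLWMC37

set_option autoImplicit false
set_option maxRecDepth 100000

namespace Cfsg.Agent.Lib.Helper12.McLW.Helper17

theorem chk_360 : chk 360 = true := by decide +kernel

theorem chk_361 : chk 361 = true := by decide +kernel

theorem chk_362 : chk 362 = true := by decide +kernel

theorem chk_363 : chk 363 = true := by decide +kernel

theorem chk_364 : chk 364 = true := by decide +kernel

theorem chk_365 : chk 365 = true := by decide +kernel

theorem chk_366 : chk 366 = true := by decide +kernel

theorem chk_367 : chk 367 = true := by decide +kernel

theorem chk_368 : chk 368 = true := by decide +kernel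

end Cfsg.Agent.Lib.Helper12.McLW.Helper17
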