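import Cfsg.Agent.Lib.Helper17.McLWMC38

set_option autoImplicit false
set_option maxRecDepth 100000

namespace Cfsg.Agent.Lib.Helper12.McLW.Helper17

theorem chk_369 : chk 369 = true := by decide +kernel

theorem chk_370 : chk 370 = true := by decide +kernel

theorem chk_371 : chk 371 = true := by decide +kernel

theorem chk_372 : chk 372 = true := by decide +kernel

theorem chk_373 : chk 373 = true := by decide +kernel

theorem chk_374 : chk 374 = true := by decide +kernel

theorem chk_375 : chk 375 = true := by decide +kernel

theorem chk_376 : chk 376 = true := by decide +kernel

theorem chk_377 : chk 377 = true := by decide +kernel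

end Cfsg.Agent.Lib.Helper12.McLW.Helper17
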