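import Cfsg.Agent.Lib.Helper17.McLWMC2

set_option autoImplicit false
set_option maxRecDepth 100000

namespace Cfsg.Agent.Lib.Helper12.McLW.Helper17

theorem chk_45 : chk 45 = true := by decide +kernel

theorem chk_46 : chk 46 = true := by decide +kernel

theorem chk_47 : chk 47 = true := by decide +kernel

theorem chk_48 : chk 48 = true := by decide +kernel

theorem chk_49 : chk 49 = true := by decide +kernel

theorem chk_50 : chk 50 = true := by decide +kernel

theorem chk_51 : chk 51 = true := by decide +kernel

theorem chk_52 : chk 52 = true := by decide +kernel

theorem chk_53 : chk 53 = true := by decide +kernel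

end Cfsg.Agent.Lib.Helper12.McLW.Helper17
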