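import Cfsg.Agent.Lib.Helper17.McLWMC3

set_option autoImplicit false
set_option maxRecDepth 100000

namespace Cfsg.Agent.Lib.Helper12.McLW.Helper17

theorem chk_54 : chk 54 = true := by decide +kernel

theorem chk_55 : chk 55 = true := by decide +kernel

theorem chk_56 : chk 56 = true := by decide +kernel

theorem chk_57 : chk 57 = true := by decide +kernel

theorem chk_58 : chk 58 = true := by decide +kernel

theorem chk_59 : chk 59 = true := by decide +kernel

theorem chk_60 : chk 60 = true := by decide +kernel

theorem chk_61 : chk 61 = true := by decide +kernel

theorem chk_62 : chk 62 = true := by decide +kernel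

end Cfsg.Agent.Lib.Helper12.McLW.Helper17
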