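import Cfsg.Agent.Lib.Helper17.McLWMC5

set_option autoImplicit false
set_option maxRecDepth 100000

namespace Cfsg.Agent.Lib.Helper12.McLW.Helper17

theorem chk_72 : chk 72 = true := by decide +kernel

theorem chk_73 : chk 73 = true := by decide +kernel

theorem chk_74 : chk 74 = true := by decide +kernel

theorem chk_75 : chk 75 = true := by decide +kernel

theorem chk_76 : chk 76 = true := by decide +kernel

theorem chk_77 : chk 77 = true := by decide +kernel

theorem chk_78 : chk 78 = true := by decide +kernel

theorem chk_79 : chk 79 = true := by decide +kernel

theorem chk_80 : chk 80 = true := by decide +kernel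

end Cfsg.Agent.Lib.Helper12.McLW.Helper17
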