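import Cfsg.Agent.Lib.Helper17.McLWMC6

set_option autoImplicit false
set_option maxRecDepth 100000

namespace Cfsg.Agent.Lib.Helper12.McLW.Helper17

theorem chk_81 : chk 81 = true := by decide +kernel

theorem chk_82 : chk 82 = true := by decide +kernel

theorem chk_83 : chk 83 = true := by decide +kernel

theorem chk_84 : chk 84 = true := by decide +kernel

theorem chk_85 : chk 85 = true := by decide +kernel

theorem chk_86 : chk 86 = true := by decide +kernel

theorem chk_87 : chk 87 = true := by decide +kernel

theorem chk_88 : chk 88 = true := by decide +kernel

theorem chk_89 : chk 89 = true := by decide +kernel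

end Cfsg.Agent.Lib.Helper12.McLW.Helper17
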