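import Cfsg.Agent.Lib.Helper12.McLWData

/-!
# S2047-[M] (helper17): a checker for permutation models with a fibre shift

The letters act by a function `lk : ℕ → ℕ → ℕ` (letter, point); words of letters are traced at the points `3 c`
only: the letters commute with the shift `zs` of the fibres `{3 c, 3 c + 1, 3 c + 2}`.
-/

set_option autoImplicit false

namespace Cfsg.Agent.Lib.Helper12.McLW.Helper17

open Cfsg.H5.TCk

/-- evaluate a number before passing it on -/
def frc {β : Sort*} (x : ℕ) (f : ℕ → β) : β :=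
  Nat.rec (motive := fun _ => β) (f 0) (fun m _ => f (Nat.succ m)) x

theorem frc_eq {β : Sort*} (x : ℕ) (f : ℕ → β) : frc x f = f x := by
  cases x <;> rfl

/-- the shift of the fibres `{3 c, 3 c + 1, 3 c + 2}` -/
def zs (k : ℕ) : ℕ := cond (Nat.beq (k % 3) 2) (k - 2) (k + 1)

theorem zs_eq (k : ℕ) : zs k = if k % 3 = 2 then k - 2 else k + 1 := by
  unfold zs
  by_cases h : k % 3 = 2
  · rw [if_pos h, h]; rfl
  · rw [if_neg h]
    have : Nat.beq (k % 3) 2 = false := by
      cases hb : Nat.beq (k % 3) 2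
      · rfl
      · exact absurd (Nat.eq_of_beq_eq_true hb) h
    rw [this]; rfl

/-- trace of a word of letters (the last letter acts first) -/
noncomputable def trW (lk : ℕ → ℕ → ℕ) (word : List ℕ) (a : ℕ) : ℕ :=
  List.rec (motive := fun _ => ℕ) a (fun l _ ih => lk l ih) word

theorem trW_nil (lk : ℕ → ℕ → ℕ) (a : ℕ) : trW lk [] a = a := rfl

theorem trW_cons (lk : ℕ → ℕ → ℕ) (l : ℕ) (r : List ℕ) (a : ℕ) :
    trW lk (l :: r) a = lk l (trW lk r a) := rfl

/-- `f`, `g` are mutually inverse bijections of `{0, …, n-1}` -/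
def pairF (n : ℕ) (f g : ℕ → ℕ) : Bool :=
  (List.range n).all fun a =>
    Nat.blt (f a) n && Nat.beq (g (f a)) a && Nat.blt (g a) n && Nat.beq (f (g a)) a

theorem pairF_spec {n : ℕ} {f g : ℕ → ℕ} (h : pairF n f g = true) {a : ℕ} (ha : a < n) :
    f a < n ∧ g (f a) = a ∧ g a < n ∧ f (g a) = a := by
  unfold pairF at h
  rw [List.all_eq_true] at h
  have := h a (List.mem_range.mpr ha)
  simp only [Bool.and_eq_true] at this
  obtain ⟨⟨⟨h1, h2⟩, h3⟩, h4⟩ := this
  exact ⟨Nat.le_of_ble_eq_true h1, Nat.eq_of_beq_eq_true h2, Nat.le_of_ble_eq_true h3,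
    Nat.eq_of_beq_eq_true h4⟩

/-- the permutation of a pair of mutually inverse functions -/
def permF (n : ℕ) (f g : ℕ → ℕ) : Equiv.Perm (Fin n) :=
  if h : pairF n f g = true then
    { toFun := fun a => ⟨f a.val, (pairF_spec h a.isLt).1⟩
      invFun := fun a => ⟨g a.val, (pairF_spec h a.isLt).2.2.1⟩
      left_inv := fun a => Fin.ext (pairF_spec h a.isLt).2.1
      right_inv := fun a => Fin.ext (pairF_spec h a.isLt).2.2.2 }
  else 1

theorem permF_apply {n : ℕ} {f g : ℕ → ℕ} (h : pairF n f g = true) (a : Fin n) :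
    (permF n f g a).val = f a.val := by
  unfold permF; rw [dif_pos h]; rfl

theorem permF_inv_apply {n : ℕ} {f g : ℕ → ℕ} (h : pairF n f g = true) (a : Fin n) :
    ((permF n f g)⁻¹ a).val = g a.val := by
  unfold permF; rw [dif_pos h]; rfl

/-- the generators of the model -/
def pm (n : ℕ) (lk : ℕ → ℕ → ℕ) (i : ℕ) : Equiv.Perm (Fin n) :=
  permF n (lk (2 * i)) (lk (2 * i + 1))

/-- all words of `L` fix the point `a` -/
noncomputable def fixAll (lk : ℕ → ℕ → ℕ) (L : List (List ℕ)) (a : ℕ) : Bool :=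
  L.all fun r => Nat.beq (trW lk r a) a

/-- all words of `L` fix the points `3 lo, 3 (lo + 1), …, 3 (lo + len - 1)` -/
noncomputable def fixRange (lk : ℕ → ℕ → ℕ) (L : List (List ℕ)) (lo len : ℕ) : Bool :=
  (List.range len).all fun i => fixAll lk L (3 * (lo + i))

theorem fixRange_sound (lk : ℕ → ℕ → ℕ) (L : List (List ℕ)) (lo len : ℕ)
    (h : fixRange lk L lo len = true) (c : ℕ) (h1 : lo ≤ c) (h2 : c < lo + len)
    (r : List ℕ) (hr : r ∈ L) : trW lk r (3 * c) = 3 * c := by
  unfold fixRange at h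
  rw [List.all_eq_true] at h
  have h3 := h (c - lo) (List.mem_range.mpr (by omega))
  have h4 : lo + (c - lo) = c := by omega
  rw [h4] at h3
  unfold fixAll at h3
  rw [List.all_eq_true] at h3
  exact Nat.eq_of_beq_eq_true (h3 r hr)

/-- the first `m` letters commute with the fibre shift at the points `lo, …, lo + len - 1` -/
def zOK (m : ℕ) (lk : ℕ → ℕ → ℕ) (lo len : ℕ) : Bool :=
  (List.range len).all fun i => (List.range m).all fun l =>
    Nat.beq (lk l (zs (lo + i))) (zs (lk l (lo + i)))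

theorem zOK_sound (m : ℕ) (lk : ℕ → ℕ → ℕ) (lo len : ℕ) (h : zOK m lk lo len = true) (k : ℕ)
    (h1 : lo ≤ k) (h2 : k < lo + len) (l : ℕ) (hl : l < m) : lk l (zs k) = zs (lk l k) := by
  unfold zOK at h
  rw [List.all_eq_true] at h
  have h3 := h (k - lo) (List.mem_range.mpr (by omega))
  have h4 : lo + (k - lo) = k := by omega
  rw [h4, List.all_eq_true] at h3
  exact Nat.eq_of_beq_eq_true (h3 l (List.mem_range.mpr hl))

/-- the letters of the words of `L` are `< m` -/
def lettersLt (m : ℕ) (L : List (List ℕ)) : Bool := L.all fun r => r.all fun l => decide (l < m)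

theorem lettersLt_sound (m : ℕ) (L : List (List ℕ)) (h : lettersLt m L = true) (r : List ℕ)
    (hr : r ∈ L) (l : ℕ) (hl : l ∈ r) : l < m := by
  unfold lettersLt at h
  rw [List.all_eq_true] at h
  have h1 := h r hr
  rw [List.all_eq_true] at h1
  exact of_decide_eq_true (h1 l hl)

section Sound

variable (n : ℕ) (lk : ℕ → ℕ → ℕ) (nl : ℕ)
variable (hpair : ∀ i < nl, pairF n (lk (2 * i)) (lk (2 * i + 1)) = true)

include hpair in
theorem gl_apply (l : ℕ) (hl : l < 2 * nl) (a : Fin n) :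
    (gl (pm n lk) l a).val = lk l a.val := by
  unfold gl
  by_cases h : l % 2 = 0
  · rw [if_pos h]
    have h2 : 2 * (l / 2) = l := by omega
    unfold pm
    rw [permF_apply (hpair (l / 2) (by omega)), h2]
  · rw [if_neg h]
    have h2 : 2 * (l / 2) + 1 = l := by omega
    unfold pm
    rw [permF_inv_apply (hpair (l / 2) (by omega)), h2]

include hpair in
theorem ev_apply (r : List ℕ) (hr : ∀ l ∈ r, l < 2 * nl) (a : Fin n) :
    (ev (pm n lk) r a).val = trW lk r a.val := by
  induction r with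
  | nil => rfl
  | cons l r ih =>
    have h1 : ev (pm n lk) (l :: r) = gl (pm n lk) l * ev (pm n lk) r := rfl
    rw [h1, Equiv.Perm.mul_apply, gl_apply n lk nl hpair l (hr l List.mem_cons_self), trW_cons,
      ih (fun l' hl' => hr l' (List.mem_cons_of_mem _ hl'))]

include hpair in
theorem trW_lt (r : List ℕ) (hr : ∀ l ∈ r, l < 2 * nl) (k : ℕ) (hk : k < n) :
    trW lk r k < n := by
  have h := ev_apply n lk nl hpair r hr ⟨k, hk⟩
  rw [← h]
  exact Fin.isLt _

variable (hz : ∀ k < n, ∀ l < 2 * nl, lk l (zs k) = zs (lk l k))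

include hpair hz in
theorem trW_zs (r : List ℕ) (hr : ∀ l ∈ r, l < 2 * nl) (k : ℕ) (hk : k < n) :
    trW lk r (zs k) = zs (trW lk r k) := by
  induction r with
  | nil => rfl
  | cons l r ih =>
    have hr' : ∀ l' ∈ r, l' < 2 * nl := fun l' hl' => hr l' (List.mem_cons_of_mem _ hl')
    rw [trW_cons, trW_cons, ih hr', hz _ (trW_lt n lk nl hpair r hr' k hk) l (hr l List.mem_cons_self)]

include hpair hz in
/-- a word which fixes the points `3 c` acts trivially -/
theorem ev_eq_one_of_fix (hn : n % 3 = 0) (r : List ℕ) (hr : ∀ l ∈ r, l < 2 * nl)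
    (hfix : ∀ c, 3 * c < n → trW lk r (3 * c) = 3 * c) : ev (pm n lk) r = 1 := by
  apply Equiv.ext
  intro a
  apply Fin.ext
  rw [ev_apply n lk nl hpair r hr a]
  obtain ⟨k, hk⟩ := a
  show trW lk r k = k
  obtain ⟨c, hc⟩ : ∃ c, k = 3 * c ∨ k = 3 * c + 1 ∨ k = 3 * c + 2 := ⟨k / 3, by omega⟩
  have h0 := hfix c (by omega)
  have hz1 : zs (3 * c) = 3 * c + 1 := by rw [zs_eq]; split_ifs <;> omega
  have hz2 : zs (3 * c + 1) = 3 * c + 2 := by rw [zs_eq]; split_ifs <;> omega
  have hc0 : 3 * c < n := by omega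
  have hc1 : 3 * c + 1 < n := by omega
  rcases hc with rfl | rfl | rfl
  · exact h0
  · rw [← hz1, trW_zs n lk nl hpair hz r hr _ hc0, h0]
  · rw [← hz2, trW_zs n lk nl hpair hz r hr _ hc1, ← hz1,
      trW_zs n lk nl hpair hz r hr _ hc0, h0]

end Sound

end Cfsg.Agent.Lib.Helper12.McLW.Helper17
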