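import Cfsg.Agent.Lib.Helper17.McLWMTab

/-! # S2047-[M] (helper17): the tables are pairs of mutually inverse permutations; small checks -/

set_option autoImplicit false
set_option maxRecDepth 100000

namespace Cfsg.Agent.Lib.Helper12.McLW.Helper17

theorem pair_0 : pairF 66825 (lk 0) (lk 1) = true := by decide +kernel

theorem pair_1 : pairF 66825 (lk 2) (lk 3) = true := by decide +kernel

theorem pair_2 : pairF 66825 (lk 4) (lk 5) = true := by decide +kernel

theorem pair_3 : pairF 66825 (lk 6) (lk 7) = true := by decide +kernel

theorem pair_4 : pairF 66825 (lk 8) (lk 9) = true := by decide +kernel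

theorem letters_ok : lettersLt 10 relsM = true := by decide +kernel

theorem relsW_sub : ∀ r ∈ relsW, r ∈ relsM := by decide +kernel

theorem wordZ3_mem : wordZ ++ wordZ ++ wordZ ∈ relsM := by decide +kernel

theorem trW_wordZ : trW lk wordZ 0 = 2 := by decide +kernel

end Cfsg.Agent.Lib.Helper12.McLW.Helper17
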