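import Mathlib

/-!
Norm maps for commuting automorphisms of prime order of a finite abelian group.
If `x, z` commute, have order dividing `p`, and `z` is fixed-point-free, the group is the direct
product of the fixed subgroups of `x * z ^ i`, `i < p`.  Transfer to subgroups of an ambient group.
-/

set_option autoImplicit false

namespace Cfsg.Agent.Lib.Helper17

section fixedsub

variable {W : Type*} [Group W]

/-- The subgroup of fixed points of an automorphism. -/
def fixedSub (t : MulAut W) : Subgroup W where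
  carrier := {v | t v = v}
  one_mem' := map_one t
  mul_mem' := fun {a b} ha hb => by
    have ha' : t a = a := ha
    have hb' : t b = b := hb
    show t (a * b) = a * b
    rw [map_mul, ha', hb']
  inv_mem' := fun {a} ha => by
    have ha' : t a = a := ha
    show t a⁻¹ = a⁻¹
    rw [map_inv, ha']

theorem mem_fixedSub {t : MulAut W} {v : W} : v ∈ fixedSub t ↔ t v = v := Iff.rfl

theorem pow_apply_of_fixed {t : MulAut W} {v : W} (h : t v = v) (j : ℕ) : (t ^ j) v = v := by
  induction j with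
  | zero => simp
  | succ k ih => rw [pow_succ, MulAut.mul_apply, h, ih]

theorem fixed_conj {s t y : MulAut W} (h : y * s * y⁻¹ = t) {v : W} (hv : s v = v) :
    t (y v) = y v := by
  rw [← h, MulAut.mul_apply, MulAut.mul_apply, MulAut.inv_apply_self, hv]

theorem card_fixed_conj [Finite W] {s t y : MulAut W} (h : y * s * y⁻¹ = t) :
    Nat.card (fixedSub s) = Nat.card (fixedSub t) := by
  have h' : y⁻¹ * t * y⁻¹⁻¹ = s := by rw [← h]; group
  apply le_antisymm
  · exact Nat.card_le_card_of_injective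
      (fun v : fixedSub s => (⟨y v.1, fixed_conj h v.2⟩ : fixedSub t))
      (fun a b hab => Subtype.ext (y.injective (congrArg Subtype.val hab)))
  · exact Nat.card_le_card_of_injective
      (fun v : fixedSub t => (⟨y⁻¹ v.1, fixed_conj h' v.2⟩ : fixedSub s))
      (fun a b hab => Subtype.ext ((y⁻¹).injective (congrArg Subtype.val hab)))

/-- A fixed-point-free automorphism of `p`-power order: `|W| ≡ 1 mod p`. -/
theorem card_modEq_one_of_fpf [Finite W] {p : ℕ} [Fact p.Prime] (z : MulAut W) (hz : z ^ p = 1)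
    (hfpf : ∀ v : W, z v = v → v = 1) : Nat.card W ≡ 1 [MOD p] := by
  have hG : IsPGroup p (Subgroup.zpowers z) := by
    rintro ⟨g, hg⟩
    refine ⟨1, ?_⟩
    obtain ⟨k, rfl⟩ := Subgroup.mem_zpowers_iff.mp hg
    apply Subtype.ext
    rw [pow_one, Subgroup.coe_pow]
    show (z ^ k) ^ p = 1
    rw [← zpow_natCast, ← zpow_mul, mul_comm, zpow_mul, zpow_natCast, hz, one_zpow]
  have h := hG.card_modEq_card_fixedPoints W
  have hfix : MulAction.fixedPoints (Subgroup.zpowers z) W = {1} := by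
    ext v
    rw [MulAction.mem_fixedPoints, Set.mem_singleton_iff]
    constructor
    · intro hv
      exact hfpf v (hv ⟨z, Subgroup.mem_zpowers z⟩)
    · rintro rfl g
      exact map_one (g : MulAut W)
  rw [hfix] at h
  simpa using h

end fixedsub

section normfix

variable {V : Type*} [CommGroup V]

/-- The norm `v ↦ ∏_{j<p} t^j v` as a homomorphism. -/
def nrmHom (p : ℕ) (t : MulAut V) : V →* V where
  toFun v := ∏ j ∈ Finset.range p, (t ^ j) v
  map_one' := by simp
  map_mul' u v := by simp [Finset.prod_mul_distrib]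

theorem nrmHom_apply (p : ℕ) (t : MulAut V) (v : V) :
    nrmHom p t v = ∏ j ∈ Finset.range p, (t ^ j) v := rfl

theorem nrmHom_of_fixed (p : ℕ) {t : MulAut V} {v : V} (h : t v = v) : nrmHom p t v = v ^ p := by
  rw [nrmHom_apply, Finset.prod_congr rfl (fun j _ => pow_apply_of_fixed h j), Finset.prod_const,
    Finset.card_range]

theorem apply_nrmHom {p : ℕ} {t : MulAut V} (ht : t ^ p = 1) (v : V) :
    t (nrmHom p t v) = nrmHom p t v := by
  have h1 := Finset.prod_range_succ' (fun j => (t ^ j) v) p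
  have h2 := Finset.prod_range_succ (fun j => (t ^ j) v) p
  simp only [ht, pow_zero, MulAut.one_apply] at h1 h2
  have h3 : ∏ j ∈ Finset.range p, (t ^ (j + 1)) v = ∏ j ∈ Finset.range p, (t ^ j) v :=
    mul_right_cancel (h1.symm.trans h2)
  rw [nrmHom_apply, map_prod, ← h3]
  refine Finset.prod_congr rfl fun j _ => ?_
  rw [pow_succ', MulAut.mul_apply]

theorem nrmHom_eq_one_of_fpf {p : ℕ} {t : MulAut V} (ht : t ^ p = 1)
    (hfpf : ∀ v : V, t v = v → v = 1) (v : V) : nrmHom p t v = 1 :=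
  hfpf _ (apply_nrmHom ht v)

theorem nrmHom_comm (p : ℕ) {s t : MulAut V} (h : Commute s t) (v : V) :
    nrmHom p t (s v) = s (nrmHom p t v) := by
  rw [nrmHom_apply, nrmHom_apply, map_prod]
  refine Finset.prod_congr rfl fun j _ => ?_
  rw [← MulAut.mul_apply, ← MulAut.mul_apply, (h.pow_right j).eq]

theorem nrmHom_tele {p : ℕ} {t : MulAut V} (ht : t ^ p = 1) (a : V) :
    nrmHom p t (a⁻¹ * t a) = 1 := by
  rw [map_mul, map_inv, nrmHom_comm p (Commute.refl t), apply_nrmHom ht, inv_mul_cancel]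

theorem fpf_pow {p : ℕ} (hp : p.Prime) {z : MulAut V} (hz : z ^ p = 1)
    (hfpf : ∀ v : V, z v = v → v = 1) {m : ℕ} (hm : ¬ p ∣ m) (v : V) (hv : (z ^ m) v = v) :
    v = 1 := by
  have hcop : Nat.Coprime m p := ((Nat.Prime.coprime_iff_not_dvd hp).mpr hm).symm
  obtain ⟨a, -, ha⟩ := Nat.exists_mul_mod_eq_one_of_coprime hcop hp.one_lt
  apply hfpf
  have h1 : ((z ^ m) ^ a) v = v := pow_apply_of_fixed hv a
  have h2 : (z ^ m) ^ a = z := by
    rw [← pow_mul, ← Nat.div_add_mod (m * a) p, ha, pow_add, pow_mul, hz, one_pow, one_mul,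
      pow_one]
  rw [h2] at h1
  exact h1

variable {p : ℕ} (x z : MulAut V)

theorem s_pow (hc : Commute x z) (hx : x ^ p = 1) (hz : z ^ p = 1) (i : ℕ) :
    (x * z ^ i) ^ p = 1 := by
  rw [(hc.pow_right i).mul_pow, hx, ← pow_mul, mul_comm i p, pow_mul, hz, one_pow, one_mul]

theorem nrm_eq_one_of_ne (hp : p.Prime) (hc : Commute x z) (hz : z ^ p = 1)
    (hfpf : ∀ v : V, z v = v → v = 1) {i k : ℕ} (hi : i < p) (hk : k < p) (hik : i ≠ k)
    {v : V} (hv : (x * z ^ k) v = v) : nrmHom p (x * z ^ i) v = 1 := by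
  obtain ⟨m, hm⟩ : ∃ m : ℕ, m = i + (p - k) := ⟨_, rfl⟩
  have hpm : ¬ p ∣ m := by
    rintro ⟨q, hq⟩
    have hq0 : q ≠ 0 := by
      rintro rfl
      rw [mul_zero] at hq
      omega
    have hq2 : q < 2 := by
      by_contra h
      have h' : 2 ≤ q := by omega
      have h3 : p * 2 ≤ p * q := Nat.mul_le_mul_left p h'
      omega
    have hq1 : q = 1 := by omega
    rw [hq1, mul_one] at hq
    omega
  have hs : x * z ^ i = (x * z ^ k) * z ^ m := by
    have hkm : k + m = i + p := by omega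
    rw [mul_assoc, ← pow_add, hkm, pow_add, hz, mul_one]
  have hcomm : Commute (x * z ^ k) (z ^ m) :=
    (hc.pow_right m).mul_left (Commute.pow_pow_self z k m)
  have hpow : ∀ j : ℕ, ((x * z ^ i) ^ j) v = ((z ^ m) ^ j) v := by
    intro j
    rw [hs, hcomm.mul_pow, (hcomm.pow_pow j j).eq, MulAut.mul_apply, pow_apply_of_fixed hv j]
  rw [nrmHom_apply, Finset.prod_congr rfl (fun j _ => hpow j), ← nrmHom_apply]
  exact nrmHom_eq_one_of_fpf (by rw [← pow_mul, mul_comm m p, pow_mul, hz, one_pow])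
    (fun u hu => fpf_pow hp hz hfpf hpm u hu) v

theorem prod_fixed_injective (hp : p.Prime) (hc : Commute x z) (hz : z ^ p = 1)
    (hfpf : ∀ v : V, z v = v → v = 1) (hpV : ∀ v : V, v ^ p = 1 → v = 1) :
    Function.Injective
      (fun f : (∀ i : Fin p, fixedSub (x * z ^ (i : ℕ))) => ∏ i, (f i : V)) := by
  have key : ∀ (f : ∀ i : Fin p, fixedSub (x * z ^ (i : ℕ))) (k : Fin p),
      nrmHom p (x * z ^ (k : ℕ)) (∏ i, (f i : V)) = (f k : V) ^ p := by
    intro f k
    rw [map_prod, Finset.prod_eq_single k]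
    · exact nrmHom_of_fixed p (f k).2
    · intro i _ hik
      exact nrm_eq_one_of_ne x z hp hc hz hfpf k.2 i.2 (fun h => hik (Fin.ext h.symm)) (f i).2
    · intro h
      exact absurd (Finset.mem_univ k) h
  intro f g hfg
  funext k
  have h1 := key f k
  have h2 := key g k
  have hfg' : ∏ i, (f i : V) = ∏ i, (g i : V) := hfg
  rw [hfg'] at h1
  have h12 : (f k : V) ^ p = (g k : V) ^ p := h1.symm.trans h2
  have h3 : ((f k : V) * (g k : V)⁻¹) ^ p = 1 := by
    rw [mul_pow, inv_pow, h12, mul_inv_cancel]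
  exact Subtype.ext (mul_inv_eq_one.mp (hpV _ h3))

theorem prod_card_le [Finite V] (hp : p.Prime) (hc : Commute x z) (hz : z ^ p = 1)
    (hfpf : ∀ v : V, z v = v → v = 1) (hpV : ∀ v : V, v ^ p = 1 → v = 1) :
    ∏ i : Fin p, Nat.card (fixedSub (x * z ^ (i : ℕ))) ≤ Nat.card V := by
  have h := Nat.card_le_card_of_injective _ (prod_fixed_injective x z hp hc hz hfpf hpV)
  rwa [Nat.card_pi] at h

theorem card_fixed_eq [Finite V] (y : MulAut V) (hyz : Commute y z) (hxy : y⁻¹ * x * y = x * z)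
    (i : ℕ) : Nat.card (fixedSub (x * z ^ i)) = Nat.card (fixedSub x) := by
  induction i with
  | zero => rw [pow_zero, mul_one]
  | succ i ih =>
    rw [← ih]
    have hconj : y⁻¹ * (x * z ^ i) * y = x * z ^ (i + 1) := by
      calc y⁻¹ * (x * z ^ i) * y = (y⁻¹ * x * y) * (y⁻¹ * z ^ i * y) := by
            simp only [mul_assoc, mul_inv_cancel_left]
        _ = (x * z) * z ^ i := by
            rw [hxy]
            congr 1
            rw [mul_assoc, ← (hyz.pow_right i).eq, ← mul_assoc, inv_mul_cancel, one_mul]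
        _ = x * z ^ (i + 1) := by rw [mul_assoc, ← pow_succ']
    have hconj' : y * (x * z ^ (i + 1)) * y⁻¹ = x * z ^ i := by
      rw [← hconj]
      simp only [mul_assoc, mul_inv_cancel_left, mul_inv_cancel, mul_one]
    exact card_fixed_conj hconj'

theorem prod_nrm (hp : p.Prime) (hc : Commute x z) (hz : z ^ p = 1)
    (hfpf : ∀ v : V, z v = v → v = 1) (v : V) :
    ∏ i ∈ Finset.range p, nrmHom p (x * z ^ i) v = v ^ p := by
  have h1 : ∀ i j : ℕ, ((x * z ^ i) ^ j) v = (x ^ j) (((z ^ j) ^ i) v) := by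
    intro i j
    rw [(hc.pow_right i).mul_pow, pow_right_comm z i j, MulAut.mul_apply]
  simp only [nrmHom_apply, h1]
  rw [Finset.prod_comm]
  have h2 : ∀ j ∈ Finset.range p,
      ∏ i ∈ Finset.range p, (x ^ j) (((z ^ j) ^ i) v) = (x ^ j) (nrmHom p (z ^ j) v) := by
    intro j _
    rw [nrmHom_apply, map_prod]
  rw [Finset.prod_congr rfl h2, Finset.prod_eq_single 0]
  · rw [pow_zero, pow_zero, MulAut.one_apply]
    exact nrmHom_of_fixed p (show (1 : MulAut V) v = v from rfl)
  · intro j hj hj0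
    have h3 : nrmHom p (z ^ j) v = 1 := by
      refine nrmHom_eq_one_of_fpf ?_ (fun u hu => fpf_pow hp hz hfpf ?_ u hu) v
      · rw [← pow_mul, mul_comm j p, pow_mul, hz, one_pow]
      · exact Nat.not_dvd_of_pos_of_lt (Nat.pos_of_ne_zero hj0) (Finset.mem_range.mp hj)
    rw [h3, map_one]
  · intro h
    exact absurd (Finset.mem_range.mpr hp.pos) h

theorem exists_fixed_ne_one (hp : p.Prime) (hc : Commute x z) (hx : x ^ p = 1) (hz : z ^ p = 1)
    (hfpf : ∀ v : V, z v = v → v = 1) (hpV : ∀ v : V, v ^ p = 1 → v = 1) {v : V} (hv : v ≠ 1) :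
    ∃ i : ℕ, ∃ u : V, (x * z ^ i) u = u ∧ u ≠ 1 := by
  by_contra hcon
  push Not at hcon
  have h1 : ∏ i ∈ Finset.range p, nrmHom p (x * z ^ i) v = 1 :=
    Finset.prod_eq_one fun i _ => hcon i _ (apply_nrmHom (s_pow x z hc hx hz i) v)
  rw [prod_nrm x z hp hc hz hfpf] at h1
  exact hv (hpV v h1)

/-- Main abstract statement. -/
theorem fixed_main [Finite V] (hp : p.Prime) (y : MulAut V) (hxz : Commute x z)
    (hyz : Commute y z) (hxy : y⁻¹ * x * y = x * z) (hx : x ^ p = 1) (hz : z ^ p = 1)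
    (hfpf : ∀ v : V, z v = v → v = 1) (hpV : ∀ v : V, v ^ p = 1 → v = 1) :
    Nat.card (fixedSub x) ^ p ≤ Nat.card V ∧ (Nontrivial V → 1 < Nat.card (fixedSub x)) := by
  have hcard := card_fixed_eq x z y hyz hxy
  constructor
  · have h := prod_card_le x z hp hxz hz hfpf hpV
    have h' : ∏ i : Fin p, Nat.card (fixedSub (x * z ^ (i : ℕ))) =
        ∏ _i : Fin p, Nat.card (fixedSub x) := Finset.prod_congr rfl (fun i _ => hcard (i : ℕ))
    rw [h', Finset.prod_const, Finset.card_univ, Fintype.card_fin] at h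
    exact h
  · intro hnt
    obtain ⟨v, hv⟩ := exists_ne (1 : V)
    obtain ⟨i, u, hu, hu1⟩ := exists_fixed_ne_one x z hp hxz hx hz hfpf hpV hv
    rw [← hcard i]
    have hnt' : Nontrivial (fixedSub (x * z ^ i)) :=
      ⟨⟨⟨u, hu⟩, 1, fun h => hu1 (congrArg Subtype.val h)⟩⟩
    exact Finite.one_lt_card_iff_nontrivial.mpr hnt'

end normfix

section transfer

variable {G : Type*} [Group G]

theorem mem_centralizer_single {a g : G} :
    g ∈ Subgroup.centralizer ({a} : Set G) ↔ a * g = g * a := by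
  rw [Subgroup.mem_centralizer_iff]
  constructor
  · intro h
    exact h a rfl
  · intro h b hb
    rw [Set.mem_singleton_iff] at hb
    rw [hb]
    exact h

theorem le_normalizer_of_conj_mem {E V : Subgroup G} (h : ∀ e ∈ E, ∀ v ∈ V, e * v * e⁻¹ ∈ V) :
    E ≤ Subgroup.normalizer (V : Set G) := by
  intro e he
  rw [Subgroup.mem_normalizer_iff]
  intro v
  constructor
  · exact h e he v
  · intro hv
    have h1 := h e⁻¹ (E.inv_mem he) _ hv
    have h2 : e⁻¹ * (e * v * e⁻¹) * e⁻¹⁻¹ = v := by group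
    rwa [h2] at h1

/-- The fixed points of `x` on `V`, where `x, y, z` normalize the abelian `p'`-group `V`,
`[x,y] = z` is fixed-point-free of order `p` and commutes with `x, y`. -/
theorem card_fix_pow_le [Finite G] {p : ℕ} (hp : p.Prime) (V : Subgroup G)
    (hVc : ∀ u ∈ V, ∀ v ∈ V, u * v = v * u) (hpV : ∀ v ∈ V, v ^ p = 1 → v = 1) (x y z : G)
    (hxN : x ∈ Subgroup.normalizer (V : Set G)) (hyN : y ∈ Subgroup.normalizer (V : Set G))
    (hzN : z ∈ Subgroup.normalizer (V : Set G)) (hxz : x * z = z * x) (hyz : y * z = z * y)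
    (hxyz : x * y * x⁻¹ * y⁻¹ = z) (hx : x ^ p = 1) (hz : z ^ p = 1)
    (hfpf : ∀ v ∈ V, z * v = v * z → v = 1) (hne : V ≠ ⊥) :
    Nat.card ↥(V ⊓ Subgroup.centralizer {x}) ^ p ≤ Nat.card V ∧
      V ⊓ Subgroup.centralizer {x} ≠ ⊥ := by
  let _ : CommGroup V :=
    { (inferInstance : Group V) with mul_comm := fun a b => Subtype.ext (hVc a a.2 b b.2) }
  obtain ⟨φ, hφ⟩ : ∃ φ : Subgroup.normalizer (V : Set G) →* MulAut V,
      φ = V.normalizerMonoidHom := ⟨_, rfl⟩
  have happ : ∀ (g : Subgroup.normalizer (V : Set G)) (v : V),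
      ((φ g v : V) : G) = (g : G) * v * (g : G)⁻¹ := by
    intro g v
    rw [hφ]
    rfl
  obtain ⟨x', hx'⟩ : ∃ x' : Subgroup.normalizer (V : Set G), (x' : G) = x := ⟨⟨x, hxN⟩, rfl⟩
  obtain ⟨y', hy'⟩ : ∃ y' : Subgroup.normalizer (V : Set G), (y' : G) = y := ⟨⟨y, hyN⟩, rfl⟩
  obtain ⟨z', hz'⟩ : ∃ z' : Subgroup.normalizer (V : Set G), (z' : G) = z := ⟨⟨z, hzN⟩, rfl⟩
  have hX : (φ x') ^ p = 1 := by
    have h1 : x' ^ p = 1 := Subtype.ext (by rw [Subgroup.coe_pow, hx']; exact hx)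
    rw [← map_pow, h1, map_one]
  have hZ : (φ z') ^ p = 1 := by
    have h1 : z' ^ p = 1 := Subtype.ext (by rw [Subgroup.coe_pow, hz']; exact hz)
    rw [← map_pow, h1, map_one]
  have hXZ : Commute (φ x') (φ z') := by
    have h1 : Commute x' z' := Subtype.ext (by rw [Subgroup.coe_mul, Subgroup.coe_mul, hx', hz']; exact hxz)
    exact h1.map φ
  have hYZ : Commute (φ y') (φ z') := by
    have h1 : Commute y' z' := Subtype.ext (by rw [Subgroup.coe_mul, Subgroup.coe_mul, hy', hz']; exact hyz)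
    exact h1.map φ
  have hG : y⁻¹ * x * y = x * z := by
    have h1 : x * y = z * y * x := by rw [← hxyz]; group
    rw [mul_assoc, h1, ← hyz, hxz]
    group
  have hXY : (φ y')⁻¹ * φ x' * φ y' = φ x' * φ z' := by
    have h1 : y'⁻¹ * x' * y' = x' * z' := Subtype.ext (by
      rw [Subgroup.coe_mul, Subgroup.coe_mul, Subgroup.coe_mul, Subgroup.coe_inv, hx', hy', hz']
      exact hG)
    rw [← map_inv, ← map_mul, ← map_mul, ← map_mul, h1]
  have hfpf' : ∀ v : V, (φ z') v = v → v = 1 := by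
    intro v hv
    have h1 : z * v * z⁻¹ = v := by
      have := congrArg Subtype.val hv
      rwa [happ, hz'] at this
    exact Subtype.ext (hfpf v v.2 (mul_inv_eq_iff_eq_mul.mp h1))
  have hpV' : ∀ v : V, v ^ p = 1 → v = 1 := by
    intro v hv
    have h1 : (v : G) ^ p = 1 := by
      have := congrArg Subtype.val hv
      rwa [Subgroup.coe_pow] at this
    exact Subtype.ext (hpV v v.2 h1)
  obtain ⟨hm1, hm2⟩ := fixed_main (φ x') (φ z') hp (φ y') hXZ hYZ hXY hX hZ hfpf' hpV'
  have hmap : (fixedSub (φ x')).map V.subtype = V ⊓ Subgroup.centralizer {x} := by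
    ext g
    rw [Subgroup.mem_map, Subgroup.mem_inf, mem_centralizer_single]
    constructor
    · rintro ⟨v, hv, rfl⟩
      refine ⟨v.2, ?_⟩
      have h1 : x * v * x⁻¹ = v := by
        have := congrArg Subtype.val (mem_fixedSub.mp hv)
        rwa [happ, hx'] at this
      exact mul_inv_eq_iff_eq_mul.mp h1
    · rintro ⟨hgV, hgx⟩
      refine ⟨⟨g, hgV⟩, ?_, rfl⟩
      rw [mem_fixedSub]
      apply Subtype.ext
      rw [happ, hx']
      show x * g * x⁻¹ = g
      rw [hgx, mul_inv_cancel_right]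
  have hcard : Nat.card ↥(V ⊓ Subgroup.centralizer {x}) = Nat.card (fixedSub (φ x')) := by
    rw [← hmap]
    exact Subgroup.card_map_of_injective V.subtype_injective
  constructor
  · rw [hcard]
    exact hm1
  · intro hbot
    have h1 := hm2 ((Subgroup.nontrivial_iff_ne_bot V).mpr hne)
    rw [← hcard, hbot, Subgroup.card_bot] at h1
    exact lt_irrefl _ h1

/-- A nontrivial invariant subgroup of `A` on which `z` acts fixed-point-freely. -/
theorem exists_fpf_sub [Finite G] {p : ℕ} (A : Subgroup G)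
    (hAc : ∀ u ∈ A, ∀ v ∈ A, u * v = v * u) (hpA : ∀ a ∈ A, a ^ p = 1 → a = 1) (z : G)
    (hzN : z ∈ Subgroup.normalizer (A : Set G)) (hz : z ^ p = 1)
    (hnc : ∃ a ∈ A, z * a ≠ a * z) :
    ∃ V : Subgroup G, V ≤ A ∧ V ≠ ⊥ ∧ (∀ v ∈ V, z * v = v * z → v = 1) ∧
      (∀ e : G, e ∈ Subgroup.normalizer (A : Set G) → e * z = z * e →
        ∀ v ∈ V, e * v * e⁻¹ ∈ V) := by
  let _ : CommGroup A :=
    { (inferInstance : Group A) with mul_comm := fun a b => Subtype.ext (hAc a a.2 b b.2) }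
  obtain ⟨φ, hφ⟩ : ∃ φ : Subgroup.normalizer (A : Set G) →* MulAut A,
      φ = A.normalizerMonoidHom := ⟨_, rfl⟩
  have happ : ∀ (g : Subgroup.normalizer (A : Set G)) (v : A),
      ((φ g v : A) : G) = (g : G) * v * (g : G)⁻¹ := by
    intro g v
    rw [hφ]
    rfl
  obtain ⟨z', hz'⟩ : ∃ z' : Subgroup.normalizer (A : Set G), (z' : G) = z := ⟨⟨z, hzN⟩, rfl⟩
  have hZ : (φ z') ^ p = 1 := by
    have h1 : z' ^ p = 1 := Subtype.ext (by rw [Subgroup.coe_pow, hz']; exact hz)
    rw [← map_pow, h1, map_one]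
  refine ⟨(nrmHom p (φ z')).ker.map A.subtype, Subgroup.map_subtype_le _, ?_, ?_, ?_⟩
  · obtain ⟨a, ha, hne⟩ := hnc
    intro hbot
    have hk : (⟨a, ha⟩ : A)⁻¹ * (φ z') ⟨a, ha⟩ ∈ (nrmHom p (φ z')).ker :=
      MonoidHom.mem_ker.mpr (nrmHom_tele hZ _)
    have hmem : A.subtype ((⟨a, ha⟩ : A)⁻¹ * (φ z') ⟨a, ha⟩) ∈
        (nrmHom p (φ z')).ker.map A.subtype := Subgroup.mem_map_of_mem A.subtype hk
    rw [hbot, Subgroup.mem_bot, Subgroup.coe_subtype, Subgroup.coe_mul, Subgroup.coe_inv, happ,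
      hz'] at hmem
    have h2 : a = z * a * z⁻¹ := inv_mul_eq_one.mp hmem
    exact hne (mul_inv_eq_iff_eq_mul.mp h2.symm)
  · intro v hv hcomm
    obtain ⟨v', hv', rfl⟩ := Subgroup.mem_map.mp hv
    rw [Subgroup.coe_subtype] at hcomm ⊢
    have hfix : (φ z') v' = v' := by
      apply Subtype.ext
      rw [happ, hz']
      exact mul_inv_eq_iff_eq_mul.mpr hcomm
    have h1 := nrmHom_of_fixed p hfix
    rw [MonoidHom.mem_ker.mp hv'] at h1
    have h2 : (v' : G) ^ p = 1 := by
      rw [← Subgroup.coe_pow, ← h1]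
      rfl
    exact hpA v' v'.2 h2
  · intro e heN hez v hv
    obtain ⟨v', hv', rfl⟩ := Subgroup.mem_map.mp hv
    obtain ⟨e', he'⟩ : ∃ e' : Subgroup.normalizer (A : Set G), (e' : G) = e := ⟨⟨e, heN⟩, rfl⟩
    have hcomm : Commute (φ e') (φ z') := by
      have h1 : Commute e' z' :=
        Subtype.ext (by rw [Subgroup.coe_mul, Subgroup.coe_mul, he', hz']; exact hez)
      exact h1.map φ
    refine Subgroup.mem_map.mpr ⟨(φ e') v', ?_, ?_⟩
    · rw [MonoidHom.mem_ker, nrmHom_comm p hcomm, MonoidHom.mem_ker.mp hv', map_one]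
    · rw [Subgroup.coe_subtype, happ, he']

end transfer

end Cfsg.Agent.Lib.Helper17
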