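import Mathlib
import Cfsg.Prelude.Def_Classical
import Cfsg.Agent.H5.TCkSound
import Cfsg.Agent.H5.StemTC
import Cfsg.Agent.Lib.Helper1.O8pData
import Cfsg.Agent.Lib.Helper4.TC.BitMat
import Cfsg.Agent.Lib.Helper17.CountChain
import Cfsg.Agent.Lib.Helper17.O8pBData

/-!
# S2098-[B] (helper1's PΩ₈⁺(2) front): the five matrices over `ZMod 2` in `GL₈(2)`

The ten letters as bit matrices, the isometry check, the relators, and the lower bound `174182400` for the
order of the subgroup generated by the five matrices (a counted chain of stabilisers of vectors, with the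
transversal elements given by a straight-line program).
-/

set_option autoImplicit false
set_option maxRecDepth 100000

namespace Cfsg.Agent.Lib.Helper1.O8p.Helper17

open Cfsg.Agent.Helper4.TC hiding gl ev
open Cfsg.H5.TCk Matrix
open Cfsg.Agent.Lib.Helper28.BSGS (SLevel chainSize)
open Cfsg.Agent.Lib.Helper22.SuzOut (CountChain count_chain_le)

/-- the index type of the matrices -/
abbrev K8 : Type := Fin 4 ⊕ Fin 4

/-- the numbering: bit `i` = `Sum.inl i`, bit `4 + i` = `Sum.inr i` -/
def eps : K8 ≃ Fin 8 := finSumFinEquiv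

/-- `GL₈(2)` -/
abbrev GL8 : Type := Matrix.GeneralLinearGroup K8 (ZMod 2)

/-- the quadratic form -/
abbrev Q8 : (K8 → ZMod 2) → ZMod 2 := Cfsg.quadFormPlus 4 (ZMod 2)

/-- the bit matrices of the ten letters -/
def lB : ℕ → BitMat 8
  | 0 => ⟨colsA⟩
  | 1 => ⟨colsAi⟩
  | 2 => ⟨colsB⟩
  | 3 => ⟨colsBi⟩
  | 4 => ⟨colsW1⟩
  | 5 => ⟨colsW1i⟩
  | 6 => ⟨colsW2⟩
  | 7 => ⟨colsW2i⟩
  | 8 => ⟨colsW3⟩
  | 9 => ⟨colsW3i⟩
  | _ => BitMat.one

theorem lB_len : ∀ l, (lB l).c.length = 8
  | 0 => rfl
  | 1 => rfl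
  | 2 => rfl
  | 3 => rfl
  | 4 => rfl
  | 5 => rfl
  | 6 => rfl
  | 7 => rfl
  | 8 => rfl
  | 9 => rfl
  | (_ + 10) => BitMat.length_one

/-- the matrices of the letters -/
def lM (l : ℕ) : Matrix K8 K8 (ZMod 2) := (lB l).toMatE eps

theorem lM_mul (l l' : ℕ) : lM l * lM l' = ((lB l).mul (lB l')).toMatE eps :=
  (BitMat.toMatE_mul eps _ _ (lB_len l)).symm

theorem inv_chk : ∀ i : Fin 5, (lB (2 * i.val)).mul (lB (2 * i.val + 1)) = BitMat.one ∧
    (lB (2 * i.val + 1)).mul (lB (2 * i.val)) = BitMat.one := by decide +kernel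

theorem lM_inv (i : Fin 5) : lM (2 * i.val) * lM (2 * i.val + 1) = 1 := by
  rw [lM_mul, (inv_chk i).1, BitMat.toMatE_one]

theorem lM_inv' (i : Fin 5) : lM (2 * i.val + 1) * lM (2 * i.val) = 1 := by
  rw [lM_mul, (inv_chk i).2, BitMat.toMatE_one]

/-- the five generators in `GL₈(2)` -/
def gG (i : ℕ) : GL8 :=
  if h : i < 5 then ⟨lM (2 * i), lM (2 * i + 1), lM_inv ⟨i, h⟩, lM_inv' ⟨i, h⟩⟩ else 1

theorem coe_gG {i : ℕ} (h : i < 5) : ((gG i : GL8) : Matrix K8 K8 (ZMod 2)) = lM (2 * i) := by
  unfold gG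
  rw [dif_pos h]

theorem coe_gG_inv {i : ℕ} (h : i < 5) :
    (((gG i)⁻¹ : GL8) : Matrix K8 K8 (ZMod 2)) = lM (2 * i + 1) := by
  unfold gG
  rw [dif_pos h]
  rfl

theorem coe_gl {l : ℕ} (hl : l < 10) : ((gl gG l : GL8) : Matrix K8 K8 (ZMod 2)) = lM l := by
  unfold gl
  by_cases h : l % 2 = 0
  · rw [if_pos h, coe_gG (by omega)]
    congr 1
    omega
  · rw [if_neg h, coe_gG_inv (by omega)]
    congr 1
    omega

theorem coe_ev (w : List ℕ) (hw : ∀ l ∈ w, l < 10) :
    ((ev gG w : GL8) : Matrix K8 K8 (ZMod 2)) = (BitMat.prodB (w.map lB)).toMatE eps := by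
  induction w with
  | nil => exact (BitMat.toMatE_one eps).symm
  | cons l w ih =>
    have h1 := coe_gl (hw l List.mem_cons_self)
    have h2 := ih fun l' hl' => hw l' (List.mem_cons_of_mem _ hl')
    show ((gl gG l * ev gG w : GL8) : Matrix K8 K8 (ZMod 2)) = _
    rw [Units.val_mul, h1, h2, List.map_cons]
    exact (BitMat.toMatE_mul eps _ _ (lB_len l)).symm

/-! ### the isometries -/

theorem iso_chk : ∀ i : Fin 5, ∀ u : K8 → ZMod 2, Q8 (lM (2 * i.val) *ᵥ u) = Q8 u := by
  decide +kernel

theorem gG_mem (i : ℕ) : gG i ∈ Cfsg.isometryGroup (ZMod 2) Q8 := by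
  by_cases h : i < 5
  · intro u _
    show Q8 (((gG i : GL8) : Matrix K8 K8 (ZMod 2)) *ᵥ u) = Q8 u
    rw [coe_gG h]
    exact iso_chk ⟨i, h⟩ u
  · have : gG i = 1 := by unfold gG; rw [dif_neg h]
    rw [this]
    exact Subgroup.one_mem _

/-! ### the relators -/

theorem rels_chk : ((relsW ++ [wordZ1, wordZ2]).all fun r =>
    r.all (fun l => decide (l < 10)) &&
      decide (BitMat.prodB (r.map lB) = (BitMat.one : BitMat 8))) = true := by decide +kernel

theorem ev_eq_one_of_mem {r : List ℕ} (hr : r ∈ relsW ++ [wordZ1, wordZ2]) : ev gG r = 1 := by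
  have h := List.all_eq_true.mp rels_chk r hr
  rw [Bool.and_eq_true, List.all_eq_true, decide_eq_true_eq] at h
  apply Units.ext
  rw [coe_ev r fun l hl => of_decide_eq_true (h.1 l hl), h.2, BitMat.toMatE_one]
  rfl

theorem pow7_chk : ∀ i : Fin 5,
    BitMat.prodB ((List.replicate 7 (2 * i.val)).map lB) = (BitMat.one : BitMat 8) := by
  decide +kernel

theorem ev_replicate {G : Type*} [Group G] (g : ℕ → G) (n l : ℕ) :
    ev g (List.replicate n l) = gl g l ^ n := by
  induction n with
  | zero => rw [pow_zero]; rfl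
  | succ n ih => rw [List.replicate_succ, ev, ih, pow_succ']

theorem gG_pow7 (i : ℕ) : gG i ^ 7 = 1 := by
  by_cases h : i < 5
  · have hg : gl gG (2 * i) = gG i := by
      unfold gl
      rw [if_pos (by omega)]
      congr 1
      omega
    have h1 : ev gG (List.replicate 7 (2 * i)) = gG i ^ 7 := by
      rw [ev_replicate, hg]
    rw [← h1]
    apply Units.ext
    rw [coe_ev _ (by
      intro l hl
      rw [List.eq_of_mem_replicate hl]
      omega), pow7_chk ⟨i, h⟩, BitMat.toMatE_one]
    rfl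
  · have : gG i = 1 := by unfold gG; rw [dif_neg h]
    rw [this, one_pow]

/-! ### vectors as bit masks -/

/-- the vector with bits `v` -/
def vecE (v : ℕ) : K8 → ZMod 2 := fun k => BitMat.bz (v.testBit (eps k))

theorem toMatE_mulVec (B : BitMat 8) (hB : B.c.length = 8) (v : ℕ) :
    B.toMatE eps *ᵥ vecE v = vecE (BitMat.mvec B.c v 0) := by
  funext i
  show (B.toMatE eps *ᵥ vecE v) i = BitMat.bz ((BitMat.mvec B.c v 0).testBit (eps i))
  rw [BitMat.testBit_mvec, Nat.zero_testBit, Bool.false_xor, BitMat.bz_dotb, hB,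
    ← Fin.sum_univ_eq_sum_range
      (fun j => BitMat.bz ((B.c.getD j 0).testBit (eps i)) * BitMat.bz (v.testBit j)) 8]
  simp only [Matrix.mulVec, dotProduct]
  exact Fintype.sum_equiv eps _ _ fun l => rfl

/-- the bits of a vector -/
def maskOf (x : K8 → ZMod 2) : ℕ := ∑ k : K8, if x k = 1 then 2 ^ (eps k).val else 0

theorem maskOf_vecE : ∀ m : Fin 256, maskOf (vecE m.val) = m.val := by decide +kernel

theorem vecE_inj {v v' : ℕ} (hv : v < 256) (hv' : v' < 256) (h : vecE v = vecE v') : v = v' := by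
  have h1 := maskOf_vecE ⟨v, hv⟩
  have h2 := maskOf_vecE ⟨v', hv'⟩
  simp only at h1 h2
  rw [← h1, ← h2, h]

/-- the space, as a type of its own (which carries the action of `GL₈(2)`) -/
def V8 : Type := K8 → ZMod 2

/-- a vector as an element of the space -/
def toV (x : K8 → ZMod 2) : V8 := x

/-- a point of the space as a vector -/
def ofV (x : V8) : K8 → ZMod 2 := x

instance actV : MulAction GL8 V8 where
  smul g v := toV ((g : Matrix K8 K8 (ZMod 2)) *ᵥ ofV v)
  one_smul v := by
    show toV (((1 : GL8) : Matrix K8 K8 (ZMod 2)) *ᵥ ofV v) = v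
    rw [Units.val_one, Matrix.one_mulVec]
    rfl
  mul_smul g h v := by
    show toV (((g * h : GL8) : Matrix K8 K8 (ZMod 2)) *ᵥ ofV v) =
      toV ((g : Matrix K8 K8 (ZMod 2)) *ᵥ ofV (toV ((h : Matrix K8 K8 (ZMod 2)) *ᵥ ofV v)))
    rw [Units.val_mul, ← Matrix.mulVec_mulVec]
    rfl

theorem smul_def (g : GL8) (x : K8 → ZMod 2) :
    g • toV x = toV ((g : Matrix K8 K8 (ZMod 2)) *ᵥ x) := rfl

/-! ### straight-line programs -/

/-- one step: append the product of two entries -/
def slpStep (acc : List (BitMat 8)) (p : ℕ × ℕ) : List (BitMat 8) :=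
  acc ++ [(acc.getD p.1 BitMat.one).mul (acc.getD p.2 BitMat.one)]

/-- run a straight-line program -/
def slpRun (init : List (BitMat 8)) (prog : List (ℕ × ℕ)) : List (BitMat 8) :=
  prog.foldl slpStep init

/-- the bit matrix is the matrix of an element of `K` -/
def InK (K : Subgroup GL8) (B : BitMat 8) : Prop :=
  B.c.length = 8 ∧ ∃ g ∈ K, ((g : GL8) : Matrix K8 K8 (ZMod 2)) = B.toMatE eps

theorem inK_one (K : Subgroup GL8) : InK K BitMat.one :=
  ⟨BitMat.length_one, 1, K.one_mem, by rw [Units.val_one, BitMat.toMatE_one]⟩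

theorem inK_mul {K : Subgroup GL8} {X Y : BitMat 8} (hX : InK K X) (hY : InK K Y) :
    InK K (X.mul Y) := by
  obtain ⟨lX, g, hg, eg⟩ := hX
  obtain ⟨lY, h, hh, eh⟩ := hY
  refine ⟨by rw [BitMat.length_mul]; exact lY, g * h, K.mul_mem hg hh, ?_⟩
  rw [Units.val_mul, eg, eh, BitMat.toMatE_mul eps X Y lX]

theorem inK_getD {K : Subgroup GL8} {l : List (BitMat 8)} (h : ∀ B ∈ l, InK K B) (i : ℕ) :
    InK K (l.getD i BitMat.one) := by
  rw [List.getD_eq_getElem?_getD]
  rcases hi : l[i]? with _ | B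
  · exact inK_one K
  · exact h B (List.mem_of_getElem? hi)

theorem inK_run {K : Subgroup GL8} : ∀ (prog : List (ℕ × ℕ)) (acc : List (BitMat 8)),
    (∀ B ∈ acc, InK K B) → ∀ B ∈ slpRun acc prog, InK K B
  | [], _, h => h
  | p :: prog, acc, h => by
    show ∀ B ∈ slpRun (slpStep acc p) prog, InK K B
    apply inK_run prog
    intro B hB
    rw [slpStep, List.mem_append, List.mem_singleton] at hB
    rcases hB with hB | rfl
    · exact h B hB
    · exact inK_mul (inK_getD h _) (inK_getD h _)

open Classical in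
/-- an element of `K` with the given matrix -/
noncomputable def glOf (K : Subgroup GL8) (B : BitMat 8) : GL8 :=
  if h : InK K B then Classical.choose h.2 else 1

theorem glOf_mem (K : Subgroup GL8) (B : BitMat 8) : glOf K B ∈ K := by
  unfold glOf
  split_ifs with h
  · exact (Classical.choose_spec h.2).1
  · exact K.one_mem

theorem coe_glOf {K : Subgroup GL8} {B : BitMat 8} (h : InK K B) :
    ((glOf K B : GL8) : Matrix K8 K8 (ZMod 2)) = B.toMatE eps := by
  unfold glOf
  rw [dif_pos h]
  exact (Classical.choose_spec h.2).2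

theorem glOf_smul {K : Subgroup GL8} {B : BitMat 8} (h : InK K B) (v : ℕ) :
    glOf K B • toV (vecE v) = toV (vecE (BitMat.mvec B.c v 0)) := by
  rw [smul_def, coe_glOf h, toMatE_mulVec B h.1]

/-! ### the counted chain -/

/-- the index of the transversal element of an orbit point -/
def lookI : List (ℕ × ℕ) → ℕ → ℕ
  | [], _ => 0
  | q :: qs, m => if q.1 = m then q.2 else lookI qs m

/-- a level of the chain -/
noncomputable def lvOf (K : Subgroup GL8) (run : List (BitMat 8)) (d : ℕ × List (ℕ × ℕ)) :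
    SLevel GL8 V8 where
  b := toV (vecE d.1)
  O := d.2.map fun q => toV (vecE q.1)
  u := fun x => glOf K (run.getD (lookI d.2 (maskOf (ofV x))) BitMat.one)
  S' := []

/-- the check of the chain on bit masks -/
def chkL (run : List (BitMat 8)) : List ℕ → List (ℕ × List (ℕ × ℕ)) → Bool
  | _, [] => true
  | prev, d :: rest =>
    decide ((d.2.map Prod.fst).Nodup) &&
    d.2.all (fun q => decide (q.1 < 256) &&
      ((BitMat.mvec (run.getD (lookI d.2 q.1) BitMat.one).c d.1 0 == q.1) &&
        prev.all fun p => BitMat.mvec (run.getD (lookI d.2 q.1) BitMat.one).c p 0 == p)) &&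
    chkL run (d.1 :: prev) rest

theorem countChain_of_chk (K : Subgroup GL8) (run : List (BitMat 8))
    (hrun : ∀ B ∈ run, InK K B) : ∀ (data : List (ℕ × List (ℕ × ℕ))) (prev : List ℕ),
    chkL run prev data = true →
      CountChain K (prev.map fun p => toV (vecE p)) (data.map (lvOf K run))
  | [], _, _ => trivial
  | d :: rest, prev, h => by
    rw [chkL, Bool.and_eq_true, Bool.and_eq_true, decide_eq_true_eq, List.all_eq_true] at h
    obtain ⟨⟨h1, h2⟩, h3⟩ := h
    have h2' : ∀ q ∈ d.2, q.1 < 256 ∧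
        BitMat.mvec (run.getD (lookI d.2 q.1) BitMat.one).c d.1 0 = q.1 ∧
        ∀ p ∈ prev, BitMat.mvec (run.getD (lookI d.2 q.1) BitMat.one).c p 0 = p := by
      intro q hq
      have := h2 q hq
      rw [Bool.and_eq_true, Bool.and_eq_true, decide_eq_true_eq, beq_iff_eq,
        List.all_eq_true] at this
      exact ⟨this.1, this.2.1, fun p hp => beq_iff_eq.mp (this.2.2 p hp)⟩
    refine ⟨?_, ?_, ?_⟩
    · show (d.2.map fun q => toV (vecE q.1)).Nodup
      have : (d.2.map fun q => toV (vecE q.1)) = (d.2.map Prod.fst).map fun m => toV (vecE m) := by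
        rw [List.map_map]
        rfl
      rw [this]
      refine List.Nodup.map_on ?_ h1
      intro m hm m' hm' hmm
      obtain ⟨q, hq, rfl⟩ := List.mem_map.mp hm
      obtain ⟨q', hq', rfl⟩ := List.mem_map.mp hm'
      exact vecE_inj (h2' q hq).1 (h2' q' hq').1 hmm
    · intro x hx
      obtain ⟨q, hq, rfl⟩ := List.mem_map.mp (show x ∈ d.2.map fun q => toV (vecE q.1) from hx)
      obtain ⟨hlt, hb, hp⟩ := h2' q hq
      have hm : maskOf (ofV (toV (vecE q.1))) = q.1 := maskOf_vecE ⟨q.1, hlt⟩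
      have hu : (lvOf K run d).u (toV (vecE q.1)) =
          glOf K (run.getD (lookI d.2 q.1) BitMat.one) := by
        show glOf K (run.getD (lookI d.2 (maskOf (ofV (toV (vecE q.1))))) BitMat.one) = _
        rw [hm]
      rw [hu]
      refine ⟨glOf_mem K _, ?_, ?_⟩
      · show glOf K _ • toV (vecE d.1) = _
        rw [glOf_smul (inK_getD hrun _), hb]
      · intro p hp'
        obtain ⟨p0, hp0, rfl⟩ := List.mem_map.mp hp'
        rw [glOf_smul (inK_getD hrun _), hp p0 hp0]
    · exact countChain_of_chk K run hrun rest (d.1 :: prev) h3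

theorem chainSize_map (K : Subgroup GL8) (run : List (BitMat 8)) :
    ∀ data : List (ℕ × List (ℕ × ℕ)),
      chainSize (data.map (lvOf K run)) = (data.map fun d => d.2.length).prod
  | [] => rfl
  | d :: rest => by
    rw [List.map_cons, List.map_cons, List.prod_cons, ← chainSize_map K run rest]
    show (d.2.map fun q => toV (vecE q.1)).length * _ = _
    rw [List.length_map]

/-! ### the subgroup generated by the five matrices -/

/-- the subgroup of `GL₈(2)` generated by the five matrices -/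
def KG : Subgroup GL8 := Subgroup.closure (Set.range fun i : Fin 5 => gG i.val)

theorem gG_mem_KG (i : ℕ) (hi : i < 5) : gG i ∈ KG := Subgroup.subset_closure ⟨⟨i, hi⟩, rfl⟩

theorem run_chk : slpRun ((List.range 10).map lB) slpProg = runData := by decide +kernel

theorem inK_runData : ∀ B ∈ runData, InK KG B := by
  rw [← run_chk]
  apply inK_run
  intro B hB
  obtain ⟨l, hl, rfl⟩ := List.mem_map.mp hB
  rw [List.mem_range] at hl
  exact ⟨lB_len l, gl gG l, Cfsg.H5.StemTC.gl_mem gG KG 5 gG_mem_KG l (by omega), coe_gl hl⟩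

theorem chain_chk : chkL runData [] chainData = true := by decide +kernel

theorem size_chk : (chainData.map fun d => d.2.length).prod = 174182400 := by decide +kernel

theorem card_KG_ge : 174182400 ≤ Nat.card KG := by
  have h := count_chain_le KG (chainData.map (lvOf KG runData))
    (countChain_of_chk KG runData inK_runData chainData [] chain_chk)
  rw [chainSize_map, size_chk] at h
  exact h

end Cfsg.Agent.Lib.Helper1.O8p.Helper17
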