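import Mathlib
import Cfsg.Prelude.Def_KGroupFacts
import Cfsg.Prelude.Def_Classical
import Cfsg.Agent.H5.TCkSound
import Cfsg.Agent.H5.StemTC
import Cfsg.Agent.Lib.Helper1.O8pData
import Cfsg.Agent.Lib.Helper6.OmegaList
import Cfsg.Agent.Lib.Helper15.QuadF2a
import Cfsg.Agent.S0287
import Cfsg.Agent.S0293
import Cfsg.Agent.Lib.Helper17.O73MultTR
import Cfsg.Agent.Lib.Helper17.O8pBMat

/-!
# S2098-[B] (helper1's PΩ₈⁺(2) front): THE BRIDGE - the five matrices in `PΩ₈⁺(F)`, `|F| = 2`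
-/

set_option autoImplicit false

namespace Cfsg.Agent.Lib.Helper1.O8p

open Cfsg Cfsg.H5.TCk

universe u

namespace Helper17

open Cfsg.Agent.Lib.Helper6 Cfsg.Agent.Lib.Helper15

/-- `O₈⁺(2)` -/
abbrev O8 : Subgroup GL8 := Cfsg.isometryGroup (ZMod 2) Q8

/-- `Ω₈⁺(2)` -/
abbrev Om8 : Subgroup O8 := Cfsg.Omega (ZMod 2) Q8

theorem card_O8 : Nat.card O8 = 348364800 := by
  have h := Cfsg.Agent.S0287.result (F := ZMod 2) (q := 2) (ZMod.card 2) 4 (by norm_num)
  rw [h]
  norm_num [Finset.prod_range_succ]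

theorem index_Om8 : Om8.index = 2 := by
  have hfun : Cfsg.quadFormPlus 4 (ZMod 2) = ⇑(QPlus (ZMod 2) 4) :=
    (funext (QPlus_apply (ZMod 2) 4)).symm
  show (Cfsg.Omega (ZMod 2) (Cfsg.quadFormPlus 4 (ZMod 2))).index = 2
  rw [hfun]
  exact index_Omega_two' (QPlus (ZMod 2) 4) (by decide) (nondegenerate_QPlus (ZMod 2) 4)
    (by rw [Fintype.card_sum, Fintype.card_fin]; norm_num)
    (Or.inr (by rw [Fintype.card_sum, Fintype.card_fin]; norm_num))

theorem card_Om8 : Nat.card Om8 = 174182400 := by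
  have h := Subgroup.card_mul_index Om8
  rw [index_Om8, card_O8] at h
  omega

/-- the five generators in `O₈⁺(2)` -/
def gO (i : ℕ) : O8 := ⟨gG i, gG_mem i⟩

theorem gO_mem (i : ℕ) : gO i ∈ Om8 := by
  have h7 : gO i ^ 7 = 1 := by
    apply Subtype.ext
    rw [SubgroupClass.coe_pow]
    exact gG_pow7 i
  have h8 : gO i = (gO i ^ 4) ^ 2 := by
    rw [← pow_mul]
    have : gO i ^ (4 * 2) = gO i ^ 7 * gO i := by rw [← pow_succ]
    rw [this, h7, one_mul]
  rw [h8]
  exact Subgroup.sq_mem_of_index_two index_Om8 _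

/-- the five generators in `Ω₈⁺(2)` -/
def gΩ (i : ℕ) : Om8 := ⟨gO i, gO_mem i⟩

/-- the inclusion of `Ω₈⁺(2)` in `GL₈(2)` -/
def incl : Om8 →* GL8 := O8.subtype.comp Om8.subtype

theorem incl_injective : Function.Injective incl := by
  intro x y h
  exact Subtype.ext (Subtype.ext h)

theorem incl_ev (w : List ℕ) : incl (ev gΩ w) = ev gG w :=
  Cfsg.H5.StemTC.map_ev incl gΩ w

theorem ev_gΩ_eq_one {r : List ℕ} (hr : r ∈ relsW ++ [wordZ1, wordZ2]) : ev gΩ r = 1 := by
  apply incl_injective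
  rw [incl_ev, ev_eq_one_of_mem hr, map_one]

theorem closure_gΩ : Subgroup.closure (Set.range fun i : Fin 5 => gΩ i.val) = ⊤ := by
  set L := Subgroup.closure (Set.range fun i : Fin 5 => gΩ i.val) with hL
  have hmap : L.map incl = KG := by
    rw [hL, MonoidHom.map_closure, ← Set.range_comp]
    rfl
  have hcard : Nat.card (L.map incl) = Nat.card L := Subgroup.card_map_of_injective incl_injective
  haveI : Finite Om8 := Nat.finite_of_card_ne_zero (by rw [card_Om8]; norm_num)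
  apply Subgroup.eq_top_of_le_card
  rw [card_Om8, ← hcard, hmap]
  exact card_KG_ge

theorem quadFormPlus_map {F F' : Type*} [Field F] [Field F'] (e : F ≃+* F') (m : ℕ)
    (v : Fin m ⊕ Fin m → F) :
    quadFormPlus m F' (fun i => e (v i)) = e (quadFormPlus m F v) := by
  unfold quadFormPlus
  rw [map_sum]
  apply Finset.sum_congr rfl
  intro i _
  rw [map_mul]

open Cfsg.Agent.Lib.Helper2.O73Mult.Helper17 in
theorem pomega_plus_equiv {F F' : Type*} [Field F] [Field F'] (e : F ≃+* F') (m : ℕ) :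
    Nonempty (Cfsg.POmega F (Cfsg.quadFormPlus m F) ≃*
      Cfsg.POmega F' (Cfsg.quadFormPlus m F')) := by
  obtain ⟨ψ⟩ := nonempty_isometry_equiv e (quadFormPlus m F) (quadFormPlus m F')
    (quadFormPlus_map e m)
  obtain ⟨χ⟩ := nonempty_commutator_equiv ψ
  exact nonempty_quot_center_equiv χ

theorem card_POmega8 {F : Type u} [Field F] [Fintype F] (hF : Fintype.card F = 2) :
    Nat.card (Cfsg.POmega F (Cfsg.quadFormPlus 4 F)) = 174182400 := by
  have h := Cfsg.Agent.S0293.result hF 4 le_rfl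
  norm_num [Finset.prod_range_succ] at h
  omega

end Helper17

open Helper17 in
/-- [B] the bridge: the five matrices in `PΩ₈⁺(F)`, `|F| = 2` -/
theorem exists_tuple {F : Type u} [Field F] [Fintype F] (hF : Fintype.card F = 2) :
    ∃ g : ℕ → Cfsg.POmega F (Cfsg.quadFormPlus 4 F), IsO8pTuple g := by
  obtain ⟨χ⟩ := pomega_plus_equiv (ZMod.ringEquivOfPrime F Nat.prime_two hF) 4
  let π : Om8 →* Cfsg.POmega (ZMod 2) (Cfsg.quadFormPlus 4 (ZMod 2)) := QuotientGroup.mk' _
  let ψ : Om8 →* Cfsg.POmega F (Cfsg.quadFormPlus 4 F) := χ.toMonoidHom.comp π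
  have hψ : Function.Surjective ψ := χ.surjective.comp (QuotientGroup.mk'_surjective _)
  have hev : ∀ w : List ℕ, ev (fun i => ψ (gΩ i)) w = ψ (ev gΩ w) :=
    fun w => (Cfsg.H5.StemTC.map_ev ψ gΩ w).symm
  refine ⟨fun i => ψ (gΩ i), card_POmega8 hF, ?_, ?_, ?_, ?_⟩
  · have hs : (Set.range fun i : Fin 5 => ψ (gΩ i.val)) =
        ψ '' (Set.range fun i : Fin 5 => gΩ i.val) := by
      rw [← Set.range_comp]; rfl
    rw [hs, ← MonoidHom.map_closure, closure_gΩ, ← MonoidHom.range_eq_map,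
      MonoidHom.range_eq_top]
    exact hψ
  · intro r hr
    rw [hev, ev_gΩ_eq_one (List.mem_append_left _ hr), map_one]
  · rw [hev, ev_gΩ_eq_one (List.mem_append_right _ List.mem_cons_self), map_one]
  · rw [hev, ev_gΩ_eq_one (List.mem_append_right _ (List.mem_cons_of_mem _ List.mem_cons_self)),
      map_one]

end Cfsg.Agent.Lib.Helper1.O8p
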