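import Cfsg.Agent.Lib.Helper18.ONM.Conj

/-!
# S2052-[E8] (helper17): in a central extension of `O'N` with kernel of exponent `2`, every lift of `a` is an
involution

`z := γ ^ 2` is central with `z ^ 2 = 1`. Every lift of a conjugate of `a` squares to `z`; the seven involutions of
`⟨a, c, f⟩` are conjugate to `a` (`ConjOK`). For lifts `x, y` with `x ^ 2 = y ^ 2 = (x y) ^ 2 = z` one gets
`x y = z y x`; with `A, C, F` the lifts of `a, c, f` this gives `A (F C) = (F C) A`, but also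
`(F C) A = z A (F C)`; so `z = 1`.
-/

set_option autoImplicit false
set_option maxRecDepth 100000
set_option linter.unusedVariables false

namespace Cfsg.Agent.Lib.Helper18.ONM

open Cfsg Cfsg.Agent.Helper4.TC

namespace Helper17

/-- `x ^ 2 = z` central of order `≤ 2` gives `x⁻¹ = z x` -/
theorem inv_of_sq {Γ : Type*} [Group Γ] {z x : Γ} (hz : ∀ g : Γ, g * z = z * g) (hz2 : z * z = 1)
    (hx : x * x = z) : x⁻¹ = z * x := by
  apply inv_eq_of_mul_eq_one_right
  rw [← mul_assoc, hz x, mul_assoc, hx, hz2]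

/-- `x ^ 2 = y ^ 2 = (x y) ^ 2 = z` central of order `≤ 2` gives `x y = z (y x)` -/
theorem swap_of_sq {Γ : Type*} [Group Γ] {z x y : Γ} (hz : ∀ g : Γ, g * z = z * g) (hz2 : z * z = 1)
    (hx : x * x = z) (hy : y * y = z) (hxy : (x * y) * (x * y) = z) : x * y = z * (y * x) := by
  have h1 := inv_of_sq hz hz2 hx
  have h2 := inv_of_sq hz hz2 hy
  have h3 := inv_of_sq hz hz2 hxy
  rw [mul_inv_rev, h1, h2] at h3
  -- h3 : z * y * (z * x) = z * (x * y)
  have h4 : z * y * (z * x) = y * x := by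
    rw [mul_assoc, ← mul_assoc y z x, hz y, mul_assoc z y x, ← mul_assoc, hz2, one_mul]
  rw [h4] at h3
  rw [h3, ← mul_assoc, hz2, one_mul]

/-- the computation in the extension -/
theorem z_eq_one {Γ : Type*} [Group Γ] {z A C F : Γ} (hz : ∀ g : Γ, g * z = z * g) (hz2 : z * z = 1)
    (hA : A * A = z) (hC : C * C = z) (hF : F * F = z) (hCA : (C * A) * (C * A) = z)
    (hFA : (F * A) * (F * A) = z) (hFC : (F * C) * (F * C) = z)
    (hFCA : (F * C * A) * (F * C * A) = z) : z = 1 := by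
  have h1 : F * A = z * (A * F) := swap_of_sq hz hz2 hF hA hFA
  have h2 : C * A = z * (A * C) := swap_of_sq hz hz2 hC hA hCA
  have h3 : F * C * A = z * (A * (F * C)) := swap_of_sq hz hz2 hFC hA hFCA
  have h1' : A * F = z * (F * A) := by rw [h1, ← mul_assoc, hz2, one_mul]
  have h2' : A * C = z * (C * A) := by rw [h2, ← mul_assoc, hz2, one_mul]
  have h4 : A * (F * C) = F * C * A := by
    calc A * (F * C) = (A * F) * C := (mul_assoc _ _ _).symm
      _ = z * (F * A) * C := by rw [h1']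
      _ = z * (F * (A * C)) := by rw [mul_assoc, mul_assoc]
      _ = z * (F * (z * (C * A))) := by rw [h2']
      _ = z * (z * (F * (C * A))) := by rw [← mul_assoc F z, hz F, mul_assoc z F]
      _ = F * C * A := by rw [← mul_assoc z z, hz2, one_mul, mul_assoc]
  rw [h4] at h3
  -- h3 : F * C * A = z * (F * C * A)
  have h5 : 1 * (F * C * A) = z * (F * C * A) := by rw [one_mul]; exact h3
  exact (mul_right_cancel h5).symm

open Cfsg.Spor.ON in
theorem evc_a : evc (PresentedGroup.of (rels := RP)) dec [2] = PresentedGroup.of Gen.a := by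
  rw [evc_cons, evc_nil, one_mul]; rfl

open Cfsg.Spor.ON in
theorem evc_c : evc (PresentedGroup.of (rels := RP)) dec [6] = PresentedGroup.of Gen.c := by
  rw [evc_cons, evc_nil, one_mul]; rfl

open Cfsg.Spor.ON in
theorem evc_f : evc (PresentedGroup.of (rels := RP)) dec [12] = PresentedGroup.of Gen.f := by
  rw [evc_cons, evc_nil, one_mul]; rfl

open Cfsg.Spor.ON in
theorem evc_ca : evc (PresentedGroup.of (rels := RP)) dec [2, 6] =
    PresentedGroup.of Gen.c * PresentedGroup.of Gen.a := by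
  rw [evc_cons, evc_cons, evc_nil, one_mul]; rfl

open Cfsg.Spor.ON in
theorem evc_fa : evc (PresentedGroup.of (rels := RP)) dec [2, 12] =
    PresentedGroup.of Gen.f * PresentedGroup.of Gen.a := by
  rw [evc_cons, evc_cons, evc_nil, one_mul]; rfl

open Cfsg.Spor.ON in
theorem evc_fc : evc (PresentedGroup.of (rels := RP)) dec [6, 12] =
    PresentedGroup.of Gen.f * PresentedGroup.of Gen.c := by
  rw [evc_cons, evc_cons, evc_nil, one_mul]; rfl

open Cfsg.Spor.ON in
theorem evc_fca : evc (PresentedGroup.of (rels := RP)) dec [2, 6, 12] =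
    PresentedGroup.of Gen.f * PresentedGroup.of Gen.c * PresentedGroup.of Gen.a := by
  rw [evc_cons, evc_cons, evc_cons, evc_nil, one_mul]; rfl

open Cfsg.Spor.ON in
theorem evc_aa : evc (PresentedGroup.of (rels := RP)) dec [2, 2] =
    PresentedGroup.of Gen.a * PresentedGroup.of Gen.a := by
  rw [evc_cons, evc_cons, evc_nil, one_mul]; rfl

/-- multiplying by a central involution does not change the square -/
theorem sq_mul_central {Γ : Type*} [Group Γ] {y k : Γ} (hkc : ∀ g : Γ, g * k = k * g)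
    (hk2 : k * k = 1) : (y * k) * (y * k) = y * y := by
  calc (y * k) * (y * k) = y * (k * y) * k := by simp only [mul_assoc]
    _ = y * (y * k) * k := by rw [hkc y]
    _ = y * y * (k * k) := by simp only [mul_assoc]
    _ = y * y := by rw [hk2, mul_one]

/-- a lift of a conjugate of `σ γ` squares to `γ ^ 2`, when this is central -/
theorem sq_of_conj {Γ : Type} [Group Γ] (σ : Γ →* P) (hs : Function.Surjective σ)
    (hc : σ.ker ≤ Subgroup.center Γ) (hexp : ∀ z ∈ σ.ker, z ^ 2 = 1) (γ : Γ)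
    (hz : ∀ g : Γ, g * (γ * γ) = (γ * γ) * g) (x : Γ) (u : P) (hx : σ x = u * σ γ * u⁻¹) :
    x * x = γ * γ := by
  obtain ⟨v, rfl⟩ := hs u
  have hkker : (v * γ * v⁻¹)⁻¹ * x ∈ σ.ker := by
    rw [MonoidHom.mem_ker, map_mul, map_inv, hx, map_mul, map_mul, map_inv, inv_mul_cancel]
  have hkc : ∀ g : Γ, g * ((v * γ * v⁻¹)⁻¹ * x) = ((v * γ * v⁻¹)⁻¹ * x) * g :=
    Subgroup.mem_center_iff.mp (hc hkker)
  have hk2 : ((v * γ * v⁻¹)⁻¹ * x) * ((v * γ * v⁻¹)⁻¹ * x) = 1 := by
    rw [← pow_two]; exact hexp _ hkker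
  have hxk : x = v * γ * v⁻¹ * ((v * γ * v⁻¹)⁻¹ * x) := by rw [mul_inv_cancel_left]
  have h1 : (v * γ * v⁻¹) * (v * γ * v⁻¹) = γ * γ := by
    calc (v * γ * v⁻¹) * (v * γ * v⁻¹) = v * (γ * γ) * v⁻¹ := by group
      _ = γ * γ * v * v⁻¹ := by rw [hz v]
      _ = γ * γ := by rw [mul_assoc, mul_inv_cancel, mul_one]
  have h2 := sq_mul_central (y := v * γ * v⁻¹) hkc hk2
  rw [← hxk, h1] at h2
  exact h2

end Helper17

open Helper17 in
/-- [E8] kernel of exponent 2: every lift of `a` is an involution (else all seven involutions of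
`⟨a, c, f⟩ = 2^3` would lift to elements of order 4, and the commutator form of the lifts would not be bilinear) -/
theorem sq_lift_a_eq_one (hP : RelPOK) (hconj : ConjOK)
    {Γ : Type} [Group Γ] [Finite Γ] (σ : Γ →* P) (hs : Function.Surjective σ)
    (hc : σ.ker ≤ Subgroup.center Γ) (hexp : ∀ z ∈ σ.ker, z ^ 2 = 1)
    (γ : Γ) (hγ : σ γ = PresentedGroup.of Cfsg.Spor.ON.Gen.a) : γ ^ 2 = 1 := by
  have haa : PresentedGroup.of (rels := RP) Cfsg.Spor.ON.Gen.a * PresentedGroup.of Cfsg.Spor.ON.Gen.a = 1 := by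
    rw [← evc_aa]
    exact hP [2, 2] (by simp [relP, coxL])
  have hzker : γ * γ ∈ σ.ker := by
    rw [MonoidHom.mem_ker, map_mul, hγ, haa]
  have hz : ∀ g : Γ, g * (γ * γ) = (γ * γ) * g := Subgroup.mem_center_iff.mp (hc hzker)
  have hz2 : (γ * γ) * (γ * γ) = 1 := by rw [← pow_two]; exact hexp _ hzker
  obtain ⟨C, hC⟩ := hs (PresentedGroup.of Cfsg.Spor.ON.Gen.c)
  obtain ⟨F, hF⟩ := hs (PresentedGroup.of Cfsg.Spor.ON.Gen.f)
  have key : ∀ (w u : List ℕ), (w, u) ∈ conjI → ∀ x : Γ,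
      σ x = evc (PresentedGroup.of (rels := RP)) dec w → x * x = γ * γ := by
    intro w u hwu x hx
    have h := hconj (w, u) hwu
    refine sq_of_conj σ hs hc hexp γ hz x (evc (PresentedGroup.of (rels := RP)) dec u) ?_
    rw [hx, hγ]
    exact h
  have hCC : C * C = γ * γ := key [6] [4, 2, 6, 4] (by simp [conjI]) C (by rw [hC, evc_c])
  have hFF : F * F = γ * γ := key [12] [4, 1, 6, 4, 2, 8, 6, 4, 8, 10, 1, 6, 4, 8, 7, 0, 9, 11, 9, 7, 1, 9, 1, 11] (by simp [conjI]) F (by rw [hF, evc_f])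
  have hCA : (C * γ) * (C * γ) = γ * γ :=
    key [2, 6] [4, 0, 6, 4, 1, 4] (by simp [conjI]) (C * γ) (by rw [map_mul, hC, hγ, evc_ca])
  have hFA : (F * γ) * (F * γ) = γ * γ :=
    key [2, 12] [4, 0, 6, 4, 1, 4, 8, 6, 4, 2, 8, 6, 4] (by simp [conjI]) (F * γ) (by rw [map_mul, hF, hγ, evc_fa])
  have hFC : (F * C) * (F * C) = γ * γ :=
    key [6, 12] [4, 0, 6, 4, 1, 4, 8, 6, 8] (by simp [conjI]) (F * C) (by rw [map_mul, hF, hC, evc_fc])
  have hFCA : (F * C * γ) * (F * C * γ) = γ * γ :=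
    key [2, 6, 12] [4, 2, 6, 4, 8, 6, 8] (by simp [conjI]) (F * C * γ) (by rw [map_mul, map_mul, hF, hC, hγ, evc_fca])
  rw [pow_two]
  exact z_eq_one hz hz2 rfl hCC hFF hCA hFA hFC hFCA

end Cfsg.Agent.Lib.Helper18.ONM
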