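import Mathlib
import Cfsg.Agent.Lib.Helper28.OTDefs
import Cfsg.Agent.Lib.Helper28.OTExitDefs
import Cfsg.Agent.Lib.Helper16.OTRootC
import Cfsg.Agent.Lib.Helper7.OTSuppBridge
import Cfsg.Agent.Lib.Helper22.OTRootB

/-!
# S5681 / S5709, EXIT piece T2a (helper17)

`q` of `Q_L`-shape all of whose commutators with the elements `1 ⊗ ρ_{k,d}` (`k ∈ π`, `d ∈ π^⊥`) lie in `Y_π` is
`(element of Z_L-shape) * (1 ⊗ ρ_{k₁,d₁} ρ_{k₂,d₂})`.  Exact statement `t2a` of `notes/S5681Exit_helper28.lean.txt`.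

Everything is done slice-wise (`slice i v = v (i, ·)`, helper7): `slice i ((1 ⊗ B) v) = B (slice i v)`.
-/

set_option autoImplicit false
set_option linter.unusedSectionVars false
set_option linter.unusedVariables false

namespace Cfsg.Agent.Lib.Helper17.OTT2a

open Matrix Module
open Cfsg.Agent.Lib.Helper16.Tens Cfsg.Agent.Lib.Helper10.TensFund
open Cfsg.Agent.Lib.Helper3.SpT (bf E adj uni Over bf_add_left bf_add_right bf_smul_left bf_smul_right bf_sub_left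
  bf_sub_right bf_neg_left bf_neg_right bf_zero_left bf_zero_right pur_induction)
open Cfsg.Agent.Lib.Helper13.TensSO (OrthG IsoG)
open Cfsg.Agent.Lib.Helper28.OT Cfsg.Agent.Lib.Helper28.OTX
open Cfsg.Agent.Lib.Helper16.OTRootC (oneK oneK_val exists_partner)
open Cfsg.Agent.Lib.Helper22.OTRootB (bf_span_pair)
open Cfsg.Agent.Lib.Helper7.OTSupp (slice slice_apply slice_pur ext_slice)
open Cfsg.Agent.Lib.Helper7.OTSuppBridge (mem_tW_iff)
open scoped Kronecker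

variable {F : Type*} [Field F] [Fintype F] {a b : ℕ}
variable {J1 : Matrix (Fin a) (Fin a) F} {J2 : Matrix (Fin b) (Fin b) F}
variable {k1 k2 : Fin b → F}

/-! ### slices and `1 ⊗ B` -/

theorem slice_oneKron (B : Matrix (Fin b) (Fin b) F) (z : Fin a × Fin b → F) (i : Fin a) :
    slice i (((1 : Matrix (Fin a) (Fin a) F) ⊗ₖ B) *ᵥ z) = B *ᵥ slice i z := by
  funext j
  simp only [slice_apply, Matrix.mulVec, dotProduct, Matrix.kroneckerMap_apply, Fintype.sum_prod_type,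
    Matrix.one_apply]
  rw [Finset.sum_eq_single i]
  · simp
  · intro i' _ hne
    simp [Ne.symm hne]
  · intro h
    exact absurd (Finset.mem_univ i) h

theorem slice_act_oneK (R : GL (Fin b) F) (z : Fin a × Fin b → F) (i : Fin a) :
    slice i (act (oneK (a := a) R) z) = (R : Matrix (Fin b) (Fin b) F) *ᵥ slice i z := by
  rw [act_apply, oneK_val, slice_oneKron]

theorem slice_nL (z : Fin a × Fin b → F) (i : Fin a) :
    slice i (nL (a := a) J2 k1 k2 *ᵥ z) = T2 J2 k1 k2 *ᵥ slice i z := by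
  unfold nL
  exact slice_oneKron _ _ _

/-! ### `π`, `π^⊥`, `SgN`, `T2` -/

theorem perp_span {x k : Fin b → F}
    (hxp : x ∈ piPerp J2 k1 k2) (hk : k ∈ Submodule.span F {k1, k2}) : bf J2 x k = 0 := by
  obtain ⟨c1, c2, rfl⟩ := Submodule.mem_span_pair.mp hk
  rw [bf_add_right, bf_smul_right, bf_smul_right, hxp.1, hxp.2]
  simp

theorem span_le_perp (hJ2 : OrthG J2) (h : Ts2 J2 k1 k2) {k : Fin b → F} (hk : k ∈ Submodule.span F {k1, k2}) :
    k ∈ piPerp J2 k1 k2 :=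
  ⟨bf_span_pair hJ2 h hk (Submodule.subset_span (by simp)), bf_span_pair hJ2 h hk (Submodule.subset_span (by simp))⟩

theorem SgN_perp (k d : Fin b → F) {w : Fin b → F} (hwk : bf J2 w k = 0) :
    SgN J2 k d *ᵥ w = bf J2 w d • k := by
  rw [SgN_mulVec, hwk]
  simp

theorem T2_perp {w : Fin b → F} (hw : w ∈ piPerp J2 k1 k2) : T2 J2 k1 k2 *ᵥ w = 0 := by
  rw [T2_mulVec, hw.1, hw.2]
  simp

theorem SgN_mem_perp {k d : Fin b → F} (hk : k ∈ piPerp J2 k1 k2) (hd : d ∈ piPerp J2 k1 k2) (x : Fin b → F) :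
    SgN J2 k d *ᵥ x ∈ piPerp J2 k1 k2 := by
  rw [SgN_mulVec]
  exact Submodule.sub_mem _ (Submodule.sub_mem _ (Submodule.smul_mem _ _ hk) (Submodule.smul_mem _ _ hd))
    (Submodule.smul_mem _ _ hk)

/-- `(1 + SgN k e)` maps `π^⊥` into itself when `k ∈ π` -/
theorem one_add_SgN_mem_perp (hJ2 : OrthG J2) (h : Ts2 J2 k1 k2) {k : Fin b → F}
    (hk : k ∈ Submodule.span F {k1, k2}) (e : Fin b → F) {w : Fin b → F} (hw : w ∈ piPerp J2 k1 k2) :
    (1 + SgN J2 k e) *ᵥ w ∈ piPerp J2 k1 k2 := by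
  rw [Matrix.add_mulVec, Matrix.one_mulVec, SgN_perp k e (perp_span hw hk)]
  exact Submodule.add_mem _ hw (Submodule.smul_mem _ _ (span_le_perp hJ2 h hk))

/-- the form against `π^⊥` after applying `1 + SgN k e`, `k ⊥ d` -/
theorem bf_one_add_SgN (k e y d : Fin b → F) (hkd : bf J2 k d = 0) :
    bf J2 ((1 + SgN J2 k e) *ᵥ y) d = bf J2 y d - bf J2 y k * bf J2 e d := by
  rw [Matrix.add_mulVec, Matrix.one_mulVec, SgN_mulVec]
  simp only [bf_add_left, bf_sub_left, bf_smul_left, hkd]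
  ring

/-! ### the key identity -/

/-- `ξ_q(u,w)_i`: the `i`-th slice of `(q - 1)(u ⊗ w)` -/
def xi (q : GL (Fin a × Fin b) F) (u : Fin a → F) (w : Fin b → F) (i : Fin a) : Fin b → F :=
  slice i (act q (pur u w)) - u i • w

theorem xi_mem {q : GL (Fin a × Fin b) F} (hq : InQ J2 k1 k2 q) (u : Fin a → F) (w : Fin b → F) (i : Fin a) :
    xi q u w i ∈ piPerp J2 k1 k2 := by
  have h4 := hq.top (pur u w)
  unfold LpPerp at h4
  rw [mem_tW_iff] at h4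
  have h5 := h4 i
  unfold xi
  rwa [map_sub, slice_pur] at h5

theorem key (hJ2 : OrthG J2) (h2 : (2 : F) ≠ 0) (h : Ts2 J2 k1 k2) (q : GL (Fin a × Fin b) F)
    (hq : InQ J2 k1 k2 q) (k d : Fin b → F) (hk : k ∈ Submodule.span F {k1, k2}) (hd : d ∈ piPerp J2 k1 k2)
    (hk' : bf J2 k k = 0) (hkd : bf J2 k d = 0) (c : F)
    (hc : ((q * oneK (a := a) (rhoW hJ2 h2 k d hk' hkd) * q⁻¹ * (oneK (a := a) (rhoW hJ2 h2 k d hk' hkd))⁻¹ :
        GL (Fin a × Fin b) F) : Matrix (Fin a × Fin b) (Fin a × Fin b) F) = 1 + c • nL (a := a) J2 k1 k2)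
    (u : Fin a → F) (w : Fin b → F) (i : Fin a) :
    bf J2 w k • xi q u d i = -(bf J2 (xi q u w i) d • k) - (c * u i) • (T2 J2 k1 k2 *ᵥ w) := by
  unfold xi
  have hkp : k ∈ piPerp J2 k1 k2 := span_le_perp hJ2 h hk
  -- the group identity
  have h1 : q * oneK (a := a) (rhoW hJ2 h2 k d hk' hkd) =
      (q * oneK (a := a) (rhoW hJ2 h2 k d hk' hkd) * q⁻¹ * (oneK (a := a) (rhoW hJ2 h2 k d hk' hkd))⁻¹) *
        oneK (a := a) (rhoW hJ2 h2 k d hk' hkd) * q := by group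
  have h3 : ∀ z : Fin a × Fin b → F,
      act (q * oneK (a := a) (rhoW hJ2 h2 k d hk' hkd) * q⁻¹ * (oneK (a := a) (rhoW hJ2 h2 k d hk' hkd))⁻¹) z =
        z + c • (nL (a := a) J2 k1 k2 *ᵥ z) := by
    intro z
    rw [act_apply, hc, Matrix.add_mulVec, Matrix.one_mulVec, Matrix.smul_mulVec]
  have h2' : act q (act (oneK (a := a) (rhoW hJ2 h2 k d hk' hkd)) (pur u w)) =
      act (q * oneK (a := a) (rhoW hJ2 h2 k d hk' hkd) * q⁻¹ * (oneK (a := a) (rhoW hJ2 h2 k d hk' hkd))⁻¹)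
        (act (oneK (a := a) (rhoW hJ2 h2 k d hk' hkd)) (act q (pur u w))) := by
    rw [← act_mul, ← act_mul, ← act_mul, ← h1]
  -- the linear map `x ↦ slice i (q (u ⊗ x))`
  let Ψ : (Fin b → F) →ₗ[F] (Fin b → F) := (slice i).comp ((act q).toLinearMap.comp (purR u))
  have hΨ : ∀ x, Ψ x = slice i (act q (pur u x)) := fun x => rfl
  have hΨk : Ψ k = u i • k := by
    rw [hΨ, hq.fix _ (pur_mem_tW u hk), slice_pur]
  have hξ : Ψ w - u i • w ∈ piPerp J2 k1 k2 := by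
    have h4 := hq.top (pur u w)
    unfold LpPerp at h4
    rw [mem_tW_iff] at h4
    have h5 := h4 i
    rwa [map_sub, slice_pur] at h5
  have hξk : bf J2 (Ψ w - u i • w) k = 0 := perp_span hξ hk
  have f2 : act (oneK (a := a) (rhoW hJ2 h2 k d hk' hkd)) (pur u w) = pur u ((1 + SgN J2 k d) *ᵥ w) := by
    rw [act_apply, oneK_val, kron_mulVec_pur, Matrix.one_mulVec, rhoW_val]
  have hL : slice i (act q (act (oneK (a := a) (rhoW hJ2 h2 k d hk' hkd)) (pur u w))) =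
      Ψ w + (bf J2 w d • (u i • k) - bf J2 w k • Ψ d - (bf J2 d d / 2 * bf J2 w k) • (u i • k)) := by
    rw [f2, ← hΨ, Matrix.add_mulVec, Matrix.one_mulVec, SgN_mulVec, map_add, map_sub, map_sub, map_smul, map_smul,
      map_smul, hΨk]
  have hw' : Ψ w = u i • w + (Ψ w - u i • w) := by abel
  have hS : SgN J2 k d *ᵥ Ψ w =
      u i • (bf J2 w d • k - bf J2 w k • d - (bf J2 d d / 2 * bf J2 w k) • k) + bf J2 (Ψ w - u i • w) d • k := by
    conv_lhs => rw [hw']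
    rw [Matrix.mulVec_add, Matrix.mulVec_smul, SgN_mulVec, SgN_perp k d hξk]
  have hT : T2 J2 k1 k2 *ᵥ ((1 + SgN J2 k d) *ᵥ Ψ w) = u i • (T2 J2 k1 k2 *ᵥ w) := by
    rw [Matrix.add_mulVec, Matrix.one_mulVec, Matrix.mulVec_add, T2_perp (SgN_mem_perp hkp hd _), add_zero]
    conv_lhs => rw [hw']
    rw [Matrix.mulVec_add, Matrix.mulVec_smul, T2_perp hξ, add_zero]
  have e := congrArg (slice i) h2'
  rw [hL, h3, map_add, map_smul, slice_nL, slice_act_oneK, rhoW_val, ← hΨ, hT, Matrix.add_mulVec, Matrix.one_mulVec,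
    hS] at e
  funext j
  have ej := congrFun e j
  simp only [Pi.add_apply, Pi.sub_apply, Pi.smul_apply, Pi.neg_apply, smul_eq_mul] at ej ⊢
  have hΨd : Ψ d j = slice i (act q (pur u d)) j := rfl
  have hΨw : Ψ w j = slice i (act q (pur u w)) j := rfl
  have hbf : bf J2 (Ψ w - u i • w) d = bf J2 (slice i (act q (pur u w)) - u i • w) d := rfl
  rw [hΨd, hΨw, hbf] at ej
  linear_combination (-1 : F) * ej

/-! ### duality -/

theorem proj_mem {l1 l2 : Fin b → F} (h11 : bf J2 l1 k1 = 1) (h12 : bf J2 l1 k2 = 0)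
    (h21 : bf J2 l2 k1 = 0) (h22 : bf J2 l2 k2 = 1) (w : Fin b → F) :
    w - bf J2 w k1 • l1 - bf J2 w k2 • l2 ∈ piPerp J2 k1 k2 := by
  constructor
  · rw [bf_sub_left, bf_sub_left, bf_smul_left, bf_smul_left, h11, h21]; ring
  · rw [bf_sub_left, bf_sub_left, bf_smul_left, bf_smul_left, h12, h22]; ring

/-- `π^⊥⊥ ≤ π` -/
theorem mem_span_of_perp (hJ2 : OrthG J2) {l1 l2 : Fin b → F} (h11 : bf J2 l1 k1 = 1) (h12 : bf J2 l1 k2 = 0)
    (h21 : bf J2 l2 k1 = 0) (h22 : bf J2 l2 k2 = 1) (x : Fin b → F)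
    (hx : ∀ w ∈ piPerp J2 k1 k2, bf J2 x w = 0) : x ∈ Submodule.span F ({k1, k2} : Set (Fin b → F)) := by
  have hkey : x - bf J2 x l1 • k1 - bf J2 x l2 • k2 = 0 := by
    apply hJ2.nondeg
    intro w
    have h1 := hx _ (proj_mem h11 h12 h21 h22 w)
    rw [bf_sub_right, bf_sub_right, bf_smul_right, bf_smul_right] at h1
    rw [bf_sub_left, bf_sub_left, bf_smul_left, bf_smul_left, hJ2.symm k1 w, hJ2.symm k2 w]
    linear_combination h1
  rw [Submodule.mem_span_pair]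
  refine ⟨bf J2 x l1, bf J2 x l2, ?_⟩
  rw [sub_sub] at hkey
  exact (sub_eq_zero.mp hkey).symm

/-! ### evaluating the key identity on a dual pair -/

theorem step (hJ2 : OrthG J2) (h2 : (2 : F) ≠ 0) (h : Ts2 J2 k1 k2) (q : GL (Fin a × Fin b) F)
    (hq : InQ J2 k1 k2 q)
    (hc : ∀ (k d : Fin b → F) (hk : k ∈ Submodule.span F {k1, k2}) (hd : d ∈ piPerp J2 k1 k2) (hk' : bf J2 k k = 0)
      (hkd : bf J2 k d = 0), ∃ c : F,
        ((q * oneK (a := a) (rhoW hJ2 h2 k d hk' hkd) * q⁻¹ * (oneK (a := a) (rhoW hJ2 h2 k d hk' hkd))⁻¹ :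
          GL (Fin a × Fin b) F) : Matrix (Fin a × Fin b) (Fin a × Fin b) F) = 1 + c • nL (a := a) J2 k1 k2)
    {l1 l2 : Fin b → F} (h11 : bf J2 l1 k1 = 1) (h12 : bf J2 l1 k2 = 0) (h21 : bf J2 l2 k1 = 0)
    (h22 : bf J2 l2 k2 = 1) (u0 : Fin a → F) (i0 : Fin a) (hu0 : u0 i0 = 1) {d : Fin b → F}
    (hd : d ∈ piPerp J2 k1 k2) :
    (∀ u i, xi q u d i = -((bf J2 (xi q u0 l1 i0) d * u i) • k1) - (bf J2 (xi q u0 l2 i0) d * u i) • k2) ∧
    (∀ w u i, bf J2 (xi q u w i) d =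
      u i * (bf J2 w k1 * bf J2 (xi q u0 l1 i0) d + bf J2 w k2 * bf J2 (xi q u0 l2 i0) d)) := by
  have hk1d : bf J2 k1 d = 0 := by rw [hJ2.symm]; exact hd.1
  have hk2d : bf J2 k2 d = 0 := by rw [hJ2.symm]; exact hd.2
  have hk1s : k1 ∈ Submodule.span F {k1, k2} := Submodule.subset_span (by simp)
  have hk2s : k2 ∈ Submodule.span F {k1, k2} := Submodule.subset_span (by simp)
  obtain ⟨c1, hcc1⟩ := hc k1 d hk1s hd h.h11 hk1d
  obtain ⟨c2, hcc2⟩ := hc k2 d hk2s hd h.h22 hk2d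
  have K1 := key hJ2 h2 h q hq k1 d hk1s hd h.h11 hk1d c1 hcc1
  have K2 := key hJ2 h2 h q hq k2 d hk2s hd h.h22 hk2d c2 hcc2
  have e11 : bf J2 k1 l1 = 1 := by rw [hJ2.symm]; exact h11
  have e21 : bf J2 k2 l1 = 0 := by rw [hJ2.symm]; exact h12
  have e12 : bf J2 k1 l2 = 0 := by rw [hJ2.symm]; exact h21
  have e22 : bf J2 k2 l2 = 1 := by rw [hJ2.symm]; exact h22
  have A : ∀ u i, bf J2 (xi q u l1 i) d = c2 * u i := by
    intro u i
    have e := congrArg (fun x => bf J2 x l2) (K2 u l1 i)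
    simp only [T2_mulVec, bf_smul_left, bf_sub_left, bf_neg_left, h11, h12, e12, e22] at e
    linear_combination e
  have C : ∀ u i, xi q u d i = -((c2 * u i) • k1) + (c1 * u i) • k2 := by
    intro u i
    have e := K1 u l1 i
    rw [A u i, T2_mulVec, h11, h12, one_smul] at e
    rw [e]
    module
  have D : ∀ w u i, bf J2 (xi q u w i) d = u i * (bf J2 w k1 * c2 - bf J2 w k2 * c1) := by
    intro w u i
    have e := congrArg (fun x => bf J2 x l1) (K1 u w i)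
    rw [C u i] at e
    simp only [T2_mulVec, bf_smul_left, bf_sub_left, bf_add_left, bf_neg_left, e11, e21] at e
    linear_combination e
  have hv2 : bf J2 (xi q u0 l1 i0) d = c2 := by rw [D l1 u0 i0, hu0, h11, h12]; ring
  have hv1 : bf J2 (xi q u0 l2 i0) d = -c1 := by rw [D l2 u0 i0, hu0, h21, h22]; ring
  refine ⟨fun u i => ?_, fun w u i => ?_⟩
  · rw [C u i, hv2, hv1]
    module
  · rw [D w u i, hv2, hv1]
    ring

/-! ### the assembly -/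

theorem rhoW_inv_val (hJ2 : OrthG J2) (h2 : (2 : F) ≠ 0) (k d : Fin b → F) (hk : bf J2 k k = 0)
    (hkd : bf J2 k d = 0) :
    (((rhoW hJ2 h2 k d hk hkd)⁻¹ : GL (Fin b) F) : Matrix (Fin b) (Fin b) F) = 1 + SgN J2 k (-d) := rfl

theorem inZ_of_step (hJ2 : OrthG J2) (h2 : (2 : F) ≠ 0) (h : Ts2 J2 k1 k2) (q : GL (Fin a × Fin b) F)
    {l1 l2 : Fin b → F} (h11 : bf J2 l1 k1 = 1) (h12 : bf J2 l1 k2 = 0) (h21 : bf J2 l2 k1 = 0)
    (h22 : bf J2 l2 k2 = 1) (δ1 δ2 : Fin b → F) (hδ1 : δ1 ∈ piPerp J2 k1 k2) (hδ2 : δ2 ∈ piPerp J2 k1 k2)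
    (hC : ∀ d ∈ piPerp J2 k1 k2, ∀ u i, xi q u d i = -((bf J2 δ1 d * u i) • k1) - (bf J2 δ2 d * u i) • k2)
    (hD : ∀ d ∈ piPerp J2 k1 k2, ∀ w u i, bf J2 (xi q u w i) d =
      u i * (bf J2 w k1 * bf J2 δ1 d + bf J2 w k2 * bf J2 δ2 d))
    (hd1 : bf J2 k1 (-δ1) = 0) (hd2 : bf J2 k2 (-δ2) = 0) :
    InZ J2 k1 k2 (q * (oneK (a := a) (rhoW hJ2 h2 k1 (-δ1) h.h11 hd1 * rhoW hJ2 h2 k2 (-δ2) h.h22 hd2))⁻¹) := by
  have hk1s : k1 ∈ Submodule.span F {k1, k2} := Submodule.subset_span (by simp)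
  have hk2s : k2 ∈ Submodule.span F {k1, k2} := Submodule.subset_span (by simp)
  have hk2p : k2 ∈ piPerp J2 k1 k2 := span_le_perp hJ2 h hk2s
  -- `R` on `π^⊥`
  have Ra : ∀ w' ∈ piPerp J2 k1 k2,
      ((rhoW hJ2 h2 k1 (-δ1) h.h11 hd1 * rhoW hJ2 h2 k2 (-δ2) h.h22 hd2 : GL (Fin b) F) :
        Matrix (Fin b) (Fin b) F) *ᵥ w' = w' - bf J2 δ1 w' • k1 - bf J2 δ2 w' • k2 := by
    intro w' hw'
    have hy : w' + bf J2 w' (-δ2) • k2 ∈ piPerp J2 k1 k2 :=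
      Submodule.add_mem _ hw' (Submodule.smul_mem _ _ hk2p)
    have e1 : bf J2 k2 δ1 = 0 := by rw [hJ2.symm]; exact hδ1.2
    rw [Units.val_mul, ← Matrix.mulVec_mulVec, rhoW_val, rhoW_val, Matrix.add_mulVec, Matrix.one_mulVec,
      Matrix.add_mulVec, Matrix.one_mulVec, SgN_perp k2 (-δ2) hw'.2, SgN_perp k1 (-δ1) hy.1]
    simp only [bf_add_left, bf_smul_left, bf_neg_right, e1, hJ2.symm w' δ1, hJ2.symm w' δ2]
    module
  -- the form against `π^⊥` after `R`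
  have Rb : ∀ y d, d ∈ piPerp J2 k1 k2 →
      bf J2 (((rhoW hJ2 h2 k1 (-δ1) h.h11 hd1 * rhoW hJ2 h2 k2 (-δ2) h.h22 hd2 : GL (Fin b) F) :
        Matrix (Fin b) (Fin b) F) *ᵥ y) d = bf J2 y d + bf J2 y k1 * bf J2 δ1 d + bf J2 y k2 * bf J2 δ2 d := by
    intro y d hd
    have hk1d : bf J2 k1 d = 0 := by rw [hJ2.symm]; exact hd.1
    have hk2d : bf J2 k2 d = 0 := by rw [hJ2.symm]; exact hd.2
    have hk21 : bf J2 k2 k1 = 0 := by rw [hJ2.symm]; exact h.h12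
    rw [Units.val_mul, ← Matrix.mulVec_mulVec, rhoW_val, rhoW_val, bf_one_add_SgN k1 (-δ1) _ d hk1d,
      bf_one_add_SgN k2 (-δ2) y d hk2d, bf_one_add_SgN k2 (-δ2) y k1 hk21]
    simp only [bf_neg_left, hδ2.1]
    ring
  -- `R⁻¹` preserves `π^⊥`
  have Rinv : ∀ w' ∈ piPerp J2 k1 k2,
      (((rhoW hJ2 h2 k1 (-δ1) h.h11 hd1 * rhoW hJ2 h2 k2 (-δ2) h.h22 hd2)⁻¹ : GL (Fin b) F) :
        Matrix (Fin b) (Fin b) F) *ᵥ w' ∈ piPerp J2 k1 k2 := by
    intro w' hw'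
    rw [_root_.mul_inv_rev, Units.val_mul, ← Matrix.mulVec_mulVec, rhoW_inv_val, rhoW_inv_val]
    exact one_add_SgN_mem_perp hJ2 h hk2s _ (one_add_SgN_mem_perp hJ2 h hk1s _ hw')
  have hri : (oneK (a := a) (rhoW hJ2 h2 k1 (-δ1) h.h11 hd1 * rhoW hJ2 h2 k2 (-δ2) h.h22 hd2))⁻¹ =
      oneK (a := a) (rhoW hJ2 h2 k1 (-δ1) h.h11 hd1 * rhoW hJ2 h2 k2 (-δ2) h.h22 hd2)⁻¹ := (map_inv _ _).symm
  have hinvmem : ∀ v ∈ LpPerp (a := a) J2 k1 k2,
      act (oneK (a := a) (rhoW hJ2 h2 k1 (-δ1) h.h11 hd1 * rhoW hJ2 h2 k2 (-δ2) h.h22 hd2))⁻¹ v ∈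
        LpPerp (a := a) J2 k1 k2 := by
    intro v hv
    unfold LpPerp at hv ⊢
    rw [mem_tW_iff] at hv ⊢
    intro i
    rw [hri, slice_act_oneK]
    exact Rinv _ (hv i)
  -- Claim 1: `q = 1 ⊗ R` on `L^⊥`
  have C1 : ∀ v ∈ LpPerp (a := a) J2 k1 k2,
      act q v = act (oneK (a := a) (rhoW hJ2 h2 k1 (-δ1) h.h11 hd1 * rhoW hJ2 h2 k2 (-δ2) h.h22 hd2)) v := by
    intro v hv
    unfold LpPerp tW at hv
    induction hv using Submodule.span_induction with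
    | mem x hx =>
      obtain ⟨u, d, hd, rfl⟩ := hx
      apply ext_slice
      intro i
      rw [slice_act_oneK, slice_pur, Matrix.mulVec_smul, Ra d hd]
      have e := hC d hd u i
      unfold xi at e
      rw [sub_eq_iff_eq_add] at e
      rw [e]
      module
    | zero => rw [map_zero, map_zero]
    | add x y _ _ hx hy => rw [map_add, map_add, hx, hy]
    | smul c x _ hx => rw [map_smul, map_smul, hx]
  -- Claim 2: `q - 1 ⊗ R` maps `V` into `L`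
  have C2 : ∀ v', act q v' -
      act (oneK (a := a) (rhoW hJ2 h2 k1 (-δ1) h.h11 hd1 * rhoW hJ2 h2 k2 (-δ2) h.h22 hd2)) v' ∈
        Lp (a := a) k1 k2 := by
    intro v'
    refine pur_induction (p := fun v' => act q v' -
      act (oneK (a := a) (rhoW hJ2 h2 k1 (-δ1) h.h11 hd1 * rhoW hJ2 h2 k2 (-δ2) h.h22 hd2)) v' ∈
        Lp (a := a) k1 k2) ?_ ?_ ?_ v'
    · rw [map_zero, map_zero, sub_zero]
      exact Submodule.zero_mem _
    · intro x y hx hy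
      beta_reduce at hx hy ⊢
      have e : act q (x + y) -
          act (oneK (a := a) (rhoW hJ2 h2 k1 (-δ1) h.h11 hd1 * rhoW hJ2 h2 k2 (-δ2) h.h22 hd2)) (x + y) =
          (act q x - act (oneK (a := a) (rhoW hJ2 h2 k1 (-δ1) h.h11 hd1 * rhoW hJ2 h2 k2 (-δ2) h.h22 hd2)) x) +
          (act q y - act (oneK (a := a) (rhoW hJ2 h2 k1 (-δ1) h.h11 hd1 * rhoW hJ2 h2 k2 (-δ2) h.h22 hd2)) y) := by
        rw [map_add, map_add]; abel
      rw [e]
      exact Submodule.add_mem _ hx hy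
    · intro u w
      unfold Lp
      rw [mem_tW_iff]
      intro i
      rw [map_sub, slice_act_oneK, slice_pur, Matrix.mulVec_smul]
      apply mem_span_of_perp hJ2 h11 h12 h21 h22
      intro d hd
      have e1 := hD d hd w u i
      unfold xi at e1
      rw [bf_sub_left, bf_smul_left] at e1
      rw [bf_sub_left, bf_smul_left, Rb w d hd]
      linear_combination e1
  refine ⟨?_, ?_⟩
  · intro v
    have e := C2 (act (oneK (a := a) (rhoW hJ2 h2 k1 (-δ1) h.h11 hd1 * rhoW hJ2 h2 k2 (-δ2) h.h22 hd2))⁻¹ v)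
    rw [act_act_inv] at e
    rw [act_mul]
    exact e
  · intro v hv
    rw [act_mul, C1 _ (hinvmem v hv), act_act_inv]

variable {Q : QuadraticForm F (Fin a × Fin b → F)}

/-- **T2a** -/
theorem t2a (hS : SetupO J1 J2 Q) (hb : 5 ≤ b) (h : Ts2 J2 k1 k2) (q : GL (Fin a × Fin b) F)
    (hq : InQ J2 k1 k2 q)
    (hc : ∀ (k d : Fin b → F) (hk : k ∈ Submodule.span F {k1, k2}) (hd : d ∈ piPerp J2 k1 k2)
      (hk' : bf J2 k k = 0) (hkd : bf J2 k d = 0), ∃ c : F,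
        ((q * oneK (a := a) (rhoW hS.h2 hS.two k d hk' hkd) * q⁻¹ *
          (oneK (a := a) (rhoW hS.h2 hS.two k d hk' hkd))⁻¹ : GL (Fin a × Fin b) F) :
            Matrix (Fin a × Fin b) (Fin a × Fin b) F) = 1 + c • nL (a := a) J2 k1 k2) :
    ∃ (d1 d2 : Fin b → F) (hd1 : bf J2 k1 d1 = 0) (hd2 : bf J2 k2 d2 = 0),
      d1 ∈ piPerp J2 k1 k2 ∧ d2 ∈ piPerp J2 k1 k2 ∧
      InZ J2 k1 k2 (q * (oneK (a := a)
        (rhoW hS.h2 hS.two k1 d1 h.h11 hd1 * rhoW hS.h2 hS.two k2 d2 h.h22 hd2))⁻¹) := by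
  rcases Nat.eq_zero_or_pos a with ha | ha
  · have : IsEmpty (Fin a) := by rw [ha]; infer_instance
    have : Subsingleton (Fin a × Fin b → F) := inferInstance
    refine ⟨0, 0, bf_zero_right _ _, bf_zero_right _ _, Submodule.zero_mem _, Submodule.zero_mem _, ?_, ?_⟩
    · intro v
      rw [Subsingleton.elim (act _ v - v) 0]
      exact Submodule.zero_mem _
    · intro v _
      exact Subsingleton.elim _ _
  · obtain ⟨⟨l1, h11, h12⟩, ⟨l2, h21, h22⟩⟩ := Cfsg.Agent.Lib.Helper22.OTRootB.exists_dual_pair hS.h2 h.indep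
    have hu0 : (Pi.single (⟨0, ha⟩ : Fin a) (1 : F) : Fin a → F) ⟨0, ha⟩ = 1 := Pi.single_eq_same _ _
    have hδ1p : xi q (Pi.single (⟨0, ha⟩ : Fin a) (1 : F)) l1 ⟨0, ha⟩ ∈ piPerp J2 k1 k2 := xi_mem hq _ _ _
    have hδ2p : xi q (Pi.single (⟨0, ha⟩ : Fin a) (1 : F)) l2 ⟨0, ha⟩ ∈ piPerp J2 k1 k2 := xi_mem hq _ _ _
    have hd1p := Submodule.neg_mem _ hδ1p
    have hd2p := Submodule.neg_mem _ hδ2p
    have hd1 : bf J2 k1 (-xi q (Pi.single (⟨0, ha⟩ : Fin a) (1 : F)) l1 ⟨0, ha⟩) = 0 := by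
      rw [hS.h2.symm]; exact hd1p.1
    have hd2 : bf J2 k2 (-xi q (Pi.single (⟨0, ha⟩ : Fin a) (1 : F)) l2 ⟨0, ha⟩) = 0 := by
      rw [hS.h2.symm]; exact hd2p.2
    refine ⟨_, _, hd1, hd2, hd1p, hd2p, ?_⟩
    exact inZ_of_step hS.h2 hS.two h q h11 h12 h21 h22 _ _ hδ1p hδ2p
      (fun d hd u i => (step hS.h2 hS.two h q hq hc h11 h12 h21 h22 _ _ hu0 hd).1 u i)
      (fun d hd w u i => (step hS.h2 hS.two h q hq hc h11 h12 h21 h22 _ _ hu0 hd).2 w u i) hd1 hd2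

end Cfsg.Agent.Lib.Helper17.OTT2a
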