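import Mathlib
import Cfsg.Agent.H5.SmallOrdD
import Cfsg.Agent.S0904
import Cfsg.Agent.Lib.Helper10.Ord7920A

/-!
# No non-abelian simple group of order 5104 = 2^4 * 11 * 29 (helper17, for S0983)

`C(P11) = P11` by S0904.  If `n_2 = 29` an element of order 11 normalises a Sylow 2-subgroup
(order 16, `11 ∤ 15`) and so commutes with a nontrivial 2-element; otherwise `n_2 ≢ 1 (mod 4)`
and two Sylow 2-subgroups meet in a subgroup `D` of order 8 whose normaliser has order 176,
and again an element of order 11 normalises `D` (`11 ∤ 7`).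
-/

set_option autoImplicit false
set_option linter.unusedSectionVars false
set_option maxRecDepth 100000

namespace Cfsg.Agent.Lib.Helper17.Ord5104

open scoped Nat
open Cfsg.H5.SmallOrd

variable {G : Type*} [Group G] [Finite G]

/-- a subgroup `D` of order 8 or 16 of a simple group of order 5104 is not normalised by an
element of order 11 -/
theorem no_eleven_normalizer [IsSimpleGroup G] (hn : Nat.card G = 5104) (D : Subgroup G)
    (hD : Nat.card D = 8 ∨ Nat.card D = 16)
    (h11 : 11 ∣ Nat.card (Subgroup.normalizer (D : Set G))) : False := by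
  haveI h11p : Fact (Nat.Prime 11) := ⟨by norm_num⟩
  obtain ⟨y0, hy0⟩ :=
    exists_prime_orderOf_dvd_card' (G := Subgroup.normalizer (D : Set G)) 11 h11
  have hyord : orderOf (y0 : G) = 11 := by rw [Subgroup.orderOf_coe]; exact hy0
  have hyN : (y0 : G) ∈ Subgroup.normalizer (D : Set G) := y0.2
  have hQcard : Nat.card (Subgroup.zpowers (y0 : G)) = 11 := by
    rw [Nat.card_zpowers, hyord]
  have hQN : Subgroup.zpowers (y0 : G) ≤ Subgroup.normalizer (D : Set G) := by
    rw [Subgroup.zpowers_le]; exact hyN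
  have hQD : ∀ z ∈ Subgroup.zpowers (y0 : G), ∀ g ∈ D, z * g * z⁻¹ ∈ D := by
    intro z hz g hg
    exact ((Subgroup.mem_normalizer_iff.mp (hQN hz)) g).mp hg
  have hnd : ¬ Nat.card (Subgroup.zpowers (y0 : G)) ∣ Nat.card D - 1 := by
    rw [hQcard]
    rcases hD with h | h <;> rw [h] <;> norm_num
  obtain ⟨z, hzQ, hz1, g, hgD, hg1, hzg⟩ :=
    Cfsg.Agent.Lib.Helper10.Ord7920.exists_commute_of_not_dvd _ D hQD hnd
  have hyz : (y0 : G) ∈ Subgroup.zpowers z :=
    Cfsg.Agent.Lib.Helper10.Ord7920.mem_zpowers_of_mem_zpowers_prime h11p.out hyord hzQ hz1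
  have hgy : Commute g (y0 : G) := by
    obtain ⟨k, hk⟩ := Subgroup.mem_zpowers_iff.mp hyz
    rw [← hk]
    exact hzg.symm.zpow_right k
  have hQp : IsPGroup 11 (Subgroup.zpowers (y0 : G)) :=
    IsPGroup.of_card (n := 1) (by rw [hQcard, pow_one])
  obtain ⟨S, hQS⟩ := hQp.exists_le_sylow
  have hScard : Nat.card (S : Subgroup G) = 11 := by
    have h := sylow_card 11 1 464 (by norm_num)
      (hn.trans (by norm_num : (5104 : ℕ) = 11 ^ 1 * 464)) S
    rw [pow_one] at h
    exact h
  have hQS' : Subgroup.zpowers (y0 : G) = (S : Subgroup G) := by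
    apply Subgroup.eq_of_le_of_card_ge hQS
    rw [hScard, hQcard]
  have hC : Subgroup.centralizer ((S : Subgroup G) : Set G) = (S : Subgroup G) :=
    Cfsg.Agent.S0904.result 2 29 11 4 1 (by norm_num) (by norm_num) (by norm_num)
      (by norm_num) (by norm_num)
      (hn.trans (by norm_num : (5104 : ℕ) = 2 ^ 4 * 29 ^ 1 * 11)) S
  have hgC : g ∈ Subgroup.centralizer ((S : Subgroup G) : Set G) := by
    rw [← hQS', Subgroup.mem_centralizer_iff]
    intro h hh
    obtain ⟨k, hk⟩ := Subgroup.mem_zpowers_iff.mp hh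
    rw [← hk]
    exact ((hgy.zpow_right k).eq).symm
  rw [hC, ← hQS'] at hgC
  have h1 : orderOf g ∣ 11 := by
    have h := Subgroup.orderOf_dvd_natCard _ hgC
    rwa [hQcard] at h
  have h2 : orderOf g ∣ Nat.card D := Subgroup.orderOf_dvd_natCard D hgD
  have h3 : orderOf g ∣ 16 := by
    rcases hD with h | h
    · rw [h] at h2; exact h2.trans (by norm_num)
    · rw [h] at h2; exact h2
  have h4 : orderOf g ∣ Nat.gcd 11 16 := Nat.dvd_gcd h1 h3
  have h5 : orderOf g = 1 := by
    have h : Nat.gcd 11 16 = 1 := by norm_num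
    rw [h] at h4
    exact Nat.dvd_one.mp h4
  exact hg1 (orderOf_eq_one_iff.mp h5)

theorem no_5104 [IsSimpleGroup G] (hG : ¬ IsMulCommutative G) : Nat.card G ≠ 5104 := by
  intro hn
  haveI h2 : Fact (Nat.Prime 2) := ⟨by norm_num⟩
  have hcard : Nat.card G = 2 ^ 4 * 319 := hn.trans (by norm_num)
  have hm : ¬ 2 ∣ 319 := by norm_num
  by_cases hmod : Nat.card (Sylow 2 G) % 2 ^ 2 = 1
  · obtain ⟨h1, -, h3, -⟩ := sylow_num hG 2 4 319 (by norm_num) (by norm_num) hm hcard
    obtain ⟨P⟩ : Nonempty (Sylow 2 G) := inferInstance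
    have hPc := sylow_card 2 4 319 hm hcard P
    have hidx : Nat.card (Sylow 2 G) =
        (Subgroup.normalizer ((P : Subgroup G) : Set G)).index := P.card_eq_index_normalizer
    have hmul := Subgroup.card_mul_index (Subgroup.normalizer ((P : Subgroup G) : Set G))
    rw [← hidx, hn] at hmul
    have hmem : Nat.card (Sylow 2 G) ∈ Nat.divisors 319 :=
      Nat.mem_divisors.mpr ⟨h1, by norm_num⟩
    have h319 : Nat.divisors 319 = {1, 11, 29, 319} := by decide +kernel
    rw [h319] at hmem
    simp only [Finset.mem_insert, Finset.mem_singleton] at hmem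
    have h11 : 11 ∣ Nat.card (Subgroup.normalizer ((P : Subgroup G) : Set G)) := by
      rcases hmem with h | h | h | h
      · omega
      · rw [h] at hmod; norm_num at hmod
      · rw [h] at hmul
        have h176 : Nat.card (Subgroup.normalizer ((P : Subgroup G) : Set G)) = 176 := by omega
        rw [h176]; norm_num
      · rw [h] at hmod; norm_num at hmod
    exact no_eleven_normalizer hn (P : Subgroup G) (Or.inr (by rw [hPc]; norm_num)) h11
  · obtain ⟨P, R, hPR, hDc, hPN, hRN⟩ := exists_inter 2 4 319 (by norm_num) hm hcard hmod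
    have h16 : (2 : ℕ) ^ 4 = 16 := by norm_num
    rw [h16] at hDc
    have hD8 : Nat.card ((P : Subgroup G) ⊓ (R : Subgroup G) : Subgroup G) = 8 := by omega
    have hD1 : (P : Subgroup G) ⊓ (R : Subgroup G) ≠ ⊥ := by
      intro h
      rw [h, Subgroup.card_bot] at hD8
      omega
    have hD2 : (P : Subgroup G) ⊓ (R : Subgroup G) ≠ ⊤ := by
      intro h
      rw [h, Subgroup.card_top, hn] at hD8
      omega
    obtain ⟨d, i, hd, hi, hok, hNi, -⟩ :=
      interOk_of hG 5104 2 4 319 hm hn (by norm_num) P R hPR _ hD1 hD2 hPN hRN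
    have hcert : (List.range (319 + 1)).all (fun d => (List.range (319 + 1)).all
        (fun i => !interOk 5104 2 319 d i || (decide (d = 11) && decide (i = 29)))) = true := by
      decide +kernel
    rw [List.all_eq_true] at hcert
    have hc1 := hcert d hd
    rw [List.all_eq_true] at hc1
    have hc2 := hc1 i hi
    rw [hok] at hc2
    simp only [Bool.not_true, Bool.false_or, Bool.and_eq_true, decide_eq_true_eq] at hc2
    obtain ⟨rfl, rfl⟩ := hc2
    have h11 : 11 ∣ Nat.card (Subgroup.normalizer
        (((P : Subgroup G) ⊓ (R : Subgroup G) : Subgroup G) : Set G)) := by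
      have h176 : Nat.card (Subgroup.normalizer
          (((P : Subgroup G) ⊓ (R : Subgroup G) : Subgroup G) : Set G)) = 176 := by omega
      rw [h176]; norm_num
    exact no_eleven_normalizer hn _ (Or.inl hD8) h11

end Cfsg.Agent.Lib.Helper17.Ord5104
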