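import Mathlib.GroupTheory.QuotientGroup.Basic
import Mathlib.Algebra.Group.Subgroup.Order
import Mathlib.GroupTheory.PGroup

set_option autoImplicit false

namespace Cfsg.Agent.Lib.Helper17

section Quotient

variable {G : Type*} [Group G]

/-- Image of a maximal subgroup containing the kernel under a surjection is maximal. -/
theorem isCoatom_map_of_surjective {H : Type*} [Group H] {φ : G →* H}
    (hφ : Function.Surjective φ) {M : Subgroup G} (hM : IsCoatom M) (hker : φ.ker ≤ M) :
    IsCoatom (M.map φ) := by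
  have hcm : (M.map φ).comap φ = M := Subgroup.comap_map_eq_self hker
  refine ⟨?_, ?_⟩
  · intro h
    apply hM.1
    rw [← hcm, h, Subgroup.comap_top]
  · intro K hK
    have h1 : (M.map φ).comap φ < K.comap φ := (Subgroup.comap_lt_comap_of_surjective hφ).mpr hK
    rw [hcm] at h1
    have h2 := hM.2 _ h1
    apply Subgroup.comap_injective hφ
    rw [h2, Subgroup.comap_top]

/-- If `T ⊔ N = ⊤` with `T` a `p`-group then `G ⧸ N` is a `p`-group. -/
theorem isPGroup_quotient_of_sup_eq_top {p : ℕ} {T N : Subgroup G} [N.Normal]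
    (hT : IsPGroup p T) (h : T ⊔ N = ⊤) : IsPGroup p (G ⧸ N) := by
  intro q
  induction q using QuotientGroup.induction_on with
  | H g =>
    have hg : g ∈ T ⊔ N := h ▸ Subgroup.mem_top g
    rw [Subgroup.mem_sup_of_normal_right] at hg
    obtain ⟨t, ht, n, hn, rfl⟩ := hg
    obtain ⟨k, hk⟩ := hT ⟨t, ht⟩
    refine ⟨k, ?_⟩
    have ht1 : t ^ p ^ k = 1 := by
      have := congrArg Subtype.val hk
      simpa using this
    have h1 : (QuotientGroup.mk (t * n) : G ⧸ N) = QuotientGroup.mk t := by
      rw [QuotientGroup.mk_mul]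
      have : (QuotientGroup.mk n : G ⧸ N) = 1 := (QuotientGroup.eq_one_iff n).mpr hn
      rw [this, mul_one]
    rw [h1, ← QuotientGroup.mk_pow, ht1]; rfl

end Quotient

end Cfsg.Agent.Lib.Helper17
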