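import Mathlib
import Cfsg.Prelude.Def_LocalStructure
import Cfsg.Agent.Lib.Helper17.PResidual
import Cfsg.Agent.Lib.Helper17.CoprimeGen
import Cfsg.Agent.Lib.Helper16.PCore
import Cfsg.Agent.Lib.Helper16.SylowInf

set_option autoImplicit false
open Cfsg

namespace Cfsg.Agent.Lib.Helper17

variable {G : Type*} [Group G] {p : ℕ}

/-- `x` is a `p`-element. -/
def IsPElt (p : ℕ) (x : G) : Prop := ∃ k : ℕ, x ^ p ^ k = 1

theorem isPElt_one : IsPElt p (1 : G) := ⟨0, by simp⟩

theorem IsPElt.inv {x : G} (h : IsPElt p x) : IsPElt p x⁻¹ := by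
  obtain ⟨k, hk⟩ := h
  exact ⟨k, by rw [inv_pow, hk, inv_one]⟩

theorem IsPElt.conj {x : G} (h : IsPElt p x) (g : G) : IsPElt p (g * x * g⁻¹) := by
  obtain ⟨k, hk⟩ := h
  exact ⟨k, by rw [conj_pow, hk, mul_one, mul_inv_cancel]⟩

theorem IsPElt.map {G' : Type*} [Group G'] (f : G →* G') {x : G} (h : IsPElt p x) :
    IsPElt p (f x) := by
  obtain ⟨k, hk⟩ := h
  exact ⟨k, by rw [← map_pow, hk, map_one]⟩

theorem isPElt_of_mem {P : Subgroup G} (hP : IsPGroup p P) {x : G} (hx : x ∈ P) : IsPElt p x := by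
  obtain ⟨k, hk⟩ := hP ⟨x, hx⟩
  exact ⟨k, by simpa using congrArg Subtype.val hk⟩

theorem isPElt_coe_iff {N : Subgroup G} (x : N) : IsPElt p (x : G) ↔ IsPElt p x := by
  constructor
  · rintro ⟨k, hk⟩
    exact ⟨k, Subtype.ext (by simpa using hk)⟩
  · rintro ⟨k, hk⟩
    exact ⟨k, by simpa using congrArg Subtype.val hk⟩

/-- If the kernel of `f` is a `p`-group, `x` is a `p`-element iff `f x` is. -/
theorem isPElt_map_iff {G' : Type*} [Group G'] (f : G →* G') (hker : IsPGroup p f.ker) (x : G) :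
    IsPElt p (f x) ↔ IsPElt p x := by
  refine ⟨?_, IsPElt.map f⟩
  rintro ⟨k, hk⟩
  have hmem : x ^ p ^ k ∈ f.ker := by rw [MonoidHom.mem_ker, map_pow, hk]
  obtain ⟨j, hj⟩ := isPElt_of_mem hker hmem
  exact ⟨k + j, by rw [pow_add, pow_mul, hj]⟩

theorem isPGroup_zpowers_of_isPElt [hp : Fact p.Prime] {x : G} (hx : IsPElt p x) :
    IsPGroup p (Subgroup.zpowers x) := by
  obtain ⟨k, hk⟩ := hx
  have hdvd : orderOf x ∣ p ^ k := orderOf_dvd_of_pow_eq_one hk
  obtain ⟨j, _, hj⟩ := (Nat.dvd_prime_pow hp.out).1 hdvd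
  exact IsPGroup.of_card (n := j) (by rw [Nat.card_zpowers, hj])

/-- Characterization of `p`-closed groups: products of `p`-elements are `p`-elements. -/
theorem isPClosed_iff_mul [Finite G] [Fact p.Prime] :
    IsPClosed p G ↔ ∀ x y : G, IsPElt p x → IsPElt p y → IsPElt p (x * y) := by
  constructor
  · intro h x y hx hy
    obtain ⟨Q, hQ⟩ := (isPGroup_zpowers_of_isPElt hx).exists_le_sylow
    obtain ⟨Q', hQ'⟩ := (isPGroup_zpowers_of_isPElt hy).exists_le_sylow
    haveI := h Q
    haveI := h Q'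
    have hsup : IsPGroup p ((Q : Subgroup G) ⊔ (Q' : Subgroup G) : Subgroup G) :=
      IsPGroup.to_sup_of_normal_right Q.2 Q'.2
    refine isPElt_of_mem hsup (Subgroup.mul_mem _ ?_ ?_)
    · exact (le_sup_left : (Q : Subgroup G) ≤ _) (hQ (Subgroup.mem_zpowers x))
    · exact (le_sup_right : (Q' : Subgroup G) ≤ _) (hQ' (Subgroup.mem_zpowers y))
  · intro h
    let T : Subgroup G :=
      { carrier := {x | IsPElt p x}
        mul_mem' := fun {a b} ha hb => h a b ha hb
        one_mem' := isPElt_one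
        inv_mem' := fun {a} ha => ha.inv }
    have hT : IsPGroup p T := by
      intro g
      exact (isPElt_coe_iff g).mp g.2
    have hTn : T.Normal := ⟨fun n hn g => IsPElt.conj hn g⟩
    intro P
    have hle : (P : Subgroup G) ≤ T := fun x hx => isPElt_of_mem P.2 hx
    have := P.is_maximal' hT hle
    rw [← this]
    exact hTn

/-- `p`-closedness of a subgroup, internal form. -/
theorem isPClosed_subgroup_iff [Finite G] [Fact p.Prime] (N : Subgroup G) :
    IsPClosed p ↥N ↔ ∀ x ∈ N, ∀ y ∈ N, IsPElt p x → IsPElt p y → IsPElt p (x * y) := by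
  rw [isPClosed_iff_mul]
  constructor
  · intro h x hx y hy hpx hpy
    have := h ⟨x, hx⟩ ⟨y, hy⟩ ((isPElt_coe_iff (⟨x, hx⟩ : N)).mp hpx)
      ((isPElt_coe_iff (⟨y, hy⟩ : N)).mp hpy)
    exact (isPElt_coe_iff (⟨x, hx⟩ * ⟨y, hy⟩ : N)).mpr this
  · intro h x y hpx hpy
    exact (isPElt_coe_iff (x * y)).mp
      (h x x.2 y y.2 ((isPElt_coe_iff x).mpr hpx) ((isPElt_coe_iff y).mpr hpy))

/-- `N` is `p`-closed iff its image under a hom with `p`-group kernel is. -/
theorem isPClosed_map_iff [Finite G] [Fact p.Prime] {G' : Type*} [Group G'] [Finite G']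
    (f : G →* G') (hker : IsPGroup p f.ker) (N : Subgroup G) :
    IsPClosed p ↥(N.map f) ↔ IsPClosed p ↥N := by
  rw [isPClosed_subgroup_iff, isPClosed_subgroup_iff]
  constructor
  · intro h x hx y hy hpx hpy
    have := h (f x) (Subgroup.mem_map_of_mem f hx) (f y) (Subgroup.mem_map_of_mem f hy)
      (hpx.map f) (hpy.map f)
    rw [← map_mul] at this
    exact (isPElt_map_iff f hker _).mp this
  · rintro h _ ⟨x, hx, rfl⟩ _ ⟨y, hy, rfl⟩ hpx hpy
    rw [← map_mul]
    exact (h x hx y hy ((isPElt_map_iff f hker _).mp hpx) ((isPElt_map_iff f hker _).mp hpy)).map f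

/-- `IsPClosed` for `⊤` vs the group. -/
theorem isPClosed_top_iff [Finite G] [Fact p.Prime] :
    IsPClosed p ↥(⊤ : Subgroup G) ↔ IsPClosed p G := by
  rw [isPClosed_subgroup_iff, isPClosed_iff_mul]
  exact ⟨fun h x y => h x (Subgroup.mem_top x) y (Subgroup.mem_top y), fun h x _ y _ => h x y⟩

/-- image of `O^p` under a hom lies in `O^p`. -/
theorem map_pResidual_le {G' : Type*} [Group G'] (f : G →* G') :
    (pResidual p G).map f ≤ pResidual p G' := by
  unfold pResidual
  rw [MonoidHom.map_closure, Subgroup.closure_le]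
  rintro _ ⟨x, hx, rfl⟩
  apply Subgroup.subset_closure
  exact Nat.Coprime.coprime_dvd_left (orderOf_map_dvd f x) hx

/-- For a surjective hom with `p`-group kernel, `O^p` maps onto `O^p`. -/
theorem pResidual_le_map [Finite G] [hp : Fact p.Prime] {G' : Type*} [Group G'] (f : G →* G')
    (hf : Function.Surjective f) (hker : IsPGroup p f.ker) :
    pResidual p G' ≤ (pResidual p G).map f := by
  unfold pResidual
  rw [Subgroup.closure_le]
  intro u hu
  obtain ⟨x, rfl⟩ := hf u
  have hu' : (orderOf (f x)).Coprime p := hu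
  -- x^r ∈ ker
  have hmem : x ^ orderOf (f x) ∈ f.ker := by
    rw [MonoidHom.mem_ker, map_pow, pow_orderOf_eq_one]
  obtain ⟨j, hj⟩ := isPElt_of_mem hker hmem
  -- x^(p^j) has order dividing r
  have hord : orderOf (x ^ p ^ j) ∣ orderOf (f x) := by
    apply orderOf_dvd_of_pow_eq_one
    rw [← pow_mul, mul_comm, pow_mul, hj]
  have hx' : x ^ p ^ j ∈ Subgroup.closure {g : G | Nat.Coprime (orderOf g) p} :=
    Subgroup.subset_closure (Nat.Coprime.coprime_dvd_left hord hu')
  apply Cfsg.Agent.Lib.Helper16.mem_of_pow_mem_of_coprime _ (f x) hu' j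
  rw [← map_pow]
  exact Subgroup.mem_map_of_mem f hx'

theorem map_pCore_le [Finite G] [Fact p.Prime] {G' : Type*} [Group G'] (f : G →* G')
    (hf : Function.Surjective f) : (pCore p G).map f ≤ pCore p G' := by
  apply Cfsg.Agent.Lib.Helper16.le_pCore
  · exact Subgroup.Normal.map Cfsg.Agent.Lib.Helper16.pCore_normal f hf
  · exact IsPGroup.map Cfsg.Agent.Lib.Helper16.pCore_isPGroup f

theorem comap_pCore_le [Finite G] [Fact p.Prime] {G' : Type*} [Group G'] [Finite G'] (f : G →* G')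
    (hker : IsPGroup p f.ker) : (pCore p G').comap f ≤ pCore p G := by
  apply Cfsg.Agent.Lib.Helper16.le_pCore
  · haveI : (pCore p G').Normal := Cfsg.Agent.Lib.Helper16.pCore_normal
    exact Subgroup.Normal.comap inferInstance f
  · intro g
    have h1 : IsPElt p (f g.1) :=
      isPElt_of_mem (Cfsg.Agent.Lib.Helper16.pCore_isPGroup (G := G')) g.2
    exact (isPElt_coe_iff g).mp ((isPElt_map_iff f hker _).mp h1)

end Cfsg.Agent.Lib.Helper17
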