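import Mathlib
import Cfsg.Agent.Lib.Helper17.S2924Defs
import Cfsg.Agent.Lib.Helper1.Cores

set_option autoImplicit false

/-!
# S2924 basics (helper17): `θ(y) = O(C_X(y))` has odd order, is normalized by `C_X(y)` and
centralized by `y`.
-/

namespace Cfsg.Agent.Lib.Helper17.S2924

open Cfsg

theorem odd_card_th {X : Type*} [Group X] [Finite X] (y : X) : Odd (Nat.card ↥(th y)) := by
  unfold th
  rw [Subgroup.card_map_of_injective (Subgroup.subtype_injective _)]
  exact (Cfsg.Agent.Lib.Helper1.pPrimeCore_coprime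
    (G := ↥(Subgroup.centralizer ({y} : Set X))) 2).odd_of_right

theorem conj_mem_th {X : Type*} [Group X] {v s a : X} (hs : s * v = v * s) (ha : a ∈ th v) :
    s * a * s⁻¹ ∈ th v := by
  obtain ⟨h, hmem⟩ := mem_th_iff.mp ha
  have hsC : s ∈ Subgroup.centralizer ({v} : Set X) := by
    rw [Subgroup.mem_centralizer_iff]
    intro w hw
    rw [Set.mem_singleton_iff] at hw
    subst hw
    exact hs.symm
  have hn : (Cfsg.oddCore ↥(Subgroup.centralizer ({v} : Set X))).Normal :=
    Cfsg.Agent.Lib.Helper1.pPrimeCore_normal 2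
  have := hn.conj_mem _ hmem ⟨s, hsC⟩
  exact mem_th_iff.mpr ⟨_, this⟩

theorem comm_of_mem_th {X : Type*} [Group X] {v a : X} (ha : a ∈ th v) : v * a = a * v := by
  have := th_le_centralizer v ha
  rw [Subgroup.mem_centralizer_iff] at this
  exact this v rfl

end Cfsg.Agent.Lib.Helper17.S2924
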