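import Mathlib

set_option autoImplicit false

/-!
# S2924 general lemmas (helper17), Mathlib only

* `exists_decomp_four`: an abelian odd-order subgroup normalized by a four-group `⟨s, t⟩` is
  `C_B(s) C_B(t) C_B(st)`.
* `odd_card_iSup_of_commute`: a join of pairwise elementwise-commuting odd-order subgroups has odd order.
-/

namespace Cfsg.Agent.Lib.Helper17.S2924


/-- An abelian group `B` of odd order normalized by commuting involutions `s`, `t`
is `C_B(s) C_B(t) C_B(st)`. -/
theorem exists_decomp_four {G : Type*} [Group G] [Finite G] (B : Subgroup G)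
    (hBc : ∀ a ∈ B, ∀ b ∈ B, a * b = b * a) (hBodd : Odd (Nat.card ↥B))
    (s t : G) (hs : s * s = 1) (ht : t * t = 1) (hst : s * t = t * s)
    (hsB : ∀ b ∈ B, s * b * s⁻¹ ∈ B) (htB : ∀ b ∈ B, t * b * t⁻¹ ∈ B) (b : G) (hb : b ∈ B) :
    ∃ b₁ ∈ B, ∃ b₂ ∈ B, ∃ b₃ ∈ B, s * b₁ = b₁ * s ∧ t * b₂ = b₂ * t ∧
      (s * t) * b₃ = b₃ * (s * t) ∧ b = b₁ * b₂ * b₃ := by
  have hsi : s⁻¹ = s := inv_eq_of_mul_eq_one_right hs
  have hti : t⁻¹ = t := inv_eq_of_mul_eq_one_right ht
  obtain ⟨m, hm⟩ := hBodd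
  set k := m + 1 with hk
  -- the conjugates
  set tb := t * b * t⁻¹ with htb
  set stb := s * tb * s⁻¹ with hstb
  have htbB : tb ∈ B := htB b hb
  have hstbB : stb ∈ B := hsB tb htbB
  -- conjugation identities
  have e1 : s * stb * s⁻¹ = tb := by
    rw [hstb, hsi]
    calc s * (s * tb * s) * s = (s * s) * tb * (s * s) := by group
      _ = tb := by rw [hs, one_mul, mul_one]
  have e2 : t * tb * t⁻¹ = b := by
    rw [htb, hti]
    calc t * (t * b * t) * t = (t * t) * b * (t * t) := by group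
      _ = b := by rw [ht, one_mul, mul_one]
  have e3 : (s * t) * b * (s * t)⁻¹ = stb := by
    rw [hstb, htb]; group
  have hstst : (s * t) * (s * t) = 1 := by
    calc (s * t) * (s * t) = s * (t * s) * t := by group
      _ = s * (s * t) * t := by rw [hst]
      _ = (s * s) * (t * t) := by group
      _ = 1 := by rw [hs, ht, one_mul]
  have hsti : (s * t)⁻¹ = s * t := inv_eq_of_mul_eq_one_right hstst
  have e4 : (s * t) * stb * (s * t)⁻¹ = b := by
    rw [← e3, hsti]
    calc s * t * (s * t * b * (s * t)) * (s * t)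
        = ((s * t) * (s * t)) * b * ((s * t) * (s * t)) := by group
      _ = b := by rw [hstst, one_mul, mul_one]
  -- the three pieces
  set c₁ := (tb * stb)⁻¹ with hc₁
  set c₂ := b * tb with hc₂
  set c₃ := b * stb with hc₃
  have hc₁B : c₁ ∈ B := B.inv_mem (B.mul_mem htbB hstbB)
  have hc₂B : c₂ ∈ B := B.mul_mem hb htbB
  have hc₃B : c₃ ∈ B := B.mul_mem hb hstbB
  have f1 : s * c₁ = c₁ * s := by
    have : s * c₁ * s⁻¹ = c₁ := by
      rw [hc₁]
      have h : s * (tb * stb)⁻¹ * s⁻¹ = ((s * tb * s⁻¹) * (s * stb * s⁻¹))⁻¹ := by group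
      rw [h, e1, ← hstb, hBc stb hstbB tb htbB]
    exact mul_inv_eq_iff_eq_mul.mp this
  have f2 : t * c₂ = c₂ * t := by
    have : t * c₂ * t⁻¹ = c₂ := by
      rw [hc₂]
      have h : t * (b * tb) * t⁻¹ = (t * b * t⁻¹) * (t * tb * t⁻¹) := by group
      rw [h, e2, ← htb, hBc tb htbB b hb]
    exact mul_inv_eq_iff_eq_mul.mp this
  have f3 : (s * t) * c₃ = c₃ * (s * t) := by
    have : (s * t) * c₃ * (s * t)⁻¹ = c₃ := by
      rw [hc₃]
      have h : (s * t) * (b * stb) * (s * t)⁻¹ =
          ((s * t) * b * (s * t)⁻¹) * ((s * t) * stb * (s * t)⁻¹) := by group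
      rw [h, e3, e4, hBc stb hstbB b hb]
    exact mul_inv_eq_iff_eq_mul.mp this
  -- b² = c₁ c₂ c₃
  have hsq : c₁ * c₂ * c₃ = b * b := by
    rw [hc₁, hc₂, hc₃]
    have h1 : (tb * stb)⁻¹ * (b * tb) * (b * stb) = (tb * stb)⁻¹ * ((b * tb) * (b * stb)) := by
      group
    have h2 : (b * tb) * (b * stb) = (tb * stb) * (b * b) := by
      calc (b * tb) * (b * stb) = b * (tb * b) * stb := by group
        _ = b * (b * tb) * stb := by rw [hBc tb htbB b hb]
        _ = (b * b) * (tb * stb) := by group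
        _ = (tb * stb) * (b * b) :=
            hBc _ (B.mul_mem hb hb) _ (B.mul_mem htbB hstbB)
    rw [h1, h2]; group
  -- powers
  have hpow : b ^ (2 * m + 1) = 1 := by
    have := pow_card_eq_one' (G := ↥B) (x := ⟨b, hb⟩)
    rw [hm] at this
    exact congrArg Subtype.val this
  have hbk : (b * b) ^ k = b := by
    rw [← pow_two, ← pow_mul, hk]
    have : 2 * (m + 1) = (2 * m + 1) + 1 := by ring
    rw [this, pow_succ, hpow, one_mul]
  have c12 : Commute c₁ c₂ := hBc c₁ hc₁B c₂ hc₂B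
  have c123 : Commute (c₁ * c₂) c₃ := hBc _ (B.mul_mem hc₁B hc₂B) c₃ hc₃B
  refine ⟨c₁ ^ k, B.pow_mem hc₁B k, c₂ ^ k, B.pow_mem hc₂B k, c₃ ^ k, B.pow_mem hc₃B k,
    ?_, ?_, ?_, ?_⟩
  · exact (Commute.pow_right (show Commute s c₁ from f1) k).eq
  · exact (Commute.pow_right (show Commute t c₂ from f2) k).eq
  · exact (Commute.pow_right (show Commute (s * t) c₃ from f3) k).eq
  · rw [← c12.mul_pow, ← c123.mul_pow, hsq, hbk]



/-- A join of pairwise elementwise-commuting odd-order subgroups has odd order. -/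
theorem odd_card_iSup_of_commute {G : Type*} [Group G] [Finite G] {ι : Type*} (f : ι → Subgroup G)
    (hodd : ∀ i, Odd (Nat.card ↥(f i)))
    (hcomm : ∀ i j, ∀ a ∈ f i, ∀ b ∈ f j, a * b = b * a) : Odd (Nat.card ↥(⨆ i, f i)) := by
  classical
  set S : Set G := ⋃ i, (f i : Set G) with hS
  have hW : (⨆ i, f i) = Subgroup.closure S := by
    rw [hS, Subgroup.closure_iUnion]
    simp
  rw [hW]
  have hSc : ∀ a ∈ S, ∀ b ∈ S, a * b = b * a := by
    intro a ha b hb
    obtain ⟨i, hi⟩ := Set.mem_iUnion.mp ha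
    obtain ⟨j, hj⟩ := Set.mem_iUnion.mp hb
    exact hcomm i j a hi b hj
  -- closure S is commutative
  have h1 : Subgroup.closure S ≤ Subgroup.centralizer S := by
    rw [Subgroup.closure_le]
    intro a ha
    rw [SetLike.mem_coe, Subgroup.mem_centralizer_iff]
    intro b hb
    exact hSc b hb a ha
  have h2 : Subgroup.closure S ≤ Subgroup.centralizer (Subgroup.closure S : Set G) := by
    rw [Subgroup.closure_le]
    intro a ha
    rw [SetLike.mem_coe, Subgroup.mem_centralizer_iff]
    intro b hb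
    have := h1 hb
    rw [Subgroup.mem_centralizer_iff] at this
    exact (this a ha).symm
  have hWc : ∀ a ∈ Subgroup.closure S, ∀ b ∈ Subgroup.closure S, a * b = b * a := by
    intro a ha b hb
    have := h2 hb
    rw [Subgroup.mem_centralizer_iff] at this
    exact this a ha
  -- every element has odd order
  have hord : ∀ a ∈ Subgroup.closure S, Odd (orderOf a) := by
    intro a ha
    induction ha using Subgroup.closure_induction with
    | mem x hx =>
      obtain ⟨i, hi⟩ := Set.mem_iUnion.mp hx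
      have hdvd : orderOf x ∣ Nat.card ↥(f i) := by
        have := orderOf_dvd_natCard (⟨x, hi⟩ : ↥(f i))
        rwa [Subgroup.orderOf_mk] at this
      exact Odd.of_dvd_nat (hodd i) hdvd
    | one => simp
    | mul x y hx hy ihx ihy =>
      have hc : Commute x y := hWc x hx y hy
      have hdvd : orderOf (x * y) ∣ orderOf x * orderOf y :=
        (hc.orderOf_mul_dvd_lcm).trans (Nat.lcm_dvd_mul _ _)
      exact Odd.of_dvd_nat (ihx.mul ihy) hdvd
    | inv x hx ihx => rwa [orderOf_inv]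
  by_contra hne
  rw [Nat.not_odd_iff_even] at hne
  have : Fact (Nat.Prime 2) := ⟨Nat.prime_two⟩
  obtain ⟨w, hw⟩ := exists_prime_orderOf_dvd_card' (G := ↥(Subgroup.closure S)) 2
    (even_iff_two_dvd.mp hne)
  have h3 := hord (w : G) w.2
  rw [Subgroup.orderOf_coe, hw] at h3
  exact absurd h3 (by decide)

end Cfsg.Agent.Lib.Helper17.S2924
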