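import Mathlib
import Cfsg.Agent.Lib.Helper17.S2924Basic
import Cfsg.Agent.Lib.Helper17.S2924Gen

set_option autoImplicit false

/-!
# S2924 (helper17): `θ(x)` and `θ(y)` commute elementwise, given balance and that all `θ(u)` are abelian.
-/

namespace Cfsg.Agent.Lib.Helper17.S2924

open Cfsg

theorem th_commute {X : Type*} [Group X] [Finite X] (Y : Subgroup X)
    (hY : Cfsg.IsElementaryAbelian 2 Y) (h8 : 8 ≤ Nat.card ↥Y)
    (hab : ∀ u ∈ Y, u ≠ 1 → ∀ a ∈ th u, ∀ b ∈ th u, a * b = b * a)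
    (hbal : ∀ x ∈ Y, x ≠ 1 → ∀ u ∈ Y, u ≠ 1 →
      th x ⊓ Subgroup.centralizer ({u} : Set X) ≤ th u)
    (x y : X) (hx : x ∈ Y) (hx1 : x ≠ 1) (hy : y ∈ Y) (hy1 : y ≠ 1) :
    ∀ a ∈ th x, ∀ b ∈ th y, a * b = b * a := by
  intro a ha b hb
  by_cases hxy : x = y
  · subst hxy; exact hab x hx hx1 a ha b hb
  have hYc : ∀ s ∈ Y, ∀ t ∈ Y, s * t = t * s := by
    intro s hs t ht
    have := hY.1.is_comm.comm (⟨s, hs⟩ : ↥Y) ⟨t, ht⟩
    exact congrArg Subtype.val this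
  have hY2 : ∀ s ∈ Y, s * s = 1 := by
    intro s hs
    have := hY.2 s hs
    rwa [pow_two] at this
  -- an element t of Y outside ⟨x, y⟩
  obtain ⟨t, htY, ht1, htx, hty, htxy⟩ :
      ∃ t ∈ Y, t ≠ 1 ∧ t ≠ x ∧ t ≠ y ∧ t ≠ x * y := by
    by_contra hcon
    push_neg at hcon
    have hsub : (Y : Set X) ⊆ ({1, x, y, x * y} : Set X) := by
      intro t ht
      by_contra h
      simp only [Set.mem_insert_iff, Set.mem_singleton_iff, not_or] at h
      exact h.2.2.2 (hcon t ht h.1 h.2.1 h.2.2.1)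
    have hfin : ({1, x, y, x * y} : Set X).Finite := Set.toFinite _
    have h1 : Nat.card ↥Y ≤ ({1, x, y, x * y} : Set X).ncard := by
      have e : Nat.card ↥Y = (Y : Set X).ncard := Nat.card_coe_set_eq (Y : Set X)
      rw [e]
      exact Set.ncard_le_ncard hsub hfin
    have h2 : ({1, x, y, x * y} : Set X).ncard ≤ 4 := by
      classical
      have : ({1, x, y, x * y} : Set X) = ((({1, x, y, x * y} : Finset X)) : Set X) := by
        simp
      rw [this, Set.ncard_coe_finset]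
      exact Finset.card_le_four
    omega
  -- the key pair lemma
  have key : ∀ u ∈ Y, u ≠ 1 → ∀ a' ∈ th x, ∀ b' ∈ th y, u * a' = a' * u → u * b' = b' * u →
      a' * b' = b' * a' := by
    intro u hu hu1 a' ha' b' hb' hua hub
    have h1 : a' ∈ th u := hbal x hx hx1 u hu hu1 (Subgroup.mem_inf.mpr ⟨ha', by
      rw [Subgroup.mem_centralizer_iff]
      intro w hw
      rw [Set.mem_singleton_iff] at hw
      subst hw
      exact hua⟩)
    have h2 : b' ∈ th u := hbal y hy hy1 u hu hu1 (Subgroup.mem_inf.mpr ⟨hb', by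
      rw [Subgroup.mem_centralizer_iff]
      intro w hw
      rw [Set.mem_singleton_iff] at hw
      subst hw
      exact hub⟩)
    exact hab u hu hu1 a' h1 b' h2
  -- decompositions
  have hnx : ∀ s ∈ Y, ∀ c ∈ th x, s * c * s⁻¹ ∈ th x := fun s hs c hc =>
    conj_mem_th (hYc s hs x hx) hc
  have hny : ∀ s ∈ Y, ∀ c ∈ th y, s * c * s⁻¹ ∈ th y := fun s hs c hc =>
    conj_mem_th (hYc s hs y hy) hc
  obtain ⟨a₁, ha₁, a₂, ha₂, a₃, ha₃, h1a, h2a, h3a, rfl⟩ :=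
    exists_decomp_four (th x) (hab x hx hx1) (odd_card_th x) y t (hY2 y hy) (hY2 t htY)
      (hYc y hy t htY) (hnx y hy) (hnx t htY) a ha
  obtain ⟨b₁, hb₁, b₂, hb₂, b₃, hb₃, h1b, h2b, h3b, rfl⟩ :=
    exists_decomp_four (th y) (hab y hy hy1) (odd_card_th y) x t (hY2 x hx) (hY2 t htY)
      (hYc x hx t htY) (hny x hx) (hny t htY) b hb
  -- x centralizes th x, y centralizes th y
  have cx : ∀ c ∈ th x, x * c = c * x := fun c hc => comm_of_mem_th hc
  have cy : ∀ c ∈ th y, y * c = c * y := fun c hc => comm_of_mem_th hc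
  have hxt1 : x * t ≠ 1 := by
    intro h
    apply htx
    have : t = x⁻¹ := (eq_inv_of_mul_eq_one_right h)
    rw [this]
    exact (inv_eq_of_mul_eq_one_right (hY2 x hx))
  have hyt1 : y * t ≠ 1 := by
    intro h
    apply hty
    have : t = y⁻¹ := (eq_inv_of_mul_eq_one_right h)
    rw [this]
    exact (inv_eq_of_mul_eq_one_right (hY2 y hy))
  have hxyt1 : x * (y * t) ≠ 1 := by
    intro h
    apply htxy
    have h' : (x * y) * t = 1 := by rw [mul_assoc]; exact h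
    have : t = (x * y)⁻¹ := (eq_inv_of_mul_eq_one_right h')
    rw [this]
    exact (inv_eq_of_mul_eq_one_right (hY2 (x * y) (mul_mem hx hy)))
  -- the nine pairs
  have p11 : Commute a₁ b₁ := key y hy hy1 a₁ ha₁ b₁ hb₁ h1a (cy b₁ hb₁)
  have p12 : Commute a₁ b₂ := key y hy hy1 a₁ ha₁ b₂ hb₂ h1a (cy b₂ hb₂)
  have p13 : Commute a₁ b₃ := key y hy hy1 a₁ ha₁ b₃ hb₃ h1a (cy b₃ hb₃)
  have p21 : Commute a₂ b₁ := key x hx hx1 a₂ ha₂ b₁ hb₁ (cx a₂ ha₂) h1b
  have p31 : Commute a₃ b₁ := key x hx hx1 a₃ ha₃ b₁ hb₁ (cx a₃ ha₃) h1b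
  have p22 : Commute a₂ b₂ := key t htY ht1 a₂ ha₂ b₂ hb₂ h2a h2b
  have p23 : Commute a₂ b₃ := by
    refine key (x * t) (mul_mem hx htY) hxt1 a₂ ha₂ b₃ hb₃ ?_ h3b
    rw [mul_assoc, h2a, ← mul_assoc, cx a₂ ha₂, mul_assoc]
  have p32 : Commute a₃ b₂ := by
    refine key (y * t) (mul_mem hy htY) hyt1 a₃ ha₃ b₂ hb₂ h3a ?_
    rw [mul_assoc, h2b, ← mul_assoc, cy b₂ hb₂, mul_assoc]
  have p33 : Commute a₃ b₃ := by
    refine key (x * (y * t)) (mul_mem hx (mul_mem hy htY)) hxyt1 a₃ ha₃ b₃ hb₃ ?_ ?_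
    · rw [mul_assoc, h3a, ← mul_assoc, cx a₃ ha₃, mul_assoc]
    · have e : x * (y * t) = y * (x * t) := by
        rw [← mul_assoc, hYc x hx y hy, mul_assoc]
      rw [e, mul_assoc, h3b, ← mul_assoc, cy b₃ hb₃, mul_assoc]
  have q1 : Commute a₁ (b₁ * b₂ * b₃) := (p11.mul_right p12).mul_right p13
  have q2 : Commute a₂ (b₁ * b₂ * b₃) := (p21.mul_right p22).mul_right p23
  have q3 : Commute a₃ (b₁ * b₂ * b₃) := (p31.mul_right p32).mul_right p33
  exact ((q1.mul_left q2).mul_left q3).eq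

end Cfsg.Agent.Lib.Helper17.S2924
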