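import Mathlib
import Cfsg.Agent.Lib.Helper17.S2924Basic
import Cfsg.Agent.Lib.Helper9.GfsP
import Cfsg.Agent.Lib.Helper9.TwoCon2
import Cfsg.Agent.Lib.Helper2.S2924FO12

set_option autoImplicit false

/-!
# S2924 transport (helper17): `θ(u)` is inverted by `z`, and balance `θ(x) ∩ C_X(u) ≤ θ(u)`,
from the abstract lemmas of helper2 (`Helper2.S2924FO12`) applied to `H = C_X(u)`.
-/

namespace Cfsg.Agent.Lib.Helper17.S2924

open Cfsg

theorem mem_centralizer_singleton' {X : Type*} [Group X] {t g : X} :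
    g ∈ Subgroup.centralizer ({t} : Set X) ↔ t * g = g * t := by
  rw [Subgroup.mem_centralizer_iff]
  constructor
  · intro h; exact h t rfl
  · intro h y hy
    rw [Set.mem_singleton_iff] at hy; subst hy; exact h

/-- `F*(C_{C_X(u)}(ẑ))` is a `2`-group. -/
theorem isPGroup_gfs_centralizer_hat {X : Type*} [Group X] [Finite X] (z u : X)
    (hu : orderOf u = 2) (hzu : z * u = u * z)
    (hzC : Cfsg.generalizedFittingSubgroup ↥(Subgroup.centralizer ({z} : Set X)) =
      Cfsg.pCore 2 ↥(Subgroup.centralizer ({z} : Set X)))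
    (hzCu : z ∈ Subgroup.centralizer ({u} : Set X)) :
    IsPGroup 2 ↥(Cfsg.generalizedFittingSubgroup
      ↥(Subgroup.centralizer ({(⟨z, hzCu⟩ : ↥(Subgroup.centralizer ({u} : Set X)))} :
        Set ↥(Subgroup.centralizer ({u} : Set X))))) := by
  have : Fact (Nat.Prime 2) := ⟨Nat.prime_two⟩
  set Cu := Subgroup.centralizer ({u} : Set X) with hCu
  set Cz := Subgroup.centralizer ({z} : Set X) with hCz
  have hCzP : IsPGroup 2 ↥(Cfsg.generalizedFittingSubgroup ↥Cz) :=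
    Cfsg.Agent.Lib.Helper9.isPGroup_gfs_of_eq_pCore hzC
  have hUle : Subgroup.zpowers u ≤ Cz := by
    rw [Subgroup.zpowers_le]
    exact mem_centralizer_singleton'.mpr hzu
  have hU : IsPGroup 2 ↥(Subgroup.zpowers u) := by
    apply IsPGroup.of_card (n := 1)
    rw [Nat.card_zpowers, hu, pow_one]
  have h1 := Cfsg.Agent.Lib.Helper9.isPGroup_gfs_normalizer_inf hUle hU hCzP
  rw [Cfsg.Agent.Lib.Helper9.TwoCon.normalizer_zpowers_eq_centralizer hu] at h1
  -- transport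
  have heq : Subgroup.centralizer ({(⟨z, hzCu⟩ : ↥Cu)} : Set ↥Cu) = (Cu ⊓ Cz).subgroupOf Cu := by
    ext g
    rw [mem_centralizer_singleton', Subgroup.mem_subgroupOf, Subgroup.mem_inf]
    constructor
    · intro h
      refine ⟨g.2, mem_centralizer_singleton'.mpr ?_⟩
      exact congrArg Subtype.val h
    · intro h
      exact Subtype.ext (mem_centralizer_singleton'.mp h.2)
  rw [heq]
  exact Cfsg.Agent.Lib.Helper9.isPGroup_gfs_of_mulEquiv
    (Subgroup.subgroupOfEquivOfLe (inf_le_left : Cu ⊓ Cz ≤ Cu)).symm h1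

theorem th_inverted {X : Type*} [Group X] [Finite X] (z u : X) (hz : orderOf z = 2)
    (hu : orderOf u = 2) (hzu : z * u = u * z)
    (hzC : Cfsg.generalizedFittingSubgroup ↥(Subgroup.centralizer ({z} : Set X)) =
      Cfsg.pCore 2 ↥(Subgroup.centralizer ({z} : Set X))) :
    ∀ a ∈ th u, z * a * z⁻¹ = a⁻¹ := by
  have : Fact (Nat.Prime 2) := ⟨Nat.prime_two⟩
  have hzCu : z ∈ Subgroup.centralizer ({u} : Set X) := mem_centralizer_singleton'.mpr hzu.symm
  have hC := isPGroup_gfs_centralizer_hat z u hu hzu hzC hzCu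
  have hO := Cfsg.Agent.Lib.Helper9.pPrimeCore_eq_bot_of_isPGroup_gfs hC
  have hzo : orderOf (⟨z, hzCu⟩ : ↥(Subgroup.centralizer ({u} : Set X))) = 2 := by
    rw [Subgroup.orderOf_mk]; exact hz
  have key := Cfsg.Agent.Lib.Helper2.S2924.inverts_oddCore (⟨z, hzCu⟩ : ↥(Subgroup.centralizer ({u} : Set X))) hzo hO
  intro a ha
  obtain ⟨h, hmem⟩ := mem_th_iff.mp ha
  have := key ⟨a, h⟩ hmem
  exact congrArg Subtype.val this

theorem th_balance {X : Type*} [Group X] [Finite X] (z x u : X) (hz : orderOf z = 2)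
    (hx : orderOf x = 2) (hu : orderOf u = 2) (hzu : z * u = u * z) (hzx : z * x = x * z)
    (hxu : x * u = u * x)
    (hzC : Cfsg.generalizedFittingSubgroup ↥(Subgroup.centralizer ({z} : Set X)) =
      Cfsg.pCore 2 ↥(Subgroup.centralizer ({z} : Set X)))
    (hE : Cfsg.layer ↥(Subgroup.centralizer ({u} : Set X)) = ⊥) :
    th x ⊓ Subgroup.centralizer ({u} : Set X) ≤ th u := by
  have : Fact (Nat.Prime 2) := ⟨Nat.prime_two⟩
  set Cu := Subgroup.centralizer ({u} : Set X) with hCu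
  have hzCu : z ∈ Cu := mem_centralizer_singleton'.mpr hzu.symm
  have hxCu : x ∈ Cu := mem_centralizer_singleton'.mpr hxu.symm
  have hC := isPGroup_gfs_centralizer_hat z u hu hzu hzC hzCu
  have hzo : orderOf (⟨z, hzCu⟩ : ↥Cu) = 2 := by
    rw [Subgroup.orderOf_mk]; exact hz
  have hxo : orderOf (⟨x, hxCu⟩ : ↥Cu) = 2 := by
    rw [Subgroup.orderOf_mk]; exact hx
  set D : Subgroup ↥Cu := (th x ⊓ Cu).subgroupOf Cu with hD
  have hDu : D ≤ Subgroup.centralizer ({(⟨x, hxCu⟩ : ↥Cu)} : Set ↥Cu) := by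
    intro d hd
    rw [hD, Subgroup.mem_subgroupOf, Subgroup.mem_inf] at hd
    rw [mem_centralizer_singleton']
    exact Subtype.ext (comm_of_mem_th hd.1)
  have hDodd : Odd (Nat.card ↥D) := by
    rw [hD, Nat.card_congr (Subgroup.subgroupOfEquivOfLe (inf_le_right : th x ⊓ Cu ≤ Cu)).toEquiv]
    exact Odd.of_dvd_nat (odd_card_th x) (Subgroup.card_dvd_of_le inf_le_left)
  have hDn : ∀ y : ↥Cu, y * (⟨x, hxCu⟩ : ↥Cu) = ⟨x, hxCu⟩ * y → ∀ d ∈ D, y * d * y⁻¹ ∈ D := by
    intro y hy d hd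
    rw [hD, Subgroup.mem_subgroupOf, Subgroup.mem_inf] at hd ⊢
    refine ⟨?_, (y * d * y⁻¹).2⟩
    have hy' : (y : X) * x = x * (y : X) := congrArg Subtype.val hy
    have := conj_mem_th hy' hd.1
    simpa using this
  have key := Cfsg.Agent.Lib.Helper2.S2924.balance_of_char2 hE (⟨z, hzCu⟩ : ↥Cu) hzo hC (⟨x, hxCu⟩ : ↥Cu) hxo
    (Subtype.ext hzx) D hDu hDodd hDn
  intro g hg
  have hgCu : g ∈ Cu := (Subgroup.mem_inf.mp hg).2
  have hgD : (⟨g, hgCu⟩ : ↥Cu) ∈ D := by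
    rw [hD, Subgroup.mem_subgroupOf]
    exact hg
  exact mem_th_iff.mpr ⟨hgCu, key hgD⟩

end Cfsg.Agent.Lib.Helper17.S2924
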