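import Mathlib
import Cfsg.Agent.Lib.Helper11.S3282Defs
import Cfsg.Agent.Lib.Helper12.S3282G1a
import Cfsg.Agent.Lib.Helper14.S3282G2b
import Cfsg.Agent.Lib.Helper17.S3282G3

/-!
# S3282, piece G3 (`G3_torus`) with the exact skeleton signature; also `G1_conj`
(the hypotheses `Hyp` are invariant under automorphisms, in particular conjugation).
-/

set_option autoImplicit false

namespace Cfsg.Agent.Lib.Helper17.S3282G3Final

open Cfsg Cfsg.Agent.Lib.Helper11 Cfsg.Agent.Lib.Helper11.S3282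

universe u

variable {G : Type u} [Group G] {t s : G} {K : Subgroup G}

theorem map_centralizer (φ : G ≃* G) (x : G) :
    (Subgroup.centralizer ({x} : Set G)).map φ.toMonoidHom = Subgroup.centralizer ({φ x} : Set G) := by
  ext y
  rw [Subgroup.mem_map, Subgroup.mem_centralizer_singleton_iff]
  constructor
  · rintro ⟨a, ha, rfl⟩
    rw [Subgroup.mem_centralizer_singleton_iff] at ha
    change φ a * φ x = φ x * φ a
    rw [← map_mul, ← map_mul, ha]
  · intro hy
    refine ⟨φ.symm y, ?_, by simp⟩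
    rw [Subgroup.mem_centralizer_singleton_iff]
    apply φ.injective
    rw [map_mul, map_mul, φ.apply_symm_apply]
    exact hy

/-- `Hyp` is invariant under automorphisms. -/
theorem hyp_equiv (h : Hyp t s K) (φ : G ≃* G) : Hyp (φ t) (φ s) (K.map φ.toMonoidHom) where
  ht := by rw [φ.orderOf_eq]; exact h.ht
  comm := by
    rintro _ ⟨a, ha, rfl⟩ _ ⟨b, hb, rfl⟩
    change φ a * φ b = φ b * φ a
    rw [← map_mul, ← map_mul, h.comm a ha b hb]
  hKH := by
    rw [← map_centralizer]
    exact Subgroup.map_mono h.hKH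
  htK := Subgroup.mem_map.mpr ⟨t, h.htK, rfl⟩
  hs := by rw [φ.orderOf_eq]; exact h.hs
  hsH := by
    rw [← map_centralizer]
    exact Subgroup.mem_map.mpr ⟨s, h.hsH, rfl⟩
  hsK := by
    rintro ⟨a, ha, hab⟩
    have : a = s := φ.injective hab
    rw [this] at ha
    exact h.hsK ha
  hH := by
    rw [← map_centralizer, ← h.hH, Subgroup.map_sup, MonoidHom.map_zpowers]
    rfl
  hCK := by
    rw [← map_centralizer, ← Subgroup.map_inf _ _ _ φ.injective, h.hCK, MonoidHom.map_zpowers]
    rfl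
  hinv := by
    rintro _ ⟨a, ha, rfl⟩
    change φ s * φ a * (φ s)⁻¹ = (φ a)⁻¹
    rw [← map_inv, ← map_mul, ← map_mul, h.hinv a ha, map_inv]
  hTI := by
    intro g' hg'
    rw [eq_bot_iff]
    rintro x ⟨⟨a, ha, rfl⟩, hx2⟩
    obtain ⟨_, ⟨b, hb, rfl⟩, hbx⟩ := hx2
    have hg'' : φ.symm g' ∉ Subgroup.centralizer ({t} : Set G) := by
      intro hmem
      apply hg'
      rw [← map_centralizer]
      exact Subgroup.mem_map.mpr ⟨φ.symm g', hmem, by simp⟩
    have hTI := h.hTI (φ.symm g') hg''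
    have hmem : a ∈ K ⊓ K.map (MulAut.conj (φ.symm g')).toMonoidHom := by
      refine ⟨ha, Subgroup.mem_map.mpr ⟨b, hb, ?_⟩⟩
      apply φ.injective
      change φ (φ.symm g' * b * (φ.symm g')⁻¹) = φ a
      rw [map_mul, map_mul, map_inv, φ.apply_symm_apply]
      exact hbx
    rw [hTI, Subgroup.mem_bot] at hmem
    rw [Subgroup.mem_bot]
    change φ a = 1
    rw [hmem, map_one]
  hconj := h.hconj

/-- `G1_conj` with the exact skeleton signature. -/
theorem G1_conj (h : Hyp t s K) (g : G) :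
    Hyp (g * t * g⁻¹) (g * s * g⁻¹) (K.map (MulAut.conj g).toMonoidHom) :=
  hyp_equiv h (MulAut.conj g)

/-- **G3** with the exact skeleton signature. -/
theorem G3_torus [Finite G] (h : Hyp t s K)
    (hRO : ∀ x ∈ RO K, Nat.card (Subgroup.centralizer ({x} : Set G)) = Nat.card K - 1)
    {x u : G} (hx : x ∈ RO K) (hu : orderOf u = 2) (hux : u * x * u⁻¹ = x⁻¹) :
    Subgroup.normalizer ((Subgroup.centralizer ({x} : Set G) : Subgroup G) : Set G)
      = Subgroup.centralizer ({x} : Set G) ⊔ Subgroup.zpowers u :=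
  Cfsg.Agent.Lib.Helper17.S3282G3.torus_of_facts
    (fun _ _ _ h' =>
      ⟨Cfsg.Agent.Lib.Helper12.S3282G1a.G1_invol_of_not_mem h',
        Cfsg.Agent.Lib.Helper14.S3282G2b.commute_conjSet h',
        Cfsg.Agent.Lib.Helper14.S3282G2b.invol_mem_conjSet h',
        Cfsg.Agent.Lib.Helper14.S3282G2b.G2_odd h',
        Cfsg.Agent.Lib.Helper14.S3282G2b.G2_inverts h',
        Cfsg.Agent.Lib.Helper14.S3282G2b.G2_comm h',
        Cfsg.Agent.Lib.Helper14.S3282G2b.G2_cent h'⟩)
    (G1_conj h) h hRO hx hu hux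

end Cfsg.Agent.Lib.Helper17.S3282G3Final
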