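import Mathlib
import Cfsg.Prelude.Def_GeometricClasses
import Cfsg.Agent.Lib.Helper7.AschDefs
import Cfsg.Agent.Lib.Helper14.S5630CoreAB
import Cfsg.Agent.Lib.Helper16.AschC6ADefs
import Cfsg.Agent.Lib.Helper16.S5630I6AB

/-!
# S5630 block I6 half A: pieces A8 (exponent_omega) and A9 (cyclic_of_char)  (helper17)
-/

set_option autoImplicit false
set_option linter.unusedVariables false
set_option linter.unusedSectionVars false

namespace Cfsg.Agent.Lib.Helper17.S5630I6A89

open Matrix Cfsg.Geo Cfsg.Agent.Lib.Helper7.Asch Cfsg.Agent.Lib.Helper16.AschC6A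
  Cfsg.Agent.Lib.Helper16.S5630I6AB
open scoped commutatorElement

variable {F : Type*} [Field F] {n : ℕ} {H N G R : Subgroup (GL (Fin n) F)} {r : ℕ}

/-- a group in which every square is trivial is commutative -/
theorem comm_of_sq {M : Type*} [Group M] (h : ∀ x : M, x ^ 2 = 1) (x y : M) : x * y = y * x := by
  have hx := h x
  have hy := h y
  have hxy := h (x * y)
  rw [pow_two] at hx hy hxy
  symm
  calc y * x = (x * x) * (y * x) * (y * y) := by rw [hx, hy, one_mul, mul_one]
    _ = x * ((x * y) * (x * y)) * y := by simp only [mul_assoc]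
    _ = x * y := by rw [hxy, mul_one]

/-- **A8** -/
theorem exponent_omega (hn : 2 ≤ n) (hG : SG H G r) (hR : IsOmega G R r) (habs : AbsIrr R) :
    Monoid.exponent R = kk r := by
  have hdvd : Monoid.exponent R ∣ kk r := by
    apply Monoid.exponent_dvd_of_forall_pow_eq_one
    intro x
    apply Subtype.ext
    have := ((hR x).1 x.2).2
    simpa using this
  by_contra hne
  have hsq : ∀ x : R, x ^ 2 = 1 := by
    intro x
    by_cases h2 : r = 2
    · subst h2
      rw [kk_two'] at hdvd hne
      obtain ⟨m, hm, hE⟩ :=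
        (Nat.dvd_prime_pow Nat.prime_two).1 (show Monoid.exponent R ∣ 2 ^ 2 from hdvd)
      have hm1 : m ≤ 1 := by
        by_contra hc
        have hm2 : m = 2 := by omega
        subst hm2
        exact hne hE
      have hd2 : Monoid.exponent R ∣ 2 := by
        rw [hE]
        simpa using pow_dvd_pow 2 hm1
      exact (Monoid.exponent_dvd_iff_forall_pow_eq_one).1 hd2 x
    · rw [kk_odd' hG.prime h2] at hdvd hne
      have h1 : Monoid.exponent R = 1 := ((Nat.dvd_prime hG.prime).1 hdvd).resolve_right hne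
      have hx := Monoid.pow_exponent_eq_one x
      rw [h1, pow_one] at hx
      rw [hx, one_pow]
  have hcomm : ∀ x ∈ R, ∀ y ∈ R, x * y = y * x := by
    intro x hx y hy
    have := comm_of_sq hsq ⟨x, hx⟩ ⟨y, hy⟩
    exact congrArg Subtype.val this
  exact Cfsg.Agent.Lib.Helper14.S5630Core.not_absIrr_of_comm hn R hcomm habs

/-- **A9** -/
theorem cyclic_of_char [Fintype F] (hn : 2 ≤ n) (hG : SG H G r) (hR : IsOmega G R r) :
    ∀ A : Subgroup R, A.Characteristic → IsMulCommutative A → IsCyclic A := by
  intro A hchar hAc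
  have hnormR : NormBy H R := omega_norm hG hR
  have hRG : R ≤ G := omega_le hR
  have hA'R : A.map R.subtype ≤ R := by
    rintro _ ⟨a, _, rfl⟩
    exact a.2
  -- `A.map R.subtype` is normalised by `H`
  have hnormA : NormBy H (A.map R.subtype) := by
    rintro h hh _ ⟨a, ha, rfl⟩
    let φ : R ≃* R :=
      { toFun := fun x => ⟨h * x * h⁻¹, hnormR h hh x x.2⟩
        invFun := fun x => ⟨h⁻¹ * x * h, by
          have := hnormR h⁻¹ (H.inv_mem hh) x x.2
          simpa using this⟩
        left_inv := fun x => by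
          apply Subtype.ext
          simp [mul_assoc]
        right_inv := fun x => by
          apply Subtype.ext
          simp [mul_assoc]
        map_mul' := fun x y => by
          apply Subtype.ext
          simp [mul_assoc] }
    have hle := (Subgroup.characteristic_iff_map_le.1 hchar) φ
    have hmem : φ a ∈ A := hle ⟨a, ha, rfl⟩
    exact ⟨φ a, hmem, rfl⟩
  have hA'G : A.map R.subtype ≤ G := hA'R.trans hRG
  have hA'comm : ∀ x ∈ A.map R.subtype, ∀ y ∈ A.map R.subtype, x * y = y * x := by
    rintro _ ⟨a, ha, rfl⟩ _ ⟨b, hb, rfl⟩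
    have := hAc.is_comm.comm (⟨a, ha⟩ : A) ⟨b, hb⟩
    exact congrArg (fun z : A => ((z : R) : GL (Fin n) F)) this
  rcases hG.minimal (A.map R.subtype) hA'G hnormA with hS | hsup
  swap
  · exfalso
    obtain ⟨x, hx, y, hy, hxy⟩ := sg_not_comm hn hG
    obtain ⟨a, ha, s, hs, rfl⟩ := mem_sup_scalars (hsup hx)
    obtain ⟨b, hb, t, ht, rfl⟩ := mem_sup_scalars (hsup hy)
    apply hxy
    have hab := hA'comm a ha b hb
    have hsb := scalar_comm' s hs b
    have hta := scalar_comm' t ht a
    have hst := scalar_comm' s hs t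
    calc a * s * (b * t) = a * (s * b) * t := by simp only [mul_assoc]
      _ = a * (b * s) * t := by rw [hsb]
      _ = (a * b) * (s * t) := by simp only [mul_assoc]
      _ = (b * a) * (t * s) := by rw [hab, hst]
      _ = b * (a * t) * s := by simp only [mul_assoc]
      _ = b * (t * a) * s := by rw [← hta]
      _ = b * t * (a * s) := by simp only [mul_assoc]
  -- `A.map R.subtype ≤ scalars`
  have hn0 : 0 < n := by omega
  have hscal : ∀ a : A, ∃ c : Fˣ,
      (((a : R) : GL (Fin n) F) : Matrix (Fin n) (Fin n) F) = (c : F) • 1 := by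
    intro a
    exact (mem_scalars_iff _).1 (hS ⟨a, a.2, rfl⟩)
  let ψ : A →* F :=
    { toFun := fun a => (((a : R) : GL (Fin n) F) : Matrix (Fin n) (Fin n) F) ⟨0, hn0⟩ ⟨0, hn0⟩
      map_one' := by simp
      map_mul' := fun a b => by
        obtain ⟨c, hc⟩ := hscal a
        have hmul : ((((a * b : A) : R) : GL (Fin n) F) : Matrix (Fin n) (Fin n) F) =
            (((a : R) : GL (Fin n) F) : Matrix (Fin n) (Fin n) F) *
              (((b : R) : GL (Fin n) F) : Matrix (Fin n) (Fin n) F) := rfl
        rw [hmul, hc]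
        simp }
  have : Finite A := inferInstance
  apply isCyclic_of_injective_ringHom ψ
  intro a b hab
  obtain ⟨c, hc⟩ := hscal a
  obtain ⟨d, hd⟩ := hscal b
  have h1 : (c : F) = d := by
    have h2 : (((a : R) : GL (Fin n) F) : Matrix (Fin n) (Fin n) F) ⟨0, hn0⟩ ⟨0, hn0⟩ =
        (((b : R) : GL (Fin n) F) : Matrix (Fin n) (Fin n) F) ⟨0, hn0⟩ ⟨0, hn0⟩ := hab
    rw [hc, hd] at h2
    simpa using h2
  apply Subtype.ext
  apply Subtype.ext
  apply Units.ext
  rw [hc, hd, h1]

end Cfsg.Agent.Lib.Helper17.S5630I6A89
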