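import Mathlib
import Cfsg.Prelude.Def_GeometricClasses
import Cfsg.Agent.Lib.Helper7.AschDefs
import Cfsg.Agent.Lib.Helper22.AschC7Defs

/-!
# S5630 block I7: pieces A1 (P1a-f), A2 (P2a-e), A3 (P3a-b) - the tensor-power algebra  (helper17)
-/

set_option autoImplicit false
set_option linter.unusedVariables false
set_option linter.unusedSectionVars false

namespace Cfsg.Agent.Lib.Helper17.S5630I7A

open Matrix Cfsg.Geo Cfsg.Agent.Lib.Helper7.Asch Cfsg.Agent.Lib.Helper22.AschC7
open scoped Kronecker

variable {F : Type*} [Field F] {n m t : ℕ}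

/-- **P1a** -/
theorem pt_mul (as bs : Fin t → Matrix (Fin m) (Fin m) F) : pt as * pt bs = pt (fun i => as i * bs i) := by
  ext x y
  simp only [Matrix.mul_apply, pt_apply]
  rw [Fintype.prod_sum]
  apply Finset.sum_congr rfl
  intro z _
  rw [Finset.prod_mul_distrib]

/-- **P1b** -/
theorem pt_one : pt (fun _ : Fin t => (1 : Matrix (Fin m) (Fin m) F)) = 1 := by
  ext x y
  rw [pt_apply]
  simp only [Matrix.one_apply]
  rw [Fintype.prod_boole]
  by_cases h : x = y
  · subst h
    simp
  · rw [if_neg h, if_neg]
    intro h'
    exact h (funext h')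

/-- entries of a pure tensor with one factor singled out -/
theorem pt_update_apply (as : Fin t → Matrix (Fin m) (Fin m) F) (i : Fin t) (a : Matrix (Fin m) (Fin m) F)
    (x y : Fin t → Fin m) :
    pt (Function.update as i a) x y = a (x i) (y i) * ∏ j ∈ Finset.univ.erase i, as j (x j) (y j) := by
  rw [pt_apply, ← Finset.mul_prod_erase Finset.univ (fun j => Function.update as i a j (x j) (y j))
    (Finset.mem_univ i)]
  simp only [Function.update_self]
  congr 1
  apply Finset.prod_congr rfl
  intro j hj
  rw [Function.update_of_ne (Finset.ne_of_mem_erase hj)]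

/-- **P1c** -/
theorem pt_update_smul (as : Fin t → Matrix (Fin m) (Fin m) F) (i : Fin t) (c : F) (a : Matrix (Fin m) (Fin m) F) :
    pt (Function.update as i (c • a)) = c • pt (Function.update as i a) := by
  ext x y
  rw [Matrix.smul_apply, pt_update_apply, pt_update_apply, Matrix.smul_apply, smul_eq_mul, smul_eq_mul,
    mul_assoc]

/-- **P1d** -/
theorem pt_update_add (as : Fin t → Matrix (Fin m) (Fin m) F) (i : Fin t) (a b : Matrix (Fin m) (Fin m) F) :
    pt (Function.update as i (a + b)) = pt (Function.update as i a) + pt (Function.update as i b) := by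
  ext x y
  rw [Matrix.add_apply, pt_update_apply, pt_update_apply, pt_update_apply, Matrix.add_apply, add_mul]

/-- **P1e** -/
theorem pt_transpose (as : Fin t → Matrix (Fin m) (Fin m) F) : (pt as)ᵀ = pt (fun i => (as i)ᵀ) := by
  ext x y
  rfl

/-- **P1f** matrix units are pure tensors of matrix units -/
theorem pt_single (x y : Fin t → Fin m) :
    pt (fun i => Matrix.single (x i) (y i) (1 : F)) = Matrix.single x y 1 := by
  ext u v
  rw [pt_apply]
  simp only [Matrix.single_apply]
  rw [Fintype.prod_boole]
  by_cases h : x = u ∧ y = v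
  · obtain ⟨rfl, rfl⟩ := h
    simp
  · rw [if_neg h, if_neg]
    intro h'
    exact h ⟨funext fun i => (h' i).1, funext fun i => (h' i).2⟩

/-- **P2a** -/
theorem pos_apply (i : Fin t) (a : Matrix (Fin m) (Fin m) F) (x y : Fin t → Fin m) :
    pos i a x y = if (∀ j, j ≠ i → x j = y j) then a (x i) (y i) else 0 := by
  rw [pos_def, pt_update_apply]
  simp only [Matrix.one_apply]
  rw [Finset.prod_boole]
  by_cases h : ∀ j, j ≠ i → x j = y j
  · rw [if_pos h, if_pos, mul_one]
    intro j hj
    exact h j (Finset.ne_of_mem_erase hj)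
  · rw [if_neg h, if_neg, mul_zero]
    intro h'
    exact h (fun j hj => h' j (Finset.mem_erase.mpr ⟨hj, Finset.mem_univ j⟩))

theorem pos_one (i : Fin t) : pos i (1 : Matrix (Fin m) (Fin m) F) = 1 := by
  rw [pos_def]
  have h : Function.update (fun _ : Fin t => (1 : Matrix (Fin m) (Fin m) F)) i 1 = fun _ => 1 :=
    Function.update_eq_self i (fun _ : Fin t => (1 : Matrix (Fin m) (Fin m) F))
  rw [h, pt_one]

theorem pos_mul (i : Fin t) (a b : Matrix (Fin m) (Fin m) F) : pos i (a * b) = pos i a * pos i b := by
  rw [pos_def, pos_def, pos_def, pt_mul]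
  congr 1
  funext j
  by_cases hj : j = i
  · subst hj
    simp only [Function.update_self]
  · simp only [Function.update_of_ne hj, mul_one]

theorem pos_smul (i : Fin t) (c : F) (a : Matrix (Fin m) (Fin m) F) : pos i (c • a) = c • pos i a := by
  rw [pos_def, pos_def, pt_update_smul]

theorem pos_add (i : Fin t) (a b : Matrix (Fin m) (Fin m) F) : pos i (a + b) = pos i a + pos i b := by
  rw [pos_def, pos_def, pos_def, pt_update_add]

theorem pos_zero (i : Fin t) : pos i (0 : Matrix (Fin m) (Fin m) F) = 0 := by
  have h := pos_smul i (0 : F) (0 : Matrix (Fin m) (Fin m) F)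
  rw [zero_smul, zero_smul] at h
  exact h

/-- `pos i` as an algebra homomorphism -/
def posAlgHom (i : Fin t) : Matrix (Fin m) (Fin m) F →ₐ[F] Matrix (Fin t → Fin m) (Fin t → Fin m) F where
  toFun := pos i
  map_one' := pos_one i
  map_mul' := pos_mul i
  map_zero' := pos_zero i
  map_add' := pos_add i
  commutes' := fun c => by
    rw [Algebra.algebraMap_eq_smul_one, Algebra.algebraMap_eq_smul_one, pos_smul, pos_one]

theorem posAlgHom_apply (i : Fin t) (a : Matrix (Fin m) (Fin m) F) : posAlgHom i a = pos i a := rfl

/-- **P2b** `pos i` is an algebra homomorphism -/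
theorem exists_posAlgHom (i : Fin t) :
    ∃ ψ : Matrix (Fin m) (Fin m) F →ₐ[F] Matrix (Fin t → Fin m) (Fin t → Fin m) F, ∀ a, ψ a = pos i a :=
  ⟨posAlgHom i, fun a => rfl⟩

/-- **P2c** -/
theorem pos_injective (i : Fin t) : Function.Injective (pos (F := F) (m := m) i) := by
  intro a b hab
  ext c d
  have h := congr_fun (congr_fun hab (fun _ => c)) (Function.update (fun _ => c) i d)
  have hc : ∀ j, j ≠ i → (fun _ : Fin t => c) j = Function.update (fun _ : Fin t => c) i d j :=
    fun j hj => by rw [Function.update_of_ne hj]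
  rw [pos_apply, pos_apply, if_pos hc, if_pos hc] at h
  simpa using h

/-- **P2d** -/
theorem pt_mul_pos (as : Fin t → Matrix (Fin m) (Fin m) F) (i : Fin t) (a : Matrix (Fin m) (Fin m) F) :
    pt as * pos i a = pt (Function.update as i (as i * a)) := by
  rw [pos_def, pt_mul]
  congr 1
  funext j
  by_cases hj : j = i
  · subst hj
    simp only [Function.update_self]
  · simp only [Function.update_of_ne hj, mul_one]

/-- **P2e** -/
theorem pos_mul_pt (as : Fin t → Matrix (Fin m) (Fin m) F) (i : Fin t) (a : Matrix (Fin m) (Fin m) F) :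
    pos i a * pt as = pt (Function.update as i (a * as i)) := by
  rw [pos_def, pt_mul]
  congr 1
  funext j
  by_cases hj : j = i
  · subst hj
    simp only [Function.update_self]
  · simp only [Function.update_of_ne hj, one_mul]

/-- every pure tensor lies in the algebra generated by the position algebras -/
theorem pt_mem_adjoin (as : Fin t → Matrix (Fin m) (Fin m) F) :
    pt as ∈ Algebra.adjoin F (⋃ i : Fin t, Set.range (pos (F := F) (m := m) i)) := by
  classical
  have key : ∀ s : Finset (Fin t), pt (fun j => if j ∈ s then as j else 1) ∈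
      Algebra.adjoin F (⋃ i : Fin t, Set.range (pos (F := F) (m := m) i)) := by
    intro s
    induction s using Finset.induction_on with
    | empty =>
      simp only [Finset.notMem_empty, if_false]
      rw [pt_one]
      exact Subalgebra.one_mem _
    | insert i s hi ih =>
      have hmem : pos i (as i) ∈
          Algebra.adjoin F (⋃ i : Fin t, Set.range (pos (F := F) (m := m) i)) :=
        Algebra.subset_adjoin (Set.mem_iUnion.mpr ⟨i, ⟨as i, rfl⟩⟩)
      have hprod := Subalgebra.mul_mem _ hmem ih
      rw [pos_mul_pt] at hprod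
      have hfun : (fun j => if j ∈ insert i s then as j else (1 : Matrix (Fin m) (Fin m) F)) =
          Function.update (fun j => if j ∈ s then as j else 1) i
            (as i * (fun j => if j ∈ s then as j else (1 : Matrix (Fin m) (Fin m) F)) i) := by
        funext j
        by_cases hj : j = i
        · subst hj
          simp [hi]
        · rw [Function.update_of_ne hj]
          simp [Finset.mem_insert, hj]
      rw [hfun]
      exact hprod
  have h := key Finset.univ
  simpa using h

/-- **P3a** the position algebras generate the matrix algebra -/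
theorem adjoin_pos_eq_top :
    Algebra.adjoin F (⋃ i : Fin t, Set.range (pos (F := F) (m := m) i)) = ⊤ := by
  rw [eq_top_iff]
  intro M _
  have hM : (∑ x, ∑ y, Matrix.single x y (M x y)) ∈
      Algebra.adjoin F (⋃ i : Fin t, Set.range (pos (F := F) (m := m) i)) := by
    apply Subalgebra.sum_mem
    intro x _
    apply Subalgebra.sum_mem
    intro y _
    have h1 : Matrix.single x y (M x y) = M x y • Matrix.single x y (1 : F) := by
      rw [Matrix.smul_single, smul_eq_mul, mul_one]
    rw [h1, ← pt_single]
    exact Subalgebra.smul_mem _ (pt_mem_adjoin _) _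
  rwa [← Matrix.matrix_eq_sum_single] at hM

/-- **P3b** a matrix commuting with all position matrices is scalar -/
theorem scalar_of_commute_pos (Z : Matrix (Fin t → Fin m) (Fin t → Fin m) F)
    (hZ : ∀ (i : Fin t) (a : Matrix (Fin m) (Fin m) F), Z * pos i a = pos i a * Z) :
    ∃ c : F, Z = c • (1 : Matrix (Fin t → Fin m) (Fin t → Fin m) F) := by
  have hle : Algebra.adjoin F (⋃ i : Fin t, Set.range (pos (F := F) (m := m) i)) ≤
      Subalgebra.centralizer F {Z} := by
    apply Algebra.adjoin_le
    intro M hM
    obtain ⟨i, a, rfl⟩ := Set.mem_iUnion.mp hM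
    rw [SetLike.mem_coe, Subalgebra.mem_centralizer_iff]
    intro g hg
    rw [Set.mem_singleton_iff] at hg
    subst hg
    exact hZ i a
  rw [adjoin_pos_eq_top] at hle
  have hcomm : ∀ M : Matrix (Fin t → Fin m) (Fin t → Fin m) F, Z * M = M * Z := by
    intro M
    have h := hle (Algebra.mem_top : M ∈ (⊤ : Subalgebra F _))
    rw [Subalgebra.mem_centralizer_iff] at h
    exact h Z rfl
  have hmem : Z ∈ Set.range (Matrix.scalar (Fin t → Fin m)) := by
    apply Matrix.mem_range_scalar_of_commute_single
    intro x y _
    exact (hcomm _).symm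
  obtain ⟨c, hc⟩ := hmem
  refine ⟨c, ?_⟩
  rw [← hc, Matrix.scalar_apply, Matrix.smul_one_eq_diagonal]

end Cfsg.Agent.Lib.Helper17.S5630I7A
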