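import Mathlib
import Cfsg.Agent.Lib.Helper8.S5670T2Defs
import Cfsg.Agent.Lib.Helper24.S5670FOISO
import Cfsg.Agent.Lib.Helper8.S5670T2S
import Cfsg.Agent.Lib.Helper8.S5670T2P

/-!
# S5670 FO-T2T3, piece T2-R (helper17): `decomp_rad`

A unitary element `g` of the radical of `Stab(U ⊗ k₀)` (`k₀` isotropic) that conjugates every Siegel element
`sieg y c = 1 ⊗ ρ_{y,c}` into the Kronecker group agrees with some `sieg y* c*` on `U ⊗ k₀^⊥`.
-/

set_option autoImplicit false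
set_option linter.unusedSectionVars false
set_option linter.unusedVariables false

namespace Cfsg.Agent.Lib.Helper17.S5670T2R

open Matrix Module
open Cfsg.Agent.Lib.Helper16.Tens Cfsg.Agent.Lib.Helper10.TensFund Cfsg.Agent.Lib.Helper28.TensU
open Cfsg.Agent.Lib.Helper8.S5670T2
open Cfsg.Agent.Lib.Helper25.S5670HS
open Cfsg.Agent.Lib.Helper8.S5670T2S (inRad_sieg act_sieg_of_mem_hyp)
open Cfsg.Agent.Lib.Helper8.S5670T2P (exists_partner exists_valid exists_not_fixed eq_on_hyp)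
open scoped Kronecker

variable {F : Type*} [Field F] [Fintype F] {a b : ℕ} {q : ℕ}

local notation "K" => Cfsg.Geo.kroneckerSubgroup a b F
local notation "V" => (Fin a × Fin b → F)

/-! ### small facts on `hs` -/

theorem hs_sub_left' {κ : Type*} [Fintype κ] (x x' y : κ → F) :
    hs q (x - x') y = hs q x y - hs q x' y := by
  simp only [hs, Pi.sub_apply, sub_mul, Finset.sum_sub_distrib]

theorem hs_zero_left' {κ : Type*} [Fintype κ] (y : κ → F) : hs q (0 : κ → F) y = 0 := by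
  simp [hs]

theorem hs_sub_right' {κ : Type*} [Fintype κ] (hF : Fintype.card F = q ^ 2) (x y y' : κ → F) :
    hs q x (y - y') = hs q x y - hs q x y' := by
  have h := hs_add_right hF x (y - y') y'
  rw [sub_add_cancel] at h
  rw [h]; ring

theorem hs_ctrL (φ : Fin a → F) (v : V) (y : Fin b → F) :
    hs q (ctrL φ v) y = φ ⬝ᵥ ctr (cj q y) v := by
  simp only [hs, ctrL_apply, dotProduct, ctr_apply, cj_apply, Finset.sum_mul, Finset.mul_sum]
  rw [Finset.sum_comm]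
  apply Finset.sum_congr rfl
  intro i _
  apply Finset.sum_congr rfl
  intro j _
  ring

theorem cj_smul (l : F) (y : Fin b → F) : cj q (l • y) = l ^ q • cj q y := by
  funext i
  simp only [cj_apply, Pi.smul_apply, smul_eq_mul, mul_pow]

/-! ### the data attached to `g` -/

/-- `τ_u = g (u ⊗ k₁) - u ⊗ k₁` -/
def tau (g : GL (Fin a × Fin b) F) (k₁ : Fin b → F) (u : Fin a → F) : V :=
  act g (pur u k₁) - pur u k₁

/-- `D_y u`: the `U`-component of `g (u ⊗ y) - u ⊗ y ∈ U ⊗ k₀` -/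
def Dm (q : ℕ) (g : GL (Fin a × Fin b) F) (k₁ y : Fin b → F) (u : Fin a → F) : Fin a → F :=
  ctr (cj q k₁) (act g (pur u y) - pur u y)

/-- `E_y u = (1 ⊗ h(·, y)) τ_u` -/
def Em (q : ℕ) (g : GL (Fin a × Fin b) F) (k₁ y : Fin b → F) (u : Fin a → F) : Fin a → F :=
  ctr (cj q y) (tau g k₁ u)

theorem Em_smul (g : GL (Fin a × Fin b) F) (k₁ y : Fin b → F) (l : F) (u : Fin a → F) :
    Em q g k₁ (l • y) u = l ^ q • Em q g k₁ y u := by
  unfold Em
  rw [cj_smul, ctr_smul]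

/-- the standing hypotheses -/
structure Ctx (q : ℕ) (k₀ k₁ : Fin b → F) (g : GL (Fin a × Fin b) F) : Prop where
  hF : Fintype.card F = q ^ 2
  hk : hs q k₀ k₀ = 0
  h10 : hs q k₁ k₀ = 1
  h01 : hs q k₀ k₁ = 1
  hg : g ∈ UG (Fin a × Fin b) F q
  fixL : ∀ u : Fin a → F, act g (pur u k₀) = pur u k₀
  modL : ∀ v ∈ hyp (a := a) (cj q k₀), ∃ u'' : Fin a → F, act g v - v = pur u'' k₀

namespace Ctx

variable {k₀ k₁ : Fin b → F} {g : GL (Fin a × Fin b) F}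

theorem tau_mem (C : Ctx q k₀ k₁ g) (u : Fin a → F) : ctr (cj q k₀) (tau g k₁ u) = 0 := by
  apply hs_nondeg C.hF
  intro u'
  rw [← hs_pur_right]
  unfold tau
  rw [hs_sub_left']
  have h1 := (mem_UG_iff q g).1 C.hg (pur u k₁) (pur u' k₀)
  rw [← act_apply, ← act_apply, C.fixL] at h1
  rw [h1, sub_self]

theorem tau_mem_hyp (C : Ctx q k₀ k₁ g) (u : Fin a → F) : tau g k₁ u ∈ hyp (a := a) (cj q k₀) :=
  (mem_hyp_iff _ _).2 (C.tau_mem u)

theorem act_k₁ (g : GL (Fin a × Fin b) F) (k₁ : Fin b → F) (u : Fin a → F) :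
    act g (pur u k₁) = pur u k₁ + tau g k₁ u := by
  unfold tau; abel

theorem pur_mem (k₀ y : Fin b → F) (hy : hs q y k₀ = 0) (u : Fin a → F) :
    pur u y ∈ hyp (a := a) (cj q k₀) :=
  pur_mem_hyp (by rw [← hs_eq_dotProduct]; exact hy) u

theorem act_pur (C : Ctx q k₀ k₁ g) (y : Fin b → F) (hy : hs q y k₀ = 0) (u : Fin a → F) :
    act g (pur u y) = pur u y + pur (Dm q g k₁ y u) k₀ := by
  obtain ⟨u'', hu''⟩ := C.modL _ (pur_mem k₀ y hy u)
  have hD : Dm q g k₁ y u = u'' := by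
    unfold Dm
    rw [hu'', ctr_pur, ← hs_eq_dotProduct, C.h01, one_smul]
  rw [hD, ← hu'']; abel

theorem r2 (C : Ctx q k₀ k₁ g) (y : Fin b → F) (hy : hs q y k₀ = 0) (u u' : Fin a → F) :
    hs q u (Dm q g k₁ y u') + hs q (Em q g k₁ y u) u' = 0 := by
  have h1 := (mem_UG_iff q g).1 C.hg (pur u k₁) (pur u' y)
  rw [← act_apply, ← act_apply, C.act_pur y hy u', act_k₁ g k₁ u] at h1
  have e1 : hs q (pur u k₁) (pur (Dm q g k₁ y u') k₀) = hs q u (Dm q g k₁ y u') := by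
    rw [hs_pur, C.h10, mul_one]
  have e3 : hs q (tau g k₁ u) (pur u' y) = hs q (Em q g k₁ y u) u' := hs_pur_right _ _ _
  have e4 : hs q (tau g k₁ u) (pur (Dm q g k₁ y u') k₀) = 0 := by
    rw [hs_pur_right, C.tau_mem, hs_zero_left']
  rw [hs_add_left, hs_add_right C.hF, hs_add_right C.hF, e1, e3, e4] at h1
  linear_combination h1

theorem r1 (C : Ctx q k₀ k₁ g) (ha : 1 ≤ a) (hk0 : k₀ ≠ 0) (y : Fin b → F) (c : F)
    (hy : hs q y k₀ = 0) (hy' : hs q k₀ y = 0)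
    (hx : g * sieg q k₀ y c C.hk hy hy' * g⁻¹ ∈ K) :
    ∃ s : F, ∀ u : Fin a → F, Dm q g k₁ y u + Em q g k₁ y u = s • u := by
  obtain ⟨s₀, hs₀⟩ : ∃ s₀ : GL (Fin a × Fin b) F, s₀ = sieg q k₀ y c C.hk hy hy' := ⟨_, rfl⟩
  rw [← hs₀] at hx
  obtain ⟨A, B, hAB⟩ := (mem_kron_iff _).1 hx
  have hxp : ∀ (u : Fin a → F) (w : Fin b → F), act (g * s₀ * g⁻¹) (pur u w) =
      pur ((A : Matrix (Fin a) (Fin a) F) *ᵥ u) ((B : Matrix (Fin b) (Fin b) F) *ᵥ w) := by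
    intro u w
    rw [act_apply, hAB, kron_mulVec_pur]
  have hginv : ∀ u : Fin a → F, act g⁻¹ (pur u k₀) = pur u k₀ := by
    intro u
    calc act g⁻¹ (pur u k₀) = act g⁻¹ (act g (pur u k₀)) := by rw [C.fixL]
      _ = pur u k₀ := act_inv_act g _
  have hsfix : ∀ u : Fin a → F, act s₀ (pur u k₀) = pur u k₀ := by
    intro u
    rw [hs₀]
    exact (inRad_sieg k₀ y c C.hk hy hy').1 _ (pur_mem_pt u k₀)
  have hxfix : ∀ u : Fin a → F, act (g * s₀ * g⁻¹) (pur u k₀) = pur u k₀ := by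
    intro u
    rw [act_mul, act_mul, hginv, hsfix, C.fixL]
  obtain ⟨u₀, hu₀⟩ : ∃ u₀ : Fin a → F, u₀ ≠ 0 :=
    ⟨Pi.single ⟨0, by omega⟩ 1, single_ne_zero' _⟩
  have hBk : (B : Matrix (Fin b) (Fin b) F) *ᵥ k₀ ≠ 0 := by
    intro h0
    have h := hxfix u₀
    rw [hxp, h0, pur_zero_right] at h
    rcases pur_eq_zero h.symm with h | h
    · exact hu₀ h
    · exact hk0 h
  obtain ⟨ψ, hψ⟩ := exists_dual _ hBk
  have hA : ∀ u : Fin a → F, (A : Matrix (Fin a) (Fin a) F) *ᵥ u = (k₀ ⬝ᵥ ψ) • u := by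
    intro u
    have h := congrArg (ctr ψ) (hxfix u)
    rw [hxp, ctr_pur, ctr_pur, hψ, one_smul] at h
    exact h
  -- `x` agrees with `s₀` on `U ⊗ k₀^⊥`
  have hsv : ∀ v ∈ hyp (a := a) (cj q k₀), act s₀ v = v - pur (ctr (cj q y) v) k₀ := by
    intro v hv
    rw [hs₀]
    exact act_sieg_of_mem_hyp k₀ y c C.hk hy hy' v hv
  have hxs : ∀ v ∈ hyp (a := a) (cj q k₀), act (g * s₀ * g⁻¹) v = act s₀ v := by
    intro v hv
    obtain ⟨l, hl⟩ := C.modL v hv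
    have hgv : act g v = v + pur l k₀ := by rw [← hl]; abel
    have hginvv : act g⁻¹ v = v - pur l k₀ := by
      have h1 : act g (v - pur l k₀) = v := by rw [map_sub, hgv, C.fixL]; abel
      calc act g⁻¹ v = act g⁻¹ (act g (v - pur l k₀)) := by rw [h1]
        _ = v - pur l k₀ := act_inv_act g _
    rw [act_mul, act_mul, hginvv, map_sub, hsfix, hsv v hv, map_sub, map_sub, hgv, C.fixL, C.fixL]
    abel
  -- evaluate `g s₀ = x g` at `u ⊗ k₁`
  have hd : k₁ ⬝ᵥ (c • cj q k₀ - cj q y) = c - hs q k₁ y := by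
    rw [dotProduct_sub, dotProduct_smul, ← hs_eq_dotProduct, ← hs_eq_dotProduct, C.h10, smul_eq_mul, mul_one]
  have hs1 : ∀ u : Fin a → F, act s₀ (pur u k₁) = pur u k₁ + (c - hs q k₁ y) • pur u k₀ + pur u y := by
    intro u
    rw [hs₀, act_sieg, ctr_pur, ctr_pur, hd, ← hs_eq_dotProduct, C.h10, one_smul, pur_smul_left]
  have key : ∀ u : Fin a → F,
      pur u ((k₀ ⬝ᵥ ψ) • ((B : Matrix (Fin b) (Fin b) F) *ᵥ k₁)) =
        pur u k₁ + pur u y + pur ((c - hs q k₁ y) • u + Dm q g k₁ y u + Em q g k₁ y u) k₀ := by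
    intro u
    have e1 : act (g * s₀) (pur u k₁) = act (g * s₀ * g⁻¹) (act g (pur u k₁)) := by
      rw [← act_mul]
      congr 1
      group
    rw [act_mul, hs1, map_add, map_add, map_smul, C.fixL, C.act_pur y hy u, act_k₁ g k₁ u, map_add, hxp, hA,
      hxs _ (C.tau_mem_hyp u), hsv _ (C.tau_mem_hyp u)] at e1
    simp only [pur_smul_left, pur_smul_right, pur_add_left] at e1 ⊢
    unfold Em
    linear_combination (norm := module) (-1 : F) • e1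
  obtain ⟨φ₀, hφ₀⟩ := exists_dual u₀ hu₀
  have hz : (k₀ ⬝ᵥ ψ) • ((B : Matrix (Fin b) (Fin b) F) *ᵥ k₁) =
      k₁ + y + (((c - hs q k₁ y) • u₀ + Dm q g k₁ y u₀ + Em q g k₁ y u₀) ⬝ᵥ φ₀) • k₀ := by
    have h := congrArg (ctrL φ₀) (key u₀)
    rw [map_add, map_add, ctrL_pur, ctrL_pur, ctrL_pur, ctrL_pur, hφ₀, one_smul, one_smul, one_smul] at h
    exact h
  refine ⟨(((c - hs q k₁ y) • u₀ + Dm q g k₁ y u₀ + Em q g k₁ y u₀) ⬝ᵥ φ₀) - c + hs q k₁ y, ?_⟩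
  intro u
  have h := key u
  rw [hz, pur_add_right, pur_add_right, pur_smul_right, ← pur_smul_left] at h
  have h2 := purL_injective (a := a) hk0 (add_left_cancel h)
  linear_combination (norm := module) h2.symm

theorem r3 (C : Ctx q k₀ k₁ g) (ha : 1 ≤ a) (hk0 : k₀ ≠ 0)
    (hnorm : ∀ (y : Fin b → F) (c : F) (hy : hs q y k₀ = 0) (hy' : hs q k₀ y = 0),
      c + c ^ q + hs q y y = 0 → g * sieg q k₀ y c C.hk hy hy' * g⁻¹ ∈ K)
    (y : Fin b → F) (hy : hs q y k₀ = 0) :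
    ∃ e δ : F, (∀ u : Fin a → F, Em q g k₁ y u = e • u) ∧ (∀ u : Fin a → F, Dm q g k₁ y u = δ • u) ∧
      δ ^ q = -e := by
  have hq0 : q ≠ 0 := (q_pos C.hF).ne'
  have hy' : hs q k₀ y = 0 := by rw [hs_conj C.hF y k₀, hy, zero_pow hq0]
  obtain ⟨l, hl⟩ := exists_not_fixed (F := F) C.hF
  have hly : hs q (l • y) k₀ = 0 := by rw [hs_smul_left, hy, mul_zero]
  have hly' : hs q k₀ (l • y) = 0 := by rw [hs_smul_right, hy', mul_zero]
  obtain ⟨c, hc⟩ := exists_valid C.hF (hs q y y) (Cfsg.Agent.Lib.Helper24.S5670ISO.hs_self_fixed C.hF y)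
  obtain ⟨c', hc'⟩ := exists_valid C.hF (hs q (l • y) (l • y))
    (Cfsg.Agent.Lib.Helper24.S5670ISO.hs_self_fixed C.hF _)
  obtain ⟨s, hs1⟩ := C.r1 ha hk0 y c hy hy' (hnorm y c hy hy' hc)
  obtain ⟨s', hs2⟩ := C.r1 ha hk0 (l • y) c' hly hly' (hnorm _ c' hly hly' hc')
  have star : ∀ u u' : Fin a → F,
      s ^ q * hs q u u' - hs q u (Em q g k₁ y u') + hs q (Em q g k₁ y u) u' = 0 := by
    intro u u'
    have h2 := C.r2 y hy u u'
    have hD : Dm q g k₁ y u' = s • u' - Em q g k₁ y u' := by rw [← hs1 u']; abel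
    rw [hD, hs_sub_right' C.hF, hs_smul_right] at h2
    linear_combination h2
  have star' : ∀ u u' : Fin a → F,
      s' ^ q * hs q u u' - l * hs q u (Em q g k₁ y u') + l ^ q * hs q (Em q g k₁ y u) u' = 0 := by
    intro u u'
    have h2 := C.r2 (l • y) hly u u'
    have hD : Dm q g k₁ (l • y) u' = s' • u' - l ^ q • Em q g k₁ y u' := by
      rw [← hs2 u', Em_smul]; abel
    rw [hD, Em_smul, hs_sub_right' C.hF, hs_smul_right, hs_smul_right, hs_smul_left, pow_q_pow_q C.hF] at h2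
    linear_combination h2
  have hne : l ^ q - l ≠ 0 := sub_ne_zero.mpr hl
  obtain ⟨e, he⟩ : ∃ e : F, e = (l * s ^ q - s' ^ q) / (l ^ q - l) := ⟨_, rfl⟩
  have hE1 : ∀ u u' : Fin a → F, hs q (Em q g k₁ y u) u' = e * hs q u u' := by
    intro u u'
    have h1 := star u u'
    have h2 := star' u u'
    have h3 : (l ^ q - l) * hs q (Em q g k₁ y u) u' = (l * s ^ q - s' ^ q) * hs q u u' := by
      linear_combination h2 - l * h1
    rw [he, div_mul_eq_mul_div, eq_div_iff hne]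
    linear_combination h3
  have hE : ∀ u : Fin a → F, Em q g k₁ y u = e • u := by
    intro u
    have h0 : Em q g k₁ y u - e • u = 0 := by
      apply hs_nondeg C.hF
      intro u'
      rw [hs_sub_left', hs_smul_left, hE1, sub_self]
    exact sub_eq_zero.mp h0
  have hD : ∀ u : Fin a → F, Dm q g k₁ y u = (s - e) • u := by
    intro u
    have h := hs1 u
    rw [hE u] at h
    rw [sub_smul, ← h]; abel
  refine ⟨e, s - e, hE, hD, ?_⟩
  obtain ⟨u₀, hu₀⟩ : ∃ u₀ : Fin a → F, u₀ ≠ 0 :=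
    ⟨Pi.single ⟨0, by omega⟩ 1, single_ne_zero' _⟩
  obtain ⟨u₁, hu₁⟩ := Cfsg.Agent.Lib.Helper24.S5670ISO.exists_hs_eq_one C.hF u₀ hu₀
  have h2 := C.r2 y hy u₁ u₀
  rw [hD u₀, hE u₁, hs_smul_right, hs_smul_left, hu₁, mul_one, mul_one] at h2
  linear_combination h2

end Ctx

/-- **T2-R** (exact signature of `decomp_rad` in `notes/S5670T2T3Skel_helper8.lean.txt`) -/
theorem decomp_rad (hF : Fintype.card F = q ^ 2) (ha : 1 ≤ a) (k₀ : Fin b → F) (hk0 : k₀ ≠ 0)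
    (hk : hs q k₀ k₀ = 0) (g : GL (Fin a × Fin b) F) (hg : g ∈ UG (Fin a × Fin b) F q) (hr : InRad q k₀ g)
    (hnorm : ∀ (y : Fin b → F) (c : F) (hy : hs q y k₀ = 0) (hy' : hs q k₀ y = 0),
      c + c ^ q + hs q y y = 0 → g * sieg q k₀ y c hk hy hy' * g⁻¹ ∈ K) :
    ∃ (y : Fin b → F) (c : F) (hy : hs q y k₀ = 0) (hy' : hs q k₀ y = 0), c + c ^ q + hs q y y = 0 ∧
      ∀ v ∈ hyp (a := a) (cj q k₀), act g v = act (sieg q k₀ y c hk hy hy') v := by
  have hq0 : q ≠ 0 := (q_pos hF).ne'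
  obtain ⟨k₁, hk11, h10⟩ := exists_partner hF k₀ hk0 hk
  have h01 : hs q k₀ k₁ = 1 := by rw [hs_conj hF k₁ k₀, h10, one_pow]
  have C : Ctx q k₀ k₁ g := ⟨hF, hk, h10, h01, hg, fun u => hr.1 _ (pur_mem_pt u k₀), fun v hv => by
    obtain ⟨u, hu⟩ := (mem_pt_iff _ _).1 (hr.2 v hv)
    exact ⟨u, hu.symm⟩⟩
  obtain ⟨u₀, hu₀⟩ : ∃ u₀ : Fin a → F, u₀ ≠ 0 :=
    ⟨Pi.single ⟨0, by omega⟩ 1, single_ne_zero' _⟩
  obtain ⟨φ₀, hφ₀⟩ := exists_dual u₀ hu₀
  obtain ⟨w, hw⟩ : ∃ w : Fin b → F, w = ctrL φ₀ (tau g k₁ u₀) := ⟨_, rfl⟩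
  have hwk : hs q w k₀ = 0 := by rw [hw, hs_ctrL, C.tau_mem, dotProduct_zero]
  have hkw : hs q k₀ w = 0 := by rw [hs_conj hF w k₀, hwk, zero_pow hq0]
  obtain ⟨c, hc⟩ := exists_valid hF (hs q w w) (Cfsg.Agent.Lib.Helper24.S5670ISO.hs_self_fixed hF w)
  refine ⟨w, c, hwk, hkw, hc, ?_⟩
  intro v hv
  refine eq_on_hyp hF k₀ k₁ h10 (act g).toLinearMap (act (sieg q k₀ w c hk hwk hkw)).toLinearMap ?_ v hv
  intro u y hy
  show act g (pur u y) = act (sieg q k₀ w c hk hwk hkw) (pur u y)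
  obtain ⟨e, δ, hE, hD, hδ⟩ := C.r3 ha hk0 hnorm y hy
  have he : e = hs q w y := by
    rw [hw, hs_ctrL]
    show e = φ₀ ⬝ᵥ Em q g k₁ y u₀
    rw [hE u₀, dotProduct_smul, dotProduct_comm, hφ₀, smul_eq_mul, mul_one]
  have hδ' : δ = - hs q y w := by
    rw [hs_conj hF w y, ← he, ← pow_q_pow_q hF δ, hδ, Cfsg.Agent.Lib.Helper24.S5670ISO.neg_pow_q hF]
  rw [C.act_pur y hy u, hD u, act_sieg_of_mem_hyp k₀ w c hk hwk hkw _ (Ctx.pur_mem k₀ y hy u), ctr_pur,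
    ← hs_eq_dotProduct, hδ', neg_smul, pur_neg_left]
  abel

end Cfsg.Agent.Lib.Helper17.S5670T2R
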