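import Mathlib
import Cfsg.Agent.Lib.Helper28.TensUDefs
import Cfsg.Agent.Lib.Helper26.S5670T3cDefs

/-!
# S5670 FO-T3c, pieces F-DIAG / F-ISO / F-OFF (helper17): hypothesis-style versions

`F = F_4`, `X` an additive group of hermitian matrices invariant under `S ↦ A S A^†` (`A` unitary, `det A = 1`).
The three statements are proved here from the facts `Om ω` (`2 = 0`, `ω ≠ 0, 1`, `ω² = ω + 1`), `x ≠ 0 → x³ = 1`,
F-MASK (`maskM d S ∈ X`) and F-PERM (`S.submatrix σ σ ∈ X`) as explicit hypotheses; the exact skeleton signatures are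
derived in `S5670T3cF.lean`.
-/

set_option autoImplicit false

namespace Cfsg.Agent.Lib.Helper17.S5670T3cF

open Matrix Module
open Cfsg.Agent.Lib.Helper16.Tens Cfsg.Agent.Lib.Helper10.TensFund Cfsg.Agent.Lib.Helper28.TensU
  Cfsg.Agent.Lib.Helper26.T3c

variable {F : Type*} [Field F] {a : ℕ}

/-- the facts about `F_4` we use -/
structure Om (ω : F) : Prop where
  two : (2 : F) = 0
  ne0 : ω ≠ 0
  ne1 : ω ≠ 1
  sq : ω ^ 2 = ω + 1

namespace Om
variable {ω : F}

theorem cube (h : Om ω) : ω * ω ^ 2 = 1 := by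
  rw [h.sq]; linear_combination h.sq + ω * h.two

theorem pow_three (h : Om ω) : ω ^ 3 = 1 := by
  rw [show (3 : ℕ) = 1 + 2 from rfl, pow_add, pow_one]; exact h.cube

theorem ne_sq (h : Om ω) : ω ≠ ω ^ 2 := by
  rw [h.sq]
  intro e
  exact one_ne_zero (by linear_combination (-1 : F) * e)

theorem sq_ne_one (h : Om ω) : ω ^ 2 ≠ 1 := by
  rw [h.sq]
  intro e
  exact h.ne0 (by linear_combination e)

theorem sq_ne_zero (h : Om ω) : ω ^ 2 ≠ 0 := pow_ne_zero 2 h.ne0

end Om

/-! ### F-DIAG -/

theorem diag_mem_aux {X : AddSubgroup (Matrix (Fin a) (Fin a) F)} {ω : F} (hω : Om ω)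
    (hmask : ∀ d : Fin a → F, (∀ i, d i ≠ 0) → ∏ i, d i = 1 → ∀ S ∈ X, maskM d S ∈ X)
    (ha : 2 ≤ a) {S : Matrix (Fin a) (Fin a) F} (hS : S ∈ X) :
    Matrix.diagonal (fun i => S i i) ∈ X := by
  classical
  haveI : Nontrivial (Fin a) := Fin.nontrivial_iff_two_le.mpr ha
  have key : ∀ T : Finset (Fin a), ∃ S' ∈ X, (∀ x, S' x x = S x x) ∧
      (∀ x y, x ≠ y → (x ∈ T ∨ y ∈ T) → S' x y = 0) := by
    intro T
    induction T using Finset.induction_on with
    | empty => exact ⟨S, hS, fun _ => rfl, fun x y _ h => by simp at h⟩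
    | insert i T hi ih =>
      obtain ⟨S', hS', hd', ho'⟩ := ih
      obtain ⟨i', hi'⟩ := exists_ne i
      obtain ⟨d, hddef⟩ : ∃ d : Fin a → F,
          d = fun x => (if x = i then ω else 1) * (if x = i' then ω ^ 2 else 1) := ⟨_, rfl⟩
      have hd0 : ∀ x, d x ≠ 0 := by
        intro x
        rw [hddef]
        refine mul_ne_zero ?_ ?_
        · split_ifs
          · exact hω.ne0
          · exact one_ne_zero
        · split_ifs
          · exact hω.sq_ne_zero
          · exact one_ne_zero
      have hdet : ∏ x, d x = 1 := by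
        rw [hddef]
        simp only [Finset.prod_mul_distrib, Finset.prod_ite_eq', Finset.mem_univ, if_true]
        exact hω.cube
      have hdi : d i = ω := by
        rw [hddef]
        simp only [if_true, if_neg hi'.symm, mul_one]
      have hdne : ∀ y, y ≠ i → d y ≠ ω := by
        intro y hy
        rw [hddef]
        simp only [if_neg hy, one_mul]
        split_ifs
        · exact fun e => hω.ne_sq e.symm
        · exact fun e => hω.ne1 e.symm
      refine ⟨maskM d S', hmask d hd0 hdet S' hS', ?_, ?_⟩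
      · intro x
        rw [maskM_apply, if_pos rfl, hd']
      · intro x y hxy h
        rw [maskM_apply]
        by_cases hdx : d x = d y
        · rw [if_pos hdx]
          rcases h with h | h
          · rcases Finset.mem_insert.mp h with hxi | h
            · exfalso
              apply hdne y (by rw [← hxi]; exact Ne.symm hxy)
              rw [← hdx, hxi, hdi]
            · exact ho' x y hxy (Or.inl h)
          · rcases Finset.mem_insert.mp h with hyi | h
            · exfalso
              apply hdne x (by rw [← hyi]; exact hxy)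
              rw [hdx, hyi, hdi]
            · exact ho' x y hxy (Or.inr h)
        · rw [if_neg hdx]
  obtain ⟨S', hS', hd', ho'⟩ := key Finset.univ
  have e : Matrix.diagonal (fun i => S i i) = S' := by
    ext x y
    by_cases h : x = y
    · subst h; rw [Matrix.diagonal_apply_eq, hd']
    · rw [Matrix.diagonal_apply_ne _ h, ho' x y h (Or.inl (Finset.mem_univ x))]
  rw [e]; exact hS'

/-! ### F-ISO -/

/-- `ω` on `T`, `1` elsewhere -/
noncomputable def dT (ω : F) (T : Finset (Fin a)) : Fin a → F := fun x => if x ∈ T then ω else 1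

theorem dT_ne_zero {ω : F} (hω : Om ω) (T : Finset (Fin a)) (x : Fin a) : dT ω T x ≠ 0 := by
  unfold dT
  split_ifs
  · exact hω.ne0
  · exact one_ne_zero

theorem dT_prod {ω : F} (hω : Om ω) (T : Finset (Fin a)) (hT : T.card = 3) : ∏ x, dT ω T x = 1 := by
  classical
  unfold dT
  rw [Finset.prod_ite_mem, Finset.univ_inter, Finset.prod_const, hT, hω.pow_three]

theorem dT_eq_iff {ω : F} (hω : Om ω) (T : Finset (Fin a)) (x y : Fin a) :
    dT ω T x = dT ω T y ↔ (x ∈ T ↔ y ∈ T) := by
  unfold dT
  by_cases hx : x ∈ T <;> by_cases hy : y ∈ T <;> simp [hx, hy, hω.ne1, Ne.symm hω.ne1]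

theorem iso_mem_aux {X : AddSubgroup (Matrix (Fin a) (Fin a) F)} {ω : F} (hω : Om ω)
    (hmask : ∀ d : Fin a → F, (∀ i, d i ≠ 0) → ∏ i, d i = 1 → ∀ S ∈ X, maskM d S ∈ X)
    (ha : 4 ≤ a) {S : Matrix (Fin a) (Fin a) F} (hS : S ∈ X) (hherm : ∀ i j : Fin a, S j i = S i j ^ 2)
    (i j : Fin a) (hij : i ≠ j) : eE 2 i j (S i j) ∈ X := by
  classical
  -- two further indices
  obtain ⟨k, hki, hkj⟩ : ∃ k : Fin a, k ≠ i ∧ k ≠ j := by
    have hc : ({i, j} : Finset (Fin a)).card < (Finset.univ : Finset (Fin a)).card := by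
      rw [Finset.card_univ, Fintype.card_fin]
      exact lt_of_le_of_lt Finset.card_le_two (by omega)
    obtain ⟨k, -, hk⟩ := Finset.exists_mem_notMem_of_card_lt_card hc
    simp only [Finset.mem_insert, Finset.mem_singleton, not_or] at hk
    exact ⟨k, hk.1, hk.2⟩
  obtain ⟨l, hli, hlj, hlk⟩ : ∃ l : Fin a, l ≠ i ∧ l ≠ j ∧ l ≠ k := by
    have hc : ({i, j, k} : Finset (Fin a)).card < (Finset.univ : Finset (Fin a)).card := by
      rw [Finset.card_univ, Fintype.card_fin]
      exact lt_of_le_of_lt Finset.card_le_three (by omega)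
    obtain ⟨l, -, hl⟩ := Finset.exists_mem_notMem_of_card_lt_card hc
    simp only [Finset.mem_insert, Finset.mem_singleton, not_or] at hl
    exact ⟨l, hl.1, hl.2.1, hl.2.2⟩
  have hT1 : ({i, j, k} : Finset (Fin a)).card = 3 := by
    rw [Finset.card_insert_of_notMem, Finset.card_insert_of_notMem, Finset.card_singleton]
    · simpa using hkj.symm
    · simp only [Finset.mem_insert, Finset.mem_singleton, not_or]
      exact ⟨hij, hki.symm⟩
  have hT3 : ({i, j, l} : Finset (Fin a)).card = 3 := by
    rw [Finset.card_insert_of_notMem, Finset.card_insert_of_notMem, Finset.card_singleton]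
    · simpa using hlj.symm
    · simp only [Finset.mem_insert, Finset.mem_singleton, not_or]
      exact ⟨hij, hli.symm⟩
  have h13 : ∀ x : Fin a, x ∈ ({i, j, k} : Finset (Fin a)) → x ∈ ({i, j, l} : Finset (Fin a)) →
      x = i ∨ x = j := by
    intro x h1 h3
    simp only [Finset.mem_insert, Finset.mem_singleton] at h1 h3
    rcases h1 with h | h | h
    · exact Or.inl h
    · exact Or.inr h
    · rcases h3 with h' | h' | h'
      · exact Or.inl h'
      · exact Or.inr h'
      · exact absurd (h'.symm.trans h) hlk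
  have hiT1 : i ∈ ({i, j, k} : Finset (Fin a)) := by simp
  have hjT1 : j ∈ ({i, j, k} : Finset (Fin a)) := by simp
  have hiT3 : i ∈ ({i, j, l} : Finset (Fin a)) := by simp
  have hjT3 : j ∈ ({i, j, l} : Finset (Fin a)) := by simp
  obtain ⟨d₂, hd₂⟩ : ∃ d : Fin a → F,
      d = fun x => (if x = i then ω else 1) * (if x = j then ω ^ 2 else 1) := ⟨_, rfl⟩
  have hd20 : ∀ x, d₂ x ≠ 0 := by
    intro x
    rw [hd₂]
    refine mul_ne_zero ?_ ?_
    · split_ifs
      · exact hω.ne0
      · exact one_ne_zero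
    · split_ifs
      · exact hω.sq_ne_zero
      · exact one_ne_zero
  have hd2det : ∏ x, d₂ x = 1 := by
    rw [hd₂]
    simp only [Finset.prod_mul_distrib, Finset.prod_ite_eq', Finset.mem_univ, if_true]
    exact hω.cube
  have hd2i : d₂ i = ω := by
    rw [hd₂]; simp only [if_true, if_neg hij, mul_one]
  have hd2j : d₂ j = ω ^ 2 := by
    rw [hd₂]; simp only [if_true, if_neg hij.symm, one_mul]
  have hd2o : ∀ x, x ≠ i → x ≠ j → d₂ x = 1 := by
    intro x h1 h2
    rw [hd₂]; simp only [if_neg h1, if_neg h2, mul_one]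
  have hS1 := hmask (dT ω {i, j, k}) (dT_ne_zero hω _) (dT_prod hω _ hT1) S hS
  have hS2 := X.sub_mem hS1 (hmask d₂ hd20 hd2det _ hS1)
  have hS3 := hmask (dT ω {i, j, l}) (dT_ne_zero hω _) (dT_prod hω _ hT3) _ hS2
  have e : eE 2 i j (S i j) =
      maskM (dT ω {i, j, l}) (maskM (dT ω {i, j, k}) S - maskM d₂ (maskM (dT ω {i, j, k}) S)) := by
    ext x y
    rw [maskM_apply, Matrix.sub_apply, maskM_apply, maskM_apply, maskM_apply, eE_apply]
    by_cases hc : (x = i ∧ y = j) ∨ (x = j ∧ y = i)
    · rcases hc with ⟨hx, hy⟩ | ⟨hx, hy⟩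
      · rw [hx, hy, if_pos ⟨rfl, rfl⟩,
          if_pos ((dT_eq_iff hω _ i j).mpr ⟨fun _ => hjT3, fun _ => hiT3⟩),
          if_pos ((dT_eq_iff hω _ i j).mpr ⟨fun _ => hjT1, fun _ => hiT1⟩),
          if_neg (by rw [hd2i, hd2j]; exact hω.ne_sq), sub_zero]
      · rw [hx, hy, if_neg (fun h => hij h.2), if_pos ⟨rfl, rfl⟩,
          if_pos ((dT_eq_iff hω _ j i).mpr ⟨fun _ => hiT3, fun _ => hjT3⟩),
          if_pos ((dT_eq_iff hω _ j i).mpr ⟨fun _ => hiT1, fun _ => hjT1⟩),
          if_neg (by rw [hd2i, hd2j]; exact fun e => hω.ne_sq e.symm), sub_zero, hherm i j]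
    · push Not at hc
      rw [if_neg (fun h => hc.1 h.1 h.2), if_neg (fun h => hc.2 h.1 h.2)]
      by_cases h3 : dT ω {i, j, l} x = dT ω {i, j, l} y
      · rw [if_pos h3]
        by_cases h1 : dT ω {i, j, k} x = dT ω {i, j, k} y
        · rw [if_pos h1]
          have m1 := (dT_eq_iff hω _ x y).mp h1
          have m3 := (dT_eq_iff hω _ x y).mp h3
          have h2 : d₂ x = d₂ y := by
            by_cases hxi : x = i
            · rcases h13 y (m1.mp (by rw [hxi]; exact hiT1)) (m3.mp (by rw [hxi]; exact hiT3)) with hy | hy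
              · rw [hxi, hy]
              · exact absurd hy (hc.1 hxi)
            by_cases hxj : x = j
            · rcases h13 y (m1.mp (by rw [hxj]; exact hjT1)) (m3.mp (by rw [hxj]; exact hjT3)) with hy | hy
              · exact absurd hy (hc.2 hxj)
              · rw [hxj, hy]
            have hyi : y ≠ i := by
              intro hy
              rcases h13 x (m1.mpr (by rw [hy]; exact hiT1)) (m3.mpr (by rw [hy]; exact hiT3)) with h | h
              · exact hxi h
              · exact hxj h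
            have hyj : y ≠ j := by
              intro hy
              rcases h13 x (m1.mpr (by rw [hy]; exact hjT1)) (m3.mpr (by rw [hy]; exact hjT3)) with h | h
              · exact hxi h
              · exact hxj h
            rw [hd2o x hxi hxj, hd2o y hyi hyj]
          rw [if_pos h2, sub_self]
        · rw [if_neg h1]
          simp
      · rw [if_neg h3]
  rw [e]; exact hS3

/-! ### F-OFF -/

theorem eE_zero (i j : Fin a) : eE 2 i j (0 : F) = 0 := by
  ext x y
  rw [eE_apply]
  simp

theorem off_mem_aux {X : AddSubgroup (Matrix (Fin a) (Fin a) F)} (hX : InvX 2 X)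
    (hpow3 : ∀ x : F, x ≠ 0 → x ^ 3 = 1)
    (hperm : ∀ σ : Equiv.Perm (Fin a), ∀ S ∈ X, S.submatrix σ σ ∈ X)
    (ha : 3 ≤ a) (i j : Fin a) (hij : i ≠ j) (lam : F) (hlam : lam ≠ 0) (h : eE 2 i j lam ∈ X) :
    ∀ (i' j' : Fin a), i' ≠ j' → ∀ lam' : F, eE 2 i' j' lam' ∈ X := by
  classical
  -- step 1 : all `lam'` at the place `(i, j)`
  have step1 : ∀ lam' : F, eE 2 i j lam' ∈ X := by
    intro lam'
    by_cases h0 : lam' = 0
    · rw [h0, eE_zero]; exact X.zero_mem
    obtain ⟨k, hki, hkj⟩ : ∃ k : Fin a, k ≠ i ∧ k ≠ j := by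
      have hc : ({i, j} : Finset (Fin a)).card < (Finset.univ : Finset (Fin a)).card := by
        rw [Finset.card_univ, Fintype.card_fin]
        exact lt_of_le_of_lt Finset.card_le_two (by omega)
      obtain ⟨k, -, hk⟩ := Finset.exists_mem_notMem_of_card_lt_card hc
      simp only [Finset.mem_insert, Finset.mem_singleton, not_or] at hk
      exact ⟨k, hk.1, hk.2⟩
    obtain ⟨μ, hμ⟩ : ∃ μ : F, μ = lam' / lam := ⟨_, rfl⟩
    have hμ0 : μ ≠ 0 := by rw [hμ]; exact div_ne_zero h0 hlam
    have hμl : μ * lam = lam' := by rw [hμ]; exact div_mul_cancel₀ _ hlam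
    obtain ⟨d, hd⟩ : ∃ d : Fin a → F,
        d = fun x => (if x = i then μ else 1) * (if x = k then μ⁻¹ else 1) := ⟨_, rfl⟩
    have hd0 : ∀ x, d x ≠ 0 := by
      intro x
      rw [hd]
      refine mul_ne_zero ?_ ?_
      · split_ifs
        · exact hμ0
        · exact one_ne_zero
      · split_ifs
        · exact inv_ne_zero hμ0
        · exact one_ne_zero
    have hddet : ∏ x, d x = 1 := by
      rw [hd]
      simp only [Finset.prod_mul_distrib, Finset.prod_ite_eq', Finset.mem_univ, if_true]
      exact mul_inv_cancel₀ hμ0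
    have hdi : d i = μ := by
      rw [hd]; simp only [if_true, if_neg hki.symm, mul_one]
    have hdj : d j = 1 := by
      rw [hd]; simp only [if_neg hij.symm, if_neg hkj.symm, mul_one]
    have hct : ct 2 (Matrix.diagonal d) = Matrix.diagonal (fun x => d x ^ 2) := by
      ext x y
      rw [ct_apply]
      by_cases hxy : x = y
      · subst hxy; rw [Matrix.diagonal_apply_eq, Matrix.diagonal_apply_eq]
      · rw [Matrix.diagonal_apply_ne _ hxy, Matrix.diagonal_apply_ne _ (Ne.symm hxy)]
        exact zero_pow (by norm_num)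
    have hA1 : Matrix.diagonal d * ct 2 (Matrix.diagonal d) = 1 := by
      rw [hct, Matrix.diagonal_mul_diagonal, ← Matrix.diagonal_one]
      congr 1
      funext x
      rw [← pow_succ', hpow3 _ (hd0 x)]
    have hA2 : (Matrix.diagonal d).det = 1 := by rw [Matrix.det_diagonal, hddet]
    have hconj := hX.conj (Matrix.diagonal d) hA1 hA2 _ h
    have e : eE 2 i j lam' = Matrix.diagonal d * eE 2 i j lam * ct 2 (Matrix.diagonal d) := by
      ext x y
      rw [hct, Matrix.mul_diagonal, Matrix.diagonal_mul, eE_apply, eE_apply]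
      by_cases h1 : x = i ∧ y = j
      · rw [if_pos h1, if_pos h1, h1.1, h1.2, hdi, hdj, ← hμl]; ring
      · rw [if_neg h1, if_neg h1]
        by_cases h2 : x = j ∧ y = i
        · rw [if_pos h2, if_pos h2, h2.1, h2.2, hdi, hdj, ← hμl]; ring
        · rw [if_neg h2, if_neg h2]; ring
    rw [e]; exact hconj
  -- step 2 : permutations
  intro i' j' hij' lam'
  obtain ⟨σ, hσi, hσj⟩ : ∃ σ : Equiv.Perm (Fin a), σ i' = i ∧ σ j' = j := by
    refine ⟨Equiv.swap (Equiv.swap i' i j') j * Equiv.swap i' i, ?_, ?_⟩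
    · rw [Equiv.Perm.mul_apply, Equiv.swap_apply_left]
      apply Equiv.swap_apply_of_ne_of_ne
      · intro e
        apply hij'
        have := congrArg (Equiv.swap i' i) e
        rw [Equiv.swap_apply_right, Equiv.swap_apply_self] at this
        exact this
      · exact hij
    · rw [Equiv.Perm.mul_apply, Equiv.swap_apply_left]
  have e1 : ∀ x, σ x = i ↔ x = i' := fun x => by rw [← hσi]; exact σ.injective.eq_iff
  have e2 : ∀ x, σ x = j ↔ x = j' := fun x => by rw [← hσj]; exact σ.injective.eq_iff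
  have e : eE 2 i' j' lam' = (eE 2 i j lam').submatrix σ σ := by
    ext x y
    rw [Matrix.submatrix_apply, eE_apply, eE_apply]
    simp only [e1, e2]
  rw [e]; exact hperm σ _ (step1 lam')

end Cfsg.Agent.Lib.Helper17.S5670T3cF
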