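import Mathlib
import Cfsg.Agent.Lib.Helper17.S5670T3cFAux
import Cfsg.Agent.Lib.Helper29.S5670T3cFAPI
import Cfsg.Agent.Lib.Helper29.S5670T3cFMASK
import Cfsg.Agent.Lib.Helper29.S5670T3cFPERM

/-!
# S5670 FO-T3c, pieces F-DIAG / F-ISO / F-OFF (helper17): the exact sub-skeleton signatures
(wrappers of `S5670T3cFAux` with helper29's F-API, F-MASK, F-PERM).
-/

set_option autoImplicit false
set_option linter.unusedSectionVars false
set_option linter.unusedVariables false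

namespace Cfsg.Agent.Lib.Helper17.S5670T3cF

open Matrix Module
open Cfsg.Agent.Lib.Helper16.Tens Cfsg.Agent.Lib.Helper10.TensFund Cfsg.Agent.Lib.Helper28.TensU
  Cfsg.Agent.Lib.Helper26.T3c
open scoped Kronecker

variable {F : Type*} [Field F] [Fintype F] {a b : ℕ} {q : ℕ}

theorem exists_Om (hF : Fintype.card F = 2 ^ 2) : ∃ ω : F, Om ω := by
  obtain ⟨ω, h0, h1, h2⟩ := Cfsg.Agent.Lib.Helper29.S5670T3cFAPI.f4_exists_omega hF
  exact ⟨ω, Cfsg.Agent.Lib.Helper29.S5670T3cFAPI.f4_two hF, h0, h1, h2⟩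

/-- F-DIAG -/
theorem diag_mem (hF : Fintype.card F = 2 ^ 2) (ha : 3 ≤ a) {X : AddSubgroup (Matrix (Fin a) (Fin a) F)}
    (hX : InvX 2 X) {S : Matrix (Fin a) (Fin a) F} (hS : S ∈ X) :
    Matrix.diagonal (fun i => S i i) ∈ X := by
  obtain ⟨ω, hω⟩ := exists_Om hF
  exact diag_mem_aux hω
    (fun d hd hdet S hS => Cfsg.Agent.Lib.Helper29.S5670T3cFMASK.mask_mem hF hX d hd hdet hS) (by omega) hS

/-- F-ISO -/
theorem iso_mem (hF : Fintype.card F = 2 ^ 2) (ha : 4 ≤ a) {X : AddSubgroup (Matrix (Fin a) (Fin a) F)}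
    (hX : InvX 2 X) {S : Matrix (Fin a) (Fin a) F} (hS : S ∈ X) (i j : Fin a) (hij : i ≠ j) :
    eE 2 i j (S i j) ∈ X := by
  obtain ⟨ω, hω⟩ := exists_Om hF
  exact iso_mem_aux hω
    (fun d hd hdet S hS => Cfsg.Agent.Lib.Helper29.S5670T3cFMASK.mask_mem hF hX d hd hdet hS) ha hS
    (fun i j => Cfsg.Agent.Lib.Helper29.S5670T3cFAPI.skewM_entry hF (hX.skew S hS) i j) i j hij

/-- F-OFF -/
theorem off_mem (hF : Fintype.card F = 2 ^ 2) (ha : 3 ≤ a) {X : AddSubgroup (Matrix (Fin a) (Fin a) F)}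
    (hX : InvX 2 X) (i j : Fin a) (hij : i ≠ j) (lam : F) (hlam : lam ≠ 0) (h : eE 2 i j lam ∈ X) :
    ∀ (i' j' : Fin a), i' ≠ j' → ∀ lam' : F, eE 2 i' j' lam' ∈ X :=
  off_mem_aux hX (fun x hx => Cfsg.Agent.Lib.Helper29.S5670T3cFAPI.f4_pow_three hF hx)
    (fun σ S hS => Cfsg.Agent.Lib.Helper29.S5670T3cFPERM.perm_mem hF hX σ hS) ha i j hij lam hlam h

end Cfsg.Agent.Lib.Helper17.S5670T3cF
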