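import Mathlib
import Cfsg.Agent.Lib.Helper9.OExtDefs
import Cfsg.Agent.Lib.Helper7.SpExtBas
import Cfsg.Agent.Lib.Helper21.S5664FOBASb
import Cfsg.Agent.Lib.Helper26.S5701FOBAS
import Cfsg.Agent.Lib.Helper26.S5701FOSIEG

/-!
# S5701 farm-out FO-E1 : `exists_y` (helper17, for architect helper9)
-/

set_option autoImplicit false

namespace Cfsg.Agent.Lib.Helper17.S5701E1

open Matrix Module QuadraticMap Cfsg.Agent.Lib.Helper7.SpExt Cfsg.Agent.Lib.Helper9.OExt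
  Cfsg.Agent.Lib.Helper21.S5664BASb Cfsg.Agent.Lib.Helper26

variable {F : Type*} [Field F] [Fintype F] {L : Type*} [Field L] [Algebra F L] {ι : Type} [Fintype ι]
  [DecidableEq ι] {ρ : L →ₐ[F] Matrix ι ι F} {Q : QuadraticForm F (ι → F)} {τ : L →ₗ[F] F}
  {B : (ι → F) →ₗ[F] (ι → F) →ₗ[F] L} {r : ℕ}

/-- a hyperplane `D₂` of `L` is the kernel of `c ↦ τ (ε₀ c)` -/
theorem exists_eps (hrk : finrank F L = r) (hr : 0 < r) (hτ : τ ≠ 0) (D₂ : Submodule F L)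
    (hD₂ : finrank F D₂ + 1 = r) :
    ∃ (ε₀ cs : L), ε₀ ≠ 0 ∧ τ (ε₀ * cs) = 1 ∧ ∀ c, c ∈ D₂ ↔ τ (ε₀ * c) = 0 := by
  haveI : Module.Finite F L := Module.finite_of_finrank_pos (by rw [hrk]; exact hr)
  have hlt : D₂ < ⊤ := by
    rw [lt_top_iff_ne_top]
    intro h
    rw [h, finrank_top, hrk] at hD₂
    omega
  obtain ⟨κ, hκ, hle⟩ := D₂.exists_le_ker_of_lt_top hlt
  have hsurj : LinearMap.range κ = ⊤ := by
    apply Submodule.eq_top_of_finrank_eq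
    rw [Module.finrank_self]
    have h1 : LinearMap.range κ ≠ ⊥ := by
      intro h
      apply hκ
      exact LinearMap.range_eq_bot.mp h
    have h2 : 0 < finrank F (LinearMap.range κ) := by
      rw [Module.finrank_pos_iff_exists_ne_zero]
      obtain ⟨x, hx, hx0⟩ := Submodule.exists_mem_ne_zero_of_ne_bot h1
      exact ⟨⟨x, hx⟩, fun h0 => hx0 (congrArg Subtype.val h0)⟩
    have h3 := Submodule.finrank_le (LinearMap.range κ)
    rw [Module.finrank_self] at h3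
    omega
  have hker : finrank F (LinearMap.ker κ) + 1 = r := by
    have h := LinearMap.finrank_range_add_finrank_ker κ
    rw [hsurj, finrank_top, Module.finrank_self, hrk] at h
    omega
  have hEq : D₂ = LinearMap.ker κ := Submodule.eq_of_le_of_finrank_eq hle (by omega)
  obtain ⟨ε₀, hε₀⟩ := exists_tau_rep hrk hr hτ κ
  obtain ⟨c₁, hc₁⟩ : ∃ c₁, κ c₁ ≠ 0 := by
    by_contra hcon
    push Not at hcon
    exact hκ (LinearMap.ext hcon)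
  refine ⟨ε₀, (κ c₁)⁻¹ • c₁, ?_, ?_, ?_⟩
  · rintro rfl
    apply hc₁
    rw [hε₀, zero_mul, map_zero]
  · rw [← hε₀, map_smul, smul_eq_mul, inv_mul_cancel₀ hc₁]
  · intro c
    rw [hEq, LinearMap.mem_ker, hε₀]

theorem exists_y (S : OStr ρ Q τ B) (hr : r.Prime) (hrk : finrank F L = r)
    (H : Subgroup (GL ι F)) (hS : HasSieg ρ B H) (hH : H ≤ Cfsg.isometryGroup F ⇑Q)
    (v₁ v₀ : ι → F) (g₀ : GL ι F) (hc : ConfigA ρ Q B H r v₁ v₀ g₀) :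
    ∃ (u p₀ : ι → F) (ε₀ : L), u ∈ Img ρ g₀ v₀ ∧ u ∉ pt ρ v₁ ∧ B u v₁ = 0 ∧ ε₀ ≠ 0 ∧
      B p₀ v₀ = 0 ∧ p₀ ∉ pt ρ v₀ ∧ act g₀ p₀ ∈ pt ρ v₁ ∧
      ∀ w₀, B w₀ v₀ = 0 → B w₀ p₀ = 0 →
        B (act g₀ (ρ ε₀ *ᵥ w₀)) v₁ = 0 ∧ IsY ρ Q B H v₁ u (act g₀ (ρ ε₀ *ᵥ w₀)) := by
  obtain ⟨hg₀H, hv₁, hv₀, hfr, hperp⟩ := hc
  have hrpos : 0 < r := hr.pos
  haveI : Module.Finite F L := Module.finite_of_finrank_pos (by rw [hrk]; exact hrpos)
  have hg₀Q : g₀ ∈ Cfsg.isometryGroup F ⇑Q := hH hg₀H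
  have hg₀Qinv : g₀⁻¹ ∈ Cfsg.isometryGroup F ⇑Q := (Cfsg.isometryGroup F ⇑Q).inv_mem hg₀Q
  have hτ : τ ≠ 0 := S5701BAS.tau_ne S hv₁.1
  have hpol : ∀ x y, polar (⇑Q) (act g₀ x) (act g₀ y) = polar (⇑Q) x y :=
    fun x y => S5701BAS.polar_act hg₀Q x y
  -- the map j
  set j : L →ₗ[F] (ι → F) := (actL g₀).comp (orb ρ v₀) with hj
  have hjapp : ∀ c, j c = act g₀ (ρ c *ᵥ v₀) := fun c => rfl
  have hjinj : Function.Injective j := (actL_injective g₀).comp (orb_injective ρ hv₀.1)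
  have hjrange : LinearMap.range j = Img ρ g₀ v₀ := by
    rw [hj, LinearMap.range_comp]; rfl
  set D₂ : Submodule F L := (pt ρ v₁).comap j with hD₂
  have hD₂map : D₂.map j = pt ρ v₁ ⊓ Img ρ g₀ v₀ := by
    rw [hD₂, Submodule.map_comap_eq, hjrange, inf_comm]
  have hD₂fr : finrank F D₂ + 1 = r := by
    rw [← hfr, ← hD₂map]
    congr 1
    exact (Submodule.equivMapOfInjective j hjinj D₂).finrank_eq
  obtain ⟨ε₀, cs, hε₀, hcs, hD₂mem⟩ := exists_eps hrk hrpos hτ D₂ hD₂fr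
  -- the vector u
  set u := j cs with hu
  have huImg : u ∈ Img ρ g₀ v₀ := (mem_Img ρ g₀ v₀ u).mpr ⟨cs, rfl⟩
  have hunot : u ∉ pt ρ v₁ := by
    intro h
    have : cs ∈ D₂ := h
    rw [hD₂mem, hcs] at this
    exact one_ne_zero this
  have hperp' : ∀ x ∈ Img ρ g₀ v₀, B x v₁ = 0 := by
    intro x hx
    rw [S5701BAS.B_eq_zero_iff S]
    intro y hy
    rw [QuadraticMap.polar_comm]
    exact hperp y hy x hx
  have huv₁ : B u v₁ = 0 := hperp' u huImg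
  -- the key relation
  have hrel : ∀ c, ∃ d, j c = τ (ε₀ * c) • u + ρ d *ᵥ v₁ := by
    intro c
    have hmem : c - τ (ε₀ * c) • cs ∈ D₂ := by
      rw [hD₂mem, mul_sub, mul_smul_comm, map_sub, map_smul, hcs, smul_eq_mul, mul_one, sub_self]
    obtain ⟨d, hd⟩ := (mem_pt ρ v₁ _).mp (show j (c - τ (ε₀ * c) • cs) ∈ pt ρ v₁ from hmem)
    refine ⟨d, ?_⟩
    rw [hd, map_sub, map_smul, hu]
    abel
  -- the vector p
  have hptfr : finrank F (pt ρ v₁) = r := finrank_pt ρ hrk hrpos hv₁.1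
  have hImgfr : finrank F (Img ρ g₀ v₀) = r := finrank_Img ρ hrk hrpos g₀ hv₀.1
  obtain ⟨p, hpP, hpnot⟩ : ∃ p ∈ pt ρ v₁, p ∉ Img ρ g₀ v₀ := by
    by_contra hcon
    push Not at hcon
    have hle : pt ρ v₁ ≤ Img ρ g₀ v₀ := hcon
    rw [inf_eq_left.mpr hle, hptfr] at hfr
    omega
  set p₀ := act g₀⁻¹ p with hp₀
  have hgp₀ : act g₀ p₀ = p := by rw [hp₀, act_act_inv]
  have hp₀v₀ : B p₀ v₀ = 0 := by
    rw [S5701BAS.B_eq_zero_iff S]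
    intro y hy
    obtain ⟨a, rfl⟩ := (mem_pt ρ v₀ y).mp hy
    rw [← hpol, hgp₀]
    exact hperp p hpP _ ((mem_Img ρ g₀ v₀ _).mpr ⟨a, rfl⟩)
  have hp₀not : p₀ ∉ pt ρ v₀ := by
    intro h
    obtain ⟨a, ha⟩ := (mem_pt ρ v₀ p₀).mp h
    apply hpnot
    rw [← hgp₀, ← ha]
    exact (mem_Img ρ g₀ v₀ _).mpr ⟨a, rfl⟩
  -- decomposition of pt ρ v₁
  set D : Submodule F (ι → F) := pt ρ v₁ ⊓ Img ρ g₀ v₀ with hD
  have hpD : p ∉ D := fun h => hpnot h.2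
  have hsup : D ⊔ Submodule.span F {p} = pt ρ v₁ := by
    have hle : D ⊔ Submodule.span F {p} ≤ pt ρ v₁ :=
      sup_le inf_le_left ((Submodule.span_singleton_le_iff_mem p _).mpr hpP)
    apply Submodule.eq_of_le_of_finrank_le hle
    have hlt : D < D ⊔ Submodule.span F {p} := by
      apply lt_of_le_of_ne le_sup_left
      intro h
      apply hpD
      rw [h]
      exact Submodule.mem_sup_right (Submodule.mem_span_singleton_self p)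
    have := Submodule.finrank_lt_finrank_of_lt hlt
    omega
  have hdecomp : ∀ x ∈ pt ρ v₁, ∃ (d₀ : L) (t : F), act g₀⁻¹ x = ρ d₀ *ᵥ v₀ + t • p₀ := by
    intro x hx
    rw [← hsup] at hx
    obtain ⟨d, hd, y, hy, rfl⟩ := Submodule.mem_sup.mp hx
    obtain ⟨t, rfl⟩ := Submodule.mem_span_singleton.mp hy
    obtain ⟨d₀, hd₀⟩ := (mem_Img ρ g₀ v₀ d).mp hd.2
    refine ⟨d₀, t, ?_⟩
    rw [act_add, act_smul, ← hd₀, act_inv_act]
  refine ⟨u, p₀, ε₀, huImg, hunot, huv₁, hε₀, hp₀v₀, hp₀not, by rw [hgp₀]; exact hpP, ?_⟩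
  intro w₀ hw₀v₀ hw₀p₀
  have hv₀w₀ : B v₀ w₀ = 0 := by rw [S.symm]; exact hw₀v₀
  have hp₀w₀ : B p₀ w₀ = 0 := by rw [S.symm]; exact hw₀p₀
  set ω := act g₀ (ρ ε₀ *ᵥ w₀) with hω
  -- (iii)
  have hωv₁ : B ω v₁ = 0 := by
    rw [S5701BAS.B_eq_zero_iff S]
    intro y hy
    obtain ⟨d₀, t, hq⟩ := hdecomp y hy
    have hy' : y = act g₀ (ρ d₀ *ᵥ v₀ + t • p₀) := by rw [← hq, act_act_inv]
    rw [hy', hω, hpol, S5701BAS.polar_rho_left S, map_add, map_smul, S5701BAS.B_lin_right S, hw₀v₀,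
      hw₀p₀, mul_zero, smul_zero, add_zero, mul_zero, map_zero]
  refine ⟨hωv₁, ?_⟩
  -- the element y
  obtain ⟨x₀, hx₀, hx₀inv, -, -, hx₀Q⟩ := S5701SIEG.exists_sieg S v₀ w₀ hv₀.2 hv₀w₀
  have hx₀H : x₀ ∈ H := hS v₀ w₀ x₀ hv₀.2 hv₀w₀ hx₀
  refine ⟨g₀ * x₀ * g₀⁻¹, H.mul_mem (H.mul_mem hg₀H hx₀H) (H.inv_mem hg₀H), ?_, ?_⟩
  · -- (i)
    intro c
    obtain ⟨d₀, t, hq⟩ := hdecomp (ρ c *ᵥ v₁) (smul_mem_pt ρ v₁ c)
    have hqv₀ : B (ρ d₀ *ᵥ v₀ + t • p₀) v₀ = 0 := by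
      rw [map_add, map_smul, LinearMap.add_apply, LinearMap.smul_apply, S.lin, hv₀.2, hp₀v₀,
        mul_zero, smul_zero, add_zero]
    have hqw₀ : B (ρ d₀ *ᵥ v₀ + t • p₀) w₀ = 0 := by
      rw [map_add, map_smul, LinearMap.add_apply, LinearMap.smul_apply, S.lin, hv₀w₀, hp₀w₀,
        mul_zero, smul_zero, add_zero]
    rw [act_mul, act_mul, hq, hx₀, hqv₀, hqw₀, mul_zero, rho_zero_mulVec, rho_zero_mulVec,
      add_zero, sub_zero, sub_zero, ← hq, act_act_inv]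
  · -- (ii)
    intro z hzv₁
    set z₀ := act g₀⁻¹ z with hz₀
    have hgz₀ : act g₀ z₀ = z := by rw [hz₀, act_act_inv]
    have hzperp : ∀ d, polar (⇑Q) z (ρ d *ᵥ v₁) = 0 := by
      intro d
      rw [S5701BAS.polar_rho_right S, hzv₁, mul_zero, map_zero]
    -- β = B z₀ v₀
    have hβ : B z₀ v₀ = algebraMap F L (polar (⇑Q) z u) * ε₀ := by
      have h0 := tau_sep hτ (B z₀ v₀ - algebraMap F L (polar (⇑Q) z u) * ε₀) ?_
      · exact sub_eq_zero.mp h0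
      intro c
      have h1 : τ (c * B z₀ v₀) = τ (ε₀ * c) * polar (⇑Q) z u := by
        rw [← S5701BAS.polar_rho_right S, ← hpol, hgz₀, ← hjapp]
        obtain ⟨d, hd⟩ := hrel c
        rw [hd, QuadraticMap.polar_add_right, QuadraticMap.polar_smul_right, hzperp, add_zero,
          smul_eq_mul]
      have h2 : τ (c * (algebraMap F L (polar (⇑Q) z u) * ε₀)) = τ (ε₀ * c) * polar (⇑Q) z u := by
        have : c * (algebraMap F L (polar (⇑Q) z u) * ε₀) = polar (⇑Q) z u • (ε₀ * c) := by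
          rw [Algebra.smul_def]; ring
        rw [this, map_smul, smul_eq_mul, mul_comm]
      rw [mul_sub, map_sub, h1, h2, sub_self]
    have hτω : τ (ε₀ * B z₀ w₀) = polar (⇑Q) z ω := by
      rw [← S5701BAS.polar_rho_right S, ← hpol, hgz₀]
    have hQω : Q ω = 2⁻¹ * τ (ε₀ * (ε₀ * B w₀ w₀)) := by
      have h1 : Q ω = Q (ρ ε₀ *ᵥ w₀) := hg₀Q (ρ ε₀ *ᵥ w₀) (ρ ε₀ *ᵥ w₀)
      rw [h1, S5701BAS.Q_eq S, S.lin, S5701BAS.B_lin_right S]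
    have h2L : (2 : L) ≠ 0 := S5701SIEG.two_ne_zero_L S
    obtain ⟨d₁, hd₁⟩ := hrel (B z₀ w₀)
    obtain ⟨d₂, hd₂⟩ := hrel (B w₀ w₀ / 2 * B z₀ v₀)
    have hκ₂ : τ (ε₀ * (B w₀ w₀ / 2 * B z₀ v₀)) = Q ω * polar (⇑Q) z u := by
      rw [hβ, hQω]
      have : ε₀ * (B w₀ w₀ / 2 * (algebraMap F L (polar (⇑Q) z u) * ε₀)) =
          (2⁻¹ * polar (⇑Q) z u : F) • (ε₀ * (ε₀ * B w₀ w₀)) := by
        rw [Algebra.smul_def, map_mul, map_inv₀, map_ofNat]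
        field_simp
      rw [this, map_smul, smul_eq_mul]
      ring
    refine ⟨-d₁ - d₂, ?_⟩
    have hinv : (g₀ * x₀ * g₀⁻¹)⁻¹ = g₀ * x₀⁻¹ * g₀⁻¹ := by group
    rw [hinv, act_mul, act_mul, ← hz₀, hx₀inv]
    have e1 : B z₀ (-w₀) = -B z₀ w₀ := by rw [map_neg]
    have e2 : B (-w₀) (-w₀) = B w₀ w₀ := by
      rw [map_neg, map_neg, LinearMap.neg_apply, neg_neg]
    rw [e1, e2, rho_neg_mulVec, mulVec_neg, sub_neg_eq_add]
    rw [act_sub, act_add, act_add, act_neg, hgz₀, ← hjapp, ← hjapp, hd₁, hd₂, hκ₂, hτω, hβ]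
    have e3 : act g₀ (ρ (algebraMap F L (polar (⇑Q) z u) * ε₀) *ᵥ w₀) = polar (⇑Q) z u • ω := by
      rw [hω, ← act_smul, ← rho_smul_mulVec, Algebra.smul_def]
    rw [e3, rho_sub_mulVec, rho_neg_mulVec]
    abel

end Cfsg.Agent.Lib.Helper17.S5701E1
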