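import Mathlib
import Cfsg.Agent.Lib.Helper9.OExtDefs
import Cfsg.Agent.Lib.Helper7.SpExtBas
import Cfsg.Agent.Lib.Helper21.S5664FOBASb
import Cfsg.Agent.Lib.Helper26.S5701FOBAS
import Cfsg.Agent.Lib.Helper26.S5701FOGEOa

/-!
# S5701 farm-out FO-E3 : `exists_omega_w` (helper17, for architect helper9)
-/

set_option autoImplicit false

namespace Cfsg.Agent.Lib.Helper17.S5701E3

open Matrix Module QuadraticMap Cfsg.Agent.Lib.Helper7.SpExt Cfsg.Agent.Lib.Helper9.OExt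
  Cfsg.Agent.Lib.Helper21.S5664BASb Cfsg.Agent.Lib.Helper26

variable {F : Type*} [Field F] [Fintype F] {L : Type*} [Field L] [Algebra F L] {ι : Type} [Fintype ι]
  [DecidableEq ι] {ρ : L →ₐ[F] Matrix ι ι F} {Q : QuadraticForm F (ι → F)} {τ : L →ₗ[F] F}
  {B : (ι → F) →ₗ[F] (ι → F) →ₗ[F] L} {r : ℕ}

theorem exists_omega_w (S : OStr ρ Q τ B) (hr : r.Prime) (hrk : finrank F L = r)
    (hn : 4 * r ≤ Fintype.card ι) {v₁ v₀ u p₀ : ι → F} {g₀ : GL ι F} {ε₀ : L}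
    (hv₁ : LSing B v₁) (hv₀ : LSing B v₀) (hu : u ∈ Img ρ g₀ v₀) (hnot : u ∉ pt ρ v₁)
    (hu1 : B u v₁ = 0) (hε : ε₀ ≠ 0) (hp : B p₀ v₀ = 0) (hp' : p₀ ∉ pt ρ v₀)
    (hω : ∀ w₀, B w₀ v₀ = 0 → B w₀ p₀ = 0 → B (act g₀ (ρ ε₀ *ᵥ w₀)) v₁ = 0)
    (a b : L) (hb : b ≠ 0) :
    ∃ w₀ w, B w₀ v₀ = 0 ∧ B w₀ p₀ = 0 ∧ B w v₁ = 0 ∧ B (act g₀ (ρ ε₀ *ᵥ w₀)) w = a ∧ B u w = b := by
  have hrpos : 0 < r := hr.pos
  set Y₀ : Submodule F (ι → F) := LinearMap.ker (B.flip v₀) ⊓ LinearMap.ker (B.flip p₀) with hY₀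
  have hY₀fr : finrank F Y₀ + 2 * r = Fintype.card ι :=
    S5701GEO.finrank_perp2 S hrk hrpos hv₀.1 hp'
  have hY₀mem : ∀ w₀, w₀ ∈ Y₀ ↔ B w₀ v₀ = 0 ∧ B w₀ p₀ = 0 := by
    intro w₀
    rw [hY₀, Submodule.mem_inf, LinearMap.mem_ker, LinearMap.mem_ker, LinearMap.flip_apply,
      LinearMap.flip_apply]
  set Φ : (ι → F) →ₗ[F] (ι → F) := (actL g₀).comp (Matrix.mulVecLin (ρ ε₀)) with hΦ
  have hΦapp : ∀ x, Φ x = act g₀ (ρ ε₀ *ᵥ x) := fun x => rfl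
  have hΦinj : Function.Injective Φ := by
    apply (actL_injective g₀).comp
    intro x y hxy
    have h1 : ρ ε₀ *ᵥ x = ρ ε₀ *ᵥ y := hxy
    have h2 := congrArg (fun z => ρ ε₀⁻¹ *ᵥ z) h1
    simp only [← rho_mul_mulVec, inv_mul_cancel₀ hε, rho_one_mulVec] at h2
    exact h2
  by_cases hex : ∃ w₀ ∈ Y₀, ∀ c d : L, Φ w₀ ≠ ρ c *ᵥ u + ρ d *ᵥ v₁
  · obtain ⟨w₀, hw₀, hnot'⟩ := hex
    obtain ⟨h1, h2⟩ := (hY₀mem w₀).mp hw₀
    obtain ⟨w, hw1, hw2, hw3⟩ := S5701GEO.exists_dual2 S hv₁ hu1 (hω w₀ h1 h2) hnot hnot' a b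
    exact ⟨w₀, w, h1, h2, hw1, hw3, hw2⟩
  · push Not at hex
    have hu0 : u ≠ 0 := by
      rintro rfl
      exact hnot (Submodule.zero_mem _)
    set T : Submodule F (ι → F) := pt ρ u ⊔ pt ρ v₁ with hT
    have hle : Y₀.map Φ ≤ T := by
      rintro _ ⟨w₀, hw₀, rfl⟩
      obtain ⟨c, d, hcd⟩ := hex w₀ hw₀
      rw [hcd]
      exact Submodule.add_mem _ (Submodule.mem_sup_left (smul_mem_pt ρ u c))
        (Submodule.mem_sup_right (smul_mem_pt ρ v₁ d))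
    have hmapfr : finrank F (Y₀.map Φ) = finrank F Y₀ :=
      ((Submodule.equivMapOfInjective Φ hΦinj Y₀).finrank_eq).symm
    have hTfr : finrank F T ≤ 2 * r := by
      have h1 : finrank F T ≤ finrank F (pt ρ u) + finrank F (pt ρ v₁) :=
        Submodule.finrank_add_le_finrank_add_finrank (pt ρ u) (pt ρ v₁)
      rw [finrank_pt ρ hrk hrpos hu0, finrank_pt ρ hrk hrpos hv₁.1] at h1
      omega
    have hEq : Y₀.map Φ = T := by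
      apply Submodule.eq_of_le_of_finrank_le hle
      omega
    have hmem : ρ (a / b) *ᵥ u ∈ Y₀.map Φ := by
      rw [hEq]
      exact Submodule.mem_sup_left (smul_mem_pt ρ u _)
    obtain ⟨w₀, hw₀, hw₀eq⟩ := hmem
    obtain ⟨h1, h2⟩ := (hY₀mem w₀).mp hw₀
    obtain ⟨w, hw1, hw2⟩ := S5701GEO.exists_dual1 S hv₁ hu1 hnot b
    refine ⟨w₀, w, h1, h2, hw1, ?_, hw2⟩
    rw [← hΦapp, hw₀eq, S.lin, hw2, div_mul_cancel₀ a hb]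

end Cfsg.Agent.Lib.Helper17.S5701E3
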