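import Mathlib
import Cfsg.Prelude.Def_GeometricClasses

/-!
# S5775, piece C3-q4, half Q4-A (for helper29): a generator `Θ` of the 7-part of `K^×`, `K ≅ F_64 ≤ M_3(F_4)`  (helper17)
-/

set_option autoImplicit false
set_option linter.unusedVariables false
set_option linter.unusedSectionVars false

namespace Cfsg.Agent.Lib.Helper17.S5775Q4A

open Matrix Cfsg.Geo Polynomial

variable {F : Type*} [Field F] [Fintype F]

local notation "M3" => Matrix (Fin 3) (Fin 3) F

/-- inverses in `K` are two-sided -/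
theorem exists_inv {K : Subalgebra F M3} (hK : IsFieldSubalgebra 3 K) {x : M3} (hx : x ∈ K)
    (hx0 : x ≠ 0) : ∃ y ∈ K, x * y = 1 ∧ y * x = 1 := by
  obtain ⟨y, hy, hxy⟩ := hK.inv x hx hx0
  exact ⟨y, hy, hxy, by rw [← hK.comm x hx y hy]; exact hxy⟩

/-- `K` has no zero divisors -/
theorem eq_zero_or_eq_zero {K : Subalgebra F M3} (hK : IsFieldSubalgebra 3 K) {a b : M3} (ha : a ∈ K)
    (h : a * b = 0) : a = 0 ∨ b = 0 := by
  by_cases ha0 : a = 0
  · exact Or.inl ha0
  · right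
    obtain ⟨y, hy, hxy, hyx⟩ := exists_inv hK ha ha0
    calc b = (y * a) * b := by rw [hyx, one_mul]
      _ = y * (a * b) := mul_assoc _ _ _
      _ = 0 := by rw [h, mul_zero]

/-- the group `K^×` inside `GL_3(F)` -/
def KK (K : Subalgebra F M3) (hK : IsFieldSubalgebra 3 K) : Subgroup (GL (Fin 3) F) where
  carrier := {g | (g : M3) ∈ K}
  mul_mem' := fun {a b} ha hb => by
    show ((a * b : GL (Fin 3) F) : M3) ∈ K
    rw [Units.val_mul]
    exact K.mul_mem ha hb
  one_mem' := by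
    show ((1 : GL (Fin 3) F) : M3) ∈ K
    rw [Units.val_one]
    exact K.one_mem
  inv_mem' := fun {a} ha => by
    show ((a⁻¹ : GL (Fin 3) F) : M3) ∈ K
    have ha0 : (a : M3) ≠ 0 := a.ne_zero
    obtain ⟨y, hy, hxy, -⟩ := exists_inv hK ha ha0
    rw [Units.inv_eq_of_mul_eq_one_right hxy]
    exact hy

theorem mem_KK {K : Subalgebra F M3} {hK : IsFieldSubalgebra 3 K} {g : GL (Fin 3) F} :
    g ∈ KK K hK ↔ (g : M3) ∈ K := Iff.rfl

theorem KK_comm {K : Subalgebra F M3} (hK : IsFieldSubalgebra 3 K) {a b : GL (Fin 3) F}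
    (ha : a ∈ KK K hK) (hb : b ∈ KK K hK) : Commute a b := by
  apply Units.ext
  rw [Units.val_mul, Units.val_mul]
  exact hK.comm _ ha _ hb

theorem card_K (hq : Fintype.card F = 4) {K : Subalgebra F M3} (hK : IsFieldSubalgebra 3 K) :
    Nat.card K = 64 := by
  have h := Module.natCard_eq_pow_finrank (K := F) (V := K)
  rw [hK.finrank_eq, Nat.card_eq_fintype_card (α := F), hq] at h
  rw [h]
  norm_num

theorem card_KK (hq : Fintype.card F = 4) {K : Subalgebra F M3} (hK : IsFieldSubalgebra 3 K) :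
    Nat.card (KK K hK) = 63 := by
  have hfin : Finite K := inferInstance
  let f : KK K hK → K := fun g => ⟨(g.1 : M3), g.2⟩
  have hf : Function.Injective f := by
    intro a b hab
    apply Subtype.ext
    apply Units.ext
    exact congrArg Subtype.val hab
  have hrange : Set.range f = {0}ᶜ := by
    ext x
    simp only [Set.mem_range, Set.mem_compl_iff, Set.mem_singleton_iff]
    constructor
    · rintro ⟨g, rfl⟩ h0
      have h1 : (g.1 : M3) = 0 := congrArg Subtype.val h0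
      exact g.1.ne_zero h1
    · intro hx0
      have hx0' : (x : M3) ≠ 0 := fun h => hx0 (Subtype.ext h)
      obtain ⟨y, hy, hxy, hyx⟩ := exists_inv hK x.2 hx0'
      exact ⟨⟨⟨x, y, hxy, hyx⟩, x.2⟩, Subtype.ext rfl⟩
  have h1 : Nat.card (KK K hK) = (Set.range f).ncard := by
    rw [← Nat.card_coe_set_eq]
    exact Nat.card_congr (Equiv.ofInjective f hf)
  rw [h1, hrange, Set.ncard_compl, Set.ncard_singleton, card_K hq hK]

theorem two_eq_zero (hq : Fintype.card F = 4) : (2 : F) = 0 := by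
  have h4 : ((Fintype.card F : ℕ) : F) = 0 := Nat.cast_card_eq_zero F
  rw [hq] at h4
  have h22 : (2 : F) * 2 = 0 := by
    have h : ((4 : ℕ) : F) = 2 * 2 := by norm_num
    rw [← h]
    exact h4
  exact mul_self_eq_zero.mp h22

theorem add_self_M (hq : Fintype.card F = 4) (A : M3) : A + A = 0 := by
  rw [← two_smul F A, two_eq_zero hq, zero_smul]

/-- a generator of the 7-part with `Θ³ = Θ + 1` -/
theorem exists_theta_aux (hq : Fintype.card F = 4) (K : Subalgebra F M3) (hK : IsFieldSubalgebra 3 K) :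
    ∃ Θ : GL (Fin 3) F, Θ ∈ KK K hK ∧ orderOf Θ = 7 ∧ (Θ : M3) ^ 3 = (Θ : M3) + 1 := by
  have : Fact (Nat.Prime 7) := ⟨by norm_num⟩
  have hdvd : 7 ∣ Nat.card (KK K hK) := by
    rw [card_KK hq hK]
    norm_num
  obtain ⟨θ', hθ'⟩ := exists_prime_orderOf_dvd_card' 7 hdvd
  set θ : GL (Fin 3) F := (θ' : GL (Fin 3) F) with hθdef
  have hθK : θ ∈ KK K hK := θ'.2
  have hord : orderOf θ = 7 := by
    rw [hθdef, Subgroup.orderOf_coe]
    exact hθ'
  have hθ7 : θ ^ 7 = 1 := by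
    rw [← hord]
    exact pow_orderOf_eq_one θ
  have hθ1 : θ ≠ 1 := by
    intro h
    rw [h, orderOf_one] at hord
    norm_num at hord
  set T : M3 := (θ : M3) with hT
  have hTK : T ∈ K := hθK
  have hT7 : T ^ 7 = 1 := by
    rw [hT, ← Units.val_pow_eq_pow_val, hθ7, Units.val_one]
  have hT1 : T - 1 ≠ 0 := by
    intro h
    apply hθ1
    apply Units.ext
    rw [Units.val_one]
    exact sub_eq_zero.mp h
  -- the cyclotomic factor vanishes
  have hS6 : T ^ 6 + T ^ 5 + T ^ 4 + T ^ 3 + T ^ 2 + T + 1 = 0 := by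
    have hprod : (T - 1) * (T ^ 6 + T ^ 5 + T ^ 4 + T ^ 3 + T ^ 2 + T + 1) = 0 := by
      have hp : ((X : F[X]) - 1) * (X ^ 6 + X ^ 5 + X ^ 4 + X ^ 3 + X ^ 2 + X + 1) = X ^ 7 - 1 := by ring
      have h := congrArg (aeval T) hp
      simp only [map_mul, map_sub, map_add, map_pow, aeval_X, map_one] at h
      rw [h, hT7, sub_self]
    have hmem : T - 1 ∈ K := K.sub_mem hTK K.one_mem
    exact (eq_zero_or_eq_zero hK hmem hprod).resolve_left hT1
  have hAB : (T ^ 3 + T + 1) * (T ^ 3 + T ^ 2 + 1) = 0 := by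
    have hp : ((X : F[X]) ^ 3 + X + 1) * (X ^ 3 + X ^ 2 + 1) =
        (X ^ 6 + X ^ 5 + X ^ 4 + X ^ 3 + X ^ 2 + X + 1) + (X ^ 3 + X ^ 3) := by ring
    have h := congrArg (aeval T) hp
    simp only [map_mul, map_add, map_pow, aeval_X, map_one] at h
    rw [h, hS6, add_self_M hq, add_zero]
  have hAmem : T ^ 3 + T + 1 ∈ K := K.add_mem (K.add_mem (K.pow_mem hTK 3) hTK) K.one_mem
  have hfinish : ∀ Θ : GL (Fin 3) F, Θ ∈ KK K hK → orderOf Θ = 7 → (Θ : M3) ^ 3 + (Θ : M3) + 1 = 0 →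
      ∃ Θ : GL (Fin 3) F, Θ ∈ KK K hK ∧ orderOf Θ = 7 ∧ (Θ : M3) ^ 3 = (Θ : M3) + 1 := by
    intro Θ h1 h2 h3
    refine ⟨Θ, h1, h2, ?_⟩
    calc (Θ : M3) ^ 3 = ((Θ : M3) ^ 3 + (Θ : M3) + 1) + ((Θ : M3) + 1) -
          (((Θ : M3) + 1) + ((Θ : M3) + 1)) := by abel
      _ = (Θ : M3) + 1 := by rw [h3, add_self_M hq, zero_add, sub_zero]
  rcases eq_zero_or_eq_zero hK hAmem hAB with hA | hB
  · exact hfinish θ hθK hord hA
  · -- replace `θ` by its inverse
    apply hfinish θ⁻¹ ((KK K hK).inv_mem hθK) (by rw [orderOf_inv]; exact hord)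
    set U : M3 := ((θ⁻¹ : GL (Fin 3) F) : M3) with hU
    have e1 : U ^ 3 * T ^ 3 = 1 := by
      have e : (θ⁻¹) ^ 3 * θ ^ 3 = 1 := by group
      have := congrArg (fun g : GL (Fin 3) F => (g : M3)) e
      simpa only [Units.val_mul, Units.val_pow_eq_pow_val, Units.val_one] using this
    have e2 : U ^ 3 * T ^ 2 = U := by
      have e : (θ⁻¹) ^ 3 * θ ^ 2 = θ⁻¹ := by group
      have := congrArg (fun g : GL (Fin 3) F => (g : M3)) e
      simpa only [Units.val_mul, Units.val_pow_eq_pow_val] using this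
    have h0 : U ^ 3 * (T ^ 3 + T ^ 2 + 1) = 0 := by rw [hB, mul_zero]
    rw [mul_add, mul_add, e1, e2, mul_one] at h0
    rw [← h0]
    abel

/-- the elements of order dividing 7 -/
theorem pow_seven (hq : Fintype.card F = 4) (K : Subalgebra F M3) (hK : IsFieldSubalgebra 3 K)
    (Θ : GL (Fin 3) F) (hΘ : Θ ∈ KK K hK) (hord : orderOf Θ = 7) (a : GL (Fin 3) F)
    (ha : a ∈ KK K hK) (ha7 : a ^ 7 = 1) : ∃ i : ℕ, a = Θ ^ i := by
  have : Fact (Nat.Prime 7) := ⟨by norm_num⟩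
  let T7 : Subgroup (GL (Fin 3) F) :=
    { carrier := {a | a ∈ KK K hK ∧ a ^ 7 = 1}
      mul_mem' := fun {a b} ha hb =>
        ⟨mul_mem ha.1 hb.1, by rw [(KK_comm hK ha.1 hb.1).mul_pow, ha.2, hb.2, one_mul]⟩
      one_mem' := ⟨one_mem _, one_pow _⟩
      inv_mem' := fun {a} ha => ⟨inv_mem ha.1, by rw [inv_pow, ha.2, inv_one]⟩ }
  have hT7le : T7 ≤ KK K hK := fun x hx => hx.1
  have hp : IsPGroup 7 T7 := by
    intro g
    refine ⟨1, ?_⟩
    apply Subtype.ext
    have := g.2.2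
    simpa using this
  obtain ⟨k, hk⟩ := (IsPGroup.iff_card).1 hp
  have hdvd : Nat.card T7 ∣ 63 := by
    rw [← card_KK hq hK]
    exact Subgroup.card_dvd_of_le hT7le
  have hk1 : k ≤ 1 := by
    by_contra hc
    have h2 : 2 ≤ k := by omega
    have h49 : 7 ^ 2 ∣ 7 ^ k := pow_dvd_pow 7 h2
    rw [← hk] at h49
    have := dvd_trans h49 hdvd
    norm_num at this
  have hcard : Nat.card T7 ≤ 7 := by
    rw [hk]
    calc 7 ^ k ≤ 7 ^ 1 := Nat.pow_le_pow_right (by norm_num) hk1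
      _ = 7 := by norm_num
  have hΘ7 : Θ ^ 7 = 1 := by
    rw [← hord]
    exact pow_orderOf_eq_one Θ
  have hle : Subgroup.zpowers Θ ≤ T7 := Subgroup.zpowers_le.mpr ⟨hΘ, hΘ7⟩
  have heq : Subgroup.zpowers Θ = T7 := by
    apply Subgroup.eq_of_le_of_card_ge hle
    rw [Nat.card_zpowers, hord]
    exact hcard
  have hmem : a ∈ Subgroup.zpowers Θ := by
    rw [heq]
    exact ⟨ha, ha7⟩
  rw [← mem_powers_iff_mem_zpowers] at hmem
  obtain ⟨i, hi⟩ := (Submonoid.mem_powers_iff a Θ).mp hmem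
  exact ⟨i, hi.symm⟩

/-- the determinant is not trivial on `K^×` -/
theorem exists_det_ne_one (hq : Fintype.card F = 4) (K : Subalgebra F M3) (hK : IsFieldSubalgebra 3 K) :
    ∃ a : GL (Fin 3) F, a ∈ KK K hK ∧ (a : M3).det ≠ 1 := by
  by_contra hcon
  push Not at hcon
  -- a non-scalar element of `K`
  have hx : ∃ x ∈ K, ∀ c : F, x ≠ c • (1 : M3) := by
    by_contra hall
    push Not at hall
    let f : F → K := fun c => ⟨c • (1 : M3), K.smul_mem K.one_mem c⟩
    have hf : Function.Surjective f := by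
      intro x
      obtain ⟨c, hc⟩ := hall x x.2
      exact ⟨c, Subtype.ext hc.symm⟩
    have hle := Nat.card_le_card_of_surjective f hf
    rw [card_K hq hK, Nat.card_eq_fintype_card, hq] at hle
    norm_num at hle
  obtain ⟨x, hxK, hxs⟩ := hx
  have hev : ∀ c : F, (x + c • (1 : M3)).det = 1 := by
    intro c
    have hmem : x + c • (1 : M3) ∈ K := K.add_mem hxK (K.smul_mem K.one_mem c)
    have hne : x + c • (1 : M3) ≠ 0 := by
      intro h
      apply hxs (-c)
      rw [neg_smul]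
      exact eq_neg_of_add_eq_zero_left h
    obtain ⟨y, hy, hxy, hyx⟩ := exists_inv hK hmem hne
    exact hcon ⟨x + c • (1 : M3), y, hxy, hyx⟩ hmem
  have hpoly : (-x).charpoly = 1 := by
    apply eq_of_natDegree_lt_card_of_eval_eq' _ _ Finset.univ
    · intro c _
      rw [Matrix.eval_charpoly, eval_one, ← hev c]
      congr 1
      rw [sub_neg_eq_add, add_comm, Matrix.scalar_apply, Matrix.smul_one_eq_diagonal]
    · rw [Matrix.charpoly_natDegree_eq_dim, natDegree_one, Finset.card_univ, hq]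
      simp
  have hdeg := Matrix.charpoly_natDegree_eq_dim (-x)
  rw [hpoly, natDegree_one] at hdeg
  simp at hdeg

/-- the elements of determinant one -/
theorem det_one (hq : Fintype.card F = 4) (K : Subalgebra F M3) (hK : IsFieldSubalgebra 3 K)
    (Θ : GL (Fin 3) F) (hΘ : Θ ∈ KK K hK) (hord : orderOf Θ = 7) (a : GL (Fin 3) F)
    (ha : a ∈ KK K hK) (hdet : (a : M3).det = 1) :
    ∃ (c : F) (i : ℕ), c ≠ 0 ∧ (a : M3) = c • (Θ : M3) ^ i := by
  have hΘ7 : Θ ^ 7 = 1 := by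
    rw [← hord]
    exact pow_orderOf_eq_one Θ
  have hΘv7 : (Θ : M3) ^ 7 = 1 := by
    rw [← Units.val_pow_eq_pow_val, hΘ7, Units.val_one]
  have hc3 : ∀ c : F, c ≠ 0 → c ^ 3 = 1 := by
    intro c hc
    have := FiniteField.pow_card_sub_one_eq_one c hc
    rwa [hq] at this
  -- `det Θ = 1`
  have hdΘ : (Θ : M3).det = 1 := by
    have hd0 : (Θ : M3).det ≠ 0 := by
      intro h
      have h7 := congrArg Matrix.det hΘv7
      rw [Matrix.det_pow, h, Matrix.det_one] at h7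
      norm_num at h7
    have h7 : (Θ : M3).det ^ 7 = 1 := by
      rw [← Matrix.det_pow, hΘv7, Matrix.det_one]
    have h3 := hc3 _ hd0
    calc (Θ : M3).det = ((Θ : M3).det ^ 3) ^ 2 * (Θ : M3).det := by rw [h3, one_pow, one_mul]
      _ = (Θ : M3).det ^ 7 := by ring
      _ = 1 := h7
  -- the subgroup `W = F^× ⟨Θ⟩`
  let W : Subgroup (GL (Fin 3) F) :=
    { carrier := {g | ∃ (c : F) (i : ℕ), c ≠ 0 ∧ (g : M3) = c • (Θ : M3) ^ i}
      mul_mem' := by
        rintro g h ⟨c, i, hc, hg⟩ ⟨d, j, hd, hh⟩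
        refine ⟨c * d, i + j, mul_ne_zero hc hd, ?_⟩
        rw [Units.val_mul, hg, hh, Matrix.smul_mul, Matrix.mul_smul, smul_smul, pow_add]
      one_mem' := ⟨1, 0, one_ne_zero, by rw [Units.val_one, pow_zero, one_smul]⟩
      inv_mem' := by
        rintro g ⟨c, i, hc, hg⟩
        refine ⟨c⁻¹, 6 * i, inv_ne_zero hc, ?_⟩
        apply Units.inv_eq_of_mul_eq_one_right
        rw [hg, Matrix.smul_mul, Matrix.mul_smul, smul_smul, ← pow_add, mul_inv_cancel₀ hc, one_smul]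
        have : i + 6 * i = 7 * i := by ring
        rw [this, pow_mul, hΘv7, one_pow] }
  let S1 : Subgroup (GL (Fin 3) F) := KK K hK ⊓ specialLinear (Fin 3) F
  have hmemSL : ∀ g : GL (Fin 3) F, g ∈ specialLinear (Fin 3) F ↔ (g : M3).det = 1 := by
    intro g
    change Matrix.GeneralLinearGroup.det g = 1 ↔ _
    rw [Units.ext_iff, Matrix.GeneralLinearGroup.val_det_apply, Units.val_one]
  have hWS : W ≤ S1 := by
    rintro g ⟨c, i, hc, hg⟩
    refine ⟨?_, ?_⟩
    · show (g : M3) ∈ K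
      rw [hg]
      exact K.smul_mem (K.pow_mem hΘ i) c
    · show g ∈ specialLinear (Fin 3) F
      rw [hmemSL, hg, Matrix.det_smul, Matrix.det_pow, hdΘ, one_pow, mul_one, Fintype.card_fin]
      exact hc3 c hc
  have hSK : S1 ≤ KK K hK := inf_le_left
  -- `3 ∣ |W|`
  have h3W : 3 ∣ Nat.card W := by
    classical
    obtain ⟨c, hc0, hc1⟩ : ∃ c : F, c ≠ 0 ∧ c ≠ 1 := by
      by_contra hcon
      push Not at hcon
      have hsub : (Finset.univ : Finset F) ⊆ {0, 1} := by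
        intro c _
        by_cases h0 : c = 0
        · simp [h0]
        · simp [hcon c h0]
      have := Finset.card_le_card hsub
      rw [Finset.card_univ, hq] at this
      have h2 : ({0, 1} : Finset F).card ≤ 2 := Finset.card_le_two
      omega
    let z : GL (Fin 3) F := Units.map (Matrix.scalar (Fin 3) : F →+* M3).toMonoidHom (Units.mk0 c hc0)
    have hzv : (z : M3) = c • (1 : M3) := by
      show Matrix.scalar (Fin 3) c = c • (1 : M3)
      rw [Matrix.scalar_apply, Matrix.smul_one_eq_diagonal]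
    have hzW : z ∈ W := ⟨c, 0, hc0, by rw [hzv, pow_zero]⟩
    have hz3 : z ^ 3 = 1 := by
      apply Units.ext
      rw [Units.val_pow_eq_pow_val, hzv, _root_.smul_pow, one_pow, hc3 c hc0, one_smul, Units.val_one]
    have hz1 : z ≠ 1 := by
      intro h
      have h1 := congrArg (fun g : GL (Fin 3) F => (g : M3) 0 0) h
      simp only [hzv, Units.val_one, Matrix.smul_apply, Matrix.one_apply_eq, smul_eq_mul, mul_one] at h1
      exact hc1 h1
    have : Fact (Nat.Prime 3) := ⟨by norm_num⟩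
    have hoz : orderOf z = 3 := orderOf_eq_prime hz3 hz1
    have hdz := Subgroup.orderOf_dvd_natCard W hzW
    rwa [hoz] at hdz
  have h7W : 7 ∣ Nat.card W := by
    have hΘW : Θ ∈ W := ⟨1, 1, one_ne_zero, by rw [pow_one, one_smul]⟩
    have hdΘ' := Subgroup.orderOf_dvd_natCard W hΘW
    rwa [hord] at hdΘ'
  have h21W : 21 ∣ Nat.card W := by
    have : Nat.Coprime 3 7 := by norm_num
    exact this.mul_dvd_of_dvd_of_dvd h3W h7W
  have hWdS : Nat.card W ∣ Nat.card S1 := Subgroup.card_dvd_of_le hWS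
  have hSd63 : Nat.card S1 ∣ 63 := by
    rw [← card_KK hq hK]
    exact Subgroup.card_dvd_of_le hSK
  have hS63 : Nat.card S1 ≠ 63 := by
    intro h
    have heq : S1 = KK K hK := by
      apply Subgroup.eq_of_le_of_card_ge hSK
      rw [h, card_KK hq hK]
    obtain ⟨b, hb, hbdet⟩ := exists_det_ne_one hq K hK
    have hbS : b ∈ S1 := by
      rw [heq]
      exact hb
    exact hbdet ((hmemSL b).1 hbS.2)
  have hS21 : Nat.card S1 = 21 := by
    have h21S : 21 ∣ Nat.card S1 := dvd_trans h21W hWdS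
    have hle : Nat.card S1 ≤ 63 := Nat.le_of_dvd (by norm_num) hSd63
    generalize Nat.card S1 = s at *
    interval_cases s <;> omega
  have hW21 : Nat.card S1 ≤ Nat.card W := by
    rw [hS21] at hWdS ⊢
    exact Nat.le_of_dvd (Nat.pos_of_ne_zero (fun h => by rw [h] at hWdS; norm_num at hWdS)) h21W
  have hWeq : W = S1 := Subgroup.eq_of_le_of_card_ge hWS hW21
  have haS : a ∈ S1 := ⟨ha, (hmemSL a).2 hdet⟩
  rw [← hWeq] at haS
  exact haS

/-- **Q4-A** -/
theorem exists_theta (hq : Fintype.card F = 4) (K : Subalgebra F (Matrix (Fin 3) (Fin 3) F))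
    (hK : IsFieldSubalgebra 3 K) :
    ∃ Θ : GL (Fin 3) F, (Θ : Matrix (Fin 3) (Fin 3) F) ∈ K ∧
      (Θ : Matrix (Fin 3) (Fin 3) F) ^ 3 = (Θ : Matrix (Fin 3) (Fin 3) F) + 1 ∧
      (∀ a : GL (Fin 3) F, (a : Matrix (Fin 3) (Fin 3) F) ∈ K → a ^ 7 = 1 → ∃ i : ℕ, a = Θ ^ i) ∧
      (∀ a : GL (Fin 3) F, (a : Matrix (Fin 3) (Fin 3) F) ∈ K → (a : Matrix (Fin 3) (Fin 3) F).det = 1 →
        ∃ (c : F) (i : ℕ), c ≠ 0 ∧ (a : Matrix (Fin 3) (Fin 3) F) = c • (Θ : Matrix (Fin 3) (Fin 3) F) ^ i) := by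
  obtain ⟨Θ, hΘ, hord, hcub⟩ := exists_theta_aux hq K hK
  exact ⟨Θ, hΘ, hcub, fun a ha ha7 => pow_seven hq K hK Θ hΘ hord a ha ha7,
    fun a ha hdet => det_one hq K hK Θ hΘ hord a ha hdet⟩

end Cfsg.Agent.Lib.Helper17.S5775Q4A
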