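import Mathlib

/-!
# S5778 (E3): the orthogonal group `O_3` of the sum of squares over the field with five elements (helper17)

Every `B` with `Bᵀ B = 1` over `ZMod 5` is a signed permutation matrix `σ` or `σ * W5 * σ'`, `W5 = 4J - I`.
-/

set_option autoImplicit false

namespace Cfsg.Agent.Lib.Helper17.S5778O3

open Matrix

/-- the matrix `4J - I` over the prime field -/
def W5 : Matrix (Fin 3) (Fin 3) (ZMod 5) := !![3,4,4;4,3,4;4,4,3]

/-- signed permutation matrices over `ZMod 5` -/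
def IsSignedPerm (σ : Matrix (Fin 3) (Fin 3) (ZMod 5)) : Prop :=
  ∃ (π : Equiv.Perm (Fin 3)) (ε : Fin 3 → ZMod 5), (∀ j, ε j = 1 ∨ ε j = -1) ∧
    ∀ i j, σ i j = if i = π j then ε j else 0

/-- the sign attached to a boolean -/
def sgn (b : Bool) : ZMod 5 := if b then -1 else 1

/-- the signed permutation matrix with column `j` equal to `± e_(π j)` -/
def spm (π : Equiv.Perm (Fin 3)) (s : Fin 3 → Bool) : Matrix (Fin 3) (Fin 3) (ZMod 5) :=
  Matrix.of fun i j => if i = π j then sgn (s j) else 0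

theorem isSignedPerm_spm (π : Equiv.Perm (Fin 3)) (s : Fin 3 → Bool) : IsSignedPerm (spm π s) :=
  ⟨π, fun j => sgn (s j), fun j => by
    show sgn (s j) = 1 ∨ sgn (s j) = -1
    cases s j <;> simp [sgn], fun _ _ => rfl⟩

theorem col_cases : ∀ c : Fin 3 → ZMod 5, c 0 * c 0 + c 1 * c 1 + c 2 * c 2 = 1 →
    ∃ (π : Equiv.Perm (Fin 3)) (s : Fin 3 → Bool),
      (fun i => spm π s i 0) = c ∨ (fun i => (spm π s * W5) i 0) = c := by
  decide +kernel

theorem spm_orth : ∀ (π : Equiv.Perm (Fin 3)) (s : Fin 3 → Bool), (spm π s)ᵀ * spm π s = 1 := by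
  decide +kernel

theorem W5_orth : W5ᵀ * W5 = 1 := by decide +kernel

theorem spm_mul : ∀ (π : Equiv.Perm (Fin 3)) (s : Fin 3 → Bool) (π' : Equiv.Perm (Fin 3)) (s' : Fin 3 → Bool),
    spm π s * spm π' s' = spm (π * π') (fun j => xor (s (π' j)) (s' j)) := by
  decide +kernel

theorem block_cases : ∀ a b c d : ZMod 5, a * a + c * c = 1 → b * b + d * d = 1 → a * b + c * d = 0 →
    ∃ (π : Equiv.Perm (Fin 3)) (s : Fin 3 → Bool),
      spm π s 0 0 = 1 ∧ spm π s 0 1 = 0 ∧ spm π s 0 2 = 0 ∧ spm π s 1 0 = 0 ∧ spm π s 2 0 = 0 ∧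
      spm π s 1 1 = a ∧ spm π s 1 2 = b ∧ spm π s 2 1 = c ∧ spm π s 2 2 = d := by
  decide +kernel

/-- an orthogonal matrix with first column `e₀` is a signed permutation matrix -/
theorem block_of_col (M : Matrix (Fin 3) (Fin 3) (ZMod 5)) (hM : Mᵀ * M = 1)
    (h00 : M 0 0 = 1) (h10 : M 1 0 = 0) (h20 : M 2 0 = 0) :
    ∃ (π : Equiv.Perm (Fin 3)) (s : Fin 3 → Bool), M = spm π s := by
  have e : ∀ i j, M 0 i * M 0 j + M 1 i * M 1 j + M 2 i * M 2 j
      = (1 : Matrix (Fin 3) (Fin 3) (ZMod 5)) i j := by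
    intro i j
    rw [← hM, Matrix.mul_apply, Fin.sum_univ_three]
    rfl
  have h01 : M 0 1 = 0 := by
    have := e 0 1
    rw [h00, h10, h20] at this
    simpa using this
  have h02 : M 0 2 = 0 := by
    have := e 0 2
    rw [h00, h10, h20] at this
    simpa using this
  have h11 : M 1 1 * M 1 1 + M 2 1 * M 2 1 = 1 := by
    have := e 1 1
    rw [h01] at this
    simpa using this
  have h22 : M 1 2 * M 1 2 + M 2 2 * M 2 2 = 1 := by
    have := e 2 2
    rw [h02] at this
    simpa using this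
  have h12 : M 1 1 * M 1 2 + M 2 1 * M 2 2 = 0 := by
    have := e 1 2
    rw [h01, h02] at this
    simpa using this
  obtain ⟨π, s, g00, g01, g02, g10, g20, g11, g12, g21, g22⟩ :=
    block_cases (M 1 1) (M 1 2) (M 2 1) (M 2 2) h11 h22 h12
  refine ⟨π, s, ?_⟩
  have key : ∀ i j, M i j = spm π s i j := by
    intro i j
    fin_cases i <;> fin_cases j
    · exact h00.trans g00.symm
    · exact h01.trans g01.symm
    · exact h02.trans g02.symm
    · exact h10.trans g10.symm
    · exact g11.symm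
    · exact g12.symm
    · exact h20.trans g20.symm
    · exact g21.symm
    · exact g22.symm
  exact Matrix.ext key

/-- peeling off an orthogonal matrix with the same first column -/
theorem reduce (τ B : Matrix (Fin 3) (Fin 3) (ZMod 5)) (hτ : τᵀ * τ = 1) (hB : Bᵀ * B = 1)
    (hcol : ∀ i, τ i 0 = B i 0) :
    ∃ (π' : Equiv.Perm (Fin 3)) (s' : Fin 3 → Bool), B = τ * spm π' s' := by
  have hτ' : τ * τᵀ = 1 := _root_.mul_eq_one_comm.mp hτ
  have hBeq : B = τ * (τᵀ * B) := by
    rw [← Matrix.mul_assoc, hτ', Matrix.one_mul]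
  have horth : (τᵀ * B)ᵀ * (τᵀ * B) = 1 := by
    rw [Matrix.transpose_mul, Matrix.transpose_transpose, Matrix.mul_assoc, ← Matrix.mul_assoc τ,
      hτ', Matrix.one_mul, hB]
  have hcol' : ∀ i, (τᵀ * B) i 0 = (1 : Matrix (Fin 3) (Fin 3) (ZMod 5)) i 0 := by
    intro i
    rw [← hτ, Matrix.mul_apply, Matrix.mul_apply]
    exact Finset.sum_congr rfl (fun k _ => by rw [hcol k])
  obtain ⟨π', s', h⟩ := block_of_col (τᵀ * B) horth (by simpa using hcol' 0) (by simpa using hcol' 1)
    (by simpa using hcol' 2)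
  exact ⟨π', s', by rw [← h]; exact hBeq⟩

/-- **`O_3` over the field with five elements**: every orthogonal matrix for the sum of squares is a signed
permutation matrix or of the shape `σ * W5 * σ'`. -/
theorem o3_five (B : Matrix (Fin 3) (Fin 3) (ZMod 5)) (hB : Bᵀ * B = 1) :
    ∃ σ σ', IsSignedPerm σ ∧ IsSignedPerm σ' ∧ (B = σ ∨ B = σ * W5 * σ') := by
  have hc : B 0 0 * B 0 0 + B 1 0 * B 1 0 + B 2 0 * B 2 0 = 1 := by
    have := congrFun (congrFun hB 0) 0
    rw [Matrix.mul_apply, Fin.sum_univ_three] at this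
    simpa using this
  obtain ⟨π, s, h | h⟩ := col_cases (fun i => B i 0) hc
  · obtain ⟨π', s', hB'⟩ := reduce (spm π s) B (spm_orth π s) hB (fun i => congrFun h i)
    refine ⟨spm (π * π') (fun j => xor (s (π' j)) (s' j)), spm π s, isSignedPerm_spm _ _,
      isSignedPerm_spm _ _, Or.inl ?_⟩
    rw [hB', spm_mul]
  · have hτ : (spm π s * W5)ᵀ * (spm π s * W5) = 1 := by
      rw [Matrix.transpose_mul, Matrix.mul_assoc, ← Matrix.mul_assoc (spm π s)ᵀ, spm_orth,
        Matrix.one_mul, W5_orth]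
    obtain ⟨π', s', hB'⟩ := reduce (spm π s * W5) B hτ hB (fun i => congrFun h i)
    exact ⟨spm π s, spm π' s', isSignedPerm_spm _ _, isSignedPerm_spm _ _, Or.inr hB'⟩

end Cfsg.Agent.Lib.Helper17.S5778O3
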