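import Mathlib
import Cfsg.Agent.H5.TCkSound
import Cfsg.Agent.H5.StemTC
import Cfsg.Agent.Lib.Helper5.Sp62Data
import Cfsg.Agent.Lib.Helper4.TC.BitMat
import Cfsg.Agent.Lib.Helper9.SpGenD

/-!
# S2093-[B] (helper5's Sp6(2) front): the three matrices over `ZMod 2`, their relators and generation
-/

set_option autoImplicit false
set_option maxRecDepth 100000

namespace Cfsg.Agent.Lib.Helper5.Sp62.Helper17

open Cfsg.Agent.Helper4.TC hiding gl ev
open Cfsg.H5.TCk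

/-- the index type of the matrices -/
abbrev K6 : Type := Fin 3 ⊕ Fin 3

/-- the numbering: bit `i` = `Sum.inl i`, bit `3 + i` = `Sum.inr i` -/
def eps : K6 ≃ Fin 6 := finSumFinEquiv

/-- `Sp₆(2)` -/
abbrev SP : Type := Matrix.symplecticGroup (Fin 3) (ZMod 2)

/-- the bit matrices of the six letters `a, a⁻¹, b, b⁻¹, w, w⁻¹` -/
def lB : ℕ → BitMat 6
  | 0 => ⟨colsA⟩
  | 1 => ⟨[38, 22, 1, 18, 36, 8]⟩
  | 2 => ⟨colsB⟩
  | 3 => ⟨[6, 12, 57, 26, 3, 4]⟩
  | 4 => ⟨colsW⟩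
  | 5 => ⟨[25, 14, 62, 17, 20, 58]⟩
  | _ => BitMat.one

theorem lB_len : ∀ l, (lB l).c.length = 6
  | 0 => rfl
  | 1 => rfl
  | 2 => rfl
  | 3 => rfl
  | 4 => rfl
  | 5 => rfl
  | (_ + 6) => BitMat.length_one

/-- the matrices of the letters -/
def lM (l : ℕ) : Matrix K6 K6 (ZMod 2) := (lB l).toMatE eps

theorem lM_mem : ∀ l : Fin 6, lM l.val ∈ Matrix.symplecticGroup (Fin 3) (ZMod 2) := by
  intro l
  rw [SymplecticGroup.mem_iff]
  revert l
  decide +kernel

/-- the three generators in `Sp₆(2)` -/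
def gS : ℕ → SP
  | 0 => ⟨lM 0, lM_mem 0⟩
  | 1 => ⟨lM 2, lM_mem 2⟩
  | 2 => ⟨lM 4, lM_mem 4⟩
  | _ => 1

/-- the six letters in `Sp₆(2)` -/
def lS (l : Fin 6) : SP := ⟨lM l.val, lM_mem l⟩

theorem lM_mul (l l' : ℕ) : lM l * lM l' = ((lB l).mul (lB l')).toMatE eps :=
  (BitMat.toMatE_mul eps _ _ (lB_len l)).symm

theorem inv_chk : (lB 0).mul (lB 1) = BitMat.one ∧ (lB 2).mul (lB 3) = BitMat.one ∧
    (lB 4).mul (lB 5) = BitMat.one := by decide +kernel

theorem lS_mul_one (l l' : Fin 6) (h : (lB l.val).mul (lB l'.val) = BitMat.one) :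
    lS l * lS l' = 1 := by
  apply Subtype.ext
  show lM l.val * lM l'.val = 1
  rw [lM_mul, h, BitMat.toMatE_one]

theorem gl_gS : ∀ l : Fin 6, gl gS l.val = lS l := by
  intro l
  fin_cases l
  · rfl
  · exact inv_eq_of_mul_eq_one_right (lS_mul_one 0 1 inv_chk.1)
  · rfl
  · exact inv_eq_of_mul_eq_one_right (lS_mul_one 2 3 inv_chk.2.1)
  · rfl
  · exact inv_eq_of_mul_eq_one_right (lS_mul_one 4 5 inv_chk.2.2)

theorem coe_gl {l : ℕ} (hl : l < 6) : ((gl gS l : SP) : Matrix K6 K6 (ZMod 2)) = lM l := by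
  rw [gl_gS ⟨l, hl⟩]
  rfl

theorem coe_ev (w : List ℕ) (hw : ∀ l ∈ w, l < 6) :
    ((ev gS w : SP) : Matrix K6 K6 (ZMod 2)) = (BitMat.prodB (w.map lB)).toMatE eps := by
  induction w with
  | nil => exact (BitMat.toMatE_one eps).symm
  | cons l w ih =>
    have h1 := coe_gl (hw l List.mem_cons_self)
    have h2 := ih fun l' hl' => hw l' (List.mem_cons_of_mem _ hl')
    show ((gl gS l : SP) : Matrix K6 K6 (ZMod 2)) * ((ev gS w : SP) : Matrix K6 K6 (ZMod 2)) = _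
    rw [h1, h2, List.map_cons]
    exact (BitMat.toMatE_mul eps _ _ (lB_len l)).symm

/-! ### the relators -/

theorem rels_chk : ((relsK ++ [wordZ]).all fun r =>
    r.all (fun l => decide (l < 6)) &&
      decide (BitMat.prodB (r.map lB) = (BitMat.one : BitMat 6))) = true := by decide +kernel

theorem ev_eq_one_of_mem {r : List ℕ} (hr : r ∈ relsK ++ [wordZ]) : ev gS r = 1 := by
  have h := List.all_eq_true.mp rels_chk r hr
  rw [Bool.and_eq_true, List.all_eq_true, decide_eq_true_eq] at h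
  apply Subtype.ext
  rw [coe_ev r fun l hl => of_decide_eq_true (h.1 l hl), h.2, BitMat.toMatE_one]
  rfl

/-! ### generation -/

open Cfsg.Agent.Lib.Helper9 in
theorem closure_gS : Subgroup.closure (Set.range fun i : Fin 3 => gS i.val) = ⊤ := by
  set L := Subgroup.closure (Set.range fun i : Fin 3 => gS i.val) with hL
  have hmem : ∀ i < 3, gS i ∈ L := fun i hi => Subgroup.subset_closure ⟨⟨i, hi⟩, rfl⟩
  have hev : ∀ w : List ℕ, w.all (fun l => decide (l < 2 * 3)) = true → ev gS w ∈ L :=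
    fun w hw => Cfsg.H5.StemTC.ev_mem gS L 3 hmem w hw
  have hcox : SpGen.cox 2 (ZMod 2) ∈ L := by
    have : ev gS wordCox = SpGen.cox 2 (ZMod 2) := by
      apply Subtype.ext
      rw [coe_ev _ (by decide)]
      decide +kernel
    rw [← this]
    exact hev _ (by decide)
  have hT : ∀ t : ZMod 2, SpGen.T (SpGen.e 0 : Fin 3 ⊕ Fin 3 → ZMod 2) t ∈ L := by
    intro t
    rcases (by decide : ∀ t : ZMod 2, t = 0 ∨ t = 1) t with rfl | rfl
    · rw [SpGen.T_zero]
      exact L.one_mem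
    · have : ev gS wordT = SpGen.T (SpGen.e 0 : Fin 3 ⊕ Fin 3 → ZMod 2) 1 := by
        apply Subtype.ext
        rw [coe_ev _ (by decide)]
        show _ = Cfsg.sympTransvection 3 (SpGen.e 0 : Fin 3 ⊕ Fin 3 → ZMod 2) 1
        decide +kernel
      rw [← this]
      exact hev _ (by decide)
  have hge : SpGen.act (ev gS wordG) (SpGen.e 1 : Fin 3 ⊕ Fin 3 → ZMod 2) =
      (SpGen.e 1 : Fin 3 ⊕ Fin 3 → ZMod 2) + (1 : ZMod 2) • (SpGen.e 0 : Fin 3 ⊕ Fin 3 → ZMod 2) := by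
    rw [SpGen.act_def, coe_ev _ (by decide)]
    decide +kernel
  exact SpGen.final (n := 1) L hcox hT (ev gS wordG) (hev _ (by decide)) 1 one_ne_zero hge

end Cfsg.Agent.Lib.Helper5.Sp62.Helper17
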