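import Mathlib
import Cfsg.Prelude.Def_KGroupFacts
import Cfsg.Prelude.Def_Classical
import Cfsg.Agent.H5.TCkSound
import Cfsg.Agent.H5.StemTC
import Cfsg.Agent.Lib.Helper5.Sp62Data
import Cfsg.Agent.Lib.Helper2.Sp4Two
import Cfsg.Agent.Lib.Helper2.SympCenter
import Cfsg.Agent.Lib.Helper15.SympOrder
import Cfsg.Agent.Lib.Helper17.Sp62BMat

/-!
# S2093-[B] (helper5's Sp6(2) front): THE BRIDGE - the three matrices in `PSp₆(F)`, `|F| = 2`
-/

set_option autoImplicit false

namespace Cfsg.Agent.Lib.Helper5.Sp62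

open Cfsg Cfsg.H5.TCk

universe u

namespace Helper17

theorem card_PSp62 {F : Type u} [Field F] [Fintype F] (hF : Fintype.card F = 2) :
    Nat.card (Cfsg.PSp 3 F) = 1451520 := by
  have h1 := Cfsg.Agent.Lib.Helper15.card_symplecticGroup (F := F) 3
  rw [hF] at h1
  have h2 := Cfsg.Agent.Lib.Helper2.card_center_symplecticGroup (m := 3) (F := F) (by norm_num)
  rw [hF] at h2
  have h3 := Subgroup.card_eq_card_quotient_mul_card_subgroup
    (Subgroup.center (Matrix.symplecticGroup (Fin 3) F))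
  rw [h1, h2] at h3
  have h4 : Nat.card (Cfsg.PSp 3 F) =
      Nat.card (Matrix.symplecticGroup (Fin 3) F ⧸
        Subgroup.center (Matrix.symplecticGroup (Fin 3) F)) := rfl
  rw [h4]
  norm_num [Finset.prod_range_succ] at h3
  omega

end Helper17

open Helper17 in
/-- [B] the bridge: the three matrices in `PSp₆(F)`, `|F| = 2` -/
theorem exists_triple {F : Type u} [Field F] [Fintype F] (hF : Fintype.card F = 2) :
    ∃ g : ℕ → Cfsg.PSp 3 F, IsSp62Triple g := by
  let φ : SP ≃* Matrix.symplecticGroup (Fin 3) F :=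
    Cfsg.Agent.Lib.Helper2.sympCongr (l := Fin 3) (ZMod.ringEquivOfPrime F Nat.prime_two hF)
  let π : Matrix.symplecticGroup (Fin 3) F →* Cfsg.PSp 3 F := QuotientGroup.mk' _
  let ψ : SP →* Cfsg.PSp 3 F := π.comp φ.toMonoidHom
  have hψ : Function.Surjective ψ :=
    (QuotientGroup.mk'_surjective _).comp φ.surjective
  have hev : ∀ w : List ℕ, ev (fun i => ψ (gS i)) w = ψ (ev gS w) :=
    fun w => (Cfsg.H5.StemTC.map_ev ψ gS w).symm
  refine ⟨fun i => ψ (gS i), card_PSp62 hF, ?_, ?_, ?_⟩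
  · have hs : (Set.range fun i : Fin 3 => ψ (gS i.val)) =
        ψ '' (Set.range fun i : Fin 3 => gS i.val) := by
      rw [← Set.range_comp]; rfl
    rw [hs, ← MonoidHom.map_closure, closure_gS, ← MonoidHom.range_eq_map,
      MonoidHom.range_eq_top]
    exact hψ
  · intro r hr
    rw [hev, ev_eq_one_of_mem (List.mem_append_left _ hr), map_one]
  · rw [hev, ev_eq_one_of_mem (List.mem_append_right _ List.mem_cons_self), map_one]

end Cfsg.Agent.Lib.Helper5.Sp62
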