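import Mathlib
import Cfsg.Agent.Lib.Helper17.ExtFDefs

/-!
# S5664 (extension-field subgroups `Sp_{n/r}(q^r) < Sp_n(q)`): basic definitions

Instance-free vocabulary on top of `ExtFDefs`.  `B` is an abstract alternating `F`-bilinear form on `Fin n → F`,
`β` the `L`-valued `L`-bilinear alternating form with `B = τ ∘ β`.
-/

set_option autoImplicit false

namespace Cfsg.Agent.Lib.Helper17.SpExt

open Matrix Cfsg.Agent.Lib.Helper17.ExtF

variable {F : Type*} [Field F] {L : Type*} [Field L] [Algebra F L] {n : ℕ}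

/-- `g` is an isometry of `B` -/
def Isom (B : LinearMap.BilinForm F (Fin n → F)) (g : GL (Fin n) F) : Prop :=
  ∀ u v, B (act g u) (act g v) = B u v

/-- `g` centralises the embedded field (`g` is `L`-linear) -/
def Cent (ρ : L →ₐ[F] Matrix (Fin n) (Fin n) F) (g : GL (Fin n) F) : Prop :=
  ∀ a : L, (g : Matrix (Fin n) (Fin n) F) * ρ a = ρ a * (g : Matrix (Fin n) (Fin n) F)

/-- the data: `B = τ ∘ β` with `β` an `L`-bilinear alternating form, `B` non-degenerate -/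
structure SpD (ρ : L →ₐ[F] Matrix (Fin n) (Fin n) F) (B : LinearMap.BilinForm F (Fin n → F))
    (τ : L →ₗ[F] F) (β : (Fin n → F) →ₗ[F] (Fin n → F) →ₗ[F] L) : Prop where
  tau_ne : τ ≠ 0
  tr : ∀ u v, τ (β u v) = B u v
  left : ∀ a u v, β (ρ a *ᵥ u) v = a * β u v
  right : ∀ a u v, β u (ρ a *ᵥ v) = a * β u v
  alt : ∀ u, β u u = 0
  nondeg : ∀ u, (∀ v, B u v = 0) → u = 0

/-- `M` contains every `L`-linear isometry -/
def HasSpL (ρ : L →ₐ[F] Matrix (Fin n) (Fin n) F) (B : LinearMap.BilinForm F (Fin n → F))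
    (M : Subgroup (GL (Fin n) F)) : Prop :=
  ∀ g : GL (Fin n) F, Isom B g → Cent ρ g → g ∈ M

/-- `M` contains the `F`-transvection `v ↦ v + s B(v,u) u` -/
def TvB (B : LinearMap.BilinForm F (Fin n → F)) (M : Subgroup (GL (Fin n) F)) (u : Fin n → F)
    (s : F) : Prop :=
  ∀ t : GL (Fin n) F, (∀ v, act t v = v + (s * B v u) • u) → t ∈ M

/-- `M` contains all `F`-transvections with centre `u` -/
def AllTv (B : LinearMap.BilinForm F (Fin n → F)) (M : Subgroup (GL (Fin n) F))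
    (u : Fin n → F) : Prop :=
  ∀ s : F, TvB B M u s

/-- the `M`-images of `L`-points -/
def Spr (ρ : L →ₐ[F] Matrix (Fin n) (Fin n) F) (M : Subgroup (GL (Fin n) F)) :
    Set (Submodule F (Fin n → F)) :=
  {Q | ∃ h ∈ M, ∃ u : Fin n → F, u ≠ 0 ∧ Q = (pt ρ u).map (actL h)}

/-- the functional `v ↦ β v e` -/
def bet (β : (Fin n → F) →ₗ[F] (Fin n → F) →ₗ[F] L) (e : Fin n → F) : (Fin n → F) →ₗ[F] L :=
  β.flip e

@[simp] lemma bet_apply (β : (Fin n → F) →ₗ[F] (Fin n → F) →ₗ[F] L) (e v : Fin n → F) :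
    bet β e v = β v e := rfl

/-- `M` contains the product `T(a) T(c)` of the two transvections `v ↦ v + B(v,a) a`, `v ↦ v + B(v,c) c`
(used for `|F| = 2` only) -/
def PairIn (B : LinearMap.BilinForm F (Fin n → F)) (M : Subgroup (GL (Fin n) F))
    (a c : Fin n → F) : Prop :=
  ∀ t₁ t₂ : GL (Fin n) F, (∀ v, act t₁ v = v + B v a • a) → (∀ v, act t₂ v = v + B v c • c) →
    t₁ * t₂ ∈ M

section basic
variable {ρ : L →ₐ[F] Matrix (Fin n) (Fin n) F} {B : LinearMap.BilinForm F (Fin n → F)}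
  {τ : L →ₗ[F] F} {β : (Fin n → F) →ₗ[F] (Fin n → F) →ₗ[F] L}

lemma SpD.skew (D : SpD ρ B τ β) (u v : Fin n → F) : β u v = -β v u := by
  have h := D.alt (u + v)
  simp only [map_add, LinearMap.add_apply, D.alt, zero_add, add_zero] at h
  exact eq_neg_of_add_eq_zero_left ((add_comm _ _).trans h)

lemma SpD.B_alt (D : SpD ρ B τ β) (u : Fin n → F) : B u u = 0 := by
  rw [← D.tr, D.alt, map_zero]

lemma SpD.B_skew (D : SpD ρ B τ β) (u v : Fin n → F) : B u v = -B v u := by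
  rw [← D.tr, ← D.tr, D.skew, map_neg]

lemma SpD.lin_bet (D : SpD ρ B τ β) (e : Fin n → F) : Lin ρ (bet β e) := by
  intro a v
  rw [bet_apply, bet_apply, D.left]

/-- `τ (c x) = 0` for all `c` forces `x = 0` -/
lemma SpD.eq_zero_of_tau (D : SpD ρ B τ β) (x : L) (h : ∀ c : L, τ (c * x) = 0) : x = 0 := by
  by_contra hx
  apply D.tau_ne
  ext y
  have := h (y * x⁻¹)
  rw [mul_assoc, inv_mul_cancel₀ hx, mul_one] at this
  rw [this, LinearMap.zero_apply]

lemma SpD.B_smul_right (D : SpD ρ B τ β) (c : L) (u v : Fin n → F) :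
    B u (ρ c *ᵥ v) = τ (c * β u v) := by
  rw [← D.tr, D.right]

lemma SpD.B_smul_left (D : SpD ρ B τ β) (c : L) (u v : Fin n → F) :
    B (ρ c *ᵥ u) v = τ (c * β u v) := by
  rw [← D.tr, D.left]

/-- `β` is non-degenerate -/
lemma SpD.beta_nondeg (D : SpD ρ B τ β) (u : Fin n → F) (h : ∀ v, β u v = 0) : u = 0 :=
  D.nondeg u fun v => by rw [← D.tr, h, map_zero]

/-- `L`-points are totally isotropic -/
lemma SpD.beta_pt (D : SpD ρ B τ β) (v : Fin n → F) (a b : L) :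
    β (ρ a *ᵥ v) (ρ b *ᵥ v) = 0 := by
  rw [D.left, D.right, D.alt, mul_zero, mul_zero]

/-- an `L`-linear `B`-isometry is a `β`-isometry -/
lemma SpD.beta_isom (D : SpD ρ B τ β) (h : GL (Fin n) F) (hI : Isom B h) (hC : Cent ρ h)
    (u v : Fin n → F) : β (act h u) (act h v) = β u v := by
  have key : ∀ c : L, τ (c * (β (act h u) (act h v) - β u v)) = 0 := by
    intro c
    rw [mul_sub, map_sub, ← D.B_smul_left, ← D.B_smul_left]
    have : ρ c *ᵥ act h u = act h (ρ c *ᵥ u) := by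
      unfold act
      rw [Matrix.mulVec_mulVec, Matrix.mulVec_mulVec, hC c]
    rw [this, hI, sub_self]
  exact sub_eq_zero.1 (D.eq_zero_of_tau _ key)

lemma Isom.mul {g h : GL (Fin n) F} (hg : Isom B g) (hh : Isom B h) : Isom B (g * h) := by
  intro u v
  rw [act_mul, act_mul, hg, hh]

lemma Isom.one : Isom B (1 : GL (Fin n) F) := by
  intro u v
  rw [act_one, act_one]

lemma Isom.inv {g : GL (Fin n) F} (hg : Isom B g) : Isom B g⁻¹ := by
  intro u v
  rw [← hg (act g⁻¹ u) (act g⁻¹ v), act_act_inv, act_act_inv]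

/-- `B (g⁻¹ u) v = B u (g v)` for an isometry -/
lemma Isom.inv_left {g : GL (Fin n) F} (hg : Isom B g) (u v : Fin n → F) :
    B (act g⁻¹ u) v = B u (act g v) := by
  rw [← hg (act g⁻¹ u) v, act_act_inv]

lemma Cent.mul {g h : GL (Fin n) F} (hg : Cent ρ g) (hh : Cent ρ h) : Cent ρ (g * h) := by
  intro a
  rw [Units.val_mul, Matrix.mul_assoc, hh a, ← Matrix.mul_assoc, hg a, Matrix.mul_assoc]

lemma Cent.act {g : GL (Fin n) F} (hg : Cent ρ g) (a : L) (v : Fin n → F) :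
    act g (ρ a *ᵥ v) = ρ a *ᵥ act g v := by
  unfold ExtF.act
  rw [Matrix.mulVec_mulVec, Matrix.mulVec_mulVec, hg a]

lemma Cent.normalizes {g : GL (Fin n) F} (hg : Cent ρ g) : Normalizes ρ g :=
  fun a => ⟨a, hg a⟩

lemma pt_mem_Spr (M : Subgroup (GL (Fin n) F)) {v : Fin n → F} (hv : v ≠ 0) :
    pt ρ v ∈ Spr ρ M := by
  refine ⟨1, M.one_mem, v, hv, ?_⟩
  ext x
  simp [actL]

lemma Spr.map {M : Subgroup (GL (Fin n) F)} {Q : Submodule F (Fin n → F)} (hQ : Q ∈ Spr ρ M)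
    {h : GL (Fin n) F} (hh : h ∈ M) : Q.map (actL h) ∈ Spr ρ M := by
  obtain ⟨h', hh', u, hu, rfl⟩ := hQ
  refine ⟨h * h', M.mul_mem hh hh', u, hu, ?_⟩
  ext x
  simp only [Submodule.mem_map, actL_apply, act_mul]
  constructor
  · rintro ⟨y, ⟨z, hz, rfl⟩, rfl⟩
    exact ⟨z, hz, rfl⟩
  · rintro ⟨z, hz, rfl⟩
    exact ⟨_, ⟨z, hz, rfl⟩, rfl⟩

end basic

end Cfsg.Agent.Lib.Helper17.SpExt
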