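import Mathlib
import Cfsg.Agent.Lib.Helper20.Baer

set_option autoImplicit false

namespace Cfsg.Agent.Lib.Helper17

open Subgroup
open scoped commutatorElement Pointwise

/-- If a finite group acts freely on a finite set, its order divides the size of the set. -/
theorem card_dvd_of_free_action {B α : Type*} [Group B] [MulAction B α] [Finite B] [Finite α]
    (h : ∀ (b : B) (a : α), b • a = a → b = 1) : Nat.card B ∣ Nat.card α := by
  classical
  have e := MulAction.selfEquivSigmaOrbitsQuotientStabilizer B α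
  have : Fintype (Quotient (MulAction.orbitRel B α)) := Fintype.ofFinite _
  rw [Nat.card_congr e, Nat.card_sigma]
  apply Finset.dvd_sum
  intro ω _
  have hst : MulAction.stabilizer B (Quotient.out ω) = ⊥ := by
    rw [Subgroup.eq_bot_iff_forall]
    intro b hb
    exact h b _ (MulAction.mem_stabilizer_iff.mp hb)
  rw [hst, ← Subgroup.index_eq_card, Subgroup.index_bot]

/-- A proper inclusion of finite subgroups at least doubles the order. -/
theorem two_mul_card_le_of_lt {K : Type*} [Group K] [Finite K] {H H' : Subgroup K} (h : H < H') :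
    2 * Nat.card H ≤ Nat.card H' := by
  obtain ⟨k, hk⟩ := Subgroup.card_dvd_of_le h.le
  have hpos : 0 < Nat.card H := Nat.card_pos
  have hpos' : 0 < Nat.card H' := Nat.card_pos
  have hne : Nat.card H ≠ Nat.card H' := by
    intro heq
    exact h.ne (Subgroup.eq_of_le_of_card_ge h.le heq.ge)
  rcases k with _ | _ | k
  · rw [hk] at hpos'; simp at hpos'
  · rw [hk] at hne; simp at hne
  · rw [hk]; nlinarith

/-- Adjoining to a normal subgroup an element whose square lies in it at most doubles the order. -/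
theorem card_sup_zpowers_le {K : Type*} [Group K] [Finite K] (H : Subgroup K) [H.Normal] (e : K)
    (he : e ^ 2 ∈ H) : Nat.card ↥(H ⊔ zpowers e) ≤ 2 * Nat.card H := by
  classical
  have hsub : ((H ⊔ zpowers e : Subgroup K) : Set K) ⊆
      (H : Set K) ∪ (fun h => h * e) '' (H : Set K) := by
    intro y hy
    rw [Subgroup.normal_mul] at hy
    obtain ⟨h, hh, z, hz, rfl⟩ := hy
    obtain ⟨k, rfl⟩ := hz
    rcases Int.even_or_odd' k with ⟨j, rfl | rfl⟩
    · left
      have : e ^ (2 * j) = (e ^ 2) ^ j := by rw [← zpow_natCast, ← zpow_mul]; norm_num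
      show h * e ^ (2 * j) ∈ H
      rw [this]
      exact H.mul_mem hh (H.zpow_mem he j)
    · right
      refine ⟨h * (e ^ 2) ^ j, H.mul_mem hh (H.zpow_mem he j), ?_⟩
      have : e ^ (2 * j + 1) = (e ^ 2) ^ j * e := by
        rw [zpow_add, zpow_one, ← zpow_natCast e 2, ← zpow_mul]; norm_num
      show h * (e ^ 2) ^ j * e = h * e ^ (2 * j + 1)
      rw [this, mul_assoc]
  have h1 : Nat.card ↥(H ⊔ zpowers e) = ((H ⊔ zpowers e : Subgroup K) : Set K).ncard :=
    (Nat.card_coe_set_eq _)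
  have h2 : Nat.card ↥H = (H : Set K).ncard := (Nat.card_coe_set_eq _)
  rw [h1, h2]
  calc ((H ⊔ zpowers e : Subgroup K) : Set K).ncard
      ≤ ((H : Set K) ∪ (fun h => h * e) '' (H : Set K)).ncard :=
        Set.ncard_le_ncard hsub (Set.toFinite _)
    _ ≤ (H : Set K).ncard + ((fun h => h * e) '' (H : Set K)).ncard := Set.ncard_union_le _ _
    _ ≤ (H : Set K).ncard + (H : Set K).ncard :=
        Nat.add_le_add_left (Set.ncard_image_le (Set.toFinite _)) _
    _ = 2 * (H : Set K).ncard := by ring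

/-- In a finite 2-group of class two with elementary abelian centre of order at most 4, containing all
squares, and of index at least 64, there is an elementary abelian subgroup of order at least 8. -/
theorem exists_elemAb_card_ge_eight {K : Type*} [Group K] [Finite K]
    (hc : ∀ x y z : K, ⁅x, y⁆ * z = z * ⁅x, y⁆)
    (hsq : ∀ x : K, x ^ 2 ∈ center K)
    (hZ2 : ∀ z ∈ center K, z ^ 2 = 1)
    (hZ4 : Nat.card (center K) ≤ 4)
    (hcard : 64 * Nat.card (center K) ≤ Nat.card K) :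
    ∃ E : Subgroup K, IsMulCommutative E ∧ (∀ a ∈ E, a ^ 2 = 1) ∧ 8 ≤ Nat.card E := by
  classical
  have hcomm_mem : ∀ x y : K, ⁅x, y⁆ ∈ center K := by
    intro x y
    rw [Subgroup.mem_center_iff]
    intro z
    exact (hc x y z).symm
  have hZpos : 0 < Nat.card (center K) := Nat.card_pos
  have hnormal : ∀ H : Subgroup K, center K ≤ H → H.Normal := by
    intro H hH
    constructor
    intro h hh y
    have : y * h * y⁻¹ = ⁅y, h⁆ * h := by simp [commutatorElement_def]
    rw [this]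
    exact H.mul_mem (hH (hcomm_mem y h)) hh
  have hinv : ∀ z ∈ center K, z⁻¹ = z := by
    intro z hz
    have := hZ2 z hz
    rw [pow_two] at this
    exact inv_eq_of_mul_eq_one_left this
  -- an element outside the centre
  obtain ⟨x, hx⟩ : ∃ x : K, x ∉ center K := by
    by_contra hall
    push Not at hall
    have h1 : center K = ⊤ := eq_top_iff.mpr (fun y _ => hall y)
    have h2 : Nat.card (center K) = Nat.card K := by rw [h1]; exact Subgroup.card_top
    omega
  -- the commutator homomorphism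
  let φ : K →* center K := MonoidHom.mk' (fun y => ⟨⁅x, y⁆, hcomm_mem x y⟩) (by
    intro a b
    apply Subtype.ext
    exact Cfsg.Agent.Lib.Helper20.comm_mul_right hc x a b)
  have hker : φ.ker = centralizer ({x} : Set K) := by
    ext y
    rw [MonoidHom.mem_ker, Subgroup.mem_centralizer_singleton_iff]
    constructor
    · intro h
      have h' : ⁅x, y⁆ = 1 := congrArg Subtype.val h
      exact (commutatorElement_eq_one_iff_mul_comm.mp h').symm
    · intro h
      apply Subtype.ext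
      exact commutatorElement_eq_one_iff_mul_comm.mpr h.symm
  obtain ⟨C₁, hC₁def⟩ : ∃ C : Subgroup K, C = centralizer ({x} : Set K) := ⟨_, rfl⟩
  have hC₁mem : ∀ y, y ∈ C₁ ↔ x * y = y * x := by
    intro y; rw [hC₁def, Subgroup.mem_centralizer_singleton_iff, eq_comm]
  have hC₁ : 16 * Nat.card (center K) ≤ Nat.card C₁ := by
    have h1 := φ.ker.card_mul_index
    have h2 : φ.ker.index ≤ Nat.card (center K) := by
      rw [Subgroup.index_ker]; exact Subgroup.card_le_card_group _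
    rw [hker, ← hC₁def] at h1 h2
    have h3 : Nat.card K ≤ Nat.card C₁ * 4 := by
      rw [← h1]; exact Nat.mul_le_mul_left _ (h2.trans hZ4)
    omega
  -- the chain A₁ ≤ A₂ ≤ A₃
  obtain ⟨A₁, hA₁def⟩ : ∃ A : Subgroup K, A = center K ⊔ zpowers x := ⟨_, rfl⟩
  have hZA₁ : center K ≤ A₁ := hA₁def ▸ le_sup_left
  have hxA₁ : x ∈ A₁ := hA₁def ▸ (le_sup_right : zpowers x ≤ _) (mem_zpowers x)
  have hA₁card : Nat.card A₁ ≤ 2 * Nat.card (center K) := by
    rw [hA₁def]; exact card_sup_zpowers_le (center K) x (hsq x)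
  have hA₁C₁ : A₁ ≤ C₁ := by
    rw [hA₁def]
    refine sup_le ?_ ?_
    · intro z hz
      rw [hC₁mem]
      exact (Subgroup.mem_center_iff.mp hz x)
    · rw [zpowers_le, hC₁mem]
  have hA₁n : A₁.Normal := hnormal A₁ hZA₁
  obtain ⟨e₁, he₁C, he₁A⟩ : ∃ e ∈ C₁, e ∉ A₁ := by
    by_contra hall
    push Not at hall
    have := Subgroup.card_le_of_le (show C₁ ≤ A₁ from hall)
    omega
  obtain ⟨A₂, hA₂def⟩ : ∃ A : Subgroup K, A = A₁ ⊔ zpowers e₁ := ⟨_, rfl⟩
  have hA₁A₂ : A₁ ≤ A₂ := hA₂def ▸ le_sup_left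
  have he₁A₂ : e₁ ∈ A₂ := hA₂def ▸ (le_sup_right : zpowers e₁ ≤ _) (mem_zpowers e₁)
  have hA₂card : Nat.card A₂ ≤ 2 * Nat.card A₁ := by
    rw [hA₂def]; exact card_sup_zpowers_le A₁ e₁ (hZA₁ (hsq e₁))
  have hA₂n : A₂.Normal := hnormal A₂ (hZA₁.trans hA₁A₂)
  obtain ⟨e₂, he₂C, he₂A⟩ : ∃ e ∈ C₁, e ∉ A₂ := by
    by_contra hall
    push Not at hall
    have := Subgroup.card_le_of_le (show C₁ ≤ A₂ from hall)
    omega
  obtain ⟨A₃, hA₃def⟩ : ∃ A : Subgroup K, A = A₂ ⊔ zpowers e₂ := ⟨_, rfl⟩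
  have hA₂A₃ : A₂ ≤ A₃ := hA₃def ▸ le_sup_left
  have he₂A₃ : e₂ ∈ A₃ := hA₃def ▸ (le_sup_right : zpowers e₂ ≤ _) (mem_zpowers e₂)
  have hA₃card : Nat.card A₃ ≤ 2 * Nat.card A₂ := by
    rw [hA₃def]; exact card_sup_zpowers_le A₂ e₂ (hZA₁.trans hA₁A₂ (hsq e₂))
  obtain ⟨e₃, he₃C, he₃A⟩ : ∃ e ∈ C₁, e ∉ A₃ := by
    by_contra hall
    push Not at hall
    have := Subgroup.card_le_of_le (show C₁ ≤ A₃ from hall)
    omega
  have he₁A₃ : e₁ ∈ A₃ := hA₂A₃ he₁A₂
  -- the key: a commuting pair independent modulo A₁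
  have hkey : ∃ y₁ ∈ C₁, ∃ y₂ ∈ C₁, y₁ * y₂ = y₂ * y₁ ∧ y₁ ∉ A₁ ∧ y₂ ∉ A₁ ⊔ zpowers y₁ := by
    have hbl := Cfsg.Agent.Lib.Helper20.comm_mul_left hc
    have hbr := Cfsg.Agent.Lib.Helper20.comm_mul_right hc
    have ha2 : ∀ u v : K, ⁅u, v⁆ * ⁅u, v⁆ = 1 := by
      intro u v
      have := hZ2 _ (hcomm_mem u v)
      rwa [pow_two] at this
    by_cases ha : ⁅e₁, e₂⁆ = 1
    · refine ⟨e₁, he₁C, e₂, he₂C, commutatorElement_eq_one_iff_mul_comm.mp ha, he₁A, ?_⟩
      rw [← hA₂def]; exact he₂A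
    by_cases hb : ⁅e₁, e₃⁆ = 1
    · refine ⟨e₁, he₁C, e₃, he₃C, commutatorElement_eq_one_iff_mul_comm.mp hb, he₁A, ?_⟩
      rw [← hA₂def]; exact fun h => he₃A (hA₂A₃ h)
    by_cases hcc : ⁅e₂, e₃⁆ = 1
    · refine ⟨e₂, he₂C, e₃, he₃C, commutatorElement_eq_one_iff_mul_comm.mp hcc,
        fun h => he₂A (hA₁A₂ h), ?_⟩
      intro h
      apply he₃A
      have hle : A₁ ⊔ zpowers e₂ ≤ A₃ :=
        sup_le (hA₁A₂.trans hA₂A₃) (zpowers_le.mpr he₂A₃)
      exact hle h
    by_cases hab : ⁅e₁, e₂⁆ = ⁅e₁, e₃⁆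
    · -- the pair (e₁, e₂ e₃)
      refine ⟨e₁, he₁C, e₂ * e₃, C₁.mul_mem he₂C he₃C, ?_, he₁A, ?_⟩
      · apply commutatorElement_eq_one_iff_mul_comm.mp
        rw [hbr, ← hab]; exact ha2 _ _
      · rw [← hA₂def]
        intro h
        apply he₃A
        have h1 : e₂⁻¹ * (e₂ * e₃) ∈ A₃ := A₃.mul_mem (A₃.inv_mem he₂A₃) (hA₂A₃ h)
        simpa using h1
    by_cases hac : ⁅e₁, e₂⁆ = ⁅e₂, e₃⁆
    · -- the pair (e₂, e₁ e₃)
      refine ⟨e₂, he₂C, e₁ * e₃, C₁.mul_mem he₁C he₃C, ?_, fun h => he₂A (hA₁A₂ h), ?_⟩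
      · apply commutatorElement_eq_one_iff_mul_comm.mp
        rw [hbr, ← hac, ← commutatorElement_inv e₁ e₂]
        exact inv_mul_cancel _
      · intro h
        apply he₃A
        have hle : A₁ ⊔ zpowers e₂ ≤ A₃ :=
          sup_le (hA₁A₂.trans hA₂A₃) (zpowers_le.mpr he₂A₃)
        have h1 : e₁⁻¹ * (e₁ * e₃) ∈ A₃ := A₃.mul_mem (A₃.inv_mem he₁A₃) (hle h)
        simpa using h1
    by_cases hbc : ⁅e₁, e₃⁆ = ⁅e₂, e₃⁆
    · -- the pair (e₁ e₂, e₃)
      refine ⟨e₁ * e₂, C₁.mul_mem he₁C he₂C, e₃, he₃C, ?_, ?_, ?_⟩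
      · apply commutatorElement_eq_one_iff_mul_comm.mp
        rw [hbl, hbc]; exact ha2 _ _
      · intro h
        apply he₂A
        have h1 : e₁⁻¹ * (e₁ * e₂) ∈ A₂ := A₂.mul_mem (A₂.inv_mem he₁A₂) (hA₁A₂ h)
        simpa using h1
      · intro h
        apply he₃A
        have hle : A₁ ⊔ zpowers (e₁ * e₂) ≤ A₃ :=
          sup_le (hA₁A₂.trans hA₂A₃) (zpowers_le.mpr (A₃.mul_mem he₁A₃ he₂A₃))
        exact hle h
    · -- three distinct involutions of the centre: their product is trivial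
      have hprod : ⁅e₁, e₂⁆ * ⁅e₁, e₃⁆ = ⁅e₂, e₃⁆ := by
        by_contra hne
        set a : center K := ⟨⁅e₁, e₂⁆, hcomm_mem _ _⟩ with hadef
        set b : center K := ⟨⁅e₁, e₃⁆, hcomm_mem _ _⟩ with hbdef
        set c : center K := ⟨⁅e₂, e₃⁆, hcomm_mem _ _⟩ with hcdef
        have ha1 : a ≠ 1 := fun h => ha (congrArg Subtype.val h)
        have hb1 : b ≠ 1 := fun h => hb (congrArg Subtype.val h)
        have hc1 : c ≠ 1 := fun h => hcc (congrArg Subtype.val h)
        have hab' : a ≠ b := fun h => hab (congrArg Subtype.val h)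
        have hac' : a ≠ c := fun h => hac (congrArg Subtype.val h)
        have hbc' : b ≠ c := fun h => hbc (congrArg Subtype.val h)
        have habc : a * b ≠ c := fun h => hne (congrArg Subtype.val h)
        have hbb : b * b = 1 := Subtype.ext (ha2 e₁ e₃)
        have haa : a * a = 1 := Subtype.ext (ha2 e₁ e₂)
        have hab1 : a * b ≠ 1 := by
          intro h
          apply hab'
          have : a * b * b = b := by rw [h, one_mul]
          rwa [mul_assoc, hbb, mul_one] at this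
        have haba : a * b ≠ a := by
          intro h
          apply hb1
          have : a * (a * b) = a * a := by rw [h]
          rwa [← mul_assoc, haa, one_mul] at this
        have habb : a * b ≠ b := by
          intro h
          apply ha1
          have : a * b * b = b * b := by rw [h]
          rwa [mul_assoc, hbb, mul_one] at this
        have hfin : Fintype (center K) := Fintype.ofFinite _
        have h5 : ({1, a, b, c, a * b} : Finset (center K)).card = 5 := by
          rw [Finset.card_insert_of_notMem, Finset.card_insert_of_notMem,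
            Finset.card_insert_of_notMem, Finset.card_insert_of_notMem, Finset.card_singleton]
          · simp only [Finset.mem_singleton]; exact fun h => habc h.symm
          · simp only [Finset.mem_insert, Finset.mem_singleton, not_or]
            exact ⟨hbc', fun h => habb h.symm⟩
          · simp only [Finset.mem_insert, Finset.mem_singleton, not_or]
            exact ⟨hab', hac', fun h => haba h.symm⟩
          · simp only [Finset.mem_insert, Finset.mem_singleton, not_or]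
            exact ⟨fun h => ha1 h.symm, fun h => hb1 h.symm, fun h => hc1 h.symm,
              fun h => hab1 h.symm⟩
        have h6 := Finset.card_le_univ ({1, a, b, c, a * b} : Finset (center K))
        rw [h5, ← Nat.card_eq_fintype_card] at h6
        omega
      -- the pair (e₁ e₂, e₁ e₃)
      refine ⟨e₁ * e₂, C₁.mul_mem he₁C he₂C, e₁ * e₃, C₁.mul_mem he₁C he₃C, ?_, ?_, ?_⟩
      · apply commutatorElement_eq_one_iff_mul_comm.mp
        rw [hbl, hbr, hbr, commutatorElement_self, one_mul, ← commutatorElement_inv e₁ e₂,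
          hinv _ (hcomm_mem e₁ e₂)]
        -- ⁅e₁,e₃⁆ * (⁅e₁,e₂⁆ * ⁅e₂,e₃⁆) = 1
        rw [← hprod, ← mul_assoc ⁅e₁, e₂⁆, ha2 e₁ e₂, one_mul]
        exact ha2 e₁ e₃
      · intro h
        apply he₂A
        have h1 : e₁⁻¹ * (e₁ * e₂) ∈ A₂ := A₂.mul_mem (A₂.inv_mem he₁A₂) (hA₁A₂ h)
        simpa using h1
      · intro h
        apply he₃A
        have hle : A₁ ⊔ zpowers (e₁ * e₂) ≤ A₃ :=
          sup_le (hA₁A₂.trans hA₂A₃) (zpowers_le.mpr (A₃.mul_mem he₁A₃ he₂A₃))
        have h1 : e₁⁻¹ * (e₁ * e₃) ∈ A₃ := A₃.mul_mem (A₃.inv_mem he₁A₃) (hle h)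
        simpa using h1
  obtain ⟨y₁, hy₁C, y₂, hy₂C, hy₁₂, hy₁A, hy₂A⟩ := hkey
  -- the abelian subgroup
  obtain ⟨T, hTdef⟩ : ∃ T : Set K, T = (center K : Set K) ∪ {x, y₁, y₂} := ⟨_, rfl⟩
  have hxy₁ : x * y₁ = y₁ * x := (hC₁mem y₁).mp hy₁C
  have hxy₂ : x * y₂ = y₂ * x := (hC₁mem y₂).mp hy₂C
  have hTcomm : ∀ u ∈ T, ∀ v ∈ T, u * v = v * u := by
    intro u hu v hv
    rw [hTdef] at hu hv
    rcases hu with hu | hu
    · exact (Subgroup.mem_center_iff.mp hu v).symm
    rcases hv with hv | hv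
    · exact Subgroup.mem_center_iff.mp hv u
    simp only [Set.mem_insert_iff, Set.mem_singleton_iff] at hu hv
    rcases hu with rfl | rfl | rfl <;> rcases hv with rfl | rfl | rfl
    · rfl
    · exact hxy₁
    · exact hxy₂
    · exact hxy₁.symm
    · rfl
    · exact hy₁₂
    · exact hxy₂.symm
    · exact hy₁₂.symm
    · rfl
  have hAcomm : IsMulCommutative (closure T) := Subgroup.isMulCommutative_closure hTcomm
  obtain ⟨A, hAdef⟩ : ∃ A : Subgroup K, A = closure T := ⟨_, rfl⟩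
  rw [← hAdef] at hAcomm
  have hTA : T ⊆ A := by rw [hAdef]; exact subset_closure
  have hZA : center K ≤ A := by
    intro z hz; exact hTA (by rw [hTdef]; exact Or.inl hz)
  have hxA : x ∈ A := hTA (by rw [hTdef]; right; simp)
  have hy₁A' : y₁ ∈ A := hTA (by rw [hTdef]; right; simp)
  have hy₂A' : y₂ ∈ A := hTA (by rw [hTdef]; right; simp)
  have hA₁A : A₁ ≤ A := by rw [hA₁def]; exact sup_le hZA (zpowers_le.mpr hxA)
  have hlt1 : center K < A₁ := lt_of_le_of_ne hZA₁ (fun h => hx (by rw [h]; exact hxA₁))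
  have hlt2 : A₁ < A₁ ⊔ zpowers y₁ := lt_of_le_of_ne le_sup_left (fun h => hy₁A (by
    rw [h]; exact (le_sup_right : zpowers y₁ ≤ _) (mem_zpowers y₁)))
  have hlt3 : A₁ ⊔ zpowers y₁ < A₁ ⊔ zpowers y₁ ⊔ zpowers y₂ :=
    lt_of_le_of_ne le_sup_left (fun h => hy₂A (by
      rw [h]; exact (le_sup_right : zpowers y₂ ≤ _) (mem_zpowers y₂)))
  have hle4 : A₁ ⊔ zpowers y₁ ⊔ zpowers y₂ ≤ A :=
    sup_le (sup_le hA₁A (zpowers_le.mpr hy₁A')) (zpowers_le.mpr hy₂A')
  have hAcard : 8 * Nat.card (center K) ≤ Nat.card A := by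
    have h1 := two_mul_card_le_of_lt hlt1
    have h2 := two_mul_card_le_of_lt hlt2
    have h3 := two_mul_card_le_of_lt hlt3
    have h4 := Subgroup.card_le_of_le hle4
    omega
  -- the squaring homomorphism on A
  let ψ : ↥A →* center K := MonoidHom.mk' (fun α => ⟨(α : K) ^ 2, hsq α⟩) (by
    intro α β
    apply Subtype.ext
    have hcm : Commute (α : K) (β : K) := setLike_mul_comm α.2 β.2
    show ((α * β : ↥A) : K) ^ 2 = (α : K) ^ 2 * (β : K) ^ 2
    rw [Subgroup.coe_mul, hcm.mul_pow])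
  have hψ : ∀ α : ↥A, ψ α = 1 ↔ (α : K) ^ 2 = 1 := by
    intro α; constructor
    · intro h; exact congrArg Subtype.val h
    · intro h; exact Subtype.ext h
  have hkcard : 8 ≤ Nat.card ψ.ker := by
    have h1 := ψ.ker.card_mul_index
    have h2 : ψ.ker.index ≤ Nat.card (center K) := by
      rw [Subgroup.index_ker]; exact Subgroup.card_le_card_group _
    by_contra hlt
    push Not at hlt
    have : Nat.card ψ.ker * ψ.ker.index ≤ 7 * Nat.card (center K) :=
      Nat.mul_le_mul (by omega) h2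
    omega
  refine ⟨ψ.ker.map A.subtype, ?_, ?_, ?_⟩
  · refine ⟨⟨?_⟩⟩
    rintro ⟨u, hu⟩ ⟨v, hv⟩
    obtain ⟨α, _, rfl⟩ := hu
    obtain ⟨β, _, rfl⟩ := hv
    apply Subtype.ext
    exact setLike_mul_comm α.2 β.2
  · rintro a ⟨α, hα, rfl⟩
    exact (hψ α).mp (MonoidHom.mem_ker.mp hα)
  · rw [Nat.card_congr (Subgroup.equivMapOfInjective _ _ A.subtype_injective).symm.toEquiv]
    exact hkcard

end Cfsg.Agent.Lib.Helper17
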