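import Cfsg.Agent.Lib.Helper28.Srg77.Classes

set_option autoImplicit false
set_option linter.unusedSectionVars false
set_option linter.unusedVariables false

/-!
`P7`: the graph induced on `Tset L` is connected.  A union `U` of components, `∅ ≠ U ≠ T`, with
weights `|T \ U|` on `U` and `-|U|` on `T \ U` makes the positive semidefinite form
`22 I - 11 A + 2 J` negative (the induced graph being 6-regular).
-/

namespace Cfsg.Agent.Lib.Helper28.Srg77

open Finset Classical

variable {V : Type*} [Fintype V] {G : SimpleGraph V}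

namespace Helper17

/-- no edges between `U` and `T \ U`: the `T`-neighbours of `u ∈ U` are its `U`-neighbours -/
theorem filter_eq_of_sep {T U : Finset V} (hU : U ⊆ T)
    (hsep : ∀ u ∈ U, ∀ v ∈ T \ U, ¬ G.Adj u v) (u : V) (hu : u ∈ U) :
    U.filter (fun v => G.Adj u v) = T.filter (fun v => G.Adj u v) := by
  ext v
  simp only [mem_filter]
  constructor
  · rintro ⟨hv, ha⟩
    exact ⟨hU hv, ha⟩
  · rintro ⟨hv, ha⟩
    refine ⟨?_, ha⟩
    by_contra hvU
    exact hsep u hu v (mem_sdiff.2 ⟨hv, hvU⟩) ha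

/-- the same on the other side -/
theorem filter_eq_of_sep' {T U : Finset V} (hU : U ⊆ T)
    (hsep : ∀ u ∈ U, ∀ v ∈ T \ U, ¬ G.Adj u v) (w : V) (hw : w ∈ T \ U) :
    (T \ U).filter (fun v => G.Adj w v) = T.filter (fun v => G.Adj w v) := by
  ext v
  simp only [mem_filter, mem_sdiff]
  constructor
  · rintro ⟨⟨hv, _⟩, ha⟩
    exact ⟨hv, ha⟩
  · rintro ⟨hv, ha⟩
    refine ⟨⟨hv, ?_⟩, ha⟩
    intro hvU
    exact hsep v hvU w hw ha.symm

/-- spare copy of `p7` (the official name `p7` lives in `Lib/Helper21/Srg77G.lean`) -/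
theorem p7 (hG : M22Like G) (h6 : P6 G) : P7 G := by
  intro L hL U hU hsep
  by_contra hcon
  push Not at hcon
  obtain ⟨hU0, hUT⟩ := hcon
  have hUpos : 0 < U.card := Finset.card_pos.2 hU0
  have hWne : (Tset G L \ U).Nonempty := by
    rw [Finset.sdiff_nonempty]
    intro hTU
    exact hUT (Finset.Subset.antisymm hU hTU)
  have hWpos : 0 < (Tset G L \ U).card := Finset.card_pos.2 hWne
  have eUU : ee G U U = U.card * (6 : ℕ) := by
    apply ee_const
    intro u hu
    rw [filter_eq_of_sep hU hsep u hu]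
    exact h6 L hL u (hU hu)
  have eWW : ee G (Tset G L \ U) (Tset G L \ U) = (Tset G L \ U).card * (6 : ℕ) := by
    apply ee_const
    intro w hw
    rw [filter_eq_of_sep' hU hsep w hw]
    exact h6 L hL w (mem_sdiff.1 hw).1
  have eUW : ee G U (Tset G L \ U) = 0 := ee_zero (fun u hu v hv => hsep u hu v hv)
  have eWU : ee G (Tset G L \ U) U = 0 := by
    rw [ee_symm]
    exact eUW
  have hUW : U ∩ (Tset G L \ U) = ∅ := Finset.inter_sdiff_self U (Tset G L)
  have hWU : (Tset G L \ U) ∩ U = ∅ := by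
    rw [Finset.inter_comm]
    exact hUW
  have h := psd_s_classes hG ![U, Tset G L \ U]
    ![((Tset G L \ U).card : ℤ), -(U.card : ℤ)]
  simp only [Fin.sum_univ_two, Matrix.cons_val_zero, Matrix.cons_val_one,
    Finset.inter_self, eUU, eWW, eUW, eWU, hUW, hWU, Finset.card_empty] at h
  have h1 : (0 : ℤ) < U.card := by exact_mod_cast hUpos
  have h2 : (0 : ℤ) < (Tset G L \ U).card := by exact_mod_cast hWpos
  generalize ((Tset G L \ U).card : ℤ) = w at h h2
  generalize (U.card : ℤ) = x at h h1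
  push_cast at h
  nlinarith [mul_pos h1 h2, mul_pos (mul_pos h1 h2) h1, mul_pos (mul_pos h1 h2) h2]

end Helper17

end Cfsg.Agent.Lib.Helper28.Srg77
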