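import Cfsg.Agent.Lib.Helper2.StA4
set_option autoImplicit false

/-!
# Type-A Steinberg groups: `H̃ ∩ ker φ = 1` once the symbols `h_ij` are multiplicative (FO-D of S2401)
-/

namespace Cfsg.Agent.Lib.Helper17.StHtil

open Cfsg.Agent.Lib.Helper2.StA
open Cfsg.Agent.Lib.Helper2.StA.StRep

variable {n : ℕ} {K : Type*} [Field K] {G : Type*} [Group G] (S : StRep n K G)

/-- left multiplication by the matrix of `w_ij(u)` -/
theorem phi_w_mul {i j : Fin n} (hij : i ≠ j) (u : Kˣ) (M : Matrix (Fin n) (Fin n) K) (a b : Fin n) :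
    (((S.φ (S.w i j u) : Matrix.SpecialLinearGroup (Fin n) K) : Matrix (Fin n) (Fin n) K) * M) a b =
      if a = i then (u : K) * M j b else if a = j then -((u⁻¹ : Kˣ) : K) * M i b else M a b := by
  have hu : (u : K) ≠ 0 := u.ne_zero
  rw [S.w_def, map_mul, map_mul, Matrix.SpecialLinearGroup.coe_mul, Matrix.SpecialLinearGroup.coe_mul,
    S.φ_x_coe hij, S.φ_x_coe hij.symm, Matrix.mul_assoc, Matrix.mul_assoc]
  by_cases hai : a = i
  · rw [hai, if_pos rfl]
    simp only [Matrix.transvection_mul_apply_same, Matrix.transvection_mul_apply_of_ne, ne_eq, hij,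
      hij.symm, not_false_eq_true]
    rw [Units.val_inv_eq_inv_val]
    field_simp
    ring
  · by_cases haj : a = j
    · rw [haj, if_neg hij.symm, if_pos rfl]
      simp only [Matrix.transvection_mul_apply_same, Matrix.transvection_mul_apply_of_ne, ne_eq, hij,
        hij.symm, not_false_eq_true]
      rw [Units.val_inv_eq_inv_val]
      field_simp
      ring
    · rw [if_neg hai, if_neg haj]
      simp only [Matrix.transvection_mul_apply_of_ne, ne_eq, hai, haj,
        not_false_eq_true]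

/-- the matrix of `h_ij(t)` is diagonal -/
theorem phi_h {i j : Fin n} (hij : i ≠ j) (t : Kˣ) :
    ((S.φ (S.h i j t) : Matrix.SpecialLinearGroup (Fin n) K) : Matrix (Fin n) (Fin n) K) =
      Matrix.diagonal (fun k => ((dh i j t k : Kˣ) : K)) := by
  have hB : ∀ r b, ((S.φ (S.w i j (-1)) : Matrix.SpecialLinearGroup (Fin n) K) :
      Matrix (Fin n) (Fin n) K) r b =
      if r = i then (((-1 : Kˣ)) : K) * (1 : Matrix (Fin n) (Fin n) K) j b
      else if r = j then -((((-1 : Kˣ))⁻¹ : Kˣ) : K) * (1 : Matrix (Fin n) (Fin n) K) i b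
      else (1 : Matrix (Fin n) (Fin n) K) r b := by
    intro r b
    have := phi_w_mul S hij (-1) 1 r b
    rwa [Matrix.mul_one] at this
  have e : S.h i j t = S.w i j t * S.w i j (-1) := rfl
  rw [e, map_mul, Matrix.SpecialLinearGroup.coe_mul]
  ext a b
  rw [phi_w_mul S hij t _ a b]
  by_cases hai : a = i
  · rw [hai, if_pos rfl, hB j b, if_neg hij.symm, if_pos rfl]
    by_cases hib : i = b
    · rw [← hib]
      simp [dh, Matrix.diagonal_apply, Matrix.one_apply]
    · simp [dh, Matrix.diagonal_apply, Matrix.one_apply, hib]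
  · by_cases haj : a = j
    · rw [haj, if_neg hij.symm, if_pos rfl, hB i b, if_pos rfl]
      by_cases hjb : j = b
      · rw [← hjb]
        simp [dh, Matrix.diagonal_apply, Matrix.one_apply, hij.symm]
      · simp [dh, Matrix.diagonal_apply, Matrix.one_apply, hjb, hij.symm]
    · rw [if_neg hai, if_neg haj, hB a b, if_neg hai, if_neg haj]
      by_cases hab : a = b
      · rw [← hab]
        simp [dh, Matrix.diagonal_apply, Matrix.one_apply, hai, haj]
      · simp [dh, Matrix.diagonal_apply, Matrix.one_apply, hab, hai, haj]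

section Mult

variable (hn : 3 ≤ n)
  (hmul : ∀ i j : Fin n, i ≠ j → ∀ t u : Kˣ, S.h i j (t * u) = S.h i j t * S.h i j u)

include hmul in
theorem h_inv_of_hmul {i j : Fin n} (hij : i ≠ j) (t : Kˣ) : S.h i j t⁻¹ = (S.h i j t)⁻¹ := by
  have h1 := hmul i j hij t t⁻¹
  rw [mul_inv_cancel, S.h_one hij] at h1
  exact eq_inv_of_mul_eq_one_right h1.symm

include hn hmul in
theorem h_comm_of_hmul {i j k l : Fin n} (hij : i ≠ j) (hkl : k ≠ l) (t u : Kˣ) :
    S.h i j t * S.h k l u = S.h k l u * S.h i j t := by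
  have m := S.monAct_h hn hij t
  have h1 := m.cj_h hkl u
  simp only [Equiv.Perm.one_apply] at h1
  rw [show dh i j t k / dh i j t l * u = u * (dh i j t k / dh i j t l) from mul_comm _ _,
    hmul k l hkl, mul_inv_cancel_right] at h1
  exact (cj_eq_self_iff _ _).mp h1

include hn hmul in
theorem h_swap_of_hmul {i j : Fin n} (hij : i ≠ j) (t : Kˣ) : S.h j i t = (S.h i j t)⁻¹ := by
  have e0 : (-(-1 : Kˣ)⁻¹) = 1 := by simp
  have e1 : S.h j i t = S.w i j (-t⁻¹) * S.w i j 1 := by
    have e : S.h j i t = S.w j i t * S.w j i (-1) := rfl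
    rw [e, S.w_swap hn hij t, S.w_swap hn hij (-1), e0]
  have e2 := S.h_mul_inv hij (-t⁻¹) (-1)
  rw [neg_neg] at e2
  rw [e1, ← e2]
  have e3 : (-t⁻¹ : Kˣ) = t⁻¹ * (-1) := by rw [mul_neg, mul_one]
  rw [e3, hmul i j hij, mul_inv_cancel_right]
  exact h_inv_of_hmul S hmul hij t

include hn hmul in
theorem h_mul_h_of_hmul {i j k : Fin n} (hij : i ≠ j) (hjk : j ≠ k) (hik : i ≠ k) (t : Kˣ) :
    S.h i j t * S.h j k t = S.h i k t := by
  have m1 := S.monAct_w hn hjk 1
  have h1 := m1.cj_h hij t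
  rw [Equiv.swap_apply_of_ne_of_ne hij hik, Equiv.swap_apply_left] at h1
  have e : dw j k (1 : Kˣ) i / dw j k (1 : Kˣ) j = -1 := by
    simp [dw, hij, hik]
  rw [e] at h1
  have e' : (-1 : Kˣ) * t = t * (-1) := mul_comm _ _
  rw [e', hmul i k hik, mul_inv_cancel_right] at h1
  have m2 := S.monAct_h hn hij t⁻¹
  have h2 := m2.cj_w hjk 1
  simp only [Equiv.Perm.one_apply] at h2
  have e2 : dh i j t⁻¹ j / dh i j t⁻¹ k * 1 = t := by
    simp [dh, hij.symm, hik.symm, hjk.symm]
  rw [e2, h_inv_of_hmul S hmul hij t] at h2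
  have e3 : S.h j k t = S.w j k t * S.w j k (-1) := rfl
  rw [← h1, e3, ← h2, ← S.w_inv hjk 1]
  unfold StRep.cj
  group

/-- generators `h_{o k}(t)`, `k ∈ s` -/
def gens (o : Fin n) (s : Finset (Fin n)) : Set G := {g | ∃ k, k ∈ s ∧ ∃ t : Kˣ, g = S.h o k t}

include hn hmul in
theorem decomp {o a : Fin n} {s : Finset (Fin n)} (hao : o ≠ a) (hos : o ∉ s) :
    ∀ g ∈ Subgroup.closure (gens S o (insert a s)),
      ∃ t : Kˣ, ∃ g' ∈ Subgroup.closure (gens S o s), g = S.h o a t * g' := by
  have step : ∀ k ∈ insert a s, ∀ (u : Kˣ) (z : G),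
      (∃ t : Kˣ, ∃ g' ∈ Subgroup.closure (gens S o s), z = S.h o a t * g') →
      ∃ t : Kˣ, ∃ g' ∈ Subgroup.closure (gens S o s), S.h o k u * z = S.h o a t * g' := by
    rintro k hk u z ⟨t, g', hg', rfl⟩
    by_cases hka : k = a
    · refine ⟨u * t, g', hg', ?_⟩
      rw [hka, hmul o a hao, mul_assoc]
    · have hks : k ∈ s := Finset.mem_of_mem_insert_of_ne hk hka
      have hko : o ≠ k := fun h => hos (h ▸ hks)
      refine ⟨t, S.h o k u * g',
        Subgroup.mul_mem _ (Subgroup.subset_closure ⟨k, hks, u, rfl⟩) hg', ?_⟩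
      calc S.h o k u * (S.h o a t * g') = (S.h o k u * S.h o a t) * g' := (mul_assoc _ _ _).symm
        _ = (S.h o a t * S.h o k u) * g' := by rw [h_comm_of_hmul S hn hmul hko hao u t]
        _ = S.h o a t * (S.h o k u * g') := mul_assoc _ _ _
  intro g hg
  induction hg using Subgroup.closure_induction_left with
  | one => exact ⟨1, 1, Subgroup.one_mem _, by rw [S.h_one hao, mul_one]⟩
  | mul_left y hy z _ ih =>
    obtain ⟨k, hk, u, rfl⟩ := hy
    exact step k hk u z ih
  | inv_mul_cancel y hy z _ ih =>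
    obtain ⟨k, hk, u, rfl⟩ := hy
    have hko : o ≠ k := by
      rcases Finset.mem_insert.mp hk with h | h
      · rw [h]; exact hao
      · exact fun e => hos (e ▸ h)
    rw [← h_inv_of_hmul S hmul hko u]
    exact step k hk u⁻¹ z ih

include hmul in
theorem diag_of_mem {o a : Fin n} {s : Finset (Fin n)} (hao : o ≠ a) (ha : a ∉ s) (hos : o ∉ s) :
    ∀ g ∈ Subgroup.closure (gens S o s), ∃ d : Fin n → K,
      ((S.φ g : Matrix.SpecialLinearGroup (Fin n) K) : Matrix (Fin n) (Fin n) K) = Matrix.diagonal d ∧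
        d a = 1 := by
  have step : ∀ k ∈ s, ∀ (u : Kˣ) (z : G),
      (∃ d : Fin n → K,
        ((S.φ z : Matrix.SpecialLinearGroup (Fin n) K) : Matrix (Fin n) (Fin n) K) = Matrix.diagonal d ∧
          d a = 1) →
      ∃ d : Fin n → K,
        ((S.φ (S.h o k u * z) : Matrix.SpecialLinearGroup (Fin n) K) : Matrix (Fin n) (Fin n) K) =
          Matrix.diagonal d ∧ d a = 1 := by
    rintro k hk u z ⟨d, hd, hda⟩
    have hko : o ≠ k := fun h => hos (h ▸ hk)
    have hak : a ≠ k := fun h => ha (h ▸ hk)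
    refine ⟨fun r => ((dh o k u r : Kˣ) : K) * d r, ?_, ?_⟩
    · rw [map_mul, Matrix.SpecialLinearGroup.coe_mul, phi_h S hko u, hd, Matrix.diagonal_mul_diagonal]
    · have : dh o k u a = 1 := by simp [dh, hao.symm, hak]
      simp only [this, Units.val_one, one_mul, hda]
  intro g hg
  induction hg using Subgroup.closure_induction_left with
  | one =>
    exact ⟨fun _ => 1, by rw [map_one, Matrix.SpecialLinearGroup.coe_one, Matrix.diagonal_one], rfl⟩
  | mul_left y hy z _ ih =>
    obtain ⟨k, hk, u, rfl⟩ := hy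
    exact step k hk u z ih
  | inv_mul_cancel y hy z _ ih =>
    obtain ⟨k, hk, u, rfl⟩ := hy
    have hko : o ≠ k := fun h => hos (h ▸ hk)
    rw [← h_inv_of_hmul S hmul hko u]
    exact step k hk u⁻¹ z ih

include hn hmul in
theorem main_aux (o : Fin n) : ∀ s : Finset (Fin n), o ∉ s →
    ∀ g ∈ Subgroup.closure (gens S o s), S.φ g = 1 → g = 1 := by
  intro s
  induction s using Finset.induction_on with
  | empty =>
    intro _ g hg _
    have h0 : gens S o ∅ = ∅ := by
      ext y; simp [gens]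
    rw [h0, Subgroup.closure_empty] at hg
    exact Subgroup.mem_bot.mp hg
  | insert a s ha ih =>
    intro hos g hg hφ
    have hao : o ≠ a := fun h => hos (h ▸ Finset.mem_insert_self a s)
    have hos' : o ∉ s := fun h => hos (Finset.mem_insert_of_mem h)
    obtain ⟨t, g', hg', rfl⟩ := decomp S hn hmul hao hos' g hg
    obtain ⟨d, hd, hda⟩ := diag_of_mem S hmul hao ha hos' g' hg'
    have h1 : ((S.φ (S.h o a t * g') : Matrix.SpecialLinearGroup (Fin n) K) :
        Matrix (Fin n) (Fin n) K) a a = 1 := by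
      rw [hφ]; simp
    rw [map_mul, Matrix.SpecialLinearGroup.coe_mul, phi_h S hao t, hd, Matrix.diagonal_mul_diagonal,
      Matrix.diagonal_apply_eq, hda, mul_one] at h1
    have h2 : dh o a t a = t⁻¹ := by simp [dh, hao.symm]
    rw [h2] at h1
    have ht : t = 1 := by
      have h3 : t⁻¹ = 1 := Units.ext (by rw [h1]; rfl)
      exact inv_eq_one.mp h3
    rw [ht, S.h_one hao, one_mul] at hφ ⊢
    exact ih hos' g' hg' hφ

end Mult

/-- **FO-D**: an element of `H̃` with trivial matrix is trivial, provided the `h_ij` are multiplicative. -/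
theorem eq_one_of_mem_Htil {n : ℕ} {K : Type*} [Field K] {G : Type*} [Group G] (S : StRep n K G)
    (hn : 3 ≤ n)
    (hmul : ∀ i j : Fin n, i ≠ j → ∀ t u : Kˣ, S.h i j (t * u) = S.h i j t * S.h i j u)
    {g : G} (hg : g ∈ S.Htil) (hφ : S.φ g = 1) : g = 1 := by
  set o : Fin n := ⟨0, by omega⟩ with ho
  have hgen : ∀ k, o ≠ k → ∀ t, S.h o k t ∈ Subgroup.closure (gens S o (Finset.univ.erase o)) :=
    fun k hk t =>
      Subgroup.subset_closure ⟨k, Finset.mem_erase.mpr ⟨hk.symm, Finset.mem_univ _⟩, t, rfl⟩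
  have hle : S.Htil ≤ Subgroup.closure (gens S o (Finset.univ.erase o)) := by
    unfold StRep.Htil
    rw [Subgroup.closure_le]
    rintro y ⟨i, j, u, hij, rfl⟩
    show S.h i j u ∈ Subgroup.closure (gens S o (Finset.univ.erase o))
    by_cases hio : i = o
    · rw [hio] at hij ⊢
      exact hgen j hij u
    · by_cases hjo : j = o
      · rw [hjo, h_swap_of_hmul S hn hmul (Ne.symm hio) u]
        exact Subgroup.inv_mem _ (hgen i (Ne.symm hio) u)
      · have e := h_mul_h_of_hmul S hn hmul (Ne.symm hio) hij (Ne.symm hjo) u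
        have e' : S.h i j u = (S.h o i u)⁻¹ * S.h o j u := by rw [← e]; group
        rw [e']
        exact Subgroup.mul_mem _ (Subgroup.inv_mem _ (hgen i (Ne.symm hio) u)) (hgen j (Ne.symm hjo) u)
  exact main_aux S hn hmul o _ (Finset.notMem_erase o _) g (hle hg) hφ

end Cfsg.Agent.Lib.Helper17.StHtil
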