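import Mathlib

/-!
# A simplicity criterion for permutation groups of arbitrary rank (helper17)

Generalises helper28's `Rank3.simple_of_rank3_pgens` from two suborbits to an indexed family:
`G` is a transitive permutation group on `α`; a subgroup `H` of the stabiliser of `x0` is transitive on each of the sets `S i`,
which are pairwise disjoint, avoid `x0` and cover the remaining points; no union of `{x0}` with some of the `S i` other than `{x0}`
and everything has a size dividing the degree (so `G` is primitive); `p ^ k` divides the degree, `p ^ (k + 1)` does not divide `|G|`,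
and `G` is generated by products of two elements of order dividing `p`.  Then `G` is simple.
-/

set_option autoImplicit false

namespace Cfsg.Agent.Lib.Helper17.SubdegSimple

open MulAction

/-- an orbit of a normal subgroup through `v0` is invariant under the stabiliser of `v0` -/
theorem orbit_normal_inv {G V : Type*} [Group G] [MulAction G V] (v0 : V) (N : Subgroup G) (hN : N.Normal) :
    ∀ h ∈ stabilizer G v0, ∀ x ∈ orbit N v0, h • x ∈ orbit N v0 := by
  rintro h hh x ⟨n, rfl⟩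
  refine ⟨⟨h * n.1 * h⁻¹, hN.conj_mem n.1 n.2 h⟩, ?_⟩
  show (h * n.1 * h⁻¹) • v0 = h • (n.1 • v0)
  have hv : h⁻¹ • v0 = v0 := by
    rw [inv_smul_eq_iff]
    exact (mem_stabilizer_iff.mp hh).symm
  rw [mul_smul, mul_smul, hv]

/-- the size of an orbit of a subgroup divides its order -/
theorem ncard_orbit_dvd {G X : Type*} [Group G] [MulAction G X] (K : Subgroup G) (x : X) :
    (orbit K x).ncard ∣ Nat.card K := by
  rw [← MulAction.index_stabilizer]
  exact Subgroup.index_dvd_card _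

theorem simple_of_suborbits_pgens {α : Type*} [Fintype α] [DecidableEq α] {ι : Type*} [Fintype ι] [DecidableEq ι]
    (G : Subgroup (Equiv.Perm α)) (x0 : α) (S : ι → Finset α) (c : ι → ℕ) (p k : ℕ) (hp : p.Prime)
    (hpk : p ^ k ∣ Fintype.card α) (hG : ¬ p ^ (k + 1) ∣ Nat.card G)
    (hnt : Nontrivial G)
    (htrans : ∀ x, ∃ g ∈ G, g x0 = x)
    (H : Subgroup (Equiv.Perm α)) (hHG : H ≤ G) (hH0 : ∀ h ∈ H, h x0 = x0)
    (hS : ∀ i, ∀ x ∈ S i, ∀ y ∈ S i, ∃ h ∈ H, h x = y)
    (hcov : ∀ x, x = x0 ∨ ∃ i, x ∈ S i) (hx0 : ∀ i, x0 ∉ S i)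
    (hdisj : ∀ i j, i ≠ j → Disjoint (S i) (S j))
    (hc : ∀ i, (S i).card = c i)
    (hdiv : ∀ I : Finset ι, (∑ i ∈ I, c i) + 1 ∣ Fintype.card α →
      (∑ i ∈ I, c i) = 0 ∨ (∑ i ∈ I, c i) + 1 = Fintype.card α)
    (T : Set (Equiv.Perm α)) (hT : G ≤ Subgroup.closure T)
    (hT5 : ∀ t ∈ T, ∃ x y, x ∈ G ∧ y ∈ G ∧ x ^ p = 1 ∧ y ^ p = 1 ∧ t = x * y) :
    IsSimpleGroup G := by
  classical
  have : Nontrivial G := hnt
  have : MulAction.IsPretransitive G α := by
    constructor
    intro x y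
    obtain ⟨g1, hg1, h1⟩ := htrans x
    obtain ⟨g2, hg2, h2⟩ := htrans y
    refine ⟨⟨g2 * g1⁻¹, G.mul_mem hg2 (G.inv_mem hg1)⟩, ?_⟩
    show (g2 * g1⁻¹) x = y
    have hinv1 : g1⁻¹ (g1 x0) = x0 := g1.symm_apply_apply x0
    rw [Equiv.Perm.mul_apply, ← h1, hinv1, h2]
  refine ⟨fun N hN => ?_⟩
  by_cases hne : N = ⊥
  · exact Or.inl hne
  right
  have := hN
  have hblock : MulAction.IsBlock G (MulAction.orbit N x0) :=
    MulAction.IsBlock.orbit_of_normal x0
  have hdvd : (MulAction.orbit N x0).ncard ∣ Fintype.card α := by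
    have := hblock.ncard_dvd_card ⟨x0, MulAction.mem_orbit_self x0⟩
    rwa [Nat.card_eq_fintype_card] at this
  have hinv : ∀ h ∈ H, ∀ y ∈ MulAction.orbit N x0, h y ∈ MulAction.orbit N x0 := by
    intro h hh y hy
    have hst : (⟨h, hHG hh⟩ : G) ∈ MulAction.stabilizer G x0 := by
      rw [MulAction.mem_stabilizer_iff]
      exact hH0 h hh
    exact orbit_normal_inv x0 N hN _ hst y hy
  -- each suborbit lies inside or outside the block
  have hall : ∀ i, (∃ a ∈ S i, a ∈ MulAction.orbit N x0) → ∀ y ∈ S i, y ∈ MulAction.orbit N x0 := by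
    rintro i ⟨a, haS, haΔ⟩ y hy
    obtain ⟨h, hh, hhy⟩ := hS i a haS y hy
    rw [← hhy]
    exact hinv h hh a haΔ
  set I : Finset ι := Finset.univ.filter (fun i => ∃ a ∈ S i, a ∈ MulAction.orbit N x0) with hI
  have hmemI : ∀ i, i ∈ I ↔ ∃ a ∈ S i, a ∈ MulAction.orbit N x0 := by
    intro i
    rw [hI, Finset.mem_filter]
    simp only [Finset.mem_univ, true_and]
  have hset : (MulAction.orbit N x0 : Set α) = ↑(insert x0 (I.biUnion S)) := by
    ext x
    rw [Finset.mem_coe, Finset.mem_insert, Finset.mem_biUnion]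
    constructor
    · intro hx
      rcases hcov x with rfl | ⟨i, hi⟩
      · exact Or.inl rfl
      · exact Or.inr ⟨i, (hmemI i).mpr ⟨x, hi, hx⟩, hi⟩
    · rintro (rfl | ⟨i, hiI, hxi⟩)
      · exact MulAction.mem_orbit_self _
      · exact hall i ((hmemI i).mp hiI) x hxi
  have hx0U : x0 ∉ I.biUnion S := by
    rw [Finset.mem_biUnion]
    rintro ⟨i, -, hi⟩
    exact hx0 i hi
  have hcard : (MulAction.orbit N x0).ncard = (∑ i ∈ I, c i) + 1 := by
    rw [hset, Set.ncard_coe_finset, Finset.card_insert_of_notMem hx0U, Finset.card_biUnion]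
    · rw [Finset.sum_congr rfl (fun i _ => hc i)]
    · intro i _ j _ hij
      exact hdisj i j hij
  rw [hcard] at hdvd
  have hcases : MulAction.orbit N x0 = {x0} ∨ MulAction.orbit N x0 = Set.univ := by
    rcases hdiv I hdvd with h0 | hn
    · left
      have hIe : ∀ i, i ∉ I := by
        intro i hi
        have h1 : c i = 0 := (Finset.sum_eq_zero_iff.mp h0) i hi
        obtain ⟨a, ha, -⟩ := (hmemI i).mp hi
        rw [← hc i, Finset.card_eq_zero] at h1
        rw [h1] at ha
        exact absurd ha (Finset.notMem_empty a)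
      ext x
      rw [Set.mem_singleton_iff]
      constructor
      · intro hx
        rcases hcov x with rfl | ⟨i, hi⟩
        · rfl
        · exact absurd ((hmemI i).mpr ⟨x, hi, hx⟩) (hIe i)
      · rintro rfl
        exact MulAction.mem_orbit_self _
    · right
      rw [Set.eq_univ_iff_ncard, hcard, hn, Nat.card_eq_fintype_card]
  rcases hcases with h1 | h1
  · exfalso
    apply hne
    rw [eq_bot_iff]
    intro n hn
    rw [Subgroup.mem_bot]
    apply Subtype.ext
    apply Equiv.ext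
    intro x
    show (n : Equiv.Perm α) x = x
    obtain ⟨g, hg, rfl⟩ := htrans x
    have hconj : (⟨g, hg⟩ : G)⁻¹ * n * (⟨g, hg⟩ : G) ∈ N := by
      have := hN.conj_mem n hn (⟨g, hg⟩ : G)⁻¹
      rwa [inv_inv] at this
    have hfix : ((⟨g, hg⟩ : G)⁻¹ * n * (⟨g, hg⟩ : G)) • x0 ∈ MulAction.orbit N x0 :=
      ⟨⟨_, hconj⟩, rfl⟩
    rw [h1, Set.mem_singleton_iff] at hfix
    have h2 : (g⁻¹ * (n : Equiv.Perm α) * g) x0 = x0 := hfix
    rw [Equiv.Perm.mul_apply, Equiv.Perm.mul_apply, Equiv.Perm.inv_eq_iff_eq] at h2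
    exact h2
  · have hcN : Fintype.card α ∣ Nat.card N := by
      have := ncard_orbit_dvd N x0
      rwa [h1, Set.ncard_univ, Nat.card_eq_fintype_card (α := α)] at this
    have hpN : p ^ k ∣ Nat.card N := hpk.trans hcN
    have hidx : ¬ p ∣ N.index := by
      intro h
      apply hG
      rw [← Subgroup.card_mul_index N, pow_succ]
      exact mul_dvd_mul hpN h
    have hpel : ∀ x (hx : x ∈ G), x ^ p = 1 → (⟨x, hx⟩ : G) ∈ N := by
      intro x hx hxp
      rw [← QuotientGroup.eq_one_iff]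
      have k1 : ((⟨x, hx⟩ : G) : G ⧸ N) ^ p = 1 := by
        rw [← QuotientGroup.mk_pow]
        have : (⟨x, hx⟩ : G) ^ p = 1 := Subtype.ext hxp
        rw [this]; rfl
      have k2 : orderOf ((⟨x, hx⟩ : G) : G ⧸ N) ∣ p := orderOf_dvd_of_pow_eq_one k1
      have k3 : orderOf ((⟨x, hx⟩ : G) : G ⧸ N) ∣ N.index := by
        rw [Subgroup.index_eq_card]
        exact orderOf_dvd_natCard _
      rcases (Nat.dvd_prime hp).mp k2 with h | h
      · exact orderOf_eq_one_iff.mp h
      · rw [h] at k3; exact absurd k3 hidx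
    rw [eq_top_iff]
    intro g _
    have key : ∀ x ∈ Subgroup.closure T, ∃ h : x ∈ G, (⟨x, h⟩ : G) ∈ N := by
      intro x hx
      induction hx using Subgroup.closure_induction with
      | mem x hx =>
        obtain ⟨a, b, haG, hbG, hap, hbp, rfl⟩ := hT5 x hx
        exact ⟨G.mul_mem haG hbG, N.mul_mem (hpel a haG hap) (hpel b hbG hbp)⟩
      | one => exact ⟨G.one_mem, N.one_mem⟩
      | mul x y _ _ ihx ihy =>
        obtain ⟨hx, hxN⟩ := ihx
        obtain ⟨hy, hyN⟩ := ihy
        exact ⟨G.mul_mem hx hy, N.mul_mem hxN hyN⟩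
      | inv x _ ihx =>
        obtain ⟨hx, hxN⟩ := ihx
        exact ⟨G.inv_mem hx, N.inv_mem hxN⟩
    obtain ⟨_, h⟩ := key _ (hT g.2)
    exact h

/-- the divisibility hypothesis for the action of `J_2` on the 315 lines (suborbits `10, 32, 32, 80, 160`) -/
theorem hdiv_315 : ∀ I : Finset (Fin 5), (∑ i ∈ I, (![10, 32, 32, 80, 160] : Fin 5 → ℕ) i) + 1 ∣ 315 →
    (∑ i ∈ I, (![10, 32, 32, 80, 160] : Fin 5 → ℕ) i) = 0 ∨
      (∑ i ∈ I, (![10, 32, 32, 80, 160] : Fin 5 → ℕ) i) + 1 = 315 := by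
  decide

end Cfsg.Agent.Lib.Helper17.SubdegSimple
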