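import Cfsg.Agent.Lib.Helper21.ImgSiftP
import Cfsg.Agent.Lib.Helper17.CountChain

/-!
# From Boolean point checks to `CountChain` for `semLevels` (S2074, piece P4)

`chainOK` checks, level by level, that the base point is in range, that the listed orbit points are
distinct, and that each transversal table sends the base point to its point and fixes the previous
base points.  Together with the validity and membership of the transversal tables this gives
`CountChain` for the semantic chain, hence (by counting) the order of the generated group and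
completeness of sifting.
-/

set_option autoImplicit false

namespace Cfsg.Agent.Lib.Helper22.SuzOut

open Cfsg.Agent.Lib.Helper28.BSGS MulAction

/-- the points of one level: base point in range, no repeated points, every transversal table sends
the base point to its point and fixes the previous base points -/
def lvlOK (n w : ℕ) (prev : List ℕ) (lv : CLevel) : Bool :=
  decide (lv.1 < n) && nodupB (lv.2.map fun e => e.1) &&
  lv.2.all fun e => decide (e.1 < n) && (look w e.2.1 lv.1 == e.1) &&
    prev.all fun p => look w e.2.1 p == p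

def chainOK (n w : ℕ) : List ℕ → List CLevel → Bool
  | _, [] => true
  | prev, lv :: rest => lvlOK n w prev lv && chainOK n w (lv.1 :: prev) rest

namespace Helper17

theorem lvlOK_spec {n w : ℕ} {prev : List ℕ} {lv : CLevel} (h : lvlOK n w prev lv = true) :
    lv.1 < n ∧ nodupB (lv.2.map fun e => e.1) = true ∧
      ∀ e ∈ lv.2, e.1 < n ∧ look w e.2.1 lv.1 = e.1 ∧ ∀ p ∈ prev, look w e.2.1 p = p := by
  unfold lvlOK at h
  simp only [Bool.and_eq_true, decide_eq_true_eq, List.all_eq_true, beq_iff_eq] at h
  obtain ⟨⟨h1, h2⟩, h3⟩ := h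
  refine ⟨h1, h2, fun e he => ?_⟩
  obtain ⟨⟨k1, k2⟩, k3⟩ := h3 e he
  exact ⟨k1, k2, k3⟩

end Helper17

open Helper17

theorem countChain_sem (n w : ℕ) [NeZero n] (K : Subgroup (Equiv.Perm (Fin n))) :
    ∀ (levels : List CLevel) (gens : List (ℕ × ℕ)) (prev : List ℕ), (∀ p ∈ prev, p < n) →
    (∀ lv ∈ levels, ∀ e ∈ lv.2, pairOK n w e.2.1 e.2.2 = true ∧ permOf n w e.2.1 e.2.2 ∈ K) →
    chainOK n w prev levels = true →
    CountChain K (prev.map (pt n)) (semLevels n w gens levels) ∧ LevelsWF n w levels := by
  intro levels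
  induction levels with
  | nil =>
    intro gens prev _ _ _
    refine ⟨trivial, ?_⟩
    intro lv hlv
    simp at hlv
  | cons lv rest ih =>
    intro gens prev hprev hgood hc
    unfold chainOK at hc
    rw [Bool.and_eq_true] at hc
    obtain ⟨hc1, hc2⟩ := hc
    obtain ⟨k1, k2, k3⟩ := lvlOK_spec hc1
    have hgl : ∀ e ∈ lv.2, pairOK n w e.2.1 e.2.2 = true ∧ permOf n w e.2.1 e.2.2 ∈ K :=
      hgood lv List.mem_cons_self
    have hprev' : ∀ p ∈ lv.1 :: prev, p < n := by
      intro p hp
      rcases List.mem_cons.mp hp with rfl | hp'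
      · exact k1
      · exact hprev p hp'
    obtain ⟨ih1, ih2⟩ := ih (nextGens w gens lv.1) (lv.1 :: prev) hprev'
      (fun lv' hlv' => hgood lv' (List.mem_cons_of_mem _ hlv')) hc2
    -- values of the transversal
    have hsemU : ∀ e ∈ lv.2, ∃ e' ∈ lv.2, e'.1 = e.1 ∧
        semU n w lv.2 (pt n e.1) = permOf n w e'.2.1 e'.2.2 := by
      intro e he
      obtain ⟨e', he'⟩ := findE_of_mem he
      obtain ⟨m1, m2⟩ := findE_some he'
      refine ⟨e', m1, m2, ?_⟩
      unfold semU
      rw [pt_val n (k3 e he).1, he']
    refine ⟨?_, ?_⟩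
    · show (lv.2.map fun e => pt n e.1).Nodup ∧
        (∀ x ∈ (lv.2.map fun e => pt n e.1), semU n w lv.2 x ∈ K ∧
          semU n w lv.2 x • pt n lv.1 = x ∧ ∀ p ∈ prev.map (pt n), semU n w lv.2 x • p = p) ∧
        CountChain K (pt n lv.1 :: prev.map (pt n)) (semLevels n w (nextGens w gens lv.1) rest)
      refine ⟨?_, ?_, ih1⟩
      · have hnd := nodupB_sound _ k2
        have hnd2 : (List.map (pt n) (lv.2.map fun e => e.1)).Nodup := by
          apply List.Nodup.map_on _ hnd
          intro a ha c hc hac
          rw [List.mem_map] at ha hc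
          obtain ⟨ea, hea, rfl⟩ := ha
          obtain ⟨ec, hec, rfl⟩ := hc
          have h1' := congrArg Fin.val hac
          rwa [pt_val n (k3 ea hea).1, pt_val n (k3 ec hec).1] at h1'
        rwa [List.map_map] at hnd2
      · intro x hx
        rw [List.mem_map] at hx
        obtain ⟨e, he, rfl⟩ := hx
        obtain ⟨e', he', m2, m3⟩ := hsemU e he
        obtain ⟨q1, q2, q3⟩ := k3 e' he'
        obtain ⟨g1, g2⟩ := hgl e' he'
        rw [m3]
        refine ⟨g2, ?_, ?_⟩
        · rw [Equiv.Perm.smul_def, permOf_pt n w g1 k1, q2, m2]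
        · intro p hp
          rw [List.mem_map] at hp
          obtain ⟨p0, hp0, rfl⟩ := hp
          rw [Equiv.Perm.smul_def, permOf_pt n w g1 (hprev p0 hp0), q3 p0 hp0]
    · intro lv' hlv'
      rcases List.mem_cons.mp hlv' with rfl | hmem
      · exact ⟨k1, fun e he => ⟨(k3 e he).1, (hgl e he).1⟩⟩
      · exact ih2 lv' hmem

/-- COUNTING MAIN: good entries + point checks + `|K| ≤ ∏ orbit lengths` give the order of `K` and
completeness of sifting -/
theorem count_main (n w : ℕ) [NeZero n] (gens : List (ℕ × ℕ)) (levels : List CLevel)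
    (hgood : ∀ lv ∈ levels, ∀ e ∈ lv.2, pairOK n w e.2.1 e.2.2 = true ∧
      permOf n w e.2.1 e.2.2 ∈ genGroup n w gens)
    (hc : chainOK n w [] levels = true)
    (hcard : Nat.card (genGroup n w gens) ≤ codeSize levels) :
    Nat.card (genGroup n w gens) = codeSize levels ∧ LevelsWF n w levels ∧
      (∀ z ∈ genGroup n w gens, Sifts (semLevels n w gens levels) z) ∧
      (∀ z, Sifts (semLevels n w gens levels) z → z ∈ genGroup n w gens) := by
  obtain ⟨h1, h2⟩ := countChain_sem n w (genGroup n w gens) levels gens []
    (fun p hp => by simp at hp) hgood hc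
  have h1' : CountChain (genGroup n w gens) ([] : List (Fin n)) (semLevels n w gens levels) := h1
  have hcard' : Nat.card (genGroup n w gens) ≤ chainSize (semLevels n w gens levels) := by
    rw [chainSize_sem]; exact hcard
  obtain ⟨h3, h4⟩ := count_chain_main (genGroup n w gens) _ h1' hcard'
  refine ⟨?_, h2, h4, ?_⟩
  · rw [h3, chainSize_sem]
  · exact mem_of_sifts (genGroup n w gens) _ [] h1'

end Cfsg.Agent.Lib.Helper22.SuzOut
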