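import Mathlib
import Cfsg.Prelude.Def_KGroupFacts
import Cfsg.Agent.Lib.Helper12.SchurMore

/-!
# S2112 piece [S3]: no kernels of odd prime order ⇒ all kernels are `2`-groups

Induction on the order of the extension: if an odd prime `p` divides the order of the kernel and the
kernel does not have order `p`, divide by a central subgroup of prime order `q` with `p ∣ |ker| / q`.
-/

set_option autoImplicit false
set_option linter.style.haveILetI false

namespace Cfsg.Agent.Lib.Helper7.Sz8

open Cfsg

universe u v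

namespace Helper17

/-- no odd prime divides the order of the kernel of a finite stem extension, if no kernel has odd
prime order -/
theorem no_odd_dvd {G : Type v} [Group G]
    (hodd : ∀ (Γ : Type u) [Group Γ] [Finite Γ] (σ : Γ →* G), IsStemExtension σ →
      ∀ p : ℕ, p.Prime → p ≠ 2 → Nat.card σ.ker ≠ p) :
    ∀ (n : ℕ) (Γ : Type u) [Group Γ] [Finite Γ] (σ : Γ →* G), Nat.card Γ = n →
      IsStemExtension σ → ∀ p : ℕ, p.Prime → p ≠ 2 → ¬ p ∣ Nat.card σ.ker := by
  intro n
  induction n using Nat.strong_induction_on with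
  | _ n ih =>
    intro Γ _ _ σ hn hσ p hp hp2 hpd
    have hσ0 := hσ
    obtain ⟨hsurj, hcen, hcomm⟩ := hσ
    obtain ⟨m, hm⟩ := hpd
    have hm1 : m ≠ 1 := by
      intro h1
      rw [h1, mul_one] at hm
      exact hodd Γ σ hσ0 p hp hp2 hm
    obtain ⟨q, hq, hqd⟩ := Nat.exists_prime_and_dvd hm1
    obtain ⟨m', hm'⟩ := hqd
    haveI : Fact q.Prime := ⟨hq⟩
    have hqK : q ∣ Nat.card σ.ker := by
      rw [hm, hm']
      exact ⟨p * m', by ring⟩
    obtain ⟨x, hx⟩ := exists_prime_orderOf_dvd_card' (G := σ.ker) q hqK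
    set Z₀ : Subgroup Γ := Subgroup.zpowers (x : Γ) with hZ₀
    have hZ₀K : Z₀ ≤ σ.ker := by
      rw [hZ₀, Subgroup.zpowers_le]
      exact x.2
    haveI : Z₀.Normal := by
      constructor
      intro g hg y
      have := Subgroup.mem_center_iff.1 (hcen (hZ₀K hg)) y
      rw [this, mul_assoc, mul_inv_cancel, mul_one]
      exact hg
    have hcardZ₀ : Nat.card Z₀ = q := by
      rw [hZ₀, Nat.card_zpowers, Subgroup.orderOf_coe, hx]
    set σ' : Γ ⧸ Z₀ →* G := QuotientGroup.lift Z₀ σ (fun y hy => (MonoidHom.mem_ker).1 (hZ₀K hy))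
      with hσ'
    have hσ'mk : ∀ g : Γ, σ' (QuotientGroup.mk g) = σ g := fun g => rfl
    have hΓq : Nat.card Γ = Nat.card (Γ ⧸ Z₀) * q := by
      have h1 := Subgroup.card_eq_card_quotient_mul_card_subgroup Z₀
      rw [hcardZ₀] at h1
      exact h1
    have hlt : Nat.card (Γ ⧸ Z₀) < n := by
      rw [← hn, hΓq]
      have h2 : 0 < Nat.card (Γ ⧸ Z₀) := Nat.card_pos
      have h3 := hq.two_le
      nlinarith
    have hsurj' : Function.Surjective σ' := by
      intro g
      obtain ⟨y, hy⟩ := hsurj g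
      exact ⟨QuotientGroup.mk y, by rw [hσ'mk, hy]⟩
    have hstem : IsStemExtension σ' := by
      refine ⟨hsurj', ?_, ?_⟩
      · intro y hy
        obtain ⟨g, rfl⟩ := QuotientGroup.mk_surjective y
        rw [MonoidHom.mem_ker, hσ'mk] at hy
        have hg : g ∈ Subgroup.center Γ := hcen ((MonoidHom.mem_ker).2 hy)
        rw [Subgroup.mem_center_iff]
        intro w
        obtain ⟨w', rfl⟩ := QuotientGroup.mk_surjective w
        rw [← QuotientGroup.mk_mul, ← QuotientGroup.mk_mul, Subgroup.mem_center_iff.1 hg w']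
      · intro y hy
        obtain ⟨g, rfl⟩ := QuotientGroup.mk_surjective y
        rw [MonoidHom.mem_ker, hσ'mk] at hy
        have hg : g ∈ commutator Γ := hcomm ((MonoidHom.mem_ker).2 hy)
        exact Cfsg.Agent.Lib.Helper12.Schur.map_commutator_le (QuotientGroup.mk' Z₀) ⟨g, hg, rfl⟩
    -- cardinalities of the two kernels
    haveI : Finite G := Finite.of_surjective σ hsurj
    have hidx : σ.ker.index = Nat.card G := by
      rw [Subgroup.index_ker, MonoidHom.range_eq_top.mpr hsurj, Subgroup.card_top]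
    have hidx' : σ'.ker.index = Nat.card G := by
      rw [Subgroup.index_ker, MonoidHom.range_eq_top.mpr hsurj', Subgroup.card_top]
    have hG0 : 0 < Nat.card G := Nat.card_pos
    have h1 : Nat.card σ.ker * Nat.card G = Nat.card Γ := by
      rw [← hidx]; exact Subgroup.card_mul_index σ.ker
    have h2 : Nat.card σ'.ker * Nat.card G = Nat.card (Γ ⧸ Z₀) := by
      rw [← hidx']; exact Subgroup.card_mul_index σ'.ker
    have h3 : Nat.card σ.ker = Nat.card σ'.ker * q := by
      have : Nat.card σ.ker * Nat.card G = (Nat.card σ'.ker * q) * Nat.card G := by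
        rw [h1, hΓq, ← h2]; ring
      exact Nat.eq_of_mul_eq_mul_right hG0 this
    have h4 : Nat.card σ'.ker = p * m' := by
      have : Nat.card σ'.ker * q = (p * m') * q := by
        rw [← h3, hm, hm']; ring
      exact Nat.eq_of_mul_eq_mul_right hq.pos this
    exact ih _ hlt (Γ ⧸ Z₀) σ' rfl hstem p hp hp2 ⟨m', h4⟩

end Helper17

/-- [S3] if no finite stem extension of `G` has a kernel of odd prime order, all kernels are `2`-groups
(induction on the order as in `Cfsg.Agent.Lib.Helper3.SzMult.reduce_prime`) -/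
theorem isPGroup_two_ker {G : Type v} [Group G]
    (hodd : ∀ (Γ : Type u) [Group Γ] [Finite Γ] (σ : Γ →* G), IsStemExtension σ →
      ∀ p : ℕ, p.Prime → p ≠ 2 → Nat.card σ.ker ≠ p)
    {Γ : Type u} [Group Γ] [Finite Γ] (σ : Γ →* G) (hσ : IsStemExtension σ) : IsPGroup 2 σ.ker := by
  haveI : Fact (Nat.Prime 2) := ⟨Nat.prime_two⟩
  have hno := Helper17.no_odd_dvd hodd (Nat.card Γ) Γ σ rfl hσ
  have hne : Nat.card σ.ker ≠ 0 := Nat.card_pos.ne'
  have hpow := Nat.eq_prime_pow_of_unique_prime_dvd (p := 2) hne (by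
    intro d hd hdd
    by_contra h
    exact hno d hd h hdd)
  exact IsPGroup.of_card hpow

end Cfsg.Agent.Lib.Helper7.Sz8
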