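import Cfsg.Agent.Lib.Helper7.U62M.Defs
import Cfsg.Agent.Lib.Helper23.U62MR

/-!
# S2091-[EX-SU] (helper7's PSU₆(2) front): the covering group maps to `SU₆(4)`

helper4's eight transvections of `SU₆(4)` satisfy the Coxeter relators and `rho1`, `rho4` exactly; `rho2`
evaluates to the scalar `ω`, and `rho3`, `rho5` to the identity.
-/

set_option autoImplicit false
set_option maxRecDepth 100000

namespace Cfsg.Agent.Lib.Helper7.U62M

open Cfsg Cfsg.Agent.Helper4.TC Cfsg.Agent.Helper4.TC.U62Mat Cfsg.Agent.Lib.Helper6.FFour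

namespace Helper17

/-- the matrix of a code word -/
def mw (b : List ℕ) : MatD 6 K4 := MatD.evM (dlM DQ DQ) (b.map dec)

theorem exact_chk : ∀ b ∈ coxL ++ [rho1, rho4], mw b = MatD.one := by decide +kernel

theorem rho_chk : mw rho2 = scalD K4.w ∧ mw rho3 = MatD.one ∧ mw rho5 = MatD.one ∧
    mw (rho2 ++ rho2 ++ rho2) = MatD.one := by decide +kernel

/-- the group `SU₆(4)` -/
abbrev SU6 : Type := ↥(Cfsg.SU 6 K4 2)

/-- the eight transvections -/
noncomputable def fS : Gen → SU6 := suOf DQ hinvQ hunitQ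

theorem mat_evc (b : List ℕ) :
    mat (evc fS dec b) = (mw b).toMatE (Equiv.refl (Fin 6)) :=
  mat_ev_su DQ hinvQ hunitQ (b.map dec)

theorem evc_eq_one {b : List ℕ} (h : mw b = MatD.one) : evc fS dec b = 1 := by
  apply mat_injective
  rw [mat_evc, h, MatD.toMatE_one, mat_one]

theorem w_ne_one : (K4.w : K4) ≠ 1 := by decide

end Helper17

open Helper17 in
/-- [EX-SU] the matrices of `SU₆(4)` -/
theorem exists_hom_A : ∃ (Δ : Type) (_ : Group Δ) (φ : PW1 →* Δ),
    φ r2 ≠ 1 ∧ φ r2 ^ 3 = 1 ∧ φ r3 = 1 ∧ φ r5 = 1 := by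
  obtain ⟨φ, hφ⟩ : ∃ φ : PW1 →* SU6, ∀ a, φ (PresentedGroup.of a) = fS a :=
    Schur.exists_hom_weak0 U62QCod.coding (Subgroup.center SU6) le_rfl fS
    (coxL ++ [rho1, rho4]) [rho2, rho3, rho5] gensL
    (fun b hb => evc_eq_one (exact_chk b hb))
    (by
      intro ρ hρ
      simp only [List.mem_cons, List.not_mem_nil, or_false] at hρ
      rcases hρ with rfl | rfl | rfl
      · refine mem_center_of_scalar _ K4.w ?_
        rw [mat_evc, rho_chk.1, toMatE_scalD]
      · rw [evc_eq_one rho_chk.2.1]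
        exact Subgroup.one_mem _
      · rw [evc_eq_one rho_chk.2.2.1]
        exact Subgroup.one_mem _)
  have hev : ∀ b : List ℕ, φ (evc (PresentedGroup.of (rels := RW1)) dec b) = evc fS dec b := by
    intro b
    rw [Schur.map_evc]
    congr 1
    funext a
    exact hφ a
  refine ⟨SU6, inferInstance, φ, ?_, ?_, ?_, ?_⟩
  · show φ (evc (PresentedGroup.of (rels := RW1)) dec rho2) ≠ 1
    rw [hev]
    intro h
    have h1 := congrArg mat h
    rw [mat_evc, rho_chk.1, toMatE_scalD, mat_one] at h1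
    have h2 := congrFun (congrFun h1 0) 0
    rw [Matrix.smul_apply, Matrix.one_apply_eq, smul_eq_mul, mul_one] at h2
    exact w_ne_one h2
  · show φ (evc (PresentedGroup.of (rels := RW1)) dec rho2) ^ 3 = 1
    rw [hev]
    have h3 : evc fS dec (rho2 ++ rho2 ++ rho2) = evc fS dec rho2 ^ 3 := by
      unfold evc
      rw [List.map_append, List.map_append, ev_append, ev_append]
      rw [pow_succ, pow_succ, pow_one, mul_assoc]
    rw [← h3]
    exact evc_eq_one rho_chk.2.2.2
  · show φ (evc (PresentedGroup.of (rels := RW1)) dec rho3) = 1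
    rw [hev]
    exact evc_eq_one rho_chk.2.1
  · show φ (evc (PresentedGroup.of (rels := RW1)) dec rho5) = 1
    rw [hev]
    exact evc_eq_one rho_chk.2.2.1

end Cfsg.Agent.Lib.Helper7.U62M
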