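import Mathlib
import Cfsg.Prelude.Def_Transfer
import Cfsg.Agent.Lib.Helper17.TransferGen
import Cfsg.Agent.Lib.Helper17.WeaklyClosed
import Cfsg.Agent.Lib.Helper17.PResidual
import Cfsg.Agent.Lib.Helper1.Frattini
import Cfsg.Agent.Lib.Helper13.Sylow
import Cfsg.Agent.Lib.Lead.Tate

/-!
# The Wielandt–Yoshida transfer theorem

`wy_focal`: `S` a Sylow `p`-subgroup of the finite group `G`, `W ≤ S` weakly closed in `S` with
respect to `G`.  If for all `x ∈ S`, `z ∈ W` and all maximal subgroups `W₀` of `W` the iterated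
commutator `[x, z; p-1]` lies in `Φ(W₀)` as soon as it lies in `W₀`, then
`S ∩ G' = S ∩ N_G(W)'`.
-/

set_option autoImplicit false

namespace Cfsg.Agent.Lib.Helper17

open Subgroup MonoidHom MulAction Cfsg
open Cfsg.Agent.Lib.Helper9 Cfsg.Agent.Lib.Helper1

section Small

variable {G : Type*} [Group G]

theorem orderOf_mul_mul_inv (g x : G) : orderOf (g * x * g⁻¹) = orderOf x := by
  have := orderOf_injective (MulAut.conj g).toMonoidHom (MulAut.conj g).injective x
  simpa [MulAut.conj_apply] using this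

theorem orderOf_inv_mul_mul (g x : G) : orderOf (g⁻¹ * x * g) = orderOf x := by
  have := orderOf_mul_mul_inv g⁻¹ x
  simpa using this

theorem frattiniP_le_ker {P Q : Type*} [Group P] [CommGroup Q] {p : ℕ}
    (hQ : ∀ q : Q, q ^ p = 1) (θ : P →* Q) :
    Cfsg.Agent.Lib.Lead.frattiniP p P ≤ θ.ker := by
  unfold Cfsg.Agent.Lib.Lead.frattiniP
  apply sup_le
  · exact Abelianization.commutator_subset_ker θ
  · rw [Subgroup.closure_le]
    rintro _ ⟨x, rfl⟩
    show θ (x ^ p) = 1
    rw [map_pow, hQ]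

theorem mu_conj_eq {H : Subgroup G} {Q : Type*} [CommGroup Q] (μ : H →* Q) (a : G) (ha : a ∈ H)
    (x : G) (hx : x ∈ H) (h : a⁻¹ * (x * a) ∈ H) : μ ⟨a⁻¹ * (x * a), h⟩ = μ ⟨x, hx⟩ := by
  have e : (⟨a⁻¹ * (x * a), h⟩ : H) = (⟨a, ha⟩ : H)⁻¹ * (⟨x, hx⟩ * ⟨a, ha⟩) := Subtype.ext rfl
  rw [e, map_mul, map_mul, map_inv, mul_comm (μ ⟨x, hx⟩), inv_mul_cancel_left]

theorem orderOf_stab_conj {H : Subgroup G} (K : Subgroup G) (a : G)
    (j : stabilizer K ((a : G) : G ⧸ H)) :
    orderOf (⟨a⁻¹ * (((j : K) : G) * a), stab_mem K a j⟩ : H) = orderOf (j : K) := by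
  rw [← Subgroup.orderOf_coe]
  show orderOf (a⁻¹ * (((j : K) : G) * a)) = _
  rw [← mul_assoc, orderOf_inv_mul_mul, Subgroup.orderOf_coe]

theorem commIter_subtype (Y : Subgroup G) (z u : Y) (k : ℕ) :
    (((fun v : Y => v⁻¹ * z⁻¹ * v * z)^[k] u : Y) : G) =
      (fun g : G => g⁻¹ * (z : G)⁻¹ * g * z)^[k] (u : G) := by
  induction k with
  | zero => rfl
  | succ k ih =>
    rw [Function.iterate_succ_apply', Function.iterate_succ_apply', ← ih]
    simp only [Subgroup.coe_mul, Subgroup.coe_inv]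

/-- A `p`-element of `O^p(X) X'` lies in `X'`. -/
theorem mem_commutator_of_pElement {p : ℕ} [Fact p.Prime] {X : Type*} [Group X] [Finite X] {s : X}
    (hs : ∃ n, s ^ p ^ n = 1) (h : s ∈ pResidual p X ⊔ commutator X) : s ∈ commutator X := by
  obtain ⟨n, hn⟩ := hs
  have hp : p.Prime := Fact.out
  obtain ⟨e, m, hm, hcard⟩ :=
    Nat.exists_eq_pow_mul_and_not_dvd (Nat.card_pos (α := X)).ne' p hp.ne_one
  let f : X →* Abelianization X := Abelianization.of
  let D : Subgroup X :=
    ((powMonoidHom m : Abelianization X →* Abelianization X).ker).comap f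
  have hD : ∀ g : X, g ∈ D ↔ f g ^ m = 1 := fun g => Iff.rfl
  have h1 : pResidual p X ≤ D := by
    unfold pResidual
    rw [closure_le]
    intro g hg
    have hg' : (orderOf g).Coprime p := hg
    rw [SetLike.mem_coe, hD]
    have hdvd : orderOf g ∣ m := by
      have h2 : orderOf g ∣ p ^ e * m := hcard ▸ orderOf_dvd_natCard g
      exact (Nat.Coprime.pow_right e hg').dvd_of_dvd_mul_left h2
    rw [← map_pow, orderOf_dvd_iff_pow_eq_one.mp hdvd, map_one]
  have h2 : commutator X ≤ D := by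
    intro g hg
    rw [hD]
    have : f g = 1 := by
      rw [← MonoidHom.mem_ker, Abelianization.ker_of]; exact hg
    rw [this, one_pow]
  have hsD : f s ^ m = 1 := (hD s).mp ((sup_le h1 h2) h)
  have ho1 : orderOf (f s) ∣ m := orderOf_dvd_of_pow_eq_one hsD
  have ho2 : orderOf (f s) ∣ p ^ n := orderOf_dvd_of_pow_eq_one (by rw [← map_pow, hn, map_one])
  have hcop : (orderOf (f s)).Coprime (p ^ n) :=
    Nat.Coprime.coprime_dvd_left ho1
      (Nat.Coprime.pow_right n ((Nat.Prime.coprime_iff_not_dvd hp).mpr hm).symm)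
  have hfs : f s = 1 := orderOf_eq_one_iff.mp (Nat.Coprime.eq_one_of_dvd hcop ho2)
  rw [← Abelianization.ker_of, MonoidHom.mem_ker]
  exact hfs

end Small

section WY

variable {G : Type*} [Group G] [Finite G] {p : ℕ} [Fact p.Prime]

/-- The negation of Yoshida's conclusion. -/
def HypE (p : ℕ) (S W : Subgroup G) : Prop :=
  ∀ x ∈ S, ∀ z ∈ W, ∀ W₀ : Subgroup ↥W, IsCoatom W₀ →
    (fun y : G => y⁻¹ * z⁻¹ * y * z)^[p - 1] x ∈ W₀.map W.subtype →
    (fun y : G => y⁻¹ * z⁻¹ * y * z)^[p - 1] x ∈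
      ((frattini ↥W₀).map W₀.subtype).map W.subtype

theorem mu_eq_one_of_order_lt (S : Sylow p G) {H : Subgroup G} (hSH : (S : Subgroup G) ≤ H)
    {Q : Type*} [CommGroup Q] (μ : H →* Q) (n : ℕ)
    (hmin : ∀ y (hy : y ∈ (S : Subgroup G)), orderOf y < n → μ ⟨y, hSH hy⟩ = 1)
    (v : H) (hv : ∃ k, v ^ p ^ k = 1) (hlt : orderOf v < n) : μ v = 1 := by
  obtain ⟨c, hc⟩ := Cfsg.Agent.Lib.Helper13.exists_conj_mem_sylow (S.subtype hSH) v hv
  have hcoe : ((S.subtype hSH : Sylow p H) : Subgroup H) = (S : Subgroup G).subgroupOf H :=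
    Sylow.coe_subtype S hSH
  rw [hcoe] at hc
  have hc' : ((c * v * c⁻¹ : H) : G) ∈ (S : Subgroup G) := mem_subgroupOf.mp hc
  have hord : orderOf ((c * v * c⁻¹ : H) : G) < n := by
    rw [Subgroup.orderOf_coe, orderOf_mul_mul_inv]; exact hlt
  have h1 := hmin _ hc' hord
  have e : (⟨((c * v * c⁻¹ : H) : G), hSH hc'⟩ : H) = c * v * c⁻¹ := Subtype.ext rfl
  rw [e, map_mul, map_mul, map_inv, mul_comm, inv_mul_cancel_left] at h1
  exact h1

/-- The key step: if `x ∈ S` has minimal order among the elements of `S` outside `ker μ`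
(`μ : N_G(W) →* Q`, `Q` elementary abelian), the transfer of `μ` agrees with `μ` at `x`. -/
theorem wy_key (S : Sylow p G) (W : Subgroup G) (hW : IsWeaklyClosed W (S : Subgroup G))
    (hE : HypE p (S : Subgroup G) W) (H : Subgroup G) (hHdef : H = normalizer (W : Set G))
    (hSH : (S : Subgroup G) ≤ H)
    {Q : Type*} [CommGroup Q] (hQ : ∀ q : Q, q ^ p = 1)
    (μ : H →* Q) (x : G) (hxS : x ∈ (S : Subgroup G))
    (hmin : ∀ y (hy : y ∈ (S : Subgroup G)), orderOf y < orderOf x → μ ⟨y, hSH hy⟩ = 1) :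
    transfer μ x = μ ⟨x, hSH hxS⟩ := by
  classical
  have hp : p.Prime := Fact.out
  have hWS : W ≤ (S : Subgroup G) := hW.1
  have hWH : W ≤ H := hWS.trans hSH
  have hP : ∀ v : H, (∃ k, v ^ p ^ k = 1) → orderOf v < orderOf x → μ v = 1 :=
    mu_eq_one_of_order_lt S hSH μ (orderOf x) hmin
  obtain ⟨Y, hYdef⟩ : ∃ Y : Subgroup G, Y = W ⊔ zpowers x := ⟨_, rfl⟩
  have hWY : W ≤ Y := hYdef ▸ le_sup_left
  have hxY : x ∈ Y := hYdef ▸ (le_sup_right : zpowers x ≤ W ⊔ zpowers x) (mem_zpowers x)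
  have hYS : Y ≤ (S : Subgroup G) := hYdef ▸ sup_le hWS ((zpowers_le).mpr hxS)
  have hYH : Y ≤ H := hYS.trans hSH
  have hYp : IsPGroup p Y := S.2.to_le hYS
  let y : Y := ⟨x, hxY⟩
  have hyx : orderOf y = orderOf x := (Subgroup.orderOf_coe y).symm
  obtain ⟨nx, hnx⟩ : ∃ k, x ^ p ^ k = 1 := by
    obtain ⟨k, hk⟩ := S.2 ⟨x, hxS⟩
    exact ⟨k, by simpa using congrArg Subtype.val hk⟩
  -- the contribution of a nontrivial orbit
  have hmain : ∀ a : G, a ∉ H → transfer (stabHom μ Y a) y = 1 := by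
    intro a ha
    -- `W` is not contained in the stabilizer
    have hF1 : ∃ w, ∃ hw : w ∈ W, (⟨w, hWY hw⟩ : Y) ∉ stabilizer Y ((a : G) : G ⧸ H) := by
      by_contra hcon
      push Not at hcon
      apply ha
      have hle : W.map (MulAut.conj a⁻¹).toMonoidHom ≤ H := by
        rintro _ ⟨w, hw, rfl⟩
        have := (mem_stabilizer_mk_iff Y a ⟨w, hWY hw⟩).mp (hcon w hw)
        simpa [MulAut.conj_apply, mul_assoc] using this
      obtain ⟨h, hhH, hh⟩ := weaklyClosed_conj_in_subgroup S W hW H hWH a⁻¹ hle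
      have h1 : W.map (MulAut.conj h).toMonoidHom = W :=
        conjMap_eq_self_of_mem_normalizer (hHdef ▸ hhH)
      have h2 : a⁻¹ ∈ normalizer (W : Set G) :=
        mem_normalizer_of_conjMap_eq_self (hh ▸ h1)
      rw [hHdef]
      simpa using inv_mem h2
    obtain ⟨w₁, hw₁, hw₁T⟩ := hF1
    have hT : stabilizer Y ((a : G) : G ⧸ H) ≠ ⊤ := fun h => hw₁T (h ▸ mem_top _)
    obtain ⟨M, hMco, hTM⟩ := (eq_top_or_exists_le_coatom _).resolve_left hT
    have hMn : M.Normal := IsPGroup.normal_of_isCoatom hYp hMco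
    have hMi : M.index = p := IsPGroup.index_of_isCoatom hYp hMco
    by_cases hconj : ∃ b : Y, b⁻¹ * y * b ∈ stabilizer Y ((a : G) : G ⧸ H)
    · -- a conjugate of `x` lies in the stabilizer
      obtain ⟨b, hb⟩ := hconj
      have hy₁M : b⁻¹ * y * b ∈ M := hTM hb
      have hyM : y ∈ M := by
        have := hMn.conj_mem _ hy₁M b
        have e : b * (b⁻¹ * y * b) * b⁻¹ = y := by group
        rwa [e] at this
      have hz : ∃ z, ∃ hz : z ∈ W, (⟨z, hWY hz⟩ : Y) ∉ M := by
        by_contra hall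
        push Not at hall
        apply hMco.1
        rw [eq_top_iff]
        intro u _
        have hle' : W ⊔ zpowers x ≤ M.map Y.subtype := by
          apply sup_le
          · intro w hw
            exact ⟨⟨w, hWY hw⟩, hall w hw, rfl⟩
          · rw [zpowers_le]
            exact ⟨y, hyM, rfl⟩
        have hle : Y ≤ M.map Y.subtype := hYdef.le.trans hle'
        obtain ⟨m, hm, hmu⟩ := hle u.2
        have : m = u := Subtype.ext hmu
        rw [← this]; exact hm
      obtain ⟨z, hzW, hzM⟩ := hz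
      let zY : Y := ⟨z, hWY hzW⟩
      -- the chain of transfers
      have e1 : transfer (stabHom μ Y a) y = transfer (stabHom μ Y a) (b⁻¹ * y * b) :=
        (transfer_conj (stabHom μ Y a) y b).symm
      have e2 := transfer_trans (stabHom μ Y a) hTM (b⁻¹ * y * b)
      have e3 := transfer_index_prime hMi
        (transfer ((stabHom μ Y a).comp (subgroupOfEquivOfLe hTM).toMonoidHom)) hQ hzM
        ⟨b⁻¹ * y * b, hy₁M⟩
      rw [e1, e2]
      refine e3.trans ?_
      -- the iterated commutator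
      set m₁ : M := (fun u : M => u⁻¹ * conjInv M zY u)^[p - 1] ⟨b⁻¹ * y * b, hy₁M⟩ with hm₁
      set x₁ : G := ((b⁻¹ * y * b : Y) : G) with hx₁
      have hx₁S : x₁ ∈ (S : Subgroup G) := hYS (b⁻¹ * y * b).2
      have hcoe : ((m₁ : Y) : G) = (fun g : G => g⁻¹ * z⁻¹ * g * z)^[p - 1] x₁ := by
        rw [hm₁, commIter_coe M zY ⟨b⁻¹ * y * b, hy₁M⟩ (p - 1),
          commIter_subtype Y zY (b⁻¹ * y * b) (p - 1)]
      have hiter : ∀ k, (fun g : G => g⁻¹ * z⁻¹ * g * z)^[k] x₁ ∈ (S : Subgroup G) := by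
        intro k
        induction k with
        | zero => exact hx₁S
        | succ k ih =>
          rw [Function.iterate_succ_apply']
          exact mul_mem (mul_mem (mul_mem (inv_mem ih) (inv_mem (hWS hzW))) ih) (hWS hzW)
      have hcW : (fun g : G => g⁻¹ * z⁻¹ * g * z)^[p - 1] x₁ ∈ W := by
        obtain ⟨k, hk⟩ : ∃ k, p - 1 = k + 1 := ⟨p - 2, by have := hp.two_le; omega⟩
        rw [hk, Function.iterate_succ_apply']
        have hgN : (fun g : G => g⁻¹ * z⁻¹ * g * z)^[k] x₁ ∈ normalizer (W : Set G) :=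
          hHdef ▸ hSH (hiter k)
        have h3 := (mem_normalizer_iff.mp (inv_mem hgN) z⁻¹).mp (by simpa using inv_mem hzW)
        have h4 : ((fun g : G => g⁻¹ * z⁻¹ * g * z)^[k] x₁)⁻¹ * z⁻¹ *
            ((fun g : G => g⁻¹ * z⁻¹ * g * z)^[k] x₁) ∈ W := by simpa using h3
        exact mul_mem h4 hzW
      -- the maximal subgroup `W₀ = W ∩ M` of `W`
      let W₀ : Subgroup ↥W := M.comap (Subgroup.inclusion hWY)
      have hW₀co : IsCoatom W₀ := by
        constructor
        · intro htop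
          apply hzM
          have : (⟨z, hzW⟩ : W) ∈ W₀ := htop ▸ mem_top _
          exact this
        · intro X hX
          obtain ⟨u, huX, huW₀⟩ := SetLike.exists_of_lt hX
          have huM : Subgroup.inclusion hWY u ∉ M := huW₀
          have hbij := pow_bijective_of_index_prime hMi huM
          rw [eq_top_iff]
          intro w _
          obtain ⟨i, hi⟩ := hbij.2 ((Subgroup.inclusion hWY w : Y) : Y ⧸ M)
          have h5 : ((Subgroup.inclusion hWY u) ^ (i : ℕ))⁻¹ * Subgroup.inclusion hWY w ∈ M :=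
            QuotientGroup.eq.mp hi
          have h6 : (u ^ (i : ℕ))⁻¹ * w ∈ W₀ := by
            show Subgroup.inclusion hWY ((u ^ (i : ℕ))⁻¹ * w) ∈ M
            rw [map_mul, map_inv, map_pow]
            exact h5
          have h7 : w = u ^ (i : ℕ) * ((u ^ (i : ℕ))⁻¹ * w) := by group
          rw [h7]
          exact mul_mem (pow_mem huX _) (hX.le h6)
      have hcW₀ : (fun g : G => g⁻¹ * z⁻¹ * g * z)^[p - 1] x₁ ∈ W₀.map W.subtype := by
        refine ⟨⟨_, hcW⟩, ?_, rfl⟩
        show Subgroup.inclusion hWY ⟨_, hcW⟩ ∈ M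
        have : Subgroup.inclusion hWY ⟨_, hcW⟩ = (m₁ : Y) := Subtype.ext hcoe.symm
        rw [this]; exact m₁.2
      obtain ⟨w', ⟨φ₀, hφ₀, rfl⟩, hw'c⟩ := hE x₁ hx₁S z hzW W₀ hW₀co hcW₀
      -- the hom `W₀ → M → Q`
      let ι₀ : ↥W₀ →* ↥M :=
        ((Subgroup.inclusion hWY).comp W₀.subtype).codRestrict M (fun w₀ => w₀.2)
      let χ : M →* Q := transfer ((stabHom μ Y a).comp (subgroupOfEquivOfLe hTM).toMonoidHom)
      have hker : frattini ↥W₀ ≤ (χ.comp ι₀).ker :=
        (Cfsg.Agent.Lib.Lead.frattini_le_frattiniP (p := p)).trans (frattiniP_le_ker hQ _)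
      have h8 : χ (ι₀ φ₀) = 1 := MonoidHom.mem_ker.mp (hker hφ₀)
      have h9 : ι₀ φ₀ = m₁ := by
        apply Subtype.ext
        apply Subtype.ext
        rw [hcoe, ← hw'c]
        rfl
      rw [h9] at h8
      exact h8
    · -- no conjugate of `x` lies in the stabilizer
      push Not at hconj
      have hgen : ∀ (b : Y) (k : ℕ) (hmem : b⁻¹ * y ^ k * b ∈ stabilizer Y ((a : G) : G ⧸ H)),
          k ∣ orderOf y → stabHom μ Y a ⟨b⁻¹ * y ^ k * b, hmem⟩ = 1 := by
        intro b k hmem hkdvd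
        have hk1 : k ≠ 1 := by
          intro h1
          rw [h1, pow_one] at hmem
          exact hconj b hmem
        have hk0 : k ≠ 0 := by
          intro h0
          rw [h0] at hkdvd
          exact (orderOf_pos y).ne' (zero_dvd_iff.mp hkdvd)
        have hlt : orderOf (y ^ k) < orderOf y := by
          rw [orderOf_pow' y hk0, Nat.gcd_eq_right hkdvd]
          exact Nat.div_lt_self (orderOf_pos y) (by omega)
        have hord := orderOf_stab_conj (H := H) Y a ⟨b⁻¹ * y ^ k * b, hmem⟩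
        rw [stabHom_apply]
        apply hP
        · refine ⟨nx, orderOf_dvd_iff_pow_eq_one.mp ?_⟩
          rw [hord]
          show orderOf (b⁻¹ * y ^ k * b) ∣ p ^ nx
          rw [orderOf_inv_mul_mul]
          refine (orderOf_pow_dvd k).trans ?_
          rw [hyx]
          exact orderOf_dvd_of_pow_eq_one hnx
        · rw [hord]
          show orderOf (b⁻¹ * y ^ k * b) < orderOf x
          rw [orderOf_inv_mul_mul, ← hyx]
          exact hlt
      let _ : Fintype (Quotient (orbitRel (zpowers y) (Y ⧸ stabilizer Y ((a : G) : G ⧸ H)))) :=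
        Fintype.ofFinite _
      rw [transfer_eq_prod_quotient_orbitRel_zpowers_quot (stabHom μ Y a) y]
      apply Finset.prod_eq_one
      intro q _
      apply hgen
      exact MulAction.pow_smul_eq_iff_minimalPeriod_dvd.mp
        (by rw [pow_orderOf_eq_one, one_smul])
  -- Mackey decomposition
  let _ : Fintype (orbitRel.Quotient Y (G ⧸ H)) := Fintype.ofFinite _
  have hmack : transfer μ x = ∏ ω : orbitRel.Quotient Y (G ⧸ H),
      transfer (stabHom μ Y (Quotient.out (Quotient.out ω))) y := transfer_mackey μ Y y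
  rw [hmack]
  let ω₀ : orbitRel.Quotient Y (G ⧸ H) := Quotient.mk'' ((1 : G) : G ⧸ H)
  rw [Finset.prod_eq_single ω₀]
  · -- the trivial orbit
    have h3 := Quotient.exact' (Quotient.out_eq' ω₀ :
      (Quotient.mk'' (Quotient.out ω₀) : orbitRel.Quotient Y (G ⧸ H)) =
        Quotient.mk'' ((1 : G) : G ⧸ H))
    have h4 : Quotient.out ω₀ ∈ orbit Y ((1 : G) : G ⧸ H) := (orbitRel_apply).mp h3
    obtain ⟨j, hj⟩ := h4
    have hj' : (((j : G) * 1 : G) : G ⧸ H) = ((Quotient.out (Quotient.out ω₀) : G) : G ⧸ H) := by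
      rw [QuotientGroup.out_eq']
      exact hj
    have ha₀ : Quotient.out (Quotient.out ω₀) ∈ H := by
      have h5 := QuotientGroup.eq.mp hj'
      have h6 := H.mul_mem (H.mul_mem (hYH j.2) (H.one_mem)) h5
      rwa [mul_inv_cancel_left] at h6
    have hTtop : stabilizer Y (((Quotient.out (Quotient.out ω₀) : G)) : G ⧸ H) = ⊤ := by
      rw [eq_top_iff]
      intro j' _
      rw [mem_stabilizer_mk_iff]
      exact H.mul_mem (H.inv_mem ha₀) (H.mul_mem (hYH j'.2) ha₀)
    rw [transfer_of_eq_top _ hTtop y, stabHom_apply]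
    exact mu_conj_eq μ _ ha₀ x (hSH hxS) _
  · intro ω _ hω
    apply hmain
    intro haH
    apply hω
    have h1 : Quotient.out ω = ((1 : G) : G ⧸ H) := by
      rw [← QuotientGroup.out_eq' (Quotient.out ω)]
      exact QuotientGroup.eq.mpr (by simpa using haH)
    rw [← Quotient.out_eq' ω, h1]
  · intro h
    exact absurd (Finset.mem_univ _) h

/-- **Wielandt–Yoshida**: under hypothesis `HypE`, `N_G(W)` controls transfer:
`S ∩ G' = S ∩ N_G(W)'`. -/
theorem wy_focal (S : Sylow p G) (W : Subgroup G) (hW : IsWeaklyClosed W (S : Subgroup G))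
    (hE : HypE p (S : Subgroup G) W) :
    (S : Subgroup G) ⊓ commutator G =
      (S : Subgroup G) ⊓ ⁅normalizer (W : Set G), normalizer (W : Set G)⁆ := by
  classical
  have hp : p.Prime := Fact.out
  obtain ⟨H, hHdef⟩ : ∃ H : Subgroup G, H = normalizer (W : Set G) := ⟨_, rfl⟩
  rw [← hHdef]
  have hSH : (S : Subgroup G) ≤ H := hHdef ▸ IsWeaklyClosed.sylow_le_normalizer hW
  apply le_antisymm
  swap
  · exact inf_le_inf_left _ (Subgroup.commutator_mono le_top le_top : ⁅H, H⁆ ≤ commutator G)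
  -- the largest abelian p-quotient of H
  let ofH : H →* Abelianization H := Abelianization.of
  have hofsurj : Function.Surjective ofH := QuotientGroup.mk'_surjective _
  let R : Subgroup (Abelianization H) := (pResidual p H).map ofH
  let π : H →* Abelianization H ⧸ R := (QuotientGroup.mk' R).comp ofH
  have hπsurj : Function.Surjective π := by
    intro β
    obtain ⟨α, rfl⟩ := QuotientGroup.mk'_surjective R β
    obtain ⟨h, rfl⟩ := hofsurj α
    exact ⟨h, rfl⟩
  have hker1 : ∀ h ∈ pResidual p H, π h = 1 := by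
    intro h hh
    exact (QuotientGroup.eq_one_iff _).mpr (mem_map_of_mem ofH hh)
  have hker2 : ∀ h : H, π h = 1 → h ∈ pResidual p H ⊔ commutator H := by
    intro h hh
    have h1 : ofH h ∈ R := (QuotientGroup.eq_one_iff _).mp hh
    obtain ⟨r, hr, hrh⟩ := h1
    have h2 : r⁻¹ * h ∈ commutator H := by
      rw [← Abelianization.ker_of, MonoidHom.mem_ker, map_mul, map_inv]
      show (ofH r)⁻¹ * ofH h = 1
      rw [hrh, inv_mul_cancel]
    have h3 := Subgroup.mul_mem_sup hr h2
    rwa [mul_inv_cancel_left] at h3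
  have hBp : IsPGroup p (Abelianization H ⧸ R) := by
    intro β
    obtain ⟨h, rfl⟩ := hπsurj β
    obtain ⟨k, hk⟩ := exists_pow_mem_pResidual (p := p) h
    exact ⟨k, by rw [← map_pow]; exact hker1 _ hk⟩
  -- elements of S
  have hSp : ∀ s : H, (s : G) ∈ (S : Subgroup G) → ∃ n, s ^ p ^ n = 1 := by
    intro s hs
    obtain ⟨k, hk⟩ := S.2 ⟨(s : G), hs⟩
    refine ⟨k, ?_⟩
    apply Subtype.ext
    have := congrArg Subtype.val hk
    simpa using this
  have hπS : ∀ β : Abelianization H ⧸ R, ∃ s : H, (s : G) ∈ (S : Subgroup G) ∧ π s = β := by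
    intro β
    obtain ⟨h, rfl⟩ := hπsurj β
    have htop := sylow_sup_pResidual (S.subtype hSH)
    have hmem : h ∈ ((S.subtype hSH : Sylow p H) : Subgroup H) ⊔ pResidual p H :=
      htop ▸ mem_top h
    rw [mem_sup_of_normal_right] at hmem
    obtain ⟨s, hs, r, hr, rfl⟩ := hmem
    have hcoe : ((S.subtype hSH : Sylow p H) : Subgroup H) = (S : Subgroup G).subgroupOf H :=
      Sylow.coe_subtype S hSH
    rw [hcoe] at hs
    refine ⟨s, mem_subgroupOf.mp hs, ?_⟩
    rw [map_mul, hker1 r hr, mul_one]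
  obtain ⟨V, hVdef⟩ : ∃ V : G →* Abelianization H ⧸ R, V = transfer π := ⟨_, rfl⟩
  -- V maps S onto B
  have hVS : (S : Subgroup G).map V = ⊤ := by
    by_contra hne
    obtain ⟨B₂, hB₂co, hle⟩ := (eq_top_or_exists_le_coatom _).resolve_left hne
    have hB₂i : B₂.index = p := IsPGroup.index_of_isCoatom hBp hB₂co
    have hQ : ∀ q : (Abelianization H ⧸ R) ⧸ B₂, q ^ p = 1 := by
      intro q
      have hc : Nat.card ((Abelianization H ⧸ R) ⧸ B₂) = p := by
        rw [← Subgroup.index_eq_card, hB₂i]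
      rw [← hc]; exact pow_card_eq_one'
    let μ : H →* (Abelianization H ⧸ R) ⧸ B₂ := (QuotientGroup.mk' B₂).comp π
    have htr : ∀ s ∈ (S : Subgroup G), transfer μ s = 1 := by
      intro s hs
      have h1 := transfer_comp_hom π (QuotientGroup.mk' B₂) s
      rw [← hVdef] at h1
      exact h1.trans ((QuotientGroup.eq_one_iff _).mpr (hle (mem_map_of_mem V hs)))
    have hμ : ∀ n : ℕ, ∀ s (hs : s ∈ (S : Subgroup G)), orderOf s = n →
        μ ⟨s, hSH hs⟩ = 1 := by
      intro n
      induction n using Nat.strong_induction_on with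
      | _ n ih =>
        intro s hs hn
        have hk := wy_key S W hW hE H hHdef hSH hQ μ s hs
          (fun y hy hlt => ih (orderOf y) (hn ▸ hlt) y hy rfl)
        rw [← hk]; exact htr s hs
    obtain ⟨β, hβ⟩ : ∃ β : Abelianization H ⧸ R, β ∉ B₂ := by
      by_contra hall
      push Not at hall
      exact hB₂co.1 (eq_top_iff.mpr fun β _ => hall β)
    obtain ⟨s, hsS, rfl⟩ := hπS β
    apply hβ
    have := hμ _ (s : G) hsS rfl
    exact (QuotientGroup.eq_one_iff _).mp this
  -- the two maps S → B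
  let f₁ : ↥(S : Subgroup G) →* Abelianization H ⧸ R := π.comp (Subgroup.inclusion hSH)
  let f₂ : ↥(S : Subgroup G) →* Abelianization H ⧸ R := V.comp (S : Subgroup G).subtype
  have hf₁ : Function.Surjective f₁ := by
    intro β
    obtain ⟨s, hsS, hs⟩ := hπS β
    exact ⟨⟨(s : G), hsS⟩, by rw [← hs]; rfl⟩
  have hf₂ : Function.Surjective f₂ := by
    intro β
    have : β ∈ (S : Subgroup G).map V := hVS ▸ mem_top β
    obtain ⟨s, hs, rfl⟩ := this
    exact ⟨⟨s, hs⟩, rfl⟩
  have hcommH : ∀ h : H, h ∈ commutator H → V (h : G) = 1 := by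
    intro h hh
    exact Abelianization.commutator_subset_ker (V.comp H.subtype) hh
  have hkerle : f₁.ker ≤ f₂.ker := by
    intro s hs
    have h1 : π (Subgroup.inclusion hSH s) = 1 := MonoidHom.mem_ker.mp hs
    have h2 := hker2 _ h1
    have h3 := mem_commutator_of_pElement (p := p) (hSp _ s.2) h2
    rw [MonoidHom.mem_ker]
    exact hcommH (Subgroup.inclusion hSH s) h3
  have hcard : Nat.card f₁.ker = Nat.card f₂.ker := by
    have e1 := Subgroup.card_mul_index f₁.ker
    have e2 := Subgroup.card_mul_index f₂.ker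
    rw [Subgroup.index_ker, MonoidHom.range_eq_top.mpr hf₁, Subgroup.card_top] at e1
    rw [Subgroup.index_ker, MonoidHom.range_eq_top.mpr hf₂, Subgroup.card_top] at e2
    exact Nat.eq_of_mul_eq_mul_right Nat.card_pos (e1.trans e2.symm)
  have hkereq : f₁.ker = f₂.ker := Subgroup.eq_of_le_of_card_ge hkerle hcard.ge
  rintro x ⟨hxS, hxG'⟩
  refine ⟨hxS, ?_⟩
  have h1 : (⟨x, hxS⟩ : ↥(S : Subgroup G)) ∈ f₂.ker := by
    rw [MonoidHom.mem_ker]
    exact MonoidHom.mem_ker.mp (Abelianization.commutator_subset_ker V hxG')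
  rw [← hkereq] at h1
  have h2 : π ⟨x, hSH hxS⟩ = 1 := MonoidHom.mem_ker.mp h1
  have h3 := mem_commutator_of_pElement (p := p) (hSp ⟨x, hSH hxS⟩ hxS) (hker2 _ h2)
  have h4 : (commutator H).map H.subtype = ⁅H, H⁆ := by
    rw [_root_.commutator, Subgroup.map_commutator, ← MonoidHom.range_eq_map, range_subtype]
  rw [← h4]
  exact ⟨⟨x, hSH hxS⟩, h3, rfl⟩

end WY

end Cfsg.Agent.Lib.Helper17
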