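import Cfsg.Agent.Lib.Helper17.YL
import Cfsg.Agent.Lib.Helper17.CharP2
import Cfsg.Agent.S2803

set_option autoImplicit false

namespace Cfsg.Agent.Lib.Helper17

open Cfsg
open Cfsg.Agent.Lib.Helper16
open scoped Pointwise

section YL2

variable {H : Type*} [Group H] {p : ℕ}

theorem map_inf_centralizer {L : Subgroup H} (A B : Subgroup ↥L) :
    (A ⊓ Subgroup.centralizer (B : Set ↥L)).map L.subtype =
      A.map L.subtype ⊓ Subgroup.centralizer ((B.map L.subtype : Subgroup H) : Set H) := by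
  ext x
  constructor
  · rintro ⟨a, ha, rfl⟩
    obtain ⟨haA, haB⟩ := Subgroup.mem_inf.mp ha
    refine Subgroup.mem_inf.mpr ⟨⟨a, haA, rfl⟩, ?_⟩
    rw [Subgroup.mem_centralizer_iff]
    rintro _ ⟨b, hb, rfl⟩
    have := (Subgroup.mem_centralizer_iff.mp haB) b hb
    simpa using congrArg Subtype.val this
  · intro hx
    obtain ⟨⟨a, haA, rfl⟩, hxc⟩ := Subgroup.mem_inf.mp hx
    refine ⟨a, Subgroup.mem_inf.mpr ⟨haA, ?_⟩, rfl⟩
    rw [Subgroup.mem_centralizer_iff]
    intro b hb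
    apply Subtype.ext
    have := (Subgroup.mem_centralizer_iff.mp hxc) (b : H) ⟨b, hb, rfl⟩
    simpa using this

theorem map_omegaOne {L : Subgroup H} (A : Subgroup ↥L) :
    (omegaOne p A).map L.subtype = omegaOne p (A.map L.subtype) := by
  unfold omegaOne
  rw [MonoidHom.map_closure]
  congr 1
  ext x
  constructor
  · rintro ⟨a, ⟨haA, hap⟩, rfl⟩
    refine ⟨⟨a, haA, rfl⟩, ?_⟩
    have := congrArg Subtype.val hap
    simpa using this
  · rintro ⟨⟨a, haA, rfl⟩, hxp⟩
    refine ⟨a, ⟨haA, ?_⟩, rfl⟩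
    apply Subtype.ext
    simpa using hxp

/-- Ambient form of `Y_L = Ω₁Z(C_T(Y_L))` for `L` of characteristic `p` containing the Sylow
subgroup `T`. -/
theorem largestPReducedOf_eq_omegaOne [Finite H] [Fact p.Prime] (T : Sylow p H) (L : Subgroup H)
    (hTL : (T : Subgroup H) ≤ L)
    (hL : Subgroup.centralizer (pCore p ↥L : Set ↥L) ≤ pCore p ↥L) :
    largestPReducedOf p L =
      omegaOne p (((T : Subgroup H) ⊓ Subgroup.centralizer (largestPReducedOf p L : Set H)) ⊓
        Subgroup.centralizer ((((T : Subgroup H) ⊓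
          Subgroup.centralizer (largestPReducedOf p L : Set H) : Subgroup H)) : Set H)) := by
  have h := (Cfsg.Agent.S2803.result hL (T.subtype hTL) (largestPReduced p ↥L)
    ⟨largestPReduced_isPReducedNormal, fun V hV => le_largestPReduced hV⟩ _ rfl).2.2
  have hT : ((T.subtype hTL : Sylow p ↥L) : Subgroup ↥L).map L.subtype = (T : Subgroup H) := by
    rw [Sylow.coe_subtype, Subgroup.subgroupOf_map_subtype, inf_of_le_left hTL]
  have h2 := congrArg (Subgroup.map L.subtype) h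
  rw [map_omegaOne, map_inf_centralizer, map_inf_centralizer, hT] at h2
  exact h2

theorem pow_mul_mem_of_mem_normalizer (C : Subgroup H) {d c : H}
    (hd : d ∈ Subgroup.normalizer (C : Set H)) (hc : c ∈ C) (n : ℕ) :
    ∃ c' ∈ C, (d * c) ^ n = d ^ n * c' := by
  induction n with
  | zero => exact ⟨1, C.one_mem, by simp⟩
  | succ n ih =>
    obtain ⟨c', hc', h⟩ := ih
    have hdi : d⁻¹ ∈ Subgroup.normalizer (C : Set H) := Subgroup.inv_mem _ hd
    have h1 : d⁻¹ * c' * d⁻¹⁻¹ ∈ C := (Subgroup.mem_normalizer_iff.mp hdi c').mp hc'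
    refine ⟨d⁻¹ * c' * d⁻¹⁻¹ * c, C.mul_mem h1 hc, ?_⟩
    rw [pow_succ, h, pow_succ]
    group

/-- If `V` is `p`-reduced normal in `M`, `V ≤ L` and `L C(V) = M C(V)`, then `V` is `p`-reduced
normal in `L`. -/
theorem relPReduced_of_sup_centralizer_eq [Finite H] [Fact p.Prime] {L M V : Subgroup H}
    (hM : RelPReduced p M V) (hVL : V ≤ L)
    (hfac : L ⊔ Subgroup.centralizer (V : Set H) = M ⊔ Subgroup.centralizer (V : Set H)) :
    RelPReduced p L V := by
  set C := Subgroup.centralizer (V : Set H) with hCdef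
  obtain ⟨hVM, hMV, hcomm, hexp, hD⟩ := hM
  have hCN : C ≤ Subgroup.normalizer (V : Set H) := Subgroup.centralizer_le_normalizer _
  have hNC : Subgroup.normalizer (V : Set H) ≤ Subgroup.normalizer (C : Set H) :=
    normalizer_le_normalizer_centralizer' V
  have hLV : L ≤ Subgroup.normalizer (V : Set H) := by
    have : L ≤ M ⊔ C := by rw [← hfac]; exact le_sup_left
    exact this.trans (sup_le hMV hCN)
  refine ⟨hVL, hLV, hcomm, hexp, ?_⟩
  intro D hDL hLD hDp
  have hDC : D ≤ Subgroup.normalizer (C : Set H) := (hDL.trans hLV).trans hNC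
  have hMnorm : M ≤ Subgroup.normalizer (((D ⊔ C) ⊓ M : Subgroup H) : Set H) := by
    intro m hm
    apply mem_normalizer_inf
    · have hLC : L ⊔ C ≤ Subgroup.normalizer ((D ⊔ C : Subgroup H) : Set H) := by
        apply sup_le
        · intro l hl
          exact mem_normalizer_sup (hLD hl) (hNC (hLV hl))
        · exact le_sup_right.trans Subgroup.le_normalizer
      have : m ∈ L ⊔ C := by rw [hfac]; exact Subgroup.mem_sup_left hm
      exact hLC this
    · exact Subgroup.le_normalizer hm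
  have hDCmul : ((D ⊔ C : Subgroup H) : Set H) = (D : Set H) * (C : Set H) :=
    Subgroup.coe_mul_of_left_le_normalizer_right D C hDC
  have hD'p : ∀ d ∈ (D ⊔ C) ⊓ M, ∃ k : ℕ, d ^ (p ^ k) ∈ Subgroup.centralizer (V : Set H) := by
    intro d' hd'
    have h1 : d' ∈ ((D ⊔ C : Subgroup H) : Set H) := (Subgroup.mem_inf.mp hd').1
    rw [hDCmul] at h1
    obtain ⟨d, hd, c, hc, rfl⟩ := Set.mem_mul.mp h1
    obtain ⟨k, hk⟩ := hDp d hd
    obtain ⟨c', hc', h⟩ := pow_mul_mem_of_mem_normalizer C (hDC hd) hc (p ^ k)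
    refine ⟨k, ?_⟩
    rw [h]
    exact C.mul_mem hk hc'
  have hD'C := hD ((D ⊔ C) ⊓ M) inf_le_right hMnorm hD'p
  intro d hd
  have hMCmul : ((M ⊔ C : Subgroup H) : Set H) = (M : Set H) * (C : Set H) :=
    Subgroup.coe_mul_of_left_le_normalizer_right M C (hMV.trans hNC)
  have h1 : d ∈ ((M ⊔ C : Subgroup H) : Set H) := by
    rw [← hfac]; exact Subgroup.mem_sup_left (hDL hd)
  rw [hMCmul] at h1
  obtain ⟨m, hm, c, hc, hmc⟩ := Set.mem_mul.mp h1
  have hm' : m ∈ (D ⊔ C) ⊓ M := by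
    refine Subgroup.mem_inf.mpr ⟨?_, hm⟩
    have : m = d * c⁻¹ := by rw [← hmc]; group
    rw [this]
    exact Subgroup.mul_mem _ (Subgroup.mem_sup_left hd) (Subgroup.mem_sup_right (C.inv_mem hc))
  rw [← hmc]
  exact C.mul_mem (hD'C hm') hc

end YL2

end Cfsg.Agent.Lib.Helper17
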